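import Mathlib
import Cfsg.Agent.H23.PB

/-!
Sylow subgroup of prime order: multiplicities on the Sylow subgroup and characters of small degree.
-/

set_option autoImplicit false
set_option linter.unusedSectionVars false
set_option linter.unusedVariables false

namespace Cfsg.Agent.H9.P1

open Finset Cfsg Cfsg.Agent.H24.D1
open Cfsg.Agent.H7 (ip ind)
open Cfsg.Agent.H8 (irrOne)
open Subgroup (zpowers)
open scoped ComplexConjugate

variable {G : Type*} [Group G] {p : ℕ} [hp : Fact p.Prime] [Finite G] {x : G}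

/-- The order of the automizer of `⟨x⟩`. -/
noncomputable abbrev ee (x : G) : ℕ := (CC x).relIndex (NN x)

theorem p_ne : (p : ℂ) ≠ 0 := Nat.cast_ne_zero.2 hp.out.ne_zero

theorem ee_pos (x : G) : 0 < ee x := Nat.pos_of_ne_zero Subgroup.index_ne_zero_of_finite

theorem sum_ch (b : ZMod p) :
    ∑ a : ZMod p, (ZMod.stdAddChar (a * b) : ℂ) = if b = 0 then (p : ℂ) else 0 := by
  have := AddChar.sum_mulShift b (ZMod.isPrimitive_stdAddChar p)
  rw [ZMod.card] at this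
  rw [this]; split_ifs <;> simp

theorem conj_ch (a : ZMod p) : conj (ZMod.stdAddChar a : ℂ) = ZMod.stdAddChar (-a) := by
  rw [AddChar.map_neg_eq_conj]

variable (p) in
/-- The multiplicity of the `j`-th linear character in the restriction to `⟨x⟩`. -/
noncomputable def ml (x : G) (j : ZMod p) : (G → ℂ) →ₗ[ℂ] ℂ where
  toFun φ := (p : ℂ)⁻¹ * ∑ a : ZMod p, φ (x ^ a.val) * ZMod.stdAddChar (-(a * j))
  map_add' φ ψ := by simp only [Pi.add_apply, add_mul, sum_add_distrib, mul_add]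
  map_smul' c φ := by simp only [Pi.smul_apply, smul_eq_mul, RingHom.id_apply, mul_sum]; ac_rfl

omit [Finite G] in
theorem mul_ml (j : ZMod p) (φ : G → ℂ) :
    p * ml p x j φ = ∑ a : ZMod p, φ (x ^ a.val) * ZMod.stdAddChar (-(a * j)) :=
  mul_inv_cancel_left₀ p_ne _

theorem sum_zp (h : Syl1 p x) [Fintype (zpowers x)] (φ : G → ℂ) :
    ∑ u : zpowers x, φ u = ∑ a : ZMod p, φ (x ^ a.val) := by
  rw [H23.sum_zp h, H23.sP, sum_units_eq fun a : ZMod p => φ (x ^ a.val), ZMod.val_zero, pow_zero,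
    add_sub_cancel]

theorem ml_nat (h : Syl1 p x) (j : ZMod p) {φ : G → ℂ} (hφ : IsCharacter G φ) :
    ∃ n : ℕ, ml p x j φ = n := by
  have := Fintype.ofFinite (zpowers x)
  obtain ⟨n, hn⟩ := H7.ip_char_nat (H7.char_comp (zpowers x).subtype hφ)
    (H7.char_comp (Subgroup.inclusion (zp_le_CC x)) (h.char_lm j))
  refine ⟨n, hn ▸ ?_⟩
  rw [H7.ip_def, h.card_zp]
  refine congrArg ((p : ℂ)⁻¹ * ·) ?_
  rw [show ∑ g : zpowers x, φ ((zpowers x).subtype g) * conj (lm p x j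
    (Subgroup.inclusion (zp_le_CC x) g)) = _ from
      sum_zp h fun g => φ g * conj (ZMod.stdAddChar (j * lg p x g))]
  exact sum_congr rfl fun a _ => by rw [h.lg_pow_val, conj_ch, mul_comm a]

omit [Finite G] in
theorem sum_ml (φ : G → ℂ) (a : ZMod p) :
    ∑ j, ml p x j φ * ZMod.stdAddChar (j * a) = φ (x ^ a.val) := by
  refine mul_left_cancel₀ (p_ne (p := p)) ?_
  simp only [mul_sum, ← mul_assoc, mul_ml, sum_mul]
  rw [sum_comm, sum_congr rfl fun b _ => show _ = φ (x ^ b.val) * if a - b = 0 then (p : ℂ) else 0 by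
    rw [← sum_ch, mul_sum]
    exact sum_congr rfl fun j _ => by
      rw [mul_assoc, ← AddChar.map_add_eq_mul]; congr 2; ring]
  simp [sub_eq_zero, mul_comm]

omit [Finite G] in
theorem sum_ml_one (φ : G → ℂ) : ∑ j, ml p x j φ = φ 1 := by
  simpa using sum_ml (x := x) φ (0 : ZMod p)

theorem pow_al_mul (h : Syl1 p x) (n : NN x) (a : ZMod p) :
    x ^ ((h.al n : ZMod p) * a).val = n * x ^ a.val * (n : G)⁻¹ := by
  rw [h.pow_val_mul, h.pow_al, conj_pow]

theorem ml_al (h : Syl1 p x) {φ : G → ℂ} (hφ : IsClassFunction G φ) (j : ZMod p) {α : (ZMod p)ˣ}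
    (hα : α ∈ h.al.range) : ml p x (j * α) φ = ml p x j φ := by
  obtain ⟨n, rfl⟩ := hα
  refine mul_left_cancel₀ (p_ne (p := p)) ?_
  rw [mul_ml, mul_ml]
  refine Fintype.sum_equiv (Units.mulLeft (h.al n)) _ _ fun a => ?_
  rw [Units.mulLeft_apply, pow_al_mul, hφ]; congr 3; ring

open Classical in
/-- The automizer as a finite set of units. -/
noncomputable def AF (h : Syl1 p x) : Finset (ZMod p)ˣ := univ.filter (· ∈ h.al.range)

theorem mem_AF {h : Syl1 p x} {α : (ZMod p)ˣ} : α ∈ AF h ↔ α ∈ h.al.range := by simp [AF]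

theorem card_AF (h : Syl1 p x) : #(AF h) = ee x := by
  classical
  rw [ee, h.relIndex_eq, AF, ← Fintype.card_subtype, Nat.card_eq_fintype_card]

theorem sum_NN (h : Syl1 p x) [Fintype (NN x)] (F : (ZMod p)ˣ → ℂ) :
    (Nat.card (CC x) : ℂ)⁻¹ * ∑ n : NN x, F (h.al n) = ∑ α ∈ AF h, F α := by
  classical
  have h1 := H7.sum_comp_surjective h.al.rangeRestrict h.al.rangeRestrict_surjective
    fun α => F α
  rw [MonoidHom.ker_rangeRestrict, ← h.subgroupOf_eq_ker,
    Nat.card_congr (Subgroup.subgroupOfEquivOfLe (CC_le_NN x)).toEquiv] at h1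
  rw [show ∑ n : NN x, F (h.al n) = _ from h1, inv_mul_cancel_left₀ (H7.card_ne_zero' _),
    sum_subtype (AF h) (fun _ => mem_AF)]

/-- The Gaussian periods. -/
noncomputable def eta (h : Syl1 p x) (b : ZMod p) : ℂ :=
  ∑ α ∈ AF h, ZMod.stdAddChar (b * (α : ZMod p))

open Classical in
theorem ml_eq (h : Syl1 p x) {φ : G → ℂ} {c d : ℂ} {j : (ZMod p)ˣ}
    (hφ : ∀ a : ZMod p, a ≠ 0 → φ (x ^ a.val) = c + d * eta h (a * j)) (k : ZMod p) :
    p * ml p x k φ = φ 1 - c - d * ee x + (if k = 0 then p * c else 0) +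
      if ∃ α ∈ h.al.range, k = j * α then p * d else 0 := by
  have h1 : ∀ a : ZMod p, φ (x ^ a.val) = c + d * eta h (a * j) +
      if a = 0 then φ 1 - c - d * ee x else 0 := fun a => by
    split_ifs with ha
    · simp [ha, eta, card_AF]
    · rw [hφ a ha, add_zero]
  have h2 : ∑ a : ZMod p, eta h (a * j) * ZMod.stdAddChar (-(a * k)) =
      if ∃ α ∈ h.al.range, k = j * α then (p : ℂ) else 0 := by
    simp only [eta, sum_mul]
    rw [sum_comm, sum_congr rfl (g := fun α : (ZMod p)ˣ =>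
      if (j * α - k : ZMod p) = 0 then (p : ℂ) else 0) fun α _ => by
      rw [← sum_ch]
      exact sum_congr rfl fun a _ => by rw [← AddChar.map_add_eq_mul]; congr 1; ring]
    split_ifs with h3
    · obtain ⟨α, hα, rfl⟩ := h3
      rw [sum_eq_single α (fun β _ hβ => if_neg fun e => hβ (Units.ext
        (mul_left_cancel₀ j.ne_zero (sub_eq_zero.1 e)))) fun h4 => (h4 (mem_AF.2 hα)).elim]
      simp
    · exact sum_eq_zero fun α hα => if_neg fun e => h3 ⟨α, mem_AF.1 hα, (sub_eq_zero.1 e).symm⟩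
  have h3 := sum_ch (-k)
  simp only [mul_neg, neg_eq_zero] at h3
  rw [mul_ml]
  simp only [h1, add_mul, sum_add_distrib, mul_assoc, ← mul_sum, h2, h3, ite_mul, zero_mul,
    sum_ite_eq', mem_univ, if_true, neg_zero, AddChar.map_zero_eq_one, mul_one]
  split_ifs <;> ring

theorem ml_const (h : Syl1 p x) {φ : G → ℂ} {c : ℂ}
    (hφ : ∀ a : ZMod p, a ≠ 0 → φ (x ^ a.val) = c) (k : ZMod p) :
    p * ml p x k φ = φ 1 - c + if k = 0 then p * c else 0 := by
  simpa using ml_eq h (φ := φ) (c := c) (d := 0) (j := 1) (by simpa using hφ) k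

theorem dvd_pow (h : Syl1 p x) {a : ZMod p} (ha : a ≠ 0) : p ∣ orderOf (x ^ a.val) :=
  H23.dvd_pow_val h (Units.mk0 a ha)

/-- If `x` acts nontrivially then some nontrivial linear character occurs. -/
theorem exists_ml (h : Syl1 p x) {φ : G → ℂ} (hφ : IsCharacter G φ) (hx : φ x ≠ φ 1) :
    ∃ j : (ZMod p)ˣ, ∃ n : ℕ, 0 < n ∧ ml p x j φ = n := by
  by_contra! H
  have h0 : ∀ j : ZMod p, j ≠ 0 → ml p x j φ = 0 := fun j hj => by
    obtain ⟨n, hn⟩ := ml_nat h j hφ
    rw [hn, Nat.eq_zero_of_not_pos fun h1 => H (Units.mk0 j hj) n h1 hn, Nat.cast_zero]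
  have h1 := sum_ml (x := x) φ (1 : ZMod p)
  have h2 := sum_ml_one (x := x) (p := p) φ
  rw [sum_eq_single 0 (fun j _ hj => by rw [h0 j hj, zero_mul]) (by simp), ZMod.val_one,
    pow_one] at h1
  rw [sum_eq_single 0 (fun j _ hj => h0 j hj) (by simp)] at h2
  exact hx (by simpa [h2] using h1.symm)

theorem ee_le (h : Syl1 p x) {φ : G → ℂ} (hφ : IsCharacter G φ) (hx : φ x ≠ φ 1) :
    ee x ≤ charDegree φ := by
  classical
  obtain ⟨j, n, hn, hj⟩ := exists_ml h hφ hx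
  choose m hm using fun k => ml_nat h k hφ
  have h1 := sum_ml_one (x := x) (p := p) φ
  rw [H7.char_one_eq hφ, sum_congr rfl fun k _ => hm k] at h1
  norm_cast at h1
  rw [← h1, ← card_AF h, card_eq_sum_ones, ← sum_image (f := fun _ => 1)
    (g := fun α : (ZMod p)ˣ => (j * α : ZMod p)) fun a _ b _ e => Units.ext
      (mul_left_cancel₀ j.ne_zero e)]
  refine (sum_le_sum fun k hk => ?_).trans (sum_le_sum_of_subset (subset_univ _))
  obtain ⟨α, hα, rfl⟩ := mem_image.1 hk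
  have := (hm _).symm.trans ((ml_al h (H7.char_cf hφ) j (mem_AF.1 hα)).trans hj)
  rw [Nat.cast_injective this]
  exact hn

/-- The part fixed by `x`, as a character of the normalizer. -/
theorem char_fix (h : Syl1 p x) {φ : G → ℂ} (hφ : IsCharacter G φ) :
    IsCharacter (NN x) fun n => (p : ℂ)⁻¹ * ∑ a : ZMod p, φ (x ^ a.val * n) := by
  have := Fintype.ofFinite (NN x)
  have := Fintype.ofFinite (zpowers x)
  have : ((zpowers x).subgroupOf (NN x)).Normal := Subgroup.normal_in_normalizer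
  let f := QuotientGroup.mk' ((zpowers x).subgroupOf (NN x))
  have := Fintype.ofFinite f.ker
  have h1 := H7.char_comp (NN x).subtype hφ
  convert H7.char_comp f (H7.char_ind f h1) using 2 with n
  let e : f.ker ≃ zpowers x := (MulEquiv.subgroupCongr (QuotientGroup.ker_mk' _)).toEquiv.trans
    (Subgroup.subgroupOfEquivOfLe (zp_le_NN x)).toEquiv
  rw [H7.ind_apply_surjective (QuotientGroup.mk'_surjective _) (H7.char_cf h1), Nat.card_congr e,
    h.card_zp, ← sum_zp h fun g => φ (g * n)]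
  exact congrArg _ (Fintype.sum_equiv e _ _ fun _ => rfl).symm

theorem sum_coset (h : Syl1 p x) {φ : G → ℂ} (hφ : IsCharacter G φ) (h0 : ml p x 0 φ = 0) {n : G}
    (hn : n ∈ NN x) : ∑ a : ZMod p, φ (x ^ a.val * n) = 0 := by
  have := congrFun (H7.char_eq_zero_of_one (char_fix h hφ) (by simpa [ml] using h0)) ⟨n, hn⟩
  simpa [hp.out.ne_zero] using this

theorem norm_le_ml (h : Syl1 p x) {φ : G → ℂ} (hφ : IsCharacter G φ) {m : ℕ}
    (hm : ml p x 0 φ = m) {n : G} (hn : n ∈ NN x) (hc : n ∉ CC x) : ‖φ n‖ ≤ m := by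
  have h1 := H6.isCharacter_norm_le' (char_fix h hφ) (n := m) (by simpa [ml] using hm) ⟨n, hn⟩
  rwa [sum_congr rfl fun a _ => show φ (x ^ a.val * n) = φ n by
    obtain ⟨u, -, hu⟩ := h.exists_conj_eq hn hc (Subgroup.npow_mem_zpowers x a.val)
    rw [H7.cf_mul_comm (H7.char_cf hφ), ← hu, H7.char_cf hφ], sum_const, card_univ, ZMod.card,
    nsmul_eq_mul, inv_mul_cancel_left₀ p_ne] at h1

namespace Fam

variable {h : Syl1 p x} {B : Set (IrrCharacter G)} {θ : CC x → ℂ} {X : Finset (IrrCharacter G)}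
  {ψ : (ZMod p)ˣ → IrrCharacter G} {ε : IrrCharacter G → ℤ} {δ : ℤ} (F : Fam h B θ X ψ ε δ)
include F

theorem psi_pow (j : (ZMod p)ˣ) {a : ZMod p} (ha : a ≠ 0) :
    (ψ j).1 (x ^ a.val) = δ * θ 1 * eta h (a * j) := by
  have := Fintype.ofFinite (NN x)
  rw [F.valY j _ (dvd_pow h ha), h.Lf_sing (θ * lm p x j) (c := ⟨_, H23.pow_mem_CC x a.val⟩)
    (by rw [← Subgroup.orderOf_coe]; exact dvd_pow h ha), eta, mul_assoc, mul_sum (AF h),
    ← sum_NN h]
  congr 2
  refine sum_congr rfl fun n _ => ?_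
  rw [Pi.mul_apply, lm_apply, h.lg_cj, h.lg_pow_val]
  congr 1
  · simpa using F.triv.mul (u := (neC x).cj n ⟨_, H23.pow_mem_CC x a.val⟩)
      (by rw [coe_cj]; exact conj_mem_zp n.2 (Subgroup.npow_mem_zpowers _ _)) 1
  · congr 1; ring

open Classical in
theorem ml_psi (j : (ZMod p)ˣ) (k : ZMod p) : p * ml p x k (ψ j).1 = (ψ j).1 1 - δ * θ 1 * ee x +
    if ∃ α ∈ h.al.range, k = j * α then p * (δ * θ 1) else 0 := by
  simpa using ml_eq h (c := 0) (d := δ * θ 1) (j := j) (fun a ha => by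
    rw [psi_pow F j ha, zero_add]) k

theorem ml_psi_zero (j : (ZMod p)ˣ) : p * ml p x 0 (ψ j).1 = (ψ j).1 1 - δ * θ 1 * ee x := by
  rw [ml_psi F, if_neg, add_zero]
  rintro ⟨α, -, e⟩
  exact (j * α).ne_zero e.symm

theorem ml_psi_self (j : (ZMod p)ˣ) :
    p * ml p x j (ψ j).1 = (ψ j).1 1 - δ * θ 1 * ee x + p * (δ * θ 1) := by
  rw [ml_psi F, if_pos ⟨1, one_mem _, by simp⟩]

theorem ip_X {χ : IrrCharacter G} (hχ : χ ∈ X) (j : (ZMod p)ˣ) : ip χ.1 (Phi p x θ j) = ε χ := by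
  rw [F.phi, H7.ip_sub_right, H7.ip_sum_right, H7.ip_smul_right,
    H7.ip_irr_ne χ.2 (ψ j).2 fun e => F.notMem j (Subtype.ext e ▸ hχ), sum_eq_single χ
      (fun φ _ hφ => by
        rw [H7.ip_smul_right, H7.ip_irr_ne χ.2 φ.2 fun e => hφ (Subtype.ext e).symm, mul_zero])
      fun h1 => (h1 hχ).elim, H7.ip_smul_right, H7.ip_irr_self χ.2]
  simp

theorem ip_notX {χ : IrrCharacter G} (hχ : χ ∉ X) (j : (ZMod p)ˣ) :
    ip χ.1 (Phi p x θ j) = -δ * ip χ.1 (ψ j).1 := by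
  rw [F.phi, H7.ip_sub_right, H7.ip_sum_right, H7.ip_smul_right, sum_eq_zero fun φ hφ => by
    rw [H7.ip_smul_right, H7.ip_irr_ne χ.2 φ.2 fun e => hχ (Subtype.ext e ▸ hφ), mul_zero]]
  simp

open Classical in
theorem ip_YY (i j : (ZMod p)ˣ) : ip (ψ i).1 (ψ j).1 = if j⁻¹ * i ∈ h.AA θ then 1 else 0 := by
  rw [H7.ip_irr (ψ i).2 (ψ j).2]
  exact if_congr (Subtype.ext_iff.symm.trans (F.inj i j)) rfl rfl

theorem ip_out {χ : IrrCharacter G} (hχ : χ ∉ B) (j : (ZMod p)ˣ) : ip χ.1 (Phi p x θ j) = 0 := by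
  rw [ip_notX F fun h1 => hχ ((F.mem χ).2 (.inl h1)), H7.ip_irr_ne χ.2 (ψ j).2 fun e =>
    hχ ((F.mem χ).2 (.inr ⟨j, (Subtype.ext e).symm⟩)), mul_zero]

end Fam

open Classical in
theorem sum_ite_mem (A : Subgroup (ZMod p)ˣ) (j : (ZMod p)ˣ) :
    ∑ i : (ZMod p)ˣ, (if j⁻¹ * i ∈ A then (1 : ℂ) else 0) = Nat.card A := by
  refine (Equiv.sum_comp (Equiv.mulLeft j⁻¹) fun i => if i ∈ A then (1 : ℂ) else 0).trans ?_
  rw [sum_boole, ← Fintype.card_subtype, Nat.card_eq_fintype_card]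

/-- The sum of the conjugates under the normalizer. -/
noncomputable def II (x : G) (f : CC x → ℂ) : CC x → ℂ := fun c => ind (inc x) f (inc x c)

theorem II_eq [Fintype (NN x)] (f : CC x → ℂ) :
    II x f = (Nat.card (CC x) : ℂ)⁻¹ • ∑ n : NN x, (neC x).cjf n f := (neC x).res_ind' f

theorem Lf_eq_II (h : Syl1 p x) (f : CC x → ℂ) {c : CC x} (hc : p ∣ orderOf c) :
    Lf p x f c = II x f c := by
  have := Fintype.ofFinite (NN x)
  rw [h.Lf_sing f hc, II_eq, Pi.smul_apply, Finset.sum_apply]; rfl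

theorem ip_cjf_II (n : NN x) (f g : CC x → ℂ) : ip ((neC x).cjf n f) (II x g) = ip f (II x g) := by
  rw [← H7.ip_conj_symm, ← H7.ip_conj_symm (II x g)]
  exact congrArg _ ((neC x).ip_res_cjf (H7.ind_cf _ g) n f)

theorem avg_const [Fintype (NN x)] (c : ℂ) :
    (Nat.card (CC x) : ℂ)⁻¹ * ∑ _n : NN x, c = ee x * c := by
  rw [sum_const, card_univ, ← Nat.card_eq_fintype_card, card_NN, nsmul_eq_mul, Nat.cast_mul,
    mul_assoc, inv_mul_cancel_left₀ (H7.card_ne_zero' _)]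

theorem ip_II_II (f g : CC x → ℂ) : ip (II x f) (II x g) = ee x * ip f (II x g) := by
  have := Fintype.ofFinite (NN x)
  conv_lhs => rw [II_eq f, H7.ip_smul_left, H7.ip_sum_left]
  simp only [ip_cjf_II, avg_const]

theorem sum_ip_II (h : Syl1 p x) (f g : CC x → ℂ) : ∑ k, ip (II x f * lm p x k) (II x g) =
    ee x * ∑ k, ip (f * lm p x k) (II x g) := by
  have := Fintype.ofFinite (NN x)
  rw [← avg_const, II_eq f]
  simp only [smul_mul_assoc, H7.ip_smul_left, sum_mul, H7.ip_sum_left]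
  rw [← mul_sum, sum_comm]
  refine congrArg _ (sum_congr rfl fun n _ => (Fintype.sum_equiv (Units.mulRight (h.al n)) _ _
    fun k => ?_).symm)
  rw [Units.mulRight_apply, ← h.cjf_mul_lm, ip_cjf_II]

open Classical in
theorem ip_lm_II (h : Syl1 p x) {θ : CC x → ℂ} (hi : IsIrrCharacter _ θ) (ht : Triv x θ)
    (i j : (ZMod p)ˣ) : ip (θ * lm p x i) (II x (θ * lm p x j)) =
      if j⁻¹ * i ∈ h.AA θ then 1 else 0 := by
  have := Fintype.ofFinite (NN x)
  rw [II_eq, H7.ip_smul_right, H7.ip_sum_right, sum_congr rfl fun n _ => h.ip_cjf hi ht i j n,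
    sum_boole, show (univ.filter fun n : NN x => n ∈ TT x θ ∧ (i : ZMod p) = j * h.al n) =
      univ.filter fun n : NN x => n ∈ TT x θ ∧ i = j * h.al n from filter_congr fun n _ => by
        rw [← Units.val_mul, Units.val_inj], h.card_rel (H7.irr_cf hi)]
  have := H7.card_ne_zero' (CC x)
  split_ifs <;> simp [this]

theorem ip_zero_II (h : Syl1 p x) {θ : CC x → ℂ} (hi : IsIrrCharacter _ θ) (ht : Triv x θ)
    (j : (ZMod p)ˣ) : ip (θ * lm p x 0) (II x (θ * lm p x j)) = 0 := by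
  classical
  have := Fintype.ofFinite (NN x)
  rw [II_eq, H7.ip_smul_right, H7.ip_sum_right, sum_eq_zero fun n _ => by
    rw [h.ip_cjf hi ht 0 j n, if_neg fun hh => (j * h.al n).ne_zero hh.2.symm], mul_zero]

theorem sum_ip_lm_II (h : Syl1 p x) {θ : CC x → ℂ} (hi : IsIrrCharacter _ θ) (ht : Triv x θ)
    (i : ZMod p) (j : (ZMod p)ˣ) :
    ∑ k, ip (θ * lm p x i * lm p x k) (II x (θ * lm p x j)) = Nat.card (h.AA θ) := by
  classical
  rw [Fintype.sum_equiv (Equiv.addLeft i) _ (fun k => ip (θ * lm p x k) (II x (θ * lm p x j)))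
    fun k => by rw [Equiv.coe_addLeft, lm_add, mul_assoc], ← sum_ite_mem (h.AA θ) j,
    ← sum_congr rfl fun k _ => ip_lm_II h hi ht k j,
    sum_units_eq fun k => ip (θ * lm p x k) (II x (θ * lm p x j)), ip_zero_II h hi ht, sub_zero]

theorem star_lm (j : ZMod p) : star (lm p x j) = lm p x (-j) := funext fun c => by
  rw [Pi.star_apply, lm_apply, lm_apply, neg_mul, ← conj_ch]; rfl

variable (p) in
/-- A class function detecting the values of the principal block on `⟨x⟩`. -/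
noncomputable def Lam (x : G) : G → ℂ := ∑ j : (ZMod p)ˣ, Phi p x (fun _ => 1) j

theorem ip_Lam_res {φ : G → ℂ} (hφ : IsClassFunction G φ) : ip φ (Lam p x) =
    p * ip (fun c : CC x => φ c) 1 - ∑ k, ip ((fun c : CC x => φ c) * lm p x k) 1 := by
  have h1 : ∀ j : ZMod p, ip φ (Phi p x (fun _ => 1) j) =
      ip (fun c : CC x => φ c) 1 - ip ((fun c : CC x => φ c) * lm p x (-j)) 1 := fun j => by
    rw [← H7.ip_conj_symm, ip_Phi_left _ _ hφ, map_sub, H7.ip_conj_symm, H7.ip_conj_symm,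
      H7.ip_mul_right, star_lm, neg_neg]; rfl
  rw [Lam, H7.ip_sum_right, sum_units_eq fun j => ip φ (Phi p x (fun _ => 1) j)]
  simp only [h1, sum_sub_distrib, neg_zero, lm_zero, mul_one, sub_self, sub_zero, sum_const,
    card_univ, ZMod.card, nsmul_eq_mul]
  exact congrArg _ (Equiv.sum_comp (Equiv.neg _) fun k => ip ((fun c : CC x => φ c) * lm p x k) 1)

namespace Fam

section

variable {h : Syl1 p x} {B : Set (IrrCharacter G)} {θ : CC x → ℂ} {X : Finset (IrrCharacter G)}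
  {ψ : (ZMod p)ˣ → IrrCharacter G} {ε : IrrCharacter G → ℤ} {δ : ℤ} (F : Fam h B θ X ψ ε δ)
include F

theorem res_psi (hδ : δ = 1) (j : (ZMod p)ˣ) (h0 : ml p x 0 (ψ j).1 = 0) :
    (fun c : CC x => (ψ j).1 c) = II x (θ * lm p x j) := by
  have := Fintype.ofFinite (NN x)
  have h1 : ∀ c : CC x, p ∣ orderOf c → (ψ j).1 c = II x (θ * lm p x j) c := fun c hc => by
    rw [F.valY j c (by rwa [Subgroup.orderOf_coe]), Lf_eq_II h _ hc, hδ]; simp
  funext c
  by_cases hc : p ∣ orderOf c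
  · exact h1 c hc
  have h2 := sum_coset h (H7.irr_char (ψ j).2) h0 (CC_le_NN x c.2)
  let u : ZMod p → CC x := fun a => ⟨x ^ a.val, H23.pow_mem_CC x _⟩
  have h3 : ∑ a : ZMod p, II x (θ * lm p x j) (u a * c) = 0 := by
    simp only [II_eq, Pi.smul_apply, Finset.sum_apply, smul_eq_mul, h.cjf_mul_lm, Pi.mul_apply]
    rw [← mul_sum, sum_comm, sum_eq_zero fun n _ => ?_, mul_zero]
    rw [sum_congr rfl fun a _ => show _ = (neC x).cjf n θ c *
      ZMod.stdAddChar (a * ((j * h.al n : (ZMod p)ˣ) : ZMod p)) by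
        rw [(F.triv.cjf n).mul (Subgroup.npow_mem_zpowers _ _), h.lm_mul, h.lm_of_reg _ hc,
          lm_apply, h.lg_pow_val, mul_one, mul_comm a]; rfl, ← mul_sum, sum_ch,
      if_neg (Units.ne_zero _), mul_zero]
  rw [← add_sum_erase _ _ (mem_univ 0)] at h2 h3
  rw [sum_congr rfl fun a ha => (h1 (u a * c) ?_).symm] at h3
  · simpa [show u 0 = 1 from Subtype.ext (by simp [u])] using add_right_cancel (h2.trans h3.symm)
  · rw [← Subgroup.orderOf_coe, show u a * c = c * u a from Subtype.ext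
      ((Commute.pow_left (Subgroup.mem_centralizer_singleton_iff.1 c.2).symm _).eq)]
    exact H23.dvd_mul_pow h c.2 (by rwa [Subgroup.orderOf_coe]) (Units.mk0 a (ne_of_mem_erase ha))

open Classical in
theorem ip_Lam_mul (hδ : δ = 1) (h0 : ∀ j, ml p x 0 (ψ j).1 = 0) (i j : (ZMod p)ˣ) :
    ip ((ψ i).1 * star (ψ j).1) (Lam p x) =
      ee x * ((if j⁻¹ * i ∈ h.AA θ then p else 0) - Nat.card (h.AA θ)) := by
  have h1 : (fun c : CC x => ((ψ i).1 * star (ψ j).1) c) =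
      II x (θ * lm p x i) * star (II x (θ * lm p x j)) := by
    rw [← res_psi F hδ i (h0 i), ← res_psi F hδ j (h0 j)]; rfl
  rw [ip_Lam_res (H7.cf_mul (H7.irr_cf (ψ i).2) (H7.cf_star (H7.irr_cf (ψ j).2))), h1]
  simp only [mul_right_comm _ (star _), H7.ip_mul_right _ 1, star_star, one_mul]
  rw [ip_II_II, sum_ip_II h, ip_lm_II h F.irr F.triv, sum_ip_lm_II h F.irr F.triv]
  split_ifs <;> ring

end

variable {h : Syl1 p x} {B : Set (IrrCharacter G)} {X : Finset (IrrCharacter G)}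
  {ψ : (ZMod p)ˣ → IrrCharacter G} {ε : IrrCharacter G → ℤ} {δ : ℤ}
  (F : Fam h B (fun _ => 1) X ψ ε δ)
include F

theorem ml_X₀ {χ : IrrCharacter G} (hχ : χ ∈ X) (k : ZMod p) :
    p * ml p x k χ.1 = χ.1 1 - ε χ + if k = 0 then (p : ℂ) * ε χ else 0 :=
  ml_const h (fun a ha => F.val₀ hχ (dvd_pow h ha)) k

theorem ip_Lam_of_mem {χ : IrrCharacter G} (hχ : χ ∈ B) :
    ip χ.1 (Lam p x) = p * ml p x 0 χ.1 - χ.1 1 := by
  classical
  rw [Lam, H7.ip_sum_right]
  rcases (F.mem χ).1 hχ with h1 | ⟨i, rfl⟩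
  · simp only [ip_X F h1, ml_X₀ F h1, sum_const, card_univ, nsmul_eq_mul, H23.card_units_c, if_true]
    ring
  · simp only [ip_notX F (F.notMem i), ip_YY F, ← mul_sum, ml_psi_zero F]
    rw [sum_congr rfl fun j _ => if_congr (show _ ↔ i⁻¹ * j ∈ h.AA fun _ => 1 by
      rw [← inv_mem_iff, mul_inv_rev, inv_inv]) rfl rfl, sum_ite_mem, h.card_AA_one]
    ring

theorem ip_Lam_of_notMem {χ : IrrCharacter G} (hχ : χ ∉ B) : ip χ.1 (Lam p x) = 0 := by
  rw [Lam, H7.ip_sum_right, sum_eq_zero fun j _ => ip_out F hχ j]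

end Fam

end Cfsg.Agent.H9.P1
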