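import Mathlib
import Cfsg.Agent.H9.P1a
import Cfsg.Agent.H9.BT
import Cfsg.Agent.H7.GlCyc

/-!
Sylow subgroup of prime order: Brauer's lower bound for the degree of a faithful character.
-/

set_option autoImplicit false
set_option linter.unusedSectionVars false
set_option linter.unusedVariables false

namespace Cfsg.Agent.H9.P1

open Finset Cfsg Cfsg.Agent.H24.D1
open Cfsg.Agent.H7 (ip ind)
open Cfsg.Agent.H8 (irrOne)
open Subgroup (zpowers)
open scoped ComplexConjugate commutatorElement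

variable {G : Type*} [Group G] {p : ℕ} [hp : Fact p.Prime] [Finite G] {x : G}

/-- The multiplicity of an irreducible character, as a natural number. -/
noncomputable def mu (φ : G → ℂ) (χ : IrrCharacter G) : ℕ := ⌊(ip φ χ.1).re⌋₊

theorem mu_eq {φ : G → ℂ} (hφ : IsCharacter G φ) (χ : IrrCharacter G) : ip φ χ.1 = mu φ χ := by
  obtain ⟨n, hn⟩ := H7.ip_char_nat hφ (H7.irr_char χ.2)
  simp [mu, hn]

variable (p) in
/-- The multiplicity of the trivial character of `⟨x⟩`, as a natural number. -/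
noncomputable def m0 (x : G) (φ : G → ℂ) : ℕ := ⌊(ml p x 0 φ).re⌋₊

theorem m0_eq (h : Syl1 p x) {φ : G → ℂ} (hφ : IsCharacter G φ) : ml p x 0 φ = m0 p x φ := by
  obtain ⟨n, hn⟩ := ml_nat h 0 hφ
  simp [m0, hn]

theorem expand {φ : G → ℂ} (hφ : IsClassFunction G φ) :
    φ = ∑ χ : IrrCharacter G, ip φ χ.1 • χ.1 :=
  (H7.cf_expand hφ).trans (H7.sum_irr_eq_sum fun χ => ip φ χ • χ).symm

theorem expand_mu {φ : G → ℂ} (hφ : IsCharacter G φ) :
    φ = ∑ χ : IrrCharacter G, (mu φ χ : ℂ) • χ.1 := by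
  simpa only [mu_eq hφ] using expand (H7.char_cf hφ)

theorem deg_expand {φ : G → ℂ} (hφ : IsCharacter G φ) :
    charDegree φ = ∑ χ : IrrCharacter G, mu φ χ * charDegree χ.1 := by
  have := congrFun (expand_mu hφ) 1
  simp only [Finset.sum_apply, Pi.smul_apply, smul_eq_mul, H7.char_one_eq hφ, H8.irr_one_eq] at this
  exact_mod_cast this

theorem m0_expand (h : Syl1 p x) {φ : G → ℂ} (hφ : IsCharacter G φ) :
    m0 p x φ = ∑ χ : IrrCharacter G, mu φ χ * m0 p x χ.1 := by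
  have := congrArg (ml p x 0) (expand_mu hφ)
  simp only [map_sum, map_smul, smul_eq_mul, m0_eq h hφ,
    fun χ : IrrCharacter G => m0_eq h (H7.irr_char χ.2)] at this
  exact_mod_cast this

theorem m0_eq_zero (h : Syl1 p x) {φ : G → ℂ} (hφ : IsCharacter G φ) (h0 : ml p x 0 φ = 0)
    {χ : IrrCharacter G} (hχ : mu φ χ ≠ 0) : m0 p x χ.1 = 0 := by
  have h1 := m0_expand h hφ
  rw [m0_eq h hφ, Nat.cast_eq_zero] at h0
  rw [h0, eq_comm, sum_eq_zero_iff] at h1
  exact (mul_eq_zero.1 (h1 χ (mem_univ _))).resolve_left hχ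

omit [Finite G] in
theorem ml_mul (φ ψ : G → ℂ) : ml p x 0 (φ * ψ) = ∑ k, ml p x (-k) φ * ml p x k ψ := by
  refine mul_left_cancel₀ (p_ne (p := p)) ?_
  simp only [mul_sum, ← mul_assoc, mul_ml, sum_mul]
  rw [sum_comm]
  refine sum_congr rfl fun a _ => ?_
  rw [Pi.mul_apply, ← sum_ml ψ a, mul_sum, mul_zero, neg_zero, AddChar.map_zero_eq_one, mul_one]
  exact sum_congr rfl fun k _ => by rw [mul_neg, neg_neg, mul_comm a]; ring

omit [Finite G] in
theorem ml_star (φ : G → ℂ) (k : ZMod p) : ml p x k (star φ) = conj (ml p x (-k) φ) := by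
  refine mul_left_cancel₀ (p_ne (p := p)) ?_
  rw [← map_natCast (starRingEnd ℂ) p, ← map_mul, map_natCast, mul_ml, mul_ml, map_sum]
  exact sum_congr rfl fun a _ => by rw [map_mul, conj_ch, mul_neg, neg_neg]; rfl

omit [Finite G] in
theorem ml_mul_star (φ ψ : G → ℂ) :
    ml p x 0 (φ * star ψ) = ∑ k, ml p x k φ * conj (ml p x k ψ) := by
  simp only [ml_mul, ml_star]
  exact Equiv.sum_comp (Equiv.neg _) fun k => ml p x k φ * conj (ml p x k ψ)

theorem m0_one (h : Syl1 p x) : m0 p x (irrOne G).1 = 1 := by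
  have := ml_const h (φ := (irrOne G).1) (c := 1) (fun _ _ => rfl) 0
  rw [m0_eq h (H7.irr_char (irrOne G).2)] at this
  simpa [hp.out.ne_zero] using this

theorem deg_one : charDegree (irrOne G).1 = 1 := charDegree_one

theorem exists_notMem (h : Syl1 p x) (he : ee x < p - 1) (i : (ZMod p)ˣ) :
    ∃ j : (ZMod p)ˣ, j⁻¹ * i ∉ h.al.range := by
  by_contra! H
  have : h.al.range = ⊤ := eq_top_iff.2 fun a _ => by simpa using H (i * a⁻¹)
  rw [ee, h.relIndex_eq, this, Subgroup.card_top, Nat.card_eq_fintype_card, ZMod.card_units] at he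
  exact he.false

theorem AA_le (h : Syl1 p x) (θ : CC x → ℂ) : h.AA θ ≤ h.al.range := Subgroup.map_le_range _ _

theorem AA_eq (h : Syl1 p x) {θ : CC x → ℂ} (hA : Nat.card (h.AA θ) = ee x) :
    h.AA θ = h.al.range :=
  Subgroup.eq_of_le_of_card_ge (AA_le h θ) (by rw [hA, ee, h.relIndex_eq])

namespace Fam

section

variable {h : Syl1 p x} {B : Set (IrrCharacter G)} {θ : CC x → ℂ} {X : Finset (IrrCharacter G)}
  {ψ : (ZMod p)ˣ → IrrCharacter G} {ε : IrrCharacter G → ℤ} {δ : ℤ} (F : Fam h B θ X ψ ε δ)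
include F

theorem val_pow (hθ : θ 1 = 1) (hA : Nat.card (h.AA θ) = ee x) {χ : IrrCharacter G} (hχ : χ ∈ X)
    {a : ZMod p} (ha : a ≠ 0) : χ.1 (x ^ a.val) = ε χ := by
  rw [F.val_zp hχ (Subgroup.npow_mem_zpowers _ _) (h.pow_val_ne_one ha), hA,
    Nat.div_self (ee_pos x), show charDegree θ = 1 by simp [charDegree, hθ]]
  simp

theorem degX (hθ : θ 1 = 1) (hA : Nat.card (h.AA θ) = ee x) {χ : IrrCharacter G} (hχ : χ ∈ X) :
    (p : ℤ) * m0 p x χ.1 = charDegree χ.1 + (p - 1) * ε χ := by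
  have := ml_const h (fun a ha => val_pow F hθ hA hχ ha) 0
  rw [m0_eq h (H7.irr_char χ.2), H8.irr_one_eq, if_pos rfl] at this
  exact_mod_cast (show (p : ℂ) * m0 p x χ.1 = charDegree χ.1 + (p - 1) * ε χ by
    linear_combination this)

theorem degY (j : (ZMod p)ˣ) :
    (p : ℤ) * m0 p x (ψ j).1 = charDegree (ψ j).1 - δ * (charDegree θ * ee x : ℕ) := by
  have := ml_psi_zero F j
  rw [m0_eq h (H7.irr_char (ψ j).2), H8.irr_one_eq, H7.char_one_eq (H7.irr_char F.irr),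
    mul_assoc] at this
  exact_mod_cast this

open Classical in
theorem ml_psi_of (hδ : δ = 1) {j : (ZMod p)ˣ} (h0 : ml p x 0 (ψ j).1 = 0) (k : ZMod p) :
    ml p x k (ψ j).1 = if ∃ α ∈ h.al.range, k = j * α then θ 1 else 0 := by
  have h1 := ml_psi_zero F j
  have h2 := ml_psi F j k
  rw [← h1, h0, hδ] at h2
  refine mul_left_cancel₀ (p_ne (p := p)) (h2.trans ?_)
  split_ifs <;> simp

theorem ml_mul_star_zero (hδ : δ = 1) (h0 : ∀ j, ml p x 0 (ψ j).1 = 0) {i j : (ZMod p)ˣ}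
    (hij : j⁻¹ * i ∉ h.al.range) : ml p x 0 ((ψ i).1 * star (ψ j).1) = 0 := by
  rw [ml_mul_star]
  refine sum_eq_zero fun k _ => ?_
  rw [ml_psi_of F hδ (h0 i), ml_psi_of F hδ (h0 j)]
  split_ifs with h1 h2
  · obtain ⟨α, hα, rfl⟩ := h1
    obtain ⟨β, hβ, e⟩ := h2
    rw [← Units.val_mul, ← Units.val_mul, Units.val_inj] at e
    refine (hij ?_).elim
    rw [show j⁻¹ * i = β * α⁻¹ by rw [eq_mul_inv_iff_mul_eq, mul_assoc, e]; simp]
    exact mul_mem hβ (inv_mem hα)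
  all_goals simp

theorem ml_zero_congr (i j : (ZMod p)ˣ) : ml p x 0 (ψ i).1 = ml p x 0 (ψ j).1 :=
  mul_left_cancel₀ (p_ne (p := p)) (by
    rw [ml_psi_zero F, ml_psi_zero F, F.reg_eq i j (by simpa using hp.out.one_lt.ne')])

end

variable {h : Syl1 p x} {B : Set (IrrCharacter G)} {X : Finset (IrrCharacter G)}
  {ψ : (ZMod p)ˣ → IrrCharacter G} {ε : IrrCharacter G → ℤ} {δ : ℤ}
  (F : Fam h B (fun _ => 1) X ψ ε δ)
include F

open Classical in
theorem ip_Lam_char {φ : G → ℂ} (hφ : IsCharacter G φ) : ip φ (Lam p x) =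
    p * (∑ χ with χ ∈ B, mu φ χ * m0 p x χ.1 : ℕ) -
      (∑ χ with χ ∈ B, mu φ χ * charDegree χ.1 : ℕ) := by
  conv_lhs => rw [expand_mu hφ, H7.ip_sum_left]
  push_cast
  rw [mul_sum, ← sum_sub_distrib, sum_filter]
  refine sum_congr rfl fun χ _ => ?_
  rw [H7.ip_smul_left]
  split_ifs with h1
  · rw [ip_Lam_of_mem F h1, m0_eq h (H7.irr_char χ.2), H8.irr_one_eq]; ring
  · rw [ip_Lam_of_notMem F h1, mul_zero]

/-- The basic inequality for nontrivial characters in the principal block. -/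
theorem ineq (hk : ∀ χ ∈ X, χ.1 x = χ.1 1 → χ = irrOne G) (he : 2 * ee x < p)
    {χ : IrrCharacter G} (hχ : χ ∈ B) (h1 : χ ≠ irrOne G) :
    (p + 1) * m0 p x χ.1 < 2 * charDegree χ.1 ∨ (p + 1) * m0 p x χ.1 = 2 * charDegree χ.1 ∧
      (χ ∈ X ∧ ε χ = 1 ∧ m0 p x χ.1 = 2 ∨ χ ∉ X ∧ δ = -1 ∧ m0 p x χ.1 = 1) := by
  have h2 := hp.out.two_le
  have h3 := ee_pos x
  have h4 := H23.deg_pos χ
  rcases (F.mem χ).1 hχ with h5 | ⟨j, rfl⟩
  · have h6 := degX F rfl h.card_AA_one h5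
    rcases F.sε χ h5 with h7 | h7 <;> rw [h7] at h6
    · have h8 : m0 p x χ.1 ≠ 1 := fun e => h1 (hk χ h5 (by
        rw [F.val₀ h5 (h.ord ▸ dvd_rfl), H8.irr_one_eq, h7, show charDegree χ.1 = 1 by
          rw [e] at h6; push_cast at h6; omega]; simp))
      have h9 : m0 p x χ.1 ≠ 0 := fun e => by rw [e] at h6; push_cast at h6; omega
      rcases (show m0 p x χ.1 = 2 ∨ 3 ≤ m0 p x χ.1 by omega) with h10 | h10
      · exact .inr ⟨by rw [h10] at h6 ⊢; push_cast at h6; omega, .inl ⟨h5, h7, h10⟩⟩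
      · left; zify at h2 h3 he h10 ⊢; nlinarith
    · left; zify at h2 ⊢; nlinarith [Int.natCast_nonneg (m0 p x χ.1)]
  · have h6 := degY F j
    rw [charDegree_one, one_mul] at h6
    rcases F.sδ with h7 | h7 <;> rw [h7] at h6
    · left; zify at h2 h3 ⊢; nlinarith [Int.natCast_nonneg (m0 p x (ψ j).1)]
    · have h9 : m0 p x (ψ j).1 ≠ 0 := fun e => by rw [e] at h6; push_cast at h6; omega
      rcases (show m0 p x (ψ j).1 = 1 ∨ 2 ≤ m0 p x (ψ j).1 by omega) with h10 | h10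
      · rw [h10] at h6 ⊢
        rcases (show 2 * ee x + 1 = p ∨ 2 * ee x + 1 < p by omega) with h11 | h11
        · exact .inr ⟨by push_cast at h6; omega, .inr ⟨F.notMem j, h7, rfl⟩⟩
        · left; push_cast at h6; omega
      · left; zify at h2 h3 he h10 ⊢; nlinarith

end Fam

theorem char_mul_star (χ ψ : IrrCharacter G) : IsCharacter G (χ.1 * star ψ.1) :=
  H7.char_mul (H7.irr_char χ.2) (H7.char_star (H7.irr_char ψ.2))

theorem ip_mul_star_one (χ ψ : G → ℂ) : ip (χ * star ψ) (irrOne G).1 = ip χ ψ := by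
  rw [H7.ip_mul_right, star_star]; exact congrArg _ (one_mul ψ)

theorem mu_self_one (χ : IrrCharacter G) : mu (χ.1 * star χ.1) (irrOne G) = 1 := by
  have := mu_eq (char_mul_star χ χ) (irrOne G)
  rw [ip_mul_star_one, H7.ip_irr_self χ.2] at this
  exact_mod_cast this.symm

open Classical in
theorem sum_mu_deg (B : Set (IrrCharacter G)) {φ : G → ℂ} (hφ : IsCharacter G φ) :
    ((∑ χ with χ ∈ B, mu φ χ * charDegree χ.1 : ℕ) : ℂ) = blockPart B φ 1 := by
  have := Fintype.ofFinite G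
  rw [H8.blockPart_eq]
  simp only [← H7.ip_eq_classInner, mu_eq hφ, H8.irr_one_eq, Nat.cast_sum, Nat.cast_mul]

section Core

variable {h : Syl1 p x} {B : Set (IrrCharacter G)} {θ : CC x → ℂ} {X : Finset (IrrCharacter G)}
  {ψ : (ZMod p)ˣ → IrrCharacter G} {ε : IrrCharacter G → ℤ}
  {M : Ideal AlgInt} {X₀ : Finset (IrrCharacter G)}
  {ψ₀ : (ZMod p)ˣ → IrrCharacter G} {ε₀ : IrrCharacter G → ℤ} {δ₀ : ℤ}
  (hM : IsPModular p M) (F₀ : Fam h (principalBlock M G) (fun _ => 1) X₀ ψ₀ ε₀ δ₀)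
  (F : Fam h B θ X ψ ε 1) (h0 : ∀ j, ml p x 0 (ψ j).1 = 0)
include hM F₀ F h0

open Classical in
theorem core₁ {i j : (ZMod p)ˣ} (hij : j⁻¹ * i ∉ h.al.range) :
    ∑ χ with χ ∈ principalBlock M G, mu ((ψ i).1 * star (ψ j).1) χ * charDegree χ.1 =
      ee x * Nat.card (h.AA θ) ∧
    ∑ χ with χ ∈ principalBlock M G, mu ((ψ i).1 * star (ψ i).1) χ * charDegree χ.1 =
      ee x * Nat.card (h.AA θ) ∧
    ∑ χ with χ ∈ principalBlock M G, mu ((ψ i).1 * star (ψ i).1) χ * m0 p x χ.1 = ee x := by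
  have := hM.2.1
  have h1 := (Fam.ip_Lam_char F₀ (char_mul_star (ψ i) (ψ j))).symm.trans
    (Fam.ip_Lam_mul F rfl h0 i j)
  have h2 := (Fam.ip_Lam_char F₀ (char_mul_star (ψ i) (ψ i))).symm.trans
    (Fam.ip_Lam_mul F rfl h0 i i)
  rw [if_neg fun e => hij (AA_le h θ e), sum_eq_zero fun χ _ => ?_] at h1
  · rw [if_pos (by simp)] at h2
    have h3 : ∑ χ with χ ∈ principalBlock M G, mu ((ψ i).1 * star (ψ j).1) χ * charDegree χ.1 =
        ee x * Nat.card (h.AA θ) := by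
      refine Nat.cast_injective (R := ℂ) ?_
      rw [Nat.cast_zero] at h1
      rw [Nat.cast_mul]
      linear_combination -h1
    have h4 := (sum_mu_deg _ (char_mul_star (ψ i) (ψ i))).trans ((H8.blockPart_congr_reg hM
      (H8.isBlockUnion_of_block H8.isPBlock_principalBlock) (fun y hy => by
        simp only [Pi.mul_apply, Pi.star_apply, F.reg_eq i j hy])
      (by simpa using hp.out.one_lt.ne')).trans (sum_mu_deg _ (char_mul_star (ψ i) (ψ j))).symm)
    rw [h3, Nat.cast_inj] at h4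
    refine ⟨h3, h4, Nat.cast_injective (R := ℂ) (mul_left_cancel₀ (p_ne (p := p)) ?_)⟩
    rw [h4] at h2
    push_cast at h2 ⊢
    linear_combination h2
  · by_cases h3 : mu ((ψ i).1 * star (ψ j).1) χ = 0
    · rw [h3, zero_mul]
    · rw [m0_eq_zero h (char_mul_star _ _) (Fam.ml_mul_star_zero F rfl h0 hij) h3, mul_zero]

theorem core₂ (h1 : irrOne G ∈ X₀) (hk : ∀ χ ∈ X₀, χ.1 x = χ.1 1 → χ = irrOne G)
    (he : 2 * ee x < p) (i : (ZMod p)ˣ) : ee x = 1 ∨ 2 * ee x + 1 = p ∧ Nat.card (h.AA θ) = ee x ∧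
      ∀ χ ∈ principalBlock M G, χ ≠ irrOne G → mu ((ψ i).1 * star (ψ i).1) χ ≠ 0 →
        (p + 1) * m0 p x χ.1 = 2 * charDegree χ.1 := by
  classical
  have := hM.2.1
  have h2 := ee_pos x
  obtain ⟨j, hij⟩ := exists_notMem h (by omega) i
  obtain ⟨-, h3, h4⟩ := core₁ hM F₀ F h0 hij
  have h5 : irrOne G ∈ univ.filter (· ∈ principalBlock M G) := by
    simpa using H8.irrOne_mem_principalBlock
  rw [← add_sum_erase _ _ h5, mu_self_one] at h3 h4
  rw [deg_one] at h3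
  rw [m0_one h] at h4
  have h6 : ∀ χ ∈ (univ.filter (· ∈ principalBlock M G)).erase (irrOne G),
      (p + 1) * (mu ((ψ i).1 * star (ψ i).1) χ * m0 p x χ.1) ≤
        2 * (mu ((ψ i).1 * star (ψ i).1) χ * charDegree χ.1) := fun χ hχ => by
    have h7 := Fam.ineq F₀ hk he (mem_filter.1 (mem_of_mem_erase hχ)).2 (ne_of_mem_erase hχ)
    rw [mul_left_comm, mul_left_comm 2]
    exact Nat.mul_le_mul_left _ (h7.elim le_of_lt fun h8 => h8.1.le)
  have h7 := sum_le_sum h6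
  have h8 : Nat.card (h.AA θ) ≤ ee x := Nat.le_of_dvd h2 (h.card_AA_dvd θ)
  rw [← mul_sum, ← mul_sum] at h7
  refine (Nat.eq_or_lt_of_le h2).imp Eq.symm fun h9 => ?_
  have h10 : 2 * ee x + 1 = p := by nlinarith
  have h11 : Nat.card (h.AA θ) = ee x := by nlinarith
  refine ⟨h10, h11, fun χ hχ h12 h13 => ?_⟩
  have := (sum_eq_sum_iff_of_le h6).1 (by rw [← mul_sum, ← mul_sum]; nlinarith) χ
    (mem_erase.2 ⟨h12, by simpa using hχ⟩)
  rw [mul_left_comm, mul_left_comm 2] at this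
  exact mul_left_cancel₀ h13 this

end Core

theorem two_ee_lt (h : Syl1 p x) (he : ee x + 1 < p) : 2 * ee x < p := by
  obtain ⟨t, ht⟩ := h.relIndex_dvd
  change p - 1 = ee x * t at ht
  have : 2 ≤ t := by
    by_contra! H
    interval_cases t <;> omega
  nlinarith [Nat.sub_add_cancel hp.out.one_le]

theorem exists_fam_mem (h : Syl1 p x) {M : Ideal AlgInt} (hM : IsPModular p M)
    (χ : IrrCharacter G) (hχ : ¬ p ∣ charDegree χ.1) :
    ∃ θ X ψ ε δ, Fam h (blockOf M χ.1) θ X ψ ε δ := by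
  have := hM.2.1
  have : PMod M p := ⟨hM⟩
  obtain ⟨θ, h1, h2⟩ := h.exists_triv_mem (H8.isPBlock_blockOf χ) ((h.not_dvd_degree_iff (M := M) χ).1 hχ)
  obtain ⟨X, ψ, ε, δ, F, -⟩ := h.exists_fam (H8.isPBlock_blockOf χ) h1 h2 χ
  exact ⟨_, X, ψ, ε, δ, F⟩

theorem le_deg_of_const (h : Syl1 p x) {φ : G → ℂ} (hφ : IsCharacter G φ) (hx : φ x ≠ φ 1)
    {c : ℤ} (hc : ∀ a : ZMod p, a ≠ 0 → φ (x ^ a.val) = c) : p ≤ charDegree φ + 1 := by
  have h1 := ml_const h hc
  obtain ⟨a, ha⟩ := ml_nat h 0 hφ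
  obtain ⟨b, hb⟩ := ml_nat h 1 hφ
  have h2 := h1 0
  have h3 := h1 1
  have h4 := hc 1 one_ne_zero
  rw [ZMod.val_one, pow_one] at h4
  rw [h4, H7.char_one_eq hφ] at hx
  rw [ha, if_pos rfl, H7.char_one_eq hφ] at h2
  rw [hb, if_neg one_ne_zero, H7.char_one_eq hφ] at h3
  norm_cast at h2 h3 hx
  have h5 : b ≠ 0 := by rintro rfl; omega
  have h6 : (charDegree φ : ℤ) = a + b * (p - 1) :=
    mul_left_cancel₀ (a := (p : ℤ)) (by simpa using hp.out.ne_zero) (by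
      push_cast at h2 h3; linear_combination -h2 - (p - 1) * h3)
  have := hp.out.two_le
  have : 1 ≤ b := by omega
  zify at *
  nlinarith

/-- Irreducible characters of degree less than `p - 1` are exceptional. -/
theorem small (h : Syl1 p x) {M : Ideal AlgInt} (hM : IsPModular p M) (ζ : IrrCharacter G)
    (hx : ζ.1 x ≠ ζ.1 1) (hd : charDegree ζ.1 + 1 < p) : 2 * ee x < p ∧
    ∃ θ X ψ ε δ i, Fam h (blockOf M ζ.1) θ X ψ ε δ ∧ ψ i = ζ ∧
      (δ = 1 ∧ (∀ j, ml p x 0 (ψ j).1 = 0) ∧ charDegree ζ.1 = charDegree θ * ee x ∨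
        δ = -1 ∧ θ 1 = 1 ∧ charDegree ζ.1 + ee x = p) := by
  have := hM.2.1
  have h1 := H23.deg_pos ζ
  have h2 := two_ee_lt h (lt_of_le_of_lt (by simpa using ee_le h (H7.irr_char ζ.2) hx) hd)
  obtain ⟨θ, X, ψ, ε, δ, F⟩ := exists_fam_mem h hM ζ (Nat.not_dvd_of_pos_of_lt h1 (by omega))
  refine ⟨h2, θ, X, ψ, ε, δ, ?_⟩
  rcases (F.mem ζ).1 (H8.mem_blockOf_self ζ) with h3 | ⟨i, rfl⟩
  · exact ((le_deg_of_const h (H7.irr_char ζ.2) hx fun a ha => F.val_zp h3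
      (Subgroup.npow_mem_zpowers _ _) (h.pow_val_ne_one ha)).trans_lt hd).false.elim
  refine ⟨i, F, rfl, ?_⟩
  have h3 := Fam.degY F i
  have h4 := H23.deg_pos ⟨θ, F.irr⟩
  have h5 := ee_pos x
  change 0 < charDegree θ at h4
  rcases F.sδ with rfl | rfl
  · have h6 : m0 p x (ψ i).1 = 0 := by
      by_contra h7
      have : 1 ≤ m0 p x (ψ i).1 := by omega
      zify at *
      nlinarith [mul_pos h4 h5]
    refine .inl ⟨rfl, fun j => ?_, by rw [h6] at h3; zify at *; linarith⟩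
    rw [Fam.ml_zero_congr F j i, m0_eq h (H7.irr_char (ψ i).2), h6, Nat.cast_zero]
  · obtain ⟨b, hb⟩ := ml_nat h i (H7.irr_char (ψ i).2)
    have h6 := Fam.ml_psi_self F i
    rw [← Fam.ml_psi_zero F, hb, m0_eq h (H7.irr_char (ψ i).2), H7.char_one_eq (H7.irr_char F.irr),
      ← mul_add, mul_right_inj' p_ne] at h6
    have h7 : (b : ℤ) + charDegree θ = m0 p x (ψ i).1 := by
      exact_mod_cast (show (b : ℂ) + charDegree θ = m0 p x (ψ i).1 by
        rw [h6]; push_cast; ring)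
    rw [← h7] at h3
    have h8 : b = 0 := by
      by_contra h9
      have : 1 ≤ b := by omega
      zify at *
      nlinarith
    have h9 : charDegree θ = 1 := by
      by_contra h9
      have : 2 ≤ charDegree θ := by omega
      zify at *
      nlinarith
    refine .inr ⟨rfl, by rw [H7.char_one_eq (H7.irr_char F.irr), h9, Nat.cast_one], ?_⟩
    rw [h8, h9] at h3
    push_cast at h3
    omega

theorem mem_charCenter_of_ee {h : Syl1 p x} {B : Set (IrrCharacter G)} {θ : CC x → ℂ}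
    {X : Finset (IrrCharacter G)} {ψ : (ZMod p)ˣ → IrrCharacter G} {ε : IrrCharacter G → ℤ}
    (F : Fam h B θ X ψ ε 1) {i : (ZMod p)ˣ} (h0 : ml p x 0 (ψ i).1 = 0) (he : ee x = 1) :
    x ∈ H6.charCenter (ψ i).1 := by
  have h1 := Fam.psi_pow F i one_ne_zero
  have h2 := Fam.ml_psi_zero F i
  obtain ⟨α, hα⟩ := card_eq_one.1 ((card_AF h).trans he)
  rw [h0, mul_zero, he, eq_comm, sub_eq_zero] at h2
  rw [ZMod.val_one, pow_one, eta, hα, sum_singleton] at h1
  rw [H6.mem_charCenter_iff (H7.irr_char (ψ i).2), h1, h2, norm_mul (_ * _), norm_mul (_ * _),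
    ZMod.stdAddChar_apply, Circle.norm_coe]
  simp

/-- The hypothesis `G = O^{p'}(G) C(x)`. -/
def Gen (x : G) : Prop := ∀ g : G, ∃ s ∈ Subgroup.normalClosure {x}, ∃ c ∈ CC x, g = s * c

theorem Gen.hk (hG : Gen x) {h : Syl1 p x} {B : Set (IrrCharacter G)}
    {X : Finset (IrrCharacter G)} {ψ : (ZMod p)ˣ → IrrCharacter G} {ε : IrrCharacter G → ℤ} {δ : ℤ}
    (F : Fam h B (fun _ => 1) X ψ ε δ) (χ : IrrCharacter G) (hχ : χ ∈ X) (hx : χ.1 x = χ.1 1) :
    χ = irrOne G := by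
  have := H6.charKer_normal (H7.irr_cf χ.2)
  have h1 := (H6.mem_charKer_iff_irr χ.2).2 hx
  have h2 : Subgroup.normalClosure {x} ≤ H6.charKer χ.1 :=
    Subgroup.normalClosure_le_normal (by simpa using h1)
  refine Subtype.ext (H6.irr_eq_one_of_charKer_eq_top χ.2 (eq_top_iff.2 fun g _ => ?_))
  obtain ⟨s, hs, c, hc, rfl⟩ := hG g
  refine mul_mem (h2 hs) ((H6.mem_charKer_iff_irr χ.2).2 ?_)
  rw [← hx, F.val₀ hχ (g := x) (h.ord ▸ dvd_rfl)]
  by_cases h3 : p ∣ orderOf c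
  · exact F.val₀ hχ h3
  · rw [← H6.apply_mul_of_mem_charKer' (H7.irr_cf χ.2) h1]
    exact F.val₀ hχ (by simpa [ZMod.val_one] using H23.dvd_mul_pow h hc h3 1)

/-- Brauer's bound for an irreducible character. -/
theorem bound_irr (h : Syl1 p x) (hG : Gen x) (ζ : IrrCharacter G)
    (hx : x ∉ H6.charCenter ζ.1) : p ≤ 2 * charDegree ζ.1 + 1 := by
  by_contra! H
  obtain ⟨M, hM⟩ := H7.exists_isPModular hp.out
  have h0 : ζ.1 x ≠ ζ.1 1 := fun e =>
    hx (H6.charKer_le_charCenter ((H6.mem_charKer_iff_irr ζ.2).2 e))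
  have h1 := H23.deg_pos ζ
  have h2 := ee_le h (H7.irr_char ζ.2) h0
  obtain ⟨he, θ, X, ψ, ε, δ, i, F, rfl, ⟨rfl, h3, -⟩ | ⟨-, -, h3⟩⟩ := small h hM ζ h0 (by omega)
  · obtain ⟨X₀, ψ₀, ε₀, δ₀, F₀, h4⟩ := h.exists_fam_principal hM
    rcases core₂ hM F₀ F h3 h4 (hG.hk F₀) he i with h5 | ⟨h5, -⟩
    · exact hx (mem_charCenter_of_ee F (h3 i) h5)
    · omega
  · omega

/-- The normal closure of `x`. -/
abbrev NC (x : G) : Subgroup G := Subgroup.normalClosure {x}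

omit [Finite G] in
theorem mem_NC (x : G) : x ∈ NC x := Subgroup.subset_normalClosure rfl

/-- `x` as an element of its normal closure. -/
abbrev xN (x : G) : NC x := ⟨x, mem_NC x⟩

theorem NC_xN (h : Syl1 p x) : NC (xN x) = ⊤ := by
  refine eq_top_iff.2 fun ⟨g, hg⟩ _ => ?_
  induction hg using Subgroup.closure_induction with
  | mem g hg =>
    obtain ⟨a, rfl, hg'⟩ := Group.mem_conjugatesOfSet_iff.1 hg
    obtain ⟨c, rfl⟩ := isConj_iff.1 hg'
    obtain ⟨s, hs, n, hn, rfl⟩ := h.frattini (mem_NC a) c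
    obtain ⟨k, hk⟩ := conj_mem_zp hn (Subgroup.mem_zpowers a)
    convert (Subgroup.normalClosure_normal (s := {xN a})).conj_mem _ (zpow_mem (mem_NC (xN a)) k)
      ⟨s, hs⟩ using 1
    refine Subtype.ext ?_
    simp only at hk
    simp [hk, mul_assoc]
  | one => exact one_mem _
  | mul a b _ _ ha hb => exact mul_mem (ha trivial) (hb trivial)
  | inv a _ ha => exact inv_mem (ha trivial)

omit [Finite G] in
theorem gen_of_top (h : NC x = ⊤) : Gen x := fun g =>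
  ⟨g, (h ▸ Subgroup.mem_top g : g ∈ NC x), 1, one_mem _, (mul_one g).symm⟩

theorem normal_of_NC_le (h : Syl1 p x) (hc : NC x ≤ NN x) : (zpowers x).Normal :=
  ⟨fun u hu g => h.mem_of_pelt (by
    by_cases h1 : u = 1
    · exact ⟨0, by simp [h1]⟩
    · exact ⟨1, by simpa using (orderOf_conj' g⁻¹ u).trans (h.orderOf_eq hu h1)⟩)
    (hc (Subgroup.normalClosure_normal.conj_mem u
      ((Subgroup.zpowers_le.2 (mem_NC x)) hu) g))⟩

theorem exists_constituent (h : Syl1 p x) (hn : ¬ (zpowers x).Normal) {χ : G → ℂ}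
    (hχ : IsCharacter G χ) (hf : ∀ g, χ g = χ 1 → g = 1) : ∃ ζ : IrrCharacter (NC x),
      ip (fun g : NC x => χ g) ζ.1 ≠ 0 ∧ xN x ∉ H6.charCenter ζ.1 := by
  by_contra! H
  have := Fintype.ofFinite (NC x)
  have h1 := H7.char_comp (NC x).subtype hχ
  refine hn (normal_of_NC_le h fun g hg => CC_le_NN x (mem_CC.2 ?_))
  have h2 : ⁅xN x, ⟨g, hg⟩⁆ ∈ H6.charKer fun g : NC x => χ g :=
    H6.mem_charKer_of_forall_constituent (H7.char_cf h1) fun ψ hψ h3 =>
      H6.commutator_mem_charKer (H7.irr_cf hψ) (H ⟨ψ, hψ⟩ (by rwa [H7.ip_eq_classInner])) _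
  exact commutatorElement_eq_one_iff_commute.1 (hf _ (H6.apply_eq_of_mem_charKer h2 :))

theorem deg_le_of_ip {H : Type*} [Group H] [Finite H] {φ : H → ℂ} (hφ : IsCharacter H φ)
    {ζ : IrrCharacter H} (h : ip φ ζ.1 ≠ 0) : charDegree ζ.1 ≤ charDegree φ := by
  have h1 := mu_eq hφ ζ
  have h2 := H7.degree_le_of_ip hφ ζ.2 h1 (H7.char_one_eq hφ) (H8.irr_one_eq ζ)
  have : mu φ ζ ≠ 0 := fun e => h (by rw [h1, e, Nat.cast_zero])
  exact (Nat.le_mul_of_pos_left _ (Nat.pos_of_ne_zero this)).trans h2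

/-- Brauer's bound. -/
theorem bound (h : Syl1 p x) (hn : ¬ (zpowers x).Normal) {χ : G → ℂ}
    (hχ : IsCharacter G χ) (hf : ∀ g, χ g = χ 1 → g = 1) : p ≤ 2 * charDegree χ + 1 := by
  obtain ⟨ζ, h1, h2⟩ := exists_constituent h hn hχ hf
  have h3 := bound_irr (h.sub (mem_NC x)) (gen_of_top (NC_xN h)) ζ h2
  have h4 : _ ≤ charDegree χ := deg_le_of_ip (H7.char_comp (NC x).subtype hχ) h1
  omega

end Cfsg.Agent.H9.P1
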