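import Mathlib
import Cfsg.Agent.H9.P1b

/-!
Sylow subgroup of prime order: structure of groups with a faithful irreducible character of
degree less than `p - 1`.
-/

set_option autoImplicit false
set_option linter.unusedSectionVars false
set_option linter.unusedVariables false

namespace Cfsg.Agent.H9.P1

open Finset Cfsg Cfsg.Agent.H24.D1
open Cfsg.Agent.H7 (ip ind)
open Cfsg.Agent.H8 (irrOne selfC pPart pReg)
open Subgroup (zpowers center)
open scoped ComplexConjugate commutatorElement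

variable {G : Type*} [Group G] {p : ℕ} [hp : Fact p.Prime] [Finite G] {x : G}

theorem range_le_of_hom {H : Type*} [Group H] [Finite H] (f : H →* G) {y : H} (h' : Syl1 p y)
    (h : Syl1 p (f y)) : h'.al.range ≤ h.al.range := fun α hα => by
  have h1 := (h'.isConj_pow_iff 1 α).2 (by simpa using hα)
  simpa using (h.isConj_pow_iff 1 α).1 (by simpa only [map_pow] using f.map_isConj h1)

theorem ee_le_of_hom {H : Type*} [Group H] [Finite H] (f : H →* G) {y : H} (h' : Syl1 p y)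
    (h : Syl1 p (f y)) : ee y ≤ ee (f y) := by
  rw [ee, ee, h.relIndex_eq, h'.relIndex_eq]
  exact Subgroup.card_le_of_le (range_le_of_hom f h' h)

theorem gen_of_le (h : Syl1 p x) (he : ee x ≤ ee (xN x)) : Gen x := fun g => by
  have h' := h.sub (mem_NC x)
  have h1 : h'.al.range = h.al.range := Subgroup.eq_of_le_of_card_ge
    (range_le_of_hom (NC x).subtype h' h) (by rwa [← h.relIndex_eq, ← h'.relIndex_eq])
  obtain ⟨s, hs, n, hn, rfl⟩ := h.frattini (mem_NC x) g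
  obtain ⟨m, hm⟩ : h.al ⟨n, hn⟩ ∈ h'.al.range := h1 ▸ ⟨_, rfl⟩
  refine ⟨s * m, mul_mem hs m.1.2, (m : G)⁻¹ * n, mem_CC.2 ?_, by group⟩
  have h2 := congrArg Subtype.val (h'.pow_al m)
  rw [hm] at h2
  have h3 : n * x * n⁻¹ = m * x * (m : G)⁻¹ := (h.pow_al ⟨n, hn⟩).symm.trans h2
  change x * _ = _ * x
  calc x * ((m : G)⁻¹ * n) = (m : G)⁻¹ * (m * x * (m : G)⁻¹) * n := by group
    _ = _ := by rw [← h3]; group

omit [Finite G] in
theorem ml_comp {H : Type*} [Group H] (f : H →* G) (y : H) (k : ZMod p) (φ : G → ℂ) :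
    ml p y k (fun g => φ (f g)) = ml p (f y) k φ := by
  simp [ml]

theorem not_mem_center (hn : ¬ (zpowers x).Normal) : x ∉ center G := fun hx =>
  hn ⟨fun u hu g => by
    rw [Subgroup.mem_center_iff.1 (Subgroup.zpowers_le.2 hx hu) g, mul_inv_cancel_right]; exact hu⟩

theorem irr_res (h : Syl1 p x) (hn : ¬ (zpowers x).Normal) {ζ : G → ℂ} (hζ : IsIrrCharacter G ζ)
    (hf : ∀ g, ζ g = ζ 1 → g = 1) (hd : charDegree ζ + 1 < p) :
    IsIrrCharacter (NC x) (fun g => ζ g) ∧ xN x ∉ H6.charCenter fun g : NC x => ζ g := by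
  obtain ⟨ζ₀, h1, h2⟩ := exists_constituent h hn (H7.irr_char hζ) hf
  have h3 := bound_irr (h.sub (mem_NC x)) (gen_of_top (NC_xN h)) ζ₀ h2
  obtain ⟨t, ht⟩ := (Dvd.intro_left _ rfl).trans ((H7.isNE_subtype (NC x)).degree_dvd_of_under hζ
    ζ₀.2 h1 (H7.char_one_eq (H7.irr_char hζ)) (H8.irr_one_eq ζ₀))
  have h4 := H23.deg_pos ⟨ζ, hζ⟩
  have h5 : t = 1 := by
    change 0 < charDegree ζ at h4
    rcases t with _ | _ | t
    · omega
    · rfl
    · nlinarith
  have h6 : (fun g : NC x => ζ g) = ζ₀.1 :=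
    H7.eq_irr_of_degree_eq (H7.char_comp (NC x).subtype (H7.irr_char hζ)) ζ₀.2 h1 (by
      rw [H8.irr_one_eq, ← mul_one (charDegree ζ₀.1), ← h5, ← ht]
      exact H7.char_one_eq (H7.irr_char hζ))
  rw [h6]
  exact ⟨ζ₀.2, h2⟩

/-- The powers of `x` in the centralizer. -/
def uu (x : G) (a : ZMod p) : CC x := ⟨x ^ a.val, H23.pow_mem_CC x _⟩

theorem uu_zero : uu x (0 : ZMod p) = 1 := Subtype.ext (by simp [uu])

theorem lm_uu_mul (h : Syl1 p x) (k a : ZMod p) {c : CC x} (hc : ¬ p ∣ orderOf c) :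
    lm p x k (uu x a * c) = ZMod.stdAddChar (k * a) := by
  rw [h.lm_mul, h.lm_of_reg _ hc, lm_apply, mul_one]
  exact congrArg _ (congrArg _ (h.lg_pow_val a))

theorem dvd_uu_mul (h : Syl1 p x) {a : ZMod p} (ha : a ≠ 0) {c : CC x} (hc : ¬ p ∣ orderOf c) :
    p ∣ orderOf (uu x a * c) := by
  rw [← Subgroup.orderOf_coe, show uu x a * c = c * uu x a from Subtype.ext
    ((Commute.pow_left (mem_CC.1 c.2) _).eq)]
  exact H23.dvd_mul_pow h c.2 (by rwa [Subgroup.orderOf_coe]) (Units.mk0 a ha)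

theorem four_zero (h : Syl1 p x) {φ : G → ℂ} (hφ : IsCharacter G φ) {k : ZMod p}
    (h0 : ml p x k φ = 0) {c : CC x} (hc : ¬ p ∣ orderOf c) :
    ∑ a : ZMod p, φ (x ^ a.val * c) * ZMod.stdAddChar (-(a * k)) = 0 := by
  have h1 : ∀ c : CC x, ¬ p ∣ orderOf c → ∀ a : ZMod p, ((fun g : CC x => φ g) * lm p x (-k))
      (selfC x ^ a.val * c) = φ (x ^ a.val * c) * ZMod.stdAddChar (-(a * k)) := fun c hc a => by
    rw [Pi.mul_apply, show selfC x ^ a.val = uu x a from rfl, lm_uu_mul h _ _ hc, neg_mul,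
      mul_comm k]; rfl
  exact (sum_congr rfl fun a _ => (h1 c hc a).symm).trans <| sum_coset (h.sub (selfC x).2)
    (H7.char_mul
    (H7.char_comp (CC x).subtype hφ) (h.char_lm (-k))) (mul_left_cancel₀ (p_ne (p := p)) (by
      rw [mul_ml, mul_zero, ← mul_zero (p : ℂ), ← h0, mul_ml]
      refine sum_congr rfl fun a _ => ?_
      simpa using h1 1 (by simpa using hp.out.one_lt.ne') a)) (n := c)
    (CC_le_NN _ (mem_CC.2 (Subtype.ext (mem_CC.1 c.2).eq)))

/-- The hypothesis `C(x) = ⟨x⟩ Z(G)`. -/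
def Cen (p : ℕ) (x : G) : Prop := ∀ c ∈ CC x, ¬ p ∣ orderOf c → c ∈ center G

theorem TT_eq_top (h : Syl1 p x) {θ : CC x → ℂ} (hθ : IsClassFunction _ θ)
    (hA : Nat.card (h.AA θ) = ee x) : TT x θ = ⊤ :=
  Subgroup.eq_top_of_card_eq _ (by rw [h.card_TT hθ, hA, card_NN])

namespace Fam

variable {h : Syl1 p x} {B : Set (IrrCharacter G)} {θ : CC x → ℂ} {X : Finset (IrrCharacter G)}
  {ψ : (ZMod p)ˣ → IrrCharacter G} {ε : IrrCharacter G → ℤ} {δ : ℤ} (F : Fam h B θ X ψ ε δ)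
include F

open Classical in
theorem four [Fintype (NN x)] (i : (ZMod p)ˣ) (k : ZMod p) {c : CC x} (hc : ¬ p ∣ orderOf c) :
    ∑ a : ZMod p, (ψ i).1 (x ^ a.val * c) * ZMod.stdAddChar (-(a * k)) =
      (ψ i).1 c + δ * ((Nat.card (CC x) : ℂ)⁻¹ * ∑ n : NN x, (neC x).cjf n θ c *
        ((if k = i * h.al n then (p : ℂ) else 0) - 1)) := by
  have h1 : ∀ a : ZMod p, II x (θ * lm p x i) (uu x a * c) = (Nat.card (CC x) : ℂ)⁻¹ *
      ∑ n : NN x, (neC x).cjf n θ c * ZMod.stdAddChar (a * ((i : ZMod p) * (h.al n : ZMod p))) := fun a => by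
    simp only [II_eq, Pi.smul_apply, Finset.sum_apply, smul_eq_mul, h.cjf_mul_lm, Pi.mul_apply]
    refine congrArg _ (sum_congr rfl fun n _ => ?_)
    rw [(F.triv.cjf n).mul (Subgroup.npow_mem_zpowers _ _), lm_uu_mul h _ _ hc, mul_comm a]
  have h2 : ∀ a : ZMod p, (ψ i).1 (x ^ a.val * c) = δ * II x (θ * lm p x i) (uu x a * c) +
      if a = 0 then (ψ i).1 c - δ * II x (θ * lm p x i) (uu x 0 * c) else 0 := fun a => by
    split_ifs with ha
    · rw [ha, ZMod.val_zero, pow_zero, one_mul, add_sub_cancel]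
    · rw [add_zero, ← Lf_eq_II h _ (dvd_uu_mul h ha hc)]
      exact F.valY i (uu x a * c : CC x) (by
        rw [Subgroup.orderOf_coe]; exact dvd_uu_mul h ha hc)
  have h3 : ∀ n : NN x, ∑ a : ZMod p, (ZMod.stdAddChar (a * ((i : ZMod p) * (h.al n : ZMod p))) : ℂ) *
      ZMod.stdAddChar (-(a * k)) = if k = i * h.al n then (p : ℂ) else 0 := fun n => by
    rw [← if_congr (sub_eq_zero.trans eq_comm) rfl rfl, ← sum_ch]
    exact sum_congr rfl fun a _ => by rw [← AddChar.map_add_eq_mul]; congr 1; ring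
  simp only [h2, add_mul, sum_add_distrib, ite_mul, zero_mul, sum_ite_eq', mem_univ, if_true,
    neg_zero, AddChar.map_zero_eq_one, mul_one, h1, mul_assoc, ← mul_sum, sum_mul]
  rw [sum_comm]
  simp only [← mul_sum, h3, mul_sub, sum_sub_distrib, mul_one]
  ring

theorem apply_of_pos (hδ : δ = 1) (hA : Nat.card (h.AA θ) = ee x) {i : (ZMod p)ˣ}
    (h0 : ml p x 0 (ψ i).1 = 0) {c : CC x} (hc : ¬ p ∣ orderOf c) : (ψ i).1 c = ee x * θ c := by
  have := Fintype.ofFinite (NN x)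
  have h1 := (four F i 0 hc).symm.trans (four_zero h (H7.irr_char (ψ i).2) h0 hc)
  rw [sum_congr rfl fun n _ => show _ = -θ c by
    rw [if_neg (mul_ne_zero i.ne_zero (h.al n).ne_zero).symm, show (neC x).cjf n θ = θ from
      (TT_eq_top h (H7.irr_cf F.irr) hA ▸ Subgroup.mem_top n : n ∈ TT x θ)]; ring,
    avg_const, hδ] at h1
  linear_combination h1

theorem apply_of_neg (hδ : δ = -1) (hθ : θ 1 = 1) {i : (ZMod p)ˣ}
    (hd : charDegree (ψ i).1 + ee x = p) {c : CC x} (hc : ¬ p ∣ orderOf c) :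
    (ψ i).1 c = charDegree (ψ i).1 * θ c := by
  classical
  have := Fintype.ofFinite (NN x)
  have hd' : (charDegree (ψ i).1 : ℂ) = p - ee x := by rw [← hd]; push_cast; ring
  have h1 : ∀ m : NN x, (ψ i).1 c + (Nat.card (CC x) : ℂ)⁻¹ * ∑ n : NN x, (neC x).cjf n θ c =
      p * (neC x).cjf m θ c := fun m => by
    have h2 := (four F i (i * h.al m) hc).symm.trans (four_zero h (H7.irr_char (ψ i).2)
      (mul_left_cancel₀ (p_ne (p := p)) (by
        rw [ml_psi F, if_pos ⟨_, ⟨m, rfl⟩, rfl⟩, H8.irr_one_eq, hd', hδ, hθ]; simp)) hc)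
    have h3 : ∑ n : NN x, (neC x).cjf n θ c * (if (i * h.al m : ZMod p) = i * h.al n then (p : ℂ)
        else 0) = Nat.card (CC x) * (p * (neC x).cjf m θ c) := by
      have h4 := sum_NN h fun α => if h.al m = α then p * (neC x).cjf m θ c else 0
      rw [sum_ite_eq, if_pos (mem_AF.2 ⟨m, rfl⟩),
        inv_mul_eq_iff_eq_mul₀ (H7.card_ne_zero' _)] at h4
      rw [← h4]
      refine sum_congr rfl fun n _ => ?_
      rw [if_congr ((mul_right_inj' i.ne_zero).trans Units.val_inj) rfl rfl]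
      split_ifs with h5
      · obtain ⟨d, hd⟩ : n * m⁻¹ ∈ (inc x).range := by
          rw [← h.ker_al, MonoidHom.mem_ker, map_mul, map_inv, h5, mul_inv_cancel]
        rw [eq_mul_inv_iff_mul_eq.1 hd |>.symm, (neC x).cjf_mul,
          (neC x).cjf_self (H7.irr_cf F.irr), mul_comm]
      · rw [mul_zero]
    simp only [mul_sub, sum_sub_distrib, mul_one, h3, hδ,
      inv_mul_cancel_left₀ (H7.card_ne_zero' _)] at h2
    push_cast at h2
    linear_combination h2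
  have h2 := h1 1
  rw [(neC x).cjf_one, sum_congr rfl fun n _ => show _ = θ c from
    mul_left_cancel₀ (p_ne (p := p)) (by rw [← h1 n, h1 1, (neC x).cjf_one]), avg_const] at h2
  rw [hd']
  linear_combination h2

end Fam

theorem norm_linear {H : Type*} [Group H] [Finite H] {θ : H → ℂ} (hθ : IsCharacter H θ)
    (h1 : θ 1 = 1) (c : H) : ‖θ c‖ = 1 := by
  have := H7.linear_mul_conj hθ h1 c
  rw [Complex.mul_conj, Complex.normSq_eq_norm_sq] at this
  exact (sq_eq_sq₀ (norm_nonneg _) zero_le_one).1 (by rw [one_pow]; exact_mod_cast this)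

theorem charKer_eq_bot {ζ : G → ℂ} (hf : ∀ g, ζ g = ζ 1 → g = 1) : H6.charKer ζ = ⊥ :=
  eq_bot_iff.2 fun g hg => hf g (H6.apply_eq_of_mem_charKer hg)

/-- The structure of a group with a faithful irreducible character of degree `< p - 1`. -/
theorem small_struct (h : Syl1 p x) (hn : ¬ (zpowers x).Normal) {M : Ideal AlgInt}
    (hM : IsPModular p M) (ζ : IrrCharacter G) (hf : ∀ g, ζ.1 g = ζ.1 1 → g = 1)
    (hd : charDegree ζ.1 + 1 < p) : Gen x ∧ Cen p x ∧ ee x ≠ 1 ∧ 2 * ee x < p ∧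
    ∃ θ X ψ ε δ i, Fam h (blockOf M ζ.1) θ X ψ ε δ ∧ ψ i = ζ ∧ θ 1 = 1 ∧
      (δ = 1 ∧ (∀ j, ml p x 0 (ψ j).1 = 0) ∧ charDegree ζ.1 = ee x ∧ 2 * ee x + 1 = p ∨
        δ = -1 ∧ charDegree ζ.1 + ee x = p) := by
  have hZ := H6.charCenter_eq_center ζ.2 (charKer_eq_bot hf)
  have h0 : ζ.1 x ≠ ζ.1 1 := fun e => h.ne_one (hf x e)
  have h1 := ee_le h (H7.irr_char ζ.2) h0
  have h' : Syl1 p (xN x) := h.sub (mem_NC x)
  have h2 : ee (xN x) ≤ ee x := ee_le_of_hom (NC x).subtype h' h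
  obtain ⟨h3, h4⟩ := irr_res h hn ζ.2 hf hd
  obtain ⟨he, θ, X, ψ, ε, δ, i, F, rfl, h5⟩ := small h hM ζ h0 hd
  have hG : Gen x := gen_of_le h (by
    obtain ⟨he', θ', X', ψ', ε', δ', i', F', h6, h7⟩ := small h' hM ⟨_, h3⟩ h0 hd
    have h8 := Fam.degY F' i'
    rw [h6] at h8
    rcases h7 with ⟨rfl, h9, h10⟩ | ⟨rfl, h9, h10⟩
    · obtain ⟨X₀, ψ₀, ε₀, δ₀, F₀, h11⟩ := h'.exists_fam_principal hM
      rcases core₂ hM F₀ F' h9 h11 ((gen_of_top (NC_xN h)).hk F₀) he' i' with h12 | ⟨h12, -⟩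
      · exact (h4 (by simpa only [h6] using mem_charCenter_of_ee F' (h9 i') h12)).elim
      · omega
    · change charDegree (ψ i).1 + _ = p at h10
      rcases h5 with ⟨-, h11, -⟩ | ⟨-, -, h11⟩
      · have h12 : ml p (xN x) 0 (fun g : NC x => (ψ i).1 g) = 0 :=
          (ml_comp (NC x).subtype (xN x) 0 (ψ i).1).trans (h11 i)
        change _ * (m0 p (xN x) (fun g : NC x => (ψ i).1 g) : ℤ) = _ at h8
        rw [show charDegree θ' = 1 by simp [charDegree, h9], m0, h12] at h8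
        simp only [Complex.zero_re, Nat.floor_zero] at h8
        have := ee_pos (xN x)
        push_cast at h8
        omega
      · omega)
  have h6 : ee x ≠ 1 := fun e => by
    rcases h5 with ⟨rfl, h7, -⟩ | ⟨-, -, h7⟩
    · exact not_mem_center hn (hZ ▸ mem_charCenter_of_ee F (h7 i) e)
    · omega
  have h7 : ∀ c : CC x, θ 1 = 1 → (ψ i).1 c = charDegree (ψ i).1 * θ c → (c : G) ∈ center G :=
    fun c hθ e => hZ ▸ (H6.mem_charCenter_iff (H7.irr_char (ψ i).2)).2 (by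
      rw [e, norm_mul, norm_linear (H7.irr_char F.irr) hθ, mul_one, H8.irr_one_eq])
  rcases h5 with ⟨rfl, h8, h9⟩ | ⟨rfl, h8, h9⟩
  · obtain ⟨X₀, ψ₀, ε₀, δ₀, F₀, h11⟩ := h.exists_fam_principal hM
    obtain ⟨h12, h13, -⟩ := (core₂ hM F₀ F h8 h11 (hG.hk F₀) he i).resolve_left h6
    have h14 : charDegree θ = 1 := by
      have := H23.deg_pos ⟨θ, F.irr⟩
      change 0 < charDegree θ at this
      by_contra h15
      have : 2 ≤ charDegree θ := by omega
      nlinarith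
    have h15 : θ 1 = 1 := by rw [H7.char_one_eq (H7.irr_char F.irr), h14, Nat.cast_one]
    rw [h14, one_mul] at h9
    exact ⟨hG, fun c hc hr => h7 ⟨c, hc⟩ h15 (h9 ▸ Fam.apply_of_pos F rfl h13 (h8 i)
      (by rwa [← Subgroup.orderOf_coe])), h6, he, θ, X, ψ, ε, _, i, F, rfl, h15,
      .inl ⟨rfl, h8, h9, h12⟩⟩
  · exact ⟨hG, fun c hc hr => h7 ⟨c, hc⟩ h8 (Fam.apply_of_neg F rfl h8 h9
      (by rwa [← Subgroup.orderOf_coe])), h6, he, θ, X, ψ, ε, _, i, F, rfl, h8, .inr ⟨rfl, h9⟩⟩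

end Cfsg.Agent.H9.P1
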