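import Mathlib
import Cfsg.Agent.H9.P1c
import Cfsg.Agent.H7.BR0

/-!
Sylow subgroup of prime order: a faithful character of degree `(p - 1) / 2`.
-/

set_option autoImplicit false
set_option linter.unusedSectionVars false
set_option linter.unusedVariables false

namespace Cfsg.Agent.H9.P1

open Finset Cfsg Cfsg.Agent.H24.D1
open Cfsg.Agent.H7 (ip ind)
open Cfsg.Agent.H8 (irrOne selfC pPart pReg)
open Subgroup (zpowers center)
open scoped ComplexConjugate commutatorElement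

variable {G : Type*} [Group G] {p : ℕ} [hp : Fact p.Prime] [Finite G] {x : G}

theorem not_dvd_one : ¬ p ∣ orderOf (1 : G) := by simpa using hp.out.one_lt.ne'

theorem center_le_CC (x : G) : center G ≤ CC x := fun z hz =>
  mem_CC.2 (Subgroup.mem_center_iff.1 hz x)

theorem center_reg (h : Syl1 p x) (hx : x ∉ center G) {z : G} (hz : z ∈ center G) :
    ¬ p ∣ orderOf z := by
  rw [← H8.pPart_eq_one_iff]
  by_contra h1
  have h2 := h.zp_eq (h.pPart_mem (CC_le_NN x (center_le_CC x hz))) h1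
  exact hx (Subgroup.zpowers_le.2 (H8.pPart_mem hz) (h2 ▸ Subgroup.mem_zpowers x))

theorem not_dvd_card_center (h : Syl1 p x) (hx : x ∉ center G) : ¬ p ∣ Nat.card (center G) :=
  fun hd => hx (h.mem_of_dvd hd)

theorem Cen.eq_mul (hC : Cen p x) (h : Syl1 p x) {c : G} (hc : c ∈ CC x) :
    ∃ a : ZMod p, ∃ z ∈ center G, ¬ p ∣ orderOf z ∧ c = x ^ a.val * z :=
  ⟨lg p x c, pReg p c, hC _ (H8.pReg_mem hc) (H8.not_dvd_orderOf_pReg c),
    H8.not_dvd_orderOf_pReg c, by rw [h.lg_spec (CC_le_NN x hc), H8.pPart_mul_pReg]⟩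

theorem Cen.comm (hC : Cen p x) (h : Syl1 p x) (a b : CC x) : a * b = b * a := by
  obtain ⟨k, z, hz, -, e⟩ := hC.eq_mul h a.2
  refine Subtype.ext (show Commute (a : G) b from ?_)
  rw [e]
  exact ((mem_CC.1 b.2).pow_left _).mul_left (Subgroup.mem_center_iff.1 hz _).symm

theorem Cen.theta_one (hC : Cen p x) (h : Syl1 p x) {θ : CC x → ℂ} (hθ : IsIrrCharacter _ θ) :
    θ 1 = 1 := (H6.comm_iff_forall_degree_one.1 (hC.comm h)) θ hθ

theorem Cen.cjf (hC : Cen p x) (h : Syl1 p x) {θ : CC x → ℂ} (ht : Triv x θ) (n : NN x) :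
    (neC x).cjf n θ = θ := funext fun c => by
  rw [← (ht.cjf n).pReg h, ← ht.pReg h c]
  refine congrArg θ (Subtype.ext ?_)
  rw [coe_cj, Subgroup.mem_center_iff.1 (hC _ (pReg p c).2 (by
    rw [Subgroup.orderOf_coe]; exact H8.not_dvd_orderOf_pReg c)), mul_inv_cancel_right]

theorem Cen.card_AA (hC : Cen p x) (h : Syl1 p x) {θ : CC x → ℂ} (ht : Triv x θ) :
    Nat.card (h.AA θ) = ee x := by
  rw [Syl1.AA, show TT x θ = ⊤ from eq_top_iff.2 fun n _ => hC.cjf h ht n, ee, h.relIndex_eq,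
    MonoidHom.range_eq_map]

theorem Cen.sc (hC : Cen p x) (h : Syl1 p x) (hx : x ∉ center G) : SC p (x : G ⧸ center G) := by
  have h1 := h.quotient (not_dvd_card_center h hx)
  refine ⟨h1.ord, le_antisymm (fun g hg => ?_) (zp_le_CC _)⟩
  obtain ⟨g, rfl⟩ := QuotientGroup.mk_surjective g
  have h2 : x⁻¹ * (g * x * g⁻¹) ∈ center G := by
    rw [← QuotientGroup.eq]
    simp [← (mem_CC.1 hg).eq]
  have h3 : g * x * g⁻¹ = x := by
    have h4 := H8.pPart_mul h.pelt (center_reg h hx h2) (Subgroup.mem_center_iff.1 h2 x)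
    rwa [mul_inv_cancel_left, H8.pPart_conj, H8.pPart_of_pElt h.pelt] at h4
  obtain ⟨a, z, hz, -, e⟩ := hC.eq_mul h (mem_CC.2 (mul_inv_eq_iff_eq_mul.1 h3).symm)
  rw [e, QuotientGroup.mk_mul, (QuotientGroup.eq_one_iff z).2 hz, mul_one]
  exact Subgroup.npow_mem_zpowers (x : G ⧸ center G) a.val

theorem Lam_apply (h : Syl1 p x) (g : G) :
    Lam p x g = if p ∣ orderOf g then (ee x * p : ℂ) else 0 := by
  obtain ⟨M, hM⟩ := H7.exists_isPModular hp.out
  obtain ⟨X, ψ, ε, δ, F, -⟩ := h.exists_fam_principal hM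
  rw [Lam, Finset.sum_apply]
  split_ifs with hg
  · have h1 : ∀ j : (ZMod p)ˣ, Phi p x (fun _ => 1) j g = ee x - δ * (ψ j).1 g := fun j => by
      rw [F.phi, Pi.sub_apply, Finset.sum_apply, sum_congr rfl fun χ hχ => show _ = (1 : ℂ) by
        rw [Pi.smul_apply, F.val₀ hχ hg, smul_eq_mul, F.ε_sq hχ], sum_const, F.card₀]
      simp
    simp only [h1, sum_sub_distrib, ← mul_sum, F.sum_valY hg, h.Lf_one hg, sum_const, card_univ,
      nsmul_eq_mul, H23.card_units_c]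
    linear_combination (ee x : ℂ) * F.δ_sq
  · exact sum_eq_zero fun j _ => h.Phi_reg _ _ hg

theorem cf_Lam : IsClassFunction G (Lam p x) := H7.cf_sum _ fun _ _ => cf_Phi _ _

theorem ip_Lam_eq (h : Syl1 p x) [Fintype G] (φ : G → ℂ) : Nat.card G * ip φ (Lam p x) =
    ee x * p * ∑ g with p ∣ orderOf g, φ g := by
  rw [H7.ip_def, mul_inv_cancel_left₀ (H7.card_ne_zero' G), sum_filter, mul_sum]
  refine sum_congr rfl fun g _ => ?_
  rw [Lam_apply h]
  split_ifs <;> simp [mul_comm]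

theorem ip_one_Lam (h : Syl1 p x) : ip (irrOne G).1 (Lam p x) = p - 1 := by
  obtain ⟨M, hM⟩ := H7.exists_isPModular hp.out
  have := hM.2.1
  obtain ⟨X, ψ, ε, δ, F, -⟩ := h.exists_fam_principal hM
  rw [Fam.ip_Lam_of_mem F H8.irrOne_mem_principalBlock, m0_eq h (H7.irr_char (irrOne G).2), m0_one h]
  simp

theorem card_sing (h : Syl1 p x) [Fintype G] :
    ee x * p * #{g : G | p ∣ orderOf g} + Nat.card G = Nat.card G * p := by
  have := ip_Lam_eq h (irrOne G).1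
  rw [ip_one_Lam h] at this
  simp only [H8.irrOne_apply, sum_const, nsmul_eq_mul, mul_one] at this
  exact_mod_cast (show (ee x * p * #{g : G | p ∣ orderOf g} + Nat.card G : ℂ) = Nat.card G * p by
    linear_combination -this)

theorem corr [Fintype G] {f g : G → ℂ} (hf : IsClassFunction G f) (hg : IsClassFunction G g)
    (y : G) : ∑ a, conj (f a) * g (a * y) =
      Nat.card G * ∑ χ : IrrCharacter G, ip g χ.1 * ip χ.1 f * χ.1 y / χ.1 1 := by
  conv_lhs => rw [expand hg]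
  simp only [Finset.sum_apply, Pi.smul_apply, smul_eq_mul, mul_sum]
  rw [sum_comm]
  refine sum_congr rfl fun χ _ => ?_
  simp only [mul_left_comm _ (ip g χ.1), ← mul_sum]
  rw [H6.sum_conj_mul_irr_mul hf χ.2, ← H7.ip_eq_classInner]
  ring

theorem eta_mul (h : Syl1 p x) (b : ZMod p) {α : (ZMod p)ˣ} (hα : α ∈ h.al.range) :
    eta h (b * α) = eta h b :=
  sum_equiv (Equiv.mulLeft α) (fun β => by
    simp only [mem_AF, Equiv.coe_mulLeft, mul_mem_cancel_left hα]) fun β _ => by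
      simp [mul_assoc]

theorem index_range (h : Syl1 p x) (he : 2 * ee x + 1 = p) : h.al.range.index = 2 := by
  have h1 := h.al.range.card_mul_index
  rw [← h.relIndex_eq, Nat.card_eq_fintype_card, ZMod.card_units] at h1
  exact mul_left_cancel₀ (ee_pos x).ne' (h1.trans (by omega))

namespace Fam

variable {h : Syl1 p x} {B : Set (IrrCharacter G)} {θ : CC x → ℂ} {X : Finset (IrrCharacter G)}
  {ψ : (ZMod p)ˣ → IrrCharacter G} {ε : IrrCharacter G → ℤ} {δ : ℤ} (F : Fam h B θ X ψ ε δ)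
include F

theorem psi_mul (hC : Cen p x) (j : (ZMod p)ˣ) {a : ZMod p} (ha : a ≠ 0) {z : CC x}
    (hz : ¬ p ∣ orderOf z) : (ψ j).1 (x ^ a.val * z) = δ * θ z * eta h (a * j) := by
  have := Fintype.ofFinite (NN x)
  have h1 := dvd_uu_mul h ha hz
  refine (F.valY j (uu x a * z : CC x) (by rwa [Subgroup.orderOf_coe])).trans ?_
  rw [Lf_eq_II h _ h1, II_eq, eta, mul_assoc, mul_sum (AF h), ← sum_NN h]
  simp only [Pi.smul_apply, Finset.sum_apply, smul_eq_mul, h.cjf_mul_lm, Pi.mul_apply,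
    hC.cjf h F.triv, lm_uu_mul h _ _ hz]
  refine congrArg _ (congrArg _ (sum_congr rfl fun n _ => ?_))
  rw [F.triv.mul (Subgroup.npow_mem_zpowers _ _)]
  congr 2
  ring

theorem ne_iff (hA : Nat.card (h.AA θ) = ee x) {i j : (ZMod p)ˣ} :
    ψ i = ψ j ↔ j⁻¹ * i ∈ h.al.range := by rw [F.inj, AA_eq h hA]

theorem eq_or (hA : Nat.card (h.AA θ) = ee x) (he : 2 * ee x + 1 = p) {i j : (ZMod p)ˣ}
    (hij : j⁻¹ * i ∉ h.al.range) (k : (ZMod p)ˣ) : ψ k = ψ i ∨ ψ k = ψ j := by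
  rw [ne_iff F hA, ne_iff F hA]
  by_contra! H
  refine hij ?_
  rw [show j⁻¹ * i = j⁻¹ * k * (i⁻¹ * k)⁻¹ by group,
    Subgroup.mul_mem_iff_of_index_two (index_range h he), inv_mem_iff]
  exact iff_of_false H.2 H.1

theorem sum_irr (hA : Nat.card (h.AA θ) = ee x) (he : 2 * ee x + 1 = p) {i j : (ZMod p)ˣ}
    (hij : j⁻¹ * i ∉ h.al.range) {A : Type*} [AddCommMonoid A] (f : IrrCharacter G → A)
    (hf : ∀ χ ∉ B, f χ = 0) : ∑ χ, f χ = ∑ χ ∈ X, f χ + (f (ψ i) + f (ψ j)) := by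
  classical
  rw [← sum_pair (mt (ne_iff F hA).1 hij), ← sum_union (by simp [F.notMem])]
  refine (sum_subset (subset_univ _) fun χ _ hχ => hf χ fun h1 => hχ ?_).symm
  rcases (F.mem χ).1 h1 with h2 | ⟨k, rfl⟩
  · exact mem_union_left _ h2
  · exact mem_union_right _ (by simpa using eq_or F hA he hij k)

theorem norm_sub (hC : Cen p x) (he : 2 * ee x + 1 = p) {i j : (ZMod p)ˣ}
    (hij : j⁻¹ * i ∉ h.al.range) {g : G} (hg : p ∣ orderOf g) :
    ‖(ψ i).1 g - (ψ j).1 g‖ = ‖eta h i - eta h j‖ := by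
  obtain ⟨t, ht⟩ := h.exists_conj hg
  obtain ⟨a, z, -, hz, e⟩ := hC.eq_mul h ht
  have h1 : z ∈ CC x := by
    rw [eq_inv_mul_iff_mul_eq.2 e.symm]
    exact mul_mem (inv_mem (H23.pow_mem_CC x _)) ht
  have h2 : a ≠ 0 := by
    rintro rfl
    rw [ZMod.val_zero, pow_zero, one_mul] at e
    exact hz (by rwa [← e, show t = t⁻¹⁻¹ by simp, inv_inv t⁻¹, orderOf_conj'])
  have h3 : ¬ p ∣ orderOf (⟨z, h1⟩ : CC x) := by rwa [← Subgroup.orderOf_coe]
  rw [← H7.irr_cf (ψ i).2 g t, ← H7.irr_cf (ψ j).2 g t, e, psi_mul F hC i h2 h3,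
    psi_mul F hC j h2 h3, ← mul_sub, norm_mul, norm_mul,
    norm_linear (H7.irr_char F.irr) (hC.theta_one h F.irr), show ‖(δ : ℂ)‖ = 1 by
      rcases F.sδ with h4 | h4 <;> simp [h4], one_mul, one_mul]
  lift a to (ZMod p)ˣ using h2.isUnit
  by_cases h4 : a ∈ h.al.range
  · rw [mul_comm, eta_mul h _ h4, mul_comm, eta_mul h _ h4]
  · have h5 := index_range h he
    rw [show (a * i : ZMod p) = j * (j⁻¹ * i * a : (ZMod p)ˣ) by
        rw [← Units.val_mul, ← Units.val_mul, mul_assoc, mul_inv_cancel_left, mul_comm],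
      show (a * j : ZMod p) = i * ((j⁻¹ * i)⁻¹ * a : (ZMod p)ˣ) by
        rw [← Units.val_mul, ← Units.val_mul, mul_inv_rev, inv_inv, mul_assoc, mul_inv_cancel_left,
          mul_comm],
      eta_mul h _ ((Subgroup.mul_mem_iff_of_index_two h5).2 (iff_of_false hij h4)),
      eta_mul h _ ((Subgroup.mul_mem_iff_of_index_two h5).2 (iff_of_false (by
        rwa [inv_mem_iff]) h4)), norm_sub_rev]

theorem norm_sub_sq (hC : Cen p x) (he : 2 * ee x + 1 = p) {i j : (ZMod p)ˣ}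
    (hij : j⁻¹ * i ∉ h.al.range) : ‖eta h i - eta h j‖ ^ 2 = p := by
  have := Fintype.ofFinite G
  have h1 : ip ((ψ i).1 - (ψ j).1) ((ψ i).1 - (ψ j).1) = 2 := by
    have h2 : (ψ i).1 ≠ (ψ j).1 := fun e =>
      hij ((ne_iff F (hC.card_AA h F.triv)).1 (Subtype.ext e))
    simp only [H7.ip_sub_left, H7.ip_sub_right, H7.ip_irr_self (ψ _).2,
      H7.ip_irr_ne (ψ i).2 (ψ j).2 h2, H7.ip_irr_ne (ψ j).2 (ψ i).2 h2.symm]
    norm_num
  rw [H7.ip_self_eq_ofReal, sum_congr rfl fun g _ => show _ =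
    if p ∣ orderOf g then ‖eta h i - eta h j‖ ^ 2 else 0 by
      split_ifs with hg
      · rw [Pi.sub_apply, norm_sub F hC he hij hg]
      · simp [F.reg_eq i j hg], ← sum_filter, sum_const, nsmul_eq_mul] at h1
  norm_cast at h1
  have h2 := card_sing h
  have h3 : (0 : ℝ) < Nat.card G := Nat.cast_pos.2 Nat.card_pos
  have h4 : (0 : ℝ) < ee x := Nat.cast_pos.2 (ee_pos x)
  rw [inv_mul_eq_iff_eq_mul₀ h3.ne'] at h1
  generalize #{g : G | p ∣ orderOf g} = s at h1 h2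
  rify at h2 he
  refine mul_left_cancel₀ (mul_pos h3 h4).ne' ?_
  linear_combination (ee x * p / 2 : ℝ) * h1 - (‖eta h i - eta h j‖ ^ 2 / 2) * h2 +
    (‖eta h i - eta h j‖ ^ 2 / 2 * Nat.card G) * he

end Fam

theorem deg_mul_star (χ ψ : IrrCharacter G) :
    charDegree (χ.1 * star ψ.1) = charDegree χ.1 * charDegree ψ.1 := by
  have := H7.char_one_eq (char_mul_star χ ψ)
  rw [Pi.mul_apply, Pi.star_apply, H8.irr_one_eq, H8.irr_one_eq, star_natCast] at this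
  exact_mod_cast this.symm

open Classical in
theorem mu_eq_zero {B : Set (IrrCharacter G)} {φ : G → ℂ} (hφ : IsCharacter G φ)
    (hB : ∑ χ with χ ∈ B, mu φ χ * charDegree χ.1 = charDegree φ) {χ : IrrCharacter G}
    (hχ : χ ∉ B) : mu φ χ = 0 := by
  rw [deg_expand hφ, ← sum_filter_add_sum_filter_not univ (· ∈ B), left_eq_add,
    sum_eq_zero_iff] at hB
  exact (mul_eq_zero.1 (hB χ (by simpa using hχ))).resolve_right (H23.deg_pos χ).ne'

theorem Fam.ip_of_van {h : Syl1 p x} {B : Set (IrrCharacter G)} {X : Finset (IrrCharacter G)}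
    {ψ : (ZMod p)ˣ → IrrCharacter G} {ε : IrrCharacter G → ℤ} {δ : ℤ}
    (F : Fam h B (fun _ => 1) X ψ ε δ) {ω : G → ℂ} (hω : ∀ g, ¬ p ∣ orderOf g → ω g = 0)
    {χ : IrrCharacter G} (hχ : χ ∈ X) : ip ω χ.1 = ε χ * ip ω (irrOne G).1 := by
  rw [ip_congr_sing hω (w := (ε χ : ℂ) • (irrOne G).1) fun g hg => by simp [F.val₀ hχ hg],
    H7.ip_smul_right, map_intCast]

theorem ip_mul_Lam (h : Syl1 p x) (φ : G → ℂ) {η : G → ℂ} {c : ℂ}
    (hη : ∀ g, p ∣ orderOf g → η g = c) : ip (φ * η) (Lam p x) = c * ip φ (Lam p x) := by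
  rw [← H7.ip_smul_left, ← H7.ip_conj_symm, ← H7.ip_conj_symm (Lam p x)]
  exact congrArg _ (ip_congr_sing (fun g hg => by rw [Lam_apply h, if_neg hg]) fun g hg => by
    simp [hη g hg, mul_comm])

theorem sum_split {X : Finset (IrrCharacter G)} {ε : IrrCharacter G → ℤ}
    (hε : ∀ χ ∈ X, ε χ = 1 ∨ ε χ = -1) (h1 : irrOne G ∈ X) (h2 : ε (irrOne G) = 1)
    [DecidableEq (IrrCharacter G)] {A : Type*} [AddCommMonoid A] (f : IrrCharacter G → A) :
    ∑ χ ∈ X, f χ = f (irrOne G) + ∑ χ ∈ X.erase (irrOne G) with ε χ = 1, f χ +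
      ∑ χ ∈ X with ε χ = -1, f χ := by
  rw [← sum_filter_add_sum_filter_not X (ε · = 1), filter_erase,
    add_sum_erase _ _ (mem_filter.2 ⟨h1, h2⟩)]
  exact congrArg _ (sum_congr (filter_congr fun χ hχ => by
    rcases hε χ hχ with h | h <;> simp [h]) fun _ _ => rfl)

section Half

variable {h : Syl1 p x} {B : Set (IrrCharacter G)} {θ : CC x → ℂ} {X : Finset (IrrCharacter G)}
  {ψ : (ZMod p)ˣ → IrrCharacter G} {ε : IrrCharacter G → ℤ}
  {M : Ideal AlgInt} (hM : IsPModular p M) (F : Fam h B θ X ψ ε 1)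
  (h0 : ∀ j, ml p x 0 (ψ j).1 = 0) (hG : Gen x) (hC : Cen p x) (he : 2 * ee x + 1 = p)
  (he1 : ee x ≠ 1) {i j : (ZMod p)ˣ} (hij : j⁻¹ * i ∉ h.al.range)
include hM F h0 hG hC he he1 hij

theorem half_main : ip ((ψ i).1 * star (ψ j).1) ((ψ i).1 * star (ψ i).1 - (irrOne G).1) = 0 ∧
    2 * ip ((ψ i).1 * star (ψ j).1 * star ((ψ i).1 * star (ψ i).1 - (irrOne G).1)) (Lam p x) =
      -(ee x) ^ 2 * (ee x - 1) ∧
    ∀ y, ¬ p ∣ orderOf y → (ee x + 1) * ∑ χ : IrrCharacter G,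
      ip (Lam p x) χ.1 * ip χ.1 (Lam p x) * χ.1 y / χ.1 1 =
        2 * ee x * p * (((ψ i).1 * star (ψ i).1) y + ee x) := by
  classical
  have := hM.2.1
  obtain ⟨X₀, ψ₀, ε₀, δ₀, F₀, h1⟩ := h.exists_fam_principal hM
  have hA := hC.card_AA h F.triv
  have hp' : (p : ℂ) = 2 * ee x + 1 := by rw [← he]; push_cast; ring
  have hd : ∀ k, charDegree (ψ k).1 = ee x := fun k => by
    have h2 := Fam.ml_psi_zero F k
    rw [h0, hC.theta_one h F.irr, H8.irr_one_eq] at h2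
    exact_mod_cast (show (charDegree (ψ k).1 : ℂ) = ee x by push_cast at h2; linear_combination -h2)
  obtain ⟨c1, c2, -⟩ := core₁ hM F₀ F h0 hij
  obtain ⟨-, -, c3⟩ := (core₂ hM F₀ F h0 h1 (hG.hk F₀) (by omega) i).resolve_left he1
  have l1 := Fam.ip_Lam_mul F rfl h0 i j
  have l2 := Fam.ip_Lam_mul F rfl h0 i i
  rw [if_neg fun e => hij (AA_le h θ e), hA] at l1
  rw [if_pos (by simp), hA] at l2
  have r1 : ∀ y, ¬ p ∣ orderOf y → ((ψ i).1 * star (ψ j).1) y = ((ψ i).1 * star (ψ i).1) y :=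
    fun y hy => by simp only [Pi.mul_apply, Pi.star_apply, F.reg_eq i j hy]
  have o1 : ip ((ψ i).1 * star (ψ j).1) (irrOne G).1 = 0 := by
    rw [ip_mul_star_one, H7.ip_irr_ne (ψ i).2 (ψ j).2 fun e =>
      hij ((Fam.ne_iff F hA).1 (Subtype.ext e))]
  have s1 : star ((ψ i).1 * star (ψ i).1) = (ψ i).1 * star (ψ i).1 := by
    rw [star_mul', star_star, mul_comm]
  have w1 := char_mul_star (ψ i) (ψ i)
  have w2 := char_mul_star (ψ i) (ψ j)
  have z2 := fun χ => m0_eq_zero h w2 (Fam.ml_mul_star_zero F rfl h0 hij) (χ := χ)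
  have o2 := mu_self_one (ψ i)
  have d1 := deg_mul_star (ψ i) (ψ i)
  have d2 := deg_mul_star (ψ i) (ψ j)
  rw [hd, hd] at d2
  rw [hd] at d1
  generalize (ψ i).1 * star (ψ i).1 = ω at *
  generalize (ψ i).1 * star (ψ j).1 = ω' at *
  have n1 := fun χ => mu_eq_zero w1 (c2.trans (by rw [hA, d1])) (χ := χ)
  have n2 := fun χ => mu_eq_zero w2 (c1.trans (by rw [hA, d2])) (χ := χ)
  have z1 : ∀ χ, mu ω χ ≠ 0 → m0 p x χ.1 ≠ 0 := fun χ h2 h3 => by
    by_cases h4 : χ = irrOne G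
    · rw [h4, m0_one h] at h3; exact one_ne_zero h3
    · have := c3 χ (by_contra fun h5 => h2 (n1 χ h5)) h4 h2
      have := H23.deg_pos χ
      rw [h3] at *; omega
  have m1 : ∀ χ ∈ X₀, (mu ω χ : ℤ) = mu ω' χ + ε₀ χ := fun χ hχ => by
    have h2 := Fam.ip_of_van F₀ (ω := ω - ω') (fun g hg => by simp [r1 g hg]) hχ
    rw [H7.ip_sub_left, H7.ip_sub_left, o1, mu_eq w1, mu_eq w1, mu_eq w2, o2] at h2
    exact_mod_cast (show (mu ω χ : ℂ) = mu ω' χ + ε₀ χ by push_cast at h2; linear_combination h2)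
  have m2 : ∀ χ ∈ (X₀.erase (irrOne G)).filter (ε₀ · = 1),
      mu ω χ = 1 ∧ mu ω' χ = 0 ∧ charDegree χ.1 = p + 1 := fun χ hχ => by
    obtain ⟨h2, h3⟩ := mem_filter.1 hχ
    obtain ⟨h4, h2⟩ := mem_erase.1 h2
    have h5 := m1 χ h2
    have h6 : mu ω' χ = 0 := by_contra fun h7 => z1 χ (by omega) (z2 χ h7)
    have h7 := (F₀.mem χ).2 (.inl h2)
    have h8 := c3 χ h7 h4 (by omega)
    rcases Fam.ineq F₀ (hG.hk F₀) (by omega) h7 h4 with h9 | ⟨-, ⟨-, -, h9⟩ | ⟨h9, -⟩⟩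
    · omega
    · exact ⟨by omega, h6, by rw [h9] at h8; omega⟩
    · exact (h9 h2).elim
  have m3 : ∀ χ ∈ X₀.filter (ε₀ · = -1),
      mu ω χ = 0 ∧ mu ω' χ = 1 ∧ charDegree χ.1 + 1 = p := fun χ hχ => by
    obtain ⟨h2, h3⟩ := mem_filter.1 hχ
    have h5 := m1 χ h2
    have h6 : mu ω χ = 0 := by_contra fun h7 => z1 χ h7 (z2 χ (by omega))
    have h7 := Fam.degX F₀ rfl h.card_AA_one h2
    rw [z2 χ (by omega), h3] at h7
    exact ⟨h6, by omega, by omega⟩
  have e1 := H23.PB.eps_one F₀ h1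
  have sp := fun f : IrrCharacter G → ℂ => sum_split F₀.sε h1 e1 f
  have t0 := sp fun _ => 1
  have t1 := fun f : IrrCharacter G → ℂ => Fam.sum_irr F₀ h.card_AA_one he hij f
  set Xp := (X₀.erase (irrOne G)).filter (ε₀ · = 1)
  set Xm := X₀.filter (ε₀ · = -1)
  simp only [sum_const, nsmul_eq_mul, mul_one, F₀.card₀] at t0
  have vp : ∀ g, p ∣ orderOf g → ∑ χ ∈ Xp, χ.1 g = #Xp := fun g hg => by
    rw [sum_congr rfl fun χ hχ => (F₀.val₀ (mem_of_mem_erase (mem_filter.1 hχ).1) hg).trans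
      (by rw [(mem_filter.1 hχ).2, Int.cast_one]), sum_const, nsmul_eq_mul, mul_one]
  have vm : ∀ g, p ∣ orderOf g → ∑ χ ∈ Xm, χ.1 g = -#Xm := fun g hg => by
    rw [sum_congr rfl fun χ hχ => show _ = (-1 : ℂ) by
      rw [F₀.val₀ (mem_filter.1 hχ).1 hg, (mem_filter.1 hχ).2]; simp, sum_const, nsmul_eq_mul,
      mul_neg_one]
  have dp : ∑ χ ∈ Xp, χ.1 1 = #Xp * (p + 1) := by
    rw [sum_congr rfl fun χ hχ => show _ = (p + 1 : ℂ) by
      rw [H8.irr_one_eq, (m2 χ hχ).2.2, Nat.cast_succ], sum_const, nsmul_eq_mul]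
  have dm' : ∀ χ ∈ Xm, χ.1 1 = p - 1 := fun χ hχ => by
    rw [H8.irr_one_eq, ← (m3 χ hχ).2.2]; simp
  have dm : ∑ χ ∈ Xm, χ.1 1 = #Xm * (p - 1) := by
    rw [sum_congr rfl dm', sum_const, nsmul_eq_mul]
  have rg : ∀ y, ¬ p ∣ orderOf y → δ₀ * (ψ₀ i).1 y = 1 + ∑ χ ∈ Xp, χ.1 y - ∑ χ ∈ Xm, χ.1 y :=
    fun y hy => by
      rw [F₀.reg i hy, sp, e1, sum_congr rfl fun χ hχ => show _ = χ.1 y by
        rw [(mem_filter.1 hχ).2]; simp, sum_congr rfl fun χ (hχ : χ ∈ Xm) => show _ = -χ.1 y by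
        rw [(mem_filter.1 hχ).2]; simp]
      simp [sub_eq_add_neg]
  have rg1 := rg 1 not_dvd_one
  have e0 : (ee x : ℂ) ≠ 0 := Nat.cast_ne_zero.2 (ee_pos x).ne'
  have e2 : (ee x + 1 : ℂ) ≠ 0 := Nat.cast_add_one_ne_zero _
  have Q : ∀ y, ¬ p ∣ orderOf y → ∑ χ : IrrCharacter G,
      ip (Lam p x) χ.1 * ip χ.1 (Lam p x) * χ.1 y / χ.1 1 = 4 * ee x ^ 2 *
        (1 + (∑ χ ∈ Xp, χ.1 y) / (p + 1) + (∑ χ ∈ Xm, χ.1 y) / (p - 1)) +
          2 * ee x ^ 2 * (ψ₀ i).1 y / (ψ₀ i).1 1 := fun y hy => by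
    have h2 : ∀ χ ∈ X₀, ip (Lam p x) χ.1 * ip χ.1 (Lam p x) = 4 * ee x ^ 2 := fun χ hχ => by
      rw [← H7.ip_conj_symm, Fam.ip_Lam_of_mem F₀ ((F₀.mem χ).2 (.inl hχ)), Fam.ml_X₀ F₀ hχ,
        if_pos rfl, show χ.1 1 - ε₀ χ + p * ε₀ χ - χ.1 1 = ((2 * ee x * ε₀ χ : ℤ) : ℂ) by
          rw [hp']; push_cast; ring, map_intCast]
      push_cast
      linear_combination (4 * ee x ^ 2 : ℂ) * F₀.ε_sq hχ
    have h3 : ∀ k, ip (Lam p x) (ψ₀ k).1 * ip (ψ₀ k).1 (Lam p x) = ee x ^ 2 := fun k => by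
      rw [← H7.ip_conj_symm, Fam.ip_Lam_of_mem F₀ ((F₀.mem _).2 (.inr ⟨k, rfl⟩)),
        Fam.ml_psi_zero F₀, show (ψ₀ k).1 1 - δ₀ * 1 * ee x - (ψ₀ k).1 1 =
          ((-δ₀ * ee x : ℤ) : ℂ) by push_cast; ring, map_intCast]
      push_cast
      linear_combination (ee x ^ 2 : ℂ) * F₀.δ_sq
    rw [t1 _ fun χ hχ => by rw [Fam.ip_Lam_of_notMem F₀ hχ]; simp, h3, h3,
      sum_congr rfl fun χ hχ => by rw [h2 χ hχ], sp, ← F₀.reg_eq i j hy,
      ← F₀.reg_eq i j not_dvd_one, sum_congr rfl fun χ (hχ : χ ∈ Xp) => by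
        rw [H8.irr_one_eq, (m2 χ hχ).2.2, Nat.cast_succ],
      sum_congr rfl fun χ (hχ : χ ∈ Xm) => by rw [dm' χ hχ], ← sum_div, ← sum_div, ← mul_sum, ← mul_sum]
    simp only [H8.irrOne_apply]
    ring
  refine ⟨?_, ?_⟩
  · rw [H7.ip_sub_right, o1, sub_zero, expand_mu w2, H7.ip_sum_left]
    refine sum_eq_zero fun χ _ => ?_
    rw [H7.ip_smul_left, ← H7.ip_conj_symm, mu_eq w1, map_natCast]
    by_cases h2 : mu ω χ = 0
    · simp [h2]
    · simp [show mu ω' χ = 0 from by_contra fun h3 => z1 χ h2 (z2 χ h3)]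
  rw [dp, dm] at rg1
  rcases F₀.sδ with rfl | rfl
  · have h2 : ∀ k, mu ω (ψ₀ k) = 0 := fun k => by_contra fun h3 => by
      have h4 := (F₀.mem _).2 (.inr ⟨k, rfl⟩)
      have h5 := H23.PB.psi_ne F₀ h1 k
      rcases Fam.ineq F₀ (hG.hk F₀) (by omega) h4 h5 with h9 | ⟨-, ⟨h9, -⟩ | ⟨-, h9, -⟩⟩
      · exact h9.ne (c3 _ h4 h5 h3)
      · exact F₀.notMem k h9
      · omega
    have h3 : ∀ g, ω g = 1 + ∑ χ ∈ Xp, χ.1 g := fun g => by
      rw [expand_mu w1, Finset.sum_apply, t1 _ fun χ hχ => by simp [n1 χ hχ], sp, o2, h2, h2,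
        sum_congr rfl fun χ hχ => by rw [(m2 χ hχ).1],
        sum_congr rfl fun χ (hχ : χ ∈ Xm) => by rw [(m3 χ hχ).1]]
      simp
    have h4 := h3 1
    rw [H7.char_one_eq w1, d1, dp, hp'] at h4
    have h5 : (2 * #Xp : ℂ) = ee x - 1 := mul_left_cancel₀ e2 (by
      push_cast at h4; linear_combination -h4)
    have h6 : (ψ₀ i).1 1 = ee x := by
      rw [hp'] at rg1
      linear_combination rg1 + (2 * ee x + 1) * h5 + 2 * ee x * t0
    refine ⟨?_, fun y hy => ?_⟩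
    · rw [ip_mul_Lam h _ (c := #Xp) fun g hg => by simp [h3, vp g hg], l1]
      linear_combination -(ee x) ^ 2 * h5
    · have h7 := rg y hy
      rw [Q y hy, h6, h3, hp', show ∑ χ ∈ Xm, χ.1 y = 1 + ∑ χ ∈ Xp, χ.1 y - (ψ₀ i).1 y by
        linear_combination h7, show (2 * ee x + 1 + 1 : ℂ) = 2 * (ee x + 1) by ring,
        add_sub_cancel_right]
      field_simp
      ring
  · have h2 : ∀ k, mu ω' (ψ₀ k) = 0 := fun k => by_contra fun h3 => by
      have h4 := Fam.degY F₀ k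
      have := ee_pos x
      rw [z2 _ h3, charDegree_one] at h4
      push_cast at h4
      omega
    have h3 : ∀ g, ω' g = ∑ χ ∈ Xm, χ.1 g := fun g => by
      have h4 : mu ω' (irrOne G) = 0 := by exact_mod_cast (mu_eq w2 _).symm.trans o1
      rw [expand_mu w2, Finset.sum_apply, t1 _ fun χ hχ => by simp [n2 χ hχ], sp, h4, h2, h2,
        sum_congr rfl fun χ hχ => by rw [(m2 χ hχ).2.1],
        sum_congr rfl fun χ (hχ : χ ∈ Xm) => by rw [(m3 χ hχ).2.1]]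
      simp
    have h4 := h3 1
    rw [H7.char_one_eq w2, d2, dm, hp'] at h4
    have h5 : (2 * #Xm : ℂ) = ee x := mul_left_cancel₀ e0 (by
      push_cast at h4; linear_combination -h4)
    have h6 : (ψ₀ i).1 1 = ee x + 1 := by
      rw [hp'] at rg1
      linear_combination -rg1 + (2 * ee x + 1) * h5 + (2 * ee x + 2) * t0
    refine ⟨?_, fun y hy => ?_⟩
    · rw [mul_comm ω', ip_mul_Lam h _ (c := -#Xm) fun g hg => by rw [h3, vm g hg], star_sub, s1,
        show star (irrOne G).1 = (irrOne G).1 from funext fun _ => star_one _, H7.ip_sub_left, l2,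
        ip_one_Lam h, hp']
      linear_combination -(ee x) * (ee x - 1) * h5
    · have h7 := rg y hy
      rw [Q y hy, h6, ← r1 y hy, h3, hp', show ∑ χ ∈ Xp, χ.1 y = ∑ χ ∈ Xm, χ.1 y - 1 - (ψ₀ i).1 y by
        linear_combination -h7, show (2 * ee x + 1 + 1 : ℂ) = 2 * (ee x + 1) by ring,
        add_sub_cancel_right]
      field_simp
      ring

theorem half_ineq {y : G} (hy : ¬ p ∣ orderOf y) :
    (ee x + 1) * ‖(ψ i).1 y‖ ≤ ‖(ψ i).1 y‖ ^ 2 + ee x := by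
  classical
  have := Fintype.ofFinite G
  have hA := hC.card_AA h F.triv
  have h1 := (half_main hM F h0 hG hC he he1 hij).2.2 y hy
  have h2 := corr (cf_Lam (p := p) (x := x)) (cf_Lam (p := p) (x := x)) y
  have cD := H7.cf_sub (H7.irr_cf (ψ i).2) (H7.irr_cf (ψ j).2)
  have h3 := corr cD cD y
  have ne : ψ i ≠ ψ j := mt (Fam.ne_iff F hA).1 hij
  have hd : (ψ i).1 1 = ee x := by
    have h2 := Fam.ml_psi_zero F i
    rw [h0, hC.theta_one h F.irr] at h2
    push_cast at h2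
    linear_combination -h2
  have iD : ∀ χ : IrrCharacter G, ip ((ψ i).1 - (ψ j).1) χ.1 =
      (if ψ i = χ then 1 else 0) - if ψ j = χ then 1 else 0 := fun χ => by
    rw [H7.ip_sub_left, H7.ip_irr (ψ i).2 χ.2, H7.ip_irr (ψ j).2 χ.2]
    simp only [Subtype.ext_iff]
    congr
  rw [← sum_subset (subset_univ {ψ i, ψ j}) fun χ _ hχ => by
    simp only [mem_insert, mem_singleton, not_or] at hχ
    simp [iD, Ne.symm hχ.1, Ne.symm hχ.2], sum_pair ne, ← H7.ip_conj_symm _ (ψ i).1,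
    ← H7.ip_conj_symm _ (ψ j).1, iD, iD, ← F.reg_eq i j hy, ← F.reg_eq i j not_dvd_one, hd] at h3
  simp only [ne, ne.symm, if_true, if_false, sub_zero, zero_sub, map_one, map_neg, mul_neg,
    neg_neg, one_mul, mul_one] at h3
  have h4 := (congrArg norm h3).symm.trans_le (norm_sum_le _ _)
  have h5 : ∀ a, conj (Lam p x a) * Lam p x (a * y) = (ee x ^ 2 * p *
      ‖conj (((ψ i).1 - (ψ j).1) a) * ((ψ i).1 - (ψ j).1) (a * y)‖ : ℝ) := fun a => by
    rw [norm_mul, Complex.norm_conj, Lam_apply h, Lam_apply h, Pi.sub_apply, Pi.sub_apply]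
    split_ifs with h6 h7 h7
    · rw [Fam.norm_sub F hC he hij h6, Fam.norm_sub F hC he hij h7, ← sq,
        Fam.norm_sub_sq F hC he hij]
      simp; ring
    · simp [F.reg_eq i j h7]
    all_goals simp [F.reg_eq i j h6]
  simp only [h5, ← Complex.ofReal_sum, ← mul_sum] at h2
  generalize ∑ a, ‖conj (((ψ i).1 - (ψ j).1) a) * ((ψ i).1 - (ψ j).1) (a * y)‖ = R at h2 h4
  have h6 : ((ee x + 1) * (ee x ^ 2 * p * R) : ℝ) =
      Nat.card G * (2 * ee x * p * (‖(ψ i).1 y‖ ^ 2 + ee x)) := by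
    rw [Pi.mul_apply, Pi.star_apply, RCLike.star_def, Complex.mul_conj,
      Complex.normSq_eq_norm_sq] at h1
    exact_mod_cast (show ((ee x + 1) * (ee x ^ 2 * p * R : ℝ) : ℂ) =
      Nat.card G * (2 * ee x * p * ((‖(ψ i).1 y‖ ^ 2 : ℝ) + ee x)) by rw [h2, ← h1]; ring)
  have e0 : (0 : ℝ) < ee x := Nat.cast_pos.2 (ee_pos x)
  have p0 : (0 : ℝ) < p := Nat.cast_pos.2 hp.out.pos
  have g0 : (0 : ℝ) < Nat.card G := Nat.cast_pos.2 Nat.card_pos
  rw [← two_mul, norm_mul, norm_mul, norm_div, Complex.norm_natCast, Complex.norm_natCast,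
    Complex.norm_two, ← mul_div_assoc, ← mul_div_assoc, div_le_iff₀ e0] at h4
  refine le_of_mul_le_mul_left ?_ (mul_pos g0 (mul_pos (mul_pos two_pos e0) p0))
  rw [mul_assoc _ _ (_ + _), ← h6]
  nlinarith [mul_le_mul_of_nonneg_left h4 (mul_pos (mul_pos e0 p0) (add_pos e0 one_pos)).le]

theorem half_card (hZ : H6.charCenter (ψ i).1 ≤ center G) (hx : x ∉ center G) :
    Nat.card G ≤ p * ee x * (p + 1) * Nat.card (center G) := by
  classical
  have := Fintype.ofFinite G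
  obtain ⟨h1, h2, -⟩ := half_main hM F h0 hG hC he he1 hij
  have hd : (ψ i).1 1 = ee x := by
    have h2 := Fam.ml_psi_zero F i
    rw [h0, hC.theta_one h F.irr] at h2
    push_cast at h2
    linear_combination -h2
  have h3 := ip_Lam_eq h ((ψ i).1 * star (ψ j).1 * star ((ψ i).1 * star (ψ i).1 - (irrOne G).1))
  change _ = _ * ∑ g with p ∣ orderOf g, ((ψ i).1 * star (ψ j).1) g *
    conj (((ψ i).1 * star (ψ i).1 - (irrOne G).1) g) at h3
  rw [H7.ip_def, mul_eq_zero, or_iff_right (inv_ne_zero (H7.card_ne_zero' G)),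
    ← sum_filter_add_sum_filter_not univ (p ∣ orderOf ·),
    sum_congr rfl fun g (hg : g ∈ univ.filter fun g => ¬ p ∣ orderOf g) => show _ =
      ((‖(ψ i).1 g‖ ^ 2 * (‖(ψ i).1 g‖ ^ 2 - 1) : ℝ) : ℂ) by
      simp [← F.reg_eq i j (mem_filter.1 hg).2, Complex.mul_conj, Complex.normSq_eq_norm_sq],
    ← Complex.ofReal_sum] at h1
  have h4 : ∑ g with ¬ p ∣ orderOf g, ‖(ψ i).1 g‖ ^ 2 * (‖(ψ i).1 g‖ ^ 2 - 1) ≤
      ∑ g : G, if g ∈ center G then (ee x ^ 2 * (ee x ^ 2 - 1) : ℝ) else 0 := by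
    rw [sum_filter]
    refine sum_le_sum fun g _ => ?_
    by_cases h5 : g ∈ center G
    · rw [if_pos h5, if_pos (center_reg h hx h5), (H6.mem_charCenter_iff (H7.irr_char (ψ i).2)).1
        (H6.center_le_charCenter (ψ i).2 h5), hd, Complex.norm_natCast]
    · rw [if_neg h5]
      split_ifs with h6
      · rfl
      · have h7 := half_ineq hM F h0 hG hC he he1 hij h6
        have h8 := (H6.isCharacter_norm_le' (H7.irr_char (ψ i).2) hd g).lt_of_ne fun e =>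
          h5 (hZ ((H6.mem_charCenter_iff (H7.irr_char (ψ i).2)).2 (by rw [e, hd]; simp)))
        have h9 : ‖(ψ i).1 g‖ ≤ 1 := by nlinarith
        exact mul_nonpos_of_nonneg_of_nonpos (sq_nonneg _) (by nlinarith [norm_nonneg ((ψ i).1 g)])
  rw [← sum_filter, sum_const, ← Fintype.card_subtype, ← Nat.card_eq_fintype_card,
    nsmul_eq_mul] at h4
  generalize ∑ g with ¬ p ∣ orderOf g, ‖(ψ i).1 g‖ ^ 2 * (‖(ψ i).1 g‖ ^ 2 - 1) = R at h1 h4
  have h5 : (2 * ee x * p * R : ℝ) = Nat.card G * (ee x ^ 2 * (ee x - 1)) := by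
    exact_mod_cast (show (2 * ee x * p * R : ℂ) = Nat.card G * (ee x ^ 2 * (ee x - 1)) by
      linear_combination 2 * ee x * p * h1 + 2 * h3 - Nat.card G * h2)
  have e0 : (1 : ℝ) < ee x := Nat.one_lt_cast.2 (by have := ee_pos x; omega)
  have p0 : (0 : ℝ) < p := Nat.cast_pos.2 hp.out.pos
  rify at he ⊢
  refine le_of_mul_le_mul_right ?_ (show 0 < (ee x ^ 2 * (ee x - 1) : ℝ) by
    have := sub_pos.2 e0; positivity)
  rw [← h5, show (p + 1 : ℝ) = 2 * (ee x + 1) by linarith]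
  nlinarith [mul_le_mul_of_nonneg_left h4 (show (0 : ℝ) ≤ 2 * ee x * p by positivity)]

end Half

theorem Gen.NC_quot (hG : Gen x) (hC : Cen p x) (h : Syl1 p x) :
    NC (x : G ⧸ center G) = ⊤ := eq_top_iff.2 fun g _ => by
  obtain ⟨g, rfl⟩ := QuotientGroup.mk_surjective g
  obtain ⟨s, hs, c, hc, rfl⟩ := hG g
  obtain ⟨a, z, hz, -, rfl⟩ := hC.eq_mul h hc
  rw [QuotientGroup.mk_mul, QuotientGroup.mk_mul, (QuotientGroup.eq_one_iff z).2 hz, mul_one]
  refine mul_mem ?_ (pow_mem (mem_NC (x : G ⧸ center G)) a.val)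
  exact (Subgroup.normalClosure_le_normal (N := (NC (x : G ⧸ center G)).comap
    (QuotientGroup.mk' (center G))) (by simpa using mem_NC (x : G ⧸ center G))) hs

theorem commutator_eq_top (h : Syl1 p x) (hN : NC x = ⊤) (he : ee x ≠ 1) : commutator G = ⊤ :=
  top_le_iff.1 (hN ▸ Subgroup.normalClosure_le_normal (by simpa using h.mem_commutator he))

theorem normal_of_index (hN : (NN x).index = 1) : (zpowers x).Normal :=
  Subgroup.normalizer_eq_top_iff.1 (Subgroup.index_eq_one.1 hN)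

/-- Brauer's theorem on faithful characters of degree `(p - 1) / 2`. -/
theorem psl_of_half (h : Syl1 p x) (hn : ¬ (zpowers x).Normal) {χ : G → ℂ} (hχ : IsCharacter G χ)
    (hf : ∀ g, χ g = χ 1 → g = 1) (hd : 2 * charDegree χ + 1 = p) :
    Nonempty (G ⧸ center G ≃* Matrix.ProjectiveSpecialLinearGroup (Fin 2) (ZMod p)) := by
  obtain ⟨M, hM⟩ := H7.exists_isPModular hp.out
  obtain ⟨ζ, h1, h2⟩ := exists_constituent h hn hχ hf
  have h3 := bound_irr (h.sub (mem_NC x)) (gen_of_top (NC_xN h)) ζ h2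
  have h4 := H7.char_comp (NC x).subtype hχ
  have h5 : _ ≤ charDegree χ := deg_le_of_ip h4 h1
  have h6 := H7.irr_of_irr_comp (NC x).subtype hχ (H7.eq_irr_of_degree_eq h4 ζ.2 h1 (by
    rw [H8.irr_one_eq, show charDegree ζ.1 = charDegree χ by omega]
    exact H7.char_one_eq hχ) ▸ ζ.2)
  have h7 : 0 < charDegree χ := H23.deg_pos ⟨χ, h6⟩
  obtain ⟨hG, hC, he1, he, θ, X, ψ, ε, δ, i, F, h8, -, ⟨rfl, h0, -, h9⟩ | ⟨-, h9⟩⟩ :=
    small_struct h hn hM ⟨χ, h6⟩ hf (show charDegree χ + 1 < p by omega)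
  · have hx := not_mem_center hn
    obtain ⟨j, hij⟩ := exists_notMem h (by have := ee_pos x; omega) i
    have h10 := half_card hM F h0 hG hC h9 he1 hij (by
      rw [h8]; exact H6.charCenter_le_center (H7.char_cf hχ) (charKer_eq_bot hf)) hx
    have hS := hC.sc h hx
    have h11 : ee x ≤ ee (x : G ⧸ center G) :=
      ee_le_of_hom (QuotientGroup.mk' (center G)) h hS.syl1
    have h12 := ee_pos x
    refine (H7.psl_of_SC_index hS (commutator_eq_top hS.syl1 (hG.NC_quot hC h) (by omega)) ?_).2.2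
    rw [Subgroup.card_eq_card_quotient_mul_card_subgroup (center G), mul_le_mul_iff_left₀
      Nat.card_pos, ← (NN (x : G ⧸ center G)).card_mul_index, hS.card_NN] at h10
    have h13 : (NN (x : G ⧸ center G)).index ≤ p + 1 := Nat.le_of_mul_le_mul_left
      ((Nat.mul_le_mul_right _ (Nat.mul_le_mul_left p h11)).trans h10) (mul_pos hp.out.pos h12)
    have h14 : (NN (x : G ⧸ center G)).index ≠ 1 := fun e => by
      have := normal_of_index e
      have h15 : CC (x : G ⧸ center G) = ⊤ := top_le_iff.1 (hG.NC_quot hC h ▸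
        (Subgroup.normalClosure_le_normal (by simp)).trans (zp_le_CC _))
      rw [ee, ee, h15, Subgroup.relIndex_top_left] at h11
      exact he1 (le_antisymm h11 h12)
    obtain ⟨k, hk⟩ := (Nat.modEq_iff_dvd' (Nat.pos_of_ne_zero
      Subgroup.index_ne_zero_of_finite)).1 hS.syl1.index_modEq.symm
    have h15 := Nat.pos_of_ne_zero (Subgroup.index_ne_zero_of_finite (H := NN (x : G ⧸ center G)))
    rcases k with _ | _ | k
    · omega
    · omega
    · have := hp.out.two_le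
      nlinarith [Nat.sub_add_cancel h15]
  · change charDegree χ + _ = p at h9
    omega

end Cfsg.Agent.H9.P1
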