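import Mathlib
import Cfsg.Agent.H9.P1d
import Cfsg.Agent.H7.Field
import Cfsg.Agent.H23.EA
import Cfsg.Agent.H10.Congr

/-!
Self-centralizing subgroup of prime order with automizer of order two and a character of degree
`p - 1`.
-/

set_option autoImplicit false
set_option linter.unusedSectionVars false
set_option linter.unusedVariables false

namespace Cfsg.Agent.H9.P1

open Finset Cfsg Cfsg.Agent.H24.D1
open Cfsg.Agent.H7 (ip ind)
open Cfsg.Agent.H8 (irrOne selfC pPart pReg)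
open Subgroup (zpowers center)
open scoped ComplexConjugate commutatorElement

variable {G : Type*} [Group G] {p : ℕ} [hp : Fact p.Prime] [Finite G] {x : G}

theorem order_eq (hS : SC p x) {g : G} (hg : p ∣ orderOf g) : orderOf g = p := by
  obtain ⟨t, ht⟩ := hS.syl1.exists_conj hg
  have h1 : orderOf (t * g * t⁻¹) = orderOf g := by simpa using orderOf_conj' t⁻¹ g
  rw [← h1, hS.syl1.orderOf_eq (hS.cent ▸ ht) fun e =>
    not_dvd_one (p := p) (G := G) (by rwa [← h1, e] at hg)]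

theorem dvd_sq_iff (h2 : 2 < p) (g : G) : p ∣ orderOf (g * g) ↔ p ∣ orderOf g := by
  refine ⟨fun h => h.trans (by rw [← sq]; exact orderOf_pow_dvd 2), fun h => ?_⟩
  refine (hp.out.dvd_mul.1 (h.trans (show orderOf g ∣ 2 * orderOf (g * g) from ?_))).resolve_left
    fun h3 => (Nat.le_of_dvd two_pos h3).not_gt h2
  rw [orderOf_dvd_iff_pow_eq_one, pow_mul, sq, pow_orderOf_eq_one]

theorem sum_sq_of_van (hS : SC p x) (h2 : 2 < p) [Fintype G] {φ : G → ℂ}
    (hφ : ∀ g, ¬ p ∣ orderOf g → φ g = 0) : ∑ g, φ (g * g) = ∑ g, φ g := by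
  classical
  obtain ⟨k, hk⟩ := hp.out.odd_of_ne_two h2.ne'
  have h3 : ∀ g : G, p ∣ orderOf g → (g * g) ^ (k + 1) = g := fun g hg => by
    rw [← sq, ← pow_mul, show 2 * (k + 1) = p + 1 by omega, pow_succ, ← order_eq hS hg,
      pow_orderOf_eq_one, one_mul]
  rw [← sum_subset (subset_univ (univ.filter fun g : G => p ∣ orderOf g)) fun g _ hg =>
    hφ _ (by simpa [dvd_sq_iff h2] using hg),
    ← sum_subset (subset_univ (univ.filter fun g : G => p ∣ orderOf g)) fun g _ hg =>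
    hφ _ (by simpa using hg)]
  refine sum_bij_ne_zero (fun g _ _ => g * g) (fun g hg _ => by simpa [dvd_sq_iff h2] using hg)
    (fun a ha _ b hb _ e => by rw [← h3 a (mem_filter.1 ha).2, e, h3 b (mem_filter.1 hb).2])
    (fun b hb h0 => ?_) fun _ _ _ => rfl
  have h4 : b ^ (k + 1) * b ^ (k + 1) = b := by
    rw [← (Commute.refl b).mul_pow, h3 b (mem_filter.1 hb).2]
  exact ⟨b ^ (k + 1), by
    simpa using (dvd_sq_iff h2 _).1 (h4.symm ▸ (mem_filter.1 hb).2), by rwa [h4], h4⟩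

theorem Fam.psi_ne_const {h : Syl1 p x} {B : Set (IrrCharacter G)} {θ : CC x → ℂ}
    {X : Finset (IrrCharacter G)} {ψ : (ZMod p)ˣ → IrrCharacter G} {ε : IrrCharacter G → ℤ} {δ : ℤ}
    (F : Fam h B θ X ψ ε δ) (he : ee x < p - 1) (k : (ZMod p)ˣ) {c : ℂ}
    (hc : ∀ a : ZMod p, a ≠ 0 → (ψ k).1 (x ^ a.val) = c) : False := by
  obtain ⟨j, hj⟩ := exists_notMem h he k
  have h1 := Fam.ml_psi_self F k
  have h2 := Fam.ml_psi F k j
  rw [if_neg (by
    rintro ⟨α, hα, e⟩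
    rw [← Units.val_mul, Units.val_inj] at e
    exact hj (by simpa [e] using hα)), ml_const h hc, if_neg j.ne_zero] at h2
  rw [ml_const h hc, if_neg k.ne_zero, h2, add_zero, left_eq_add, mul_eq_zero, mul_eq_zero] at h1
  rcases h1 with h1 | h1 | h1
  · exact p_ne h1
  · simpa [h1] using F.δ_sq
  · exact H7.irr_one_ne_zero F.irr h1

section E2

variable (hS : SC p x) (he : ee x = 2) (h5 : 5 ≤ p) {χ : IrrCharacter G}
  (hd : charDegree χ.1 + 1 = p) (hx : ∀ g, p ∣ orderOf g → χ.1 g = -1)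
include hS he h5 hd hx

theorem e2_fam {M : Ideal AlgInt} (hM : IsPModular p M) [DecidableEq (IrrCharacter G)] :
    χ ≠ irrOne G ∧ ∃ ψ ε, Fam hS.syl1 (principalBlock M G) (fun _ => 1) {irrOne G, χ} ψ ε (-1) ∧
      (∀ j, Phi p x (fun _ => 1) (j : (ZMod p)ˣ) = (irrOne G).1 - χ.1 + (ψ j).1) ∧
      ∀ j, charDegree (ψ j).1 + 2 = p := by
  obtain ⟨X, ψ, ε, δ, F, h1⟩ := hS.syl1.exists_fam_principal hM
  have h2 : χ ≠ irrOne G := fun e => by rw [e, deg_one] at hd; omega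
  have h3 : χ ∈ X := ((F.mem χ).1 (hS.mem_principal hM (Nat.not_dvd_of_pos_of_lt (H23.deg_pos χ)
    (by omega)))).resolve_right (by
      rintro ⟨k, rfl⟩
      exact Fam.psi_ne_const F (by omega) k fun a ha => hx _ (dvd_pow hS.syl1 ha))
  obtain rfl : {irrOne G, χ} = X := eq_of_subset_of_card_le (by simp [insert_subset_iff, h1, h3])
    (by rw [card_pair h2.symm, F.card₀]; exact he.le)
  have h4 : ε χ = -1 := by
    exact_mod_cast (F.val₀ h3 (hS.ord ▸ dvd_rfl)).symm.trans (hx x (hS.ord ▸ dvd_rfl))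
  have h6 := fun j => F.deg_rel j
  simp only [sum_pair h2.symm, H23.PB.eps_one F h1, h4, deg_one] at h6
  rcases F.sδ with rfl | rfl
  · have := h6 1; omega
  · refine ⟨h2, ψ, ε, F, fun j => ?_, fun j => by have := h6 j; omega⟩
    rw [F.phi, sum_pair h2.symm, H23.PB.eps_one F h1, h4]
    simp [sub_eq_add_neg]

theorem e2_int (g : G) : ∃ n : ℤ, χ.1 g = n := by
  classical
  obtain ⟨M, hM⟩ := H7.exists_isPModular hp.out
  obtain ⟨h1, ψ, ε, F, -, h2⟩ := e2_fam hS he h5 hd hx hM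
  refine H6.exists_int_of_fixed (H6.isCharacter_isIntegral (H7.irr_char χ.2) g) fun τ => ?_
  have h3 : charDegree (H6.irrMapEquiv τ χ).1 = charDegree χ.1 := by
    rw [charDegree, H6.irrMapEquiv_apply, H8.irr_one_eq, map_natCast]; simp
  rcases (F.mem (H6.irrMapEquiv τ χ)).1 (hS.mem_principal hM (Nat.not_dvd_of_pos_of_lt
    (H23.deg_pos _) (by omega))) with h4 | ⟨k, h4⟩
  · rcases mem_insert.1 h4 with h6 | h6
    · rw [h6, deg_one] at h3; omega
    · rw [← H6.irrMapEquiv_apply, mem_singleton.1 h6]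
  · have := h2 k
    rw [h4] at this; omega

theorem e2_sq {y : G} (hy : ¬ p ∣ orderOf y) :
    χ.1 y ^ 2 - χ.1 (y * y) = (p - 1) * (χ.1 y - 1) := by
  classical
  have := Fintype.ofFinite G
  have h := hS.syl1
  obtain ⟨M, hM⟩ := H7.exists_isPModular hp.out
  obtain ⟨h1, ψ, ε, F, h2, h3⟩ := e2_fam hS he h5 hd hx hM
  have hr : (fun g => conj (χ.1 g)) = χ.1 := funext fun g => by
    obtain ⟨n, hn⟩ := e2_int hS he h5 hd hx g
    rw [hn, map_intCast]
  have hL := H6.isCharacter_altSq (H7.irr_char χ.2)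
  have rg : ∀ j g, ¬ p ∣ orderOf g → (ψ j).1 g = χ.1 g - 1 := fun j g hg => by
    have := h.Phi_reg (fun _ => 1) j hg
    rw [h2] at this
    simp only [Pi.add_apply, Pi.sub_apply, H8.irrOne_apply] at this
    linear_combination this
  have f1 : H6.fsInd χ.1 = 1 := by
    have h4 := sum_sq_of_van hS (by omega) fun g hg => h.Phi_reg (fun _ => 1) (1 : (ZMod p)ˣ) hg
    have h6 := h.ip_Phi_one 1
    rw [H7.ip_def] at h6
    simp only [map_one, mul_one] at h6
    rw [← h4] at h6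
    simp only [mul_one, h2, Pi.add_apply, Pi.sub_apply, H8.irrOne_apply,
      sum_add_distrib, sum_sub_distrib, mul_add, mul_sub, ← H6.fsInd_def, sum_const, card_univ,
      nsmul_eq_mul, ← Nat.card_eq_fintype_card, inv_mul_cancel₀ (H7.card_ne_zero' G)] at h6
    have h7 : H6.fsInd (ψ 1).1 = H6.fsInd χ.1 := by linear_combination h6
    rw [← h7]
    refine H7.fsInd_eq_one_of_odd (ψ 1).2 ((H6.conj_eq_iff_im_eq_zero _).1 (by_contra fun h8 => ?_))
      (H8.irr_one_eq _) (by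
        obtain ⟨k, hk⟩ := hp.out.odd_of_ne_two (by omega)
        exact ⟨k - 1, by have := h3 1; omega⟩)
    exact (H6.fsInd_eq_zero_iff χ.2).1 (h7 ▸ H6.fsInd_of_not_real (ψ 1).2 h8) hr
  have f2 : ip (fun g => (χ.1 g ^ 2 - χ.1 (g * g)) / 2) (irrOne G).1 = 0 := by
    have h4 := H7.ip_irr_self χ.2
    rw [H7.ip_def] at h4 ⊢
    simp only [H8.irrOne_apply, map_one, mul_one, ← sum_div, sum_sub_distrib, ← mul_div_assoc,
      mul_sub, ← H6.fsInd_def, f1, sq]
    simp only [show ∀ g, conj (χ.1 g) = χ.1 g from congrFun hr] at h4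
    rw [h4, sub_self, zero_div]
  have v1 : ∀ g, p ∣ orderOf g → (χ.1 g ^ 2 - χ.1 (g * g)) / 2 = 1 := fun g hg => by
    rw [hx g hg, hx _ ((dvd_sq_iff (by omega) g).2 hg)]; norm_num
  have d1 : χ.1 1 = p - 1 := by rw [H8.irr_one_eq, ← hd]; simp
  suffices H : (2 : ℂ) • (fun g => (χ.1 g ^ 2 - χ.1 (g * g)) / 2) - ∑ j, (ψ j).1 = 0 by
    have := congrFun H y
    simp only [Pi.sub_apply, Finset.sum_apply, rg _ y hy, sum_const, card_univ, nsmul_eq_mul,
      H23.card_units_c, Pi.smul_apply, smul_eq_mul, Pi.zero_apply] at this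
    linear_combination this
  generalize hL' : (fun g => (χ.1 g ^ 2 - χ.1 (g * g)) / 2) = L at hL f2
  have v3 : ∀ g, p ∣ orderOf g → ((2 : ℂ) • L - ∑ j, (ψ j).1) g = 0 := fun g hg => by
    rw [Pi.sub_apply, Finset.sum_apply, F.sum_valY hg, h.Lf_one hg, ← hL', Pi.smul_apply, v1 g hg,
      show (CC x).relIndex (NN x) = 2 from he]
    norm_num
  have s1 : ∀ φ : IrrCharacter G, (∀ j, ψ j ≠ φ) → ip (∑ j, (ψ j).1) φ.1 = 0 := fun φ hφ => by
    rw [H7.ip_sum_left, sum_eq_zero fun j _ =>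
      H7.ip_irr_ne (ψ j).2 φ.2 fun e => hφ j (Subtype.ext e)]
  refine H7.char_eq_zero_of_one (H7.char_of_ip_nat (H7.cf_sub (H7.cf_smul _ (H7.char_cf hL))
    (H7.cf_sum _ fun j _ => H7.irr_cf (ψ j).2)) fun φ hφ => ?_) (by
      simp only [Pi.sub_apply, Finset.sum_apply, rg _ 1 not_dvd_one, sum_const, card_univ,
        nsmul_eq_mul, H23.card_units_c, Pi.smul_apply, smul_eq_mul, ← hL', mul_one, d1]
      ring)
  by_cases h4 : ∃ j, ψ j = ⟨φ, hφ⟩
  · obtain ⟨j, hj⟩ := h4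
    obtain rfl : (ψ j).1 = φ := congrArg Subtype.val hj
    have h6 : ip (Phi p x (fun _ => 1) j) ((2 : ℂ) • L - ∑ j, (ψ j).1) = 0 := by
      rw [ip_congr_sing (fun g hg => h.Phi_reg _ _ hg) v3]
      exact H7.ip_zero_right _
    rw [H7.ip_eq_zero_comm, h2, H7.ip_add_right, H7.ip_sub_right, H7.ip_sub_left _ _ χ.1,
      H7.ip_sub_left _ _ (irrOne G).1, H7.ip_smul_left, H7.ip_smul_left, f2, mu_eq hL,
      s1 _ fun j e => F.notMem j (by simp [e]), s1 _ fun j e => F.notMem j (by simp [e])] at h6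
    exact ⟨2 * mu L χ, by push_cast; linear_combination h6⟩
  · rw [H7.ip_sub_left, H7.ip_smul_left, s1 ⟨φ, hφ⟩ fun j e => h4 ⟨j, e⟩, mu_eq hL ⟨φ, hφ⟩]
    exact ⟨2 * mu L ⟨φ, hφ⟩, by simp⟩

end E2

end Cfsg.Agent.H9.P1
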