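import Mathlib
import Cfsg.Agent.H9.P1e

/-!
Sylow subgroup of prime order: a faithful irreducible character of degree `p - 2`.
-/

set_option autoImplicit false
set_option linter.unusedSectionVars false
set_option linter.unusedVariables false

namespace Cfsg.Agent.H9.P1

open Finset Cfsg Cfsg.Agent.H24.D1
open Cfsg.Agent.H7 (ip ind)
open Cfsg.Agent.H8 (irrOne selfC pPart pReg)
open Subgroup (zpowers center)
open scoped ComplexConjugate commutatorElement

variable {G : Type*} [Group G] {p : ℕ} [hp : Fact p.Prime] [Finite G] {x : G}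

theorem re_sq_le {χ : G → ℂ} (hχ : IsCharacter G χ) (y : G) :
    (χ 1).re - (χ (y * y)).re ≤ 4 * ((χ 1).re - (χ y).re) := by
  obtain ⟨n, ε, -, h1, h2⟩ := H6.isCharacter_exists_roots hχ y
  have h3 := h2 0
  have h4 := h2 1
  have h5 := h2 2
  rw [zpow_zero] at h3
  rw [zpow_one] at h4
  rw [zpow_two] at h5
  rw [h3, h4, h5, Complex.re_sum, Complex.re_sum, Complex.re_sum, ← sum_sub_distrib,
    ← sum_sub_distrib, mul_sum]
  refine sum_le_sum fun i _ => ?_
  have h6 := H6.norm_eq_one_of_pow_eq_one' (orderOf_pos y).ne' (h1 i)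
  have h7 := Complex.sq_norm (ε i)
  rw [h6, Complex.normSq_apply] at h7
  simp only [zpow_zero, zpow_one, zpow_two, Complex.one_re, Complex.mul_re]
  nlinarith [sq_nonneg ((ε i).re - 1)]

theorem card_mul_ip_single {H : Type*} [Group H] [Finite H] [DecidableEq H] (a : H) (c : ℂ)
    (φ : H → ℂ) : Nat.card H * ip (Pi.single a c) φ = c * conj (φ a) := by
  have := Fintype.ofFinite H
  rw [H7.ip_def, mul_inv_cancel_left₀ (H7.card_ne_zero' H), sum_eq_single a (fun b _ hb => by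
    rw [Pi.single_eq_of_ne hb, zero_mul]) (by simp), Pi.single_eq_same]

section E2

variable (hS : SC p x) (he : ee x = 2) (h7 : 7 ≤ p) {χ : IrrCharacter G}
  (hd : charDegree χ.1 + 1 = p) (hx : ∀ g, p ∣ orderOf g → χ.1 g = -1)
  (hf : ∀ g, χ.1 g = χ.1 1 → g = 1)
include hS he h7 hd hx hf

theorem e2_val [DecidableEq G] {y : G} (hy : ¬ p ∣ orderOf y) (h1 : y ≠ 1) :
    χ.1 y = if y * y = 1 then 0 else 1 := by
  choose n hn using e2_int hS he (by omega) hd hx
  have d1 : n 1 = p - 1 := by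
    have := hn 1
    rw [H8.irr_one_eq] at this
    norm_cast at this
    omega
  have h2 : ∀ g, ¬ p ∣ orderOf g → n g ^ 2 - n (g * g) = (p - 1) * (n g - 1) := fun g hg => by
    have := e2_sq hS he (by omega) hd hx hg
    rw [hn, hn] at this
    exact_mod_cast this
  have h3 : ∀ g, n g ≤ p - 1 := fun g => by
    have := H6.isCharacter_norm_le (H7.irr_char χ.2) g
    rw [hn, hn, Complex.norm_intCast, Complex.norm_intCast] at this
    norm_cast at this
    exact (le_abs_self _).trans (this.trans_eq (by rw [d1, abs_of_nonneg (by omega)]))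
  have h4 : ∀ g, ¬ p ∣ orderOf g → 0 ≤ n g := fun g hg => by
    have := h2 g hg
    have := h3 (g * g)
    nlinarith
  have h5 := re_sq_le (H7.irr_char χ.2) y
  simp only [hn, Complex.intCast_re, d1] at h5
  norm_cast at h5
  have h6 := h2 y hy
  have h8 := h4 _ (mt (dvd_sq_iff (by omega) y).1 hy)
  have h9 : n y < p - 1 := (h3 y).lt_of_ne fun e => h1 (hf y (by rw [hn, hn, e, d1]))
  have h10 := h4 y hy
  rw [hn]
  split_ifs with h11
  · rw [h11, d1] at h6
    rw [show n y = 0 by nlinarith, Int.cast_zero]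
  · have h12 : n y ≠ 0 := fun e => h11 (hf _ (by
      rw [hn, hn, d1, show n (y * y) = p - 1 by rw [e] at h6; linarith]))
    simp only [Int.subNatNat_eq_coe] at h5
    push_cast at h5
    have h13 : n y ≤ 4 := by nlinarith
    have h14 : n y = 1 := by
      have : (7 : ℤ) ≤ p := by omega
      interval_cases n y <;> omega
    rw [h14, Int.cast_one]

theorem e2_even {y : G} (hy : 2 ∣ orderOf y) : y * y = 1 := by
  classical
  have := Fintype.ofFinite (zpowers y)
  have hr : ∀ u : zpowers y, ¬ p ∣ orderOf (u : G) := fun u h => by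
    rw [order_eq hS (h.trans (orderOf_dvd_of_mem_zpowers u.2))] at hy
    have := (Nat.prime_dvd_prime_iff_eq Nat.prime_two hp.out).1 hy
    omega
  obtain ⟨t, ht⟩ := exists_prime_orderOf_dvd_card' (G := zpowers y) 2 (by rwa [Nat.card_zpowers])
  have t1 : t ≠ 1 := by rintro rfl; simp at ht
  have t2 : t * t = 1 := by rw [← sq, ← ht, pow_orderOf_eq_one]
  have h1 : ({1, t} : Finset (zpowers y)) = univ.filter fun a => a ^ 2 = 1 :=
    eq_of_subset_of_card_le (by simp [insert_subset_iff, sq, t2])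
      (by rw [card_pair t1.symm]; exact IsCyclic.card_pow_eq_one_le two_pos)
  have h2 : (fun u : zpowers y => χ.1 u) =
      1 + Pi.single 1 (p - 2 : ℂ) + Pi.single t (-1) := funext fun u => by
    by_cases h3 : u = 1
    · simp [h3, Pi.single_eq_of_ne t1.symm, H8.irr_one_eq, ← hd]; ring
    · rw [e2_val hS he h7 hd hx hf (hr u) (by simpa using h3), Pi.add_apply, Pi.add_apply,
        Pi.single_eq_of_ne h3]
      by_cases h4 : u = t
      · simp [h4, ← Subgroup.coe_mul, t2]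
      · rw [Pi.single_eq_of_ne h4, if_neg fun e => ?_]
        · simp
        · have : u ∈ ({1, t} : Finset (zpowers y)) := by
            rw [h1]; simpa [sq] using Subtype.ext e
          simp [h3, h4] at this
  have hc := H7.char_comp (zpowers y).subtype (H7.irr_char χ.2)
  obtain ⟨a, ha⟩ := H7.ip_char_nat hc H7.char_one
  obtain ⟨l, hl, h3⟩ := H6.exists_irr_not_mem_charKer t1
  have h4 : l 1 = 1 := H6.comm_iff_forall_degree_one.1 (fun a b => mul_comm' a b) l hl
  have h5 : l t = -1 := (mul_self_eq_one_iff.1 (by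
    rw [← H7.linear_map_mul (H7.irr_char hl) h4, t2, h4])).resolve_left fun e =>
      h3 ((H6.mem_charKer_iff_irr hl).2 (e.trans h4.symm))
  obtain ⟨b, hb⟩ := H7.ip_char_nat hc (H7.irr_char hl)
  have h6 := congrArg ((Nat.card (zpowers y) : ℂ) * ·) ha
  have h8 := congrArg ((Nat.card (zpowers y) : ℂ) * ·) hb
  simp only [Subgroup.subtype_apply, h2, H7.ip_add_left, mul_add, card_mul_ip_single, h4, h5,
    H7.ip_irr_self H7.irr_one, Pi.one_apply, map_one, map_neg,
    H7.ip_irr_ne H7.irr_one hl fun e => by simp [← e] at h5; norm_num at h5] at h6 h8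
  rw [Nat.card_zpowers] at h6 h8
  have h9 : (orderOf y : ℤ) * (b + 1 - a) = 2 := by
    exact_mod_cast (show (orderOf y : ℂ) * (b + 1 - a) = 2 by linear_combination h6 - h8)
  rw [← sq, ← orderOf_dvd_iff_pow_eq_one]
  exact Int.natCast_dvd_natCast.1 ⟨_, h9.symm⟩

theorem e2_sl : ∃ (a : ℕ) (F : Type) (_ : Field F) (_ : Fintype F), p = 2 ^ a + 1 ∧
    Fintype.card F = 2 ^ a ∧ Nonempty (G ≃* Matrix.SpecialLinearGroup (Fin 2) F) := by
  classical
  obtain ⟨T⟩ : Nonempty (Sylow 2 G) := inferInstance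
  have := Fintype.ofFinite T
  have hev := fun y => e2_even hS he h7 hd hx hf (y := y)
  have h1 : ∀ t : G, orderOf t = 2 → ∀ c ∈ Subgroup.centralizer {t}, c ^ 2 = 1 := fun t ht c hc => by
    by_cases h2 : 2 ∣ orderOf c
    · rw [sq, hev c h2]
    · have h3 : Commute c t := Subgroup.mem_centralizer_singleton_iff.1 hc
      have h4 := hev (c * t) (by
        rw [h3.orderOf_mul_eq_mul_orderOf_of_coprime (by
          rw [ht]; exact (Nat.prime_two.coprime_iff_not_dvd.2 h2).symm), ht]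
        exact dvd_mul_left _ _)
      rwa [← sq, h3.mul_pow, ← ht, pow_orderOf_eq_one, mul_one, ht] at h4
  have h2 : ∀ u : T, u ≠ 1 → 2 ∣ orderOf (u : G) := fun u hu => by
    obtain ⟨k, hk⟩ := (IsPGroup.iff_orderOf.1 T.isPGroup') u
    rw [Subgroup.orderOf_coe, hk]
    exact dvd_pow_self 2 fun e => hu (orderOf_eq_one_iff.1 (by rw [hk, e, pow_zero]))
  have h3 : ∀ u : G, u * u = 1 → ¬ p ∣ orderOf u := fun u hu h => by
    have := Nat.le_of_dvd two_pos (h.trans (orderOf_dvd_of_pow_eq_one (by rwa [sq])))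
    omega
  have h4 : Nat.card T ∣ p - 1 := by
    obtain ⟨a, ha⟩ := H7.ip_char_nat (H7.char_comp (T : Subgroup G).subtype (H7.irr_char χ.2))
      H7.char_one
    rw [show (fun u : (T : Subgroup G) => χ.1 ((T : Subgroup G).subtype u)) =
      Pi.single 1 (charDegree χ.1 : ℂ) from funext fun u => by
        by_cases h5 : u = 1
        · simp [h5, H8.irr_one_eq]
        · have h6 := hev _ (h2 u h5)
          rw [Pi.single_eq_of_ne h5, Subgroup.subtype_apply, e2_val hS he h7 hd hx hf (h3 _ h6)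
            (by simpa using h5), if_pos h6]] at ha
    have h5 := card_mul_ip_single (1 : T) (charDegree χ.1 : ℂ) 1
    rw [ha, Pi.one_apply, map_one, mul_one] at h5
    exact ⟨a, by rw [← hd, Nat.add_sub_cancel]; exact_mod_cast h5.symm⟩
  have h5 : 2 ∣ Nat.card T := T.dvd_card_of_dvd_card ((Dvd.intro_left p (by
    rw [hS.card_NN, show (CC x).relIndex (NN x) = 2 from he])).trans
      (Subgroup.card_subgroup_dvd_card (NN x)))
  have h6 := Nat.le_of_dvd (by omega) h4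
  have h8 := Nat.le_of_dvd Nat.card_pos h5
  refine (H23.ea_of T (fun hc => ?_) (fun hn => ?_) fun t ht =>
    ⟨⟨⟨fun a b => (Commute.of_orderOf_dvd_two (fun g => orderOf_dvd_of_pow_eq_one
      (Subtype.ext (h1 t ht g g.2))) a b).eq⟩⟩, h1 t ht⟩).psl.elim ?_
  rotate_right
  · rintro F ⟨_, _, hF, ⟨e⟩⟩
    have h9 : Nat.card F = Nat.card T := by rw [Nat.card_eq_fintype_card, hF]
    have h10 : p ∣ Nat.card F * (Nat.card F - 1) * (Nat.card F + 1) := by
      rw [← H10.card_PSL2, ← Nat.card_congr e.toEquiv]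
      exact hS.syl1.dvd_card.mul_left _
    have h11 : p ≤ Nat.card F + 1 := Nat.le_of_dvd (by omega)
      ((hp.out.dvd_mul.1 h10).resolve_left fun h => (hp.out.dvd_mul.1 h).elim
        (Nat.not_dvd_of_pos_of_lt (by omega) (by omega))
        (Nat.not_dvd_of_pos_of_lt (by omega) (by omega)))
    have h12 : Even (Nat.card F) := h9 ▸ even_iff_two_dvd.2 h5
    obtain ⟨a, -, ha⟩ := H7.card_eq_two_pow_of_even h12
    obtain ⟨e'⟩ := H7.psl_sl_of_even h12
    exact ⟨a, F, _, _, by rw [← ha, ← Nat.card_eq_fintype_card]; omega, ha, ⟨e.trans e'⟩⟩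
  · obtain ⟨t, ht⟩ := IsCyclic.exists_ofOrder_eq_natCard (α := T)
    have t1 : t ≠ 1 := by rintro rfl; rw [orderOf_one] at ht; omega
    have t2 := hev _ (h2 t t1)
    have t3 : orderOf (t : G) = 2 := orderOf_eq_prime (by rwa [sq]) (by simpa using t1)
    have h9 : Nat.card (Subgroup.centralizer {(t : G)}) = 2 := by
      rw [T.is_maximal' (Q := Subgroup.centralizer {(t : G)}) (fun g => ⟨1, Subtype.ext
        (h1 t t3 g g.2)⟩) fun g hg => Subgroup.mem_centralizer_singleton_iff.2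
          (congrArg Subtype.val (mul_comm' (⟨g, hg⟩ : T) t)), ← ht, ← Subgroup.orderOf_coe, t3]
    obtain ⟨M, hM⟩ := H7.exists_isPModular hp.out
    obtain ⟨-, ψ, ε, F, h10, -⟩ := e2_fam hS he (by omega) hd hx hM
    obtain ⟨j, hj⟩ := exists_notMem hS.syl1 (by omega) 1
    have h11 : ∀ k, ‖(ψ k).1 t‖ ^ 2 = 1 := fun k => by
      have := hS.syl1.Phi_reg (fun _ => 1) k (h3 _ t2)
      rw [h10, Pi.add_apply, Pi.sub_apply, e2_val hS he h7 hd hx hf (h3 _ t2) (by simpa using t1),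
        if_pos t2, H8.irrOne_apply, sub_zero, add_eq_zero_iff_neg_eq] at this
      simp [← this]
    have h12 := H6.sum_irr_norm_sq (t : G)
    have h13 := sum_le_sum_of_subset_of_nonneg (f := fun φ : IrrCharacter G => ‖φ.1 t‖ ^ 2)
      (subset_univ {irrOne G, ψ 1, ψ j}) fun _ _ _ => sq_nonneg _
    have h14 : ∀ k, irrOne G ≠ ψ k := fun k e => F.notMem k (by simp [← e])
    rw [h12, h9, sum_insert (by simp [h14]), sum_pair (mt (Fam.ne_iff F hS.syl1.card_AA_one).1 hj),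
      h11, h11] at h13
    norm_num at h13
  · have := (hS.card_modEq (S := T) (Nat.not_dvd_of_pos_of_lt (by omega) (by omega))).eq_of_lt_of_lt
      (by omega) (by omega)
    omega

end E2

/-- The class function counting products of two conjugates of `j`. -/
noncomputable def WW (j : G) : G → ℂ := ∑ χ : IrrCharacter G, (χ.1 j ^ 2 / χ.1 1) • χ.1

theorem cf_WW (j : G) : IsClassFunction G (WW j) :=
  H7.cf_sum _ fun χ _ => H7.cf_smul _ (H7.irr_cf χ.2)

theorem ip_WW (j : G) (χ : IrrCharacter G) : ip (WW j) χ.1 = χ.1 j ^ 2 / χ.1 1 := by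
  rw [WW, H7.ip_sum_left, sum_eq_single χ (fun ψ _ h => by
    rw [H7.ip_smul_left, H7.ip_irr_ne ψ.2 χ.2 fun e => h (Subtype.ext e), mul_zero]) (by simp),
    H7.ip_smul_left, H7.ip_irr_self χ.2, mul_one]

theorem exists_inv_of_WW {j c : G} (hj : j * j = 1) (hc : WW j c ≠ 0) :
    ∃ a : G, a * c * a⁻¹ = c⁻¹ := by
  have h1 := H6.card_class_mul j j c⁻¹
  rw [sum_congr rfl fun χ _ => show _ = ((χ.1 j ^ 2 / χ.1 1) • χ.1) c by
    rw [H6.isIrr_inv χ.2, Complex.conj_conj, Pi.smul_apply, smul_eq_mul]; ring,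
    ← Finset.sum_apply] at h1
  obtain ⟨⟨⟨a, b⟩, ha, hb, hab⟩⟩ := (Nat.card_ne_zero.1 (Nat.cast_ne_zero.1 (h1.trans_ne (mul_ne_zero
    (div_ne_zero (H7.card_ne_zero' G) (mul_ne_zero (H7.card_ne_zero' _) (H7.card_ne_zero' _)))
    hc)))).1
  have h2 : ∀ u, IsConj j u → u⁻¹ = u := fun u hu => by
    obtain ⟨g, rfl⟩ := isConj_iff.1 hu
    rw [inv_eq_iff_mul_eq_one, conj_mul, hj, mul_one, mul_inv_cancel]
  refine ⟨a, ?_⟩
  rw [← hab, show c = b * a by rw [← inv_inv c, ← hab, mul_inv_rev, h2 b hb, h2 a ha], ← mul_assoc,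
    mul_inv_cancel_right]

theorem ip_WW_Phi (h : Syl1 p x) (hC : Cen p x) (hx : x ∉ center G)
    (hZ : ∀ z ∈ center G, z * z = 1 → z = 1) {j : G} (hj : j * j = 1) {θ : CC x → ℂ}
    (ht : Triv x θ) (h1 : θ 1 = 1) (k : ZMod p) :
    ip (WW j) (Phi p x θ k) = ip (WW j) (Phi p x (fun _ => 1) k) := by
  have := Fintype.ofFinite (CC x)
  rw [Phi, Phi, H7.ip_ind_right _ _ (cf_WW j), H7.ip_ind_right _ _ (cf_WW j), H7.ip_def, H7.ip_def]
  refine congrArg _ (sum_congr rfl fun c _ => ?_)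
  by_cases h2 : p ∣ orderOf c
  · by_cases h3 : WW j c = 0
    · simp [h3]
    obtain ⟨a, ha⟩ := exists_inv_of_WW hj h3
    have h4 : a⁻¹ ∈ NN x := h.mem_NN_of_conj c.2 (by rwa [Subgroup.orderOf_coe]) (by
      rw [inv_inv, ha]; exact inv_mem c.2)
    obtain ⟨b, z, hz, -, e⟩ := hC.eq_mul h c.2
    have h5 := conj_mem_zp ((NN x).inv_mem_iff.1 h4) (Subgroup.npow_mem_zpowers x b.val)
    have h6 : z * z ∈ zpowers x := by
      rw [show z * z = (a * x ^ b.val * a⁻¹)⁻¹ * (x ^ b.val)⁻¹ by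
        rw [e, ← mul_assoc, mul_assoc _ z, ← Subgroup.mem_center_iff.1 hz, ← mul_assoc] at ha
        rw [eq_inv_mul_iff_mul_eq, ← mul_assoc, ha, Subgroup.mem_center_iff.1 hz (x ^ b.val)]
        group]
      exact mul_mem (inv_mem h5) (inv_mem (Subgroup.npow_mem_zpowers x b.val))
    have h7 : z = 1 := hZ z hz (by_contra fun h8 => center_reg h hx (mul_mem hz hz)
      (h.orderOf_eq h6 h8 ▸ dvd_rfl))
    have h8 : θ c = 1 := by
      rw [← mul_one c, ht.mul (by rw [e, h7, mul_one]; exact Subgroup.npow_mem_zpowers _ _), h1]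
    simp [h8]
  · simp [h.lm_of_reg k h2]

theorem num_lt {P m a b c w : ℝ} (hP : 7 ≤ P) (hm : 1 ≤ m) (ha : |a| ≤ m + 1) (hb : |b| ≤ 1)
    (hw : 0 < w) (hc : P * (c + 1) ≤ w + 1)
    (e : a ^ 2 / (m * P + 1) - (a + b) ^ 2 / (m * P + 1 + (P - 2)) + b ^ 2 / (P - 2) =
      1 + c ^ 2 / w - (c + 1) ^ 2 / (w + 1)) : False := by
  have h1 : 0 < m * P + 1 := by positivity
  have h2 : 0 < P - 2 := by linarith
  rw [show a ^ 2 / (m * P + 1) - (a + b) ^ 2 / (m * P + 1 + (P - 2)) + b ^ 2 / (P - 2) =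
    (a * (P - 2) - b * (m * P + 1)) ^ 2 / ((m * P + 1) * (P - 2) * (m * P + 1 + (P - 2))) by
      field_simp; ring, show 1 + c ^ 2 / w - (c + 1) ^ 2 / (w + 1) = (w - c) ^ 2 / (w * (w + 1)) by
      field_simp; ring] at e
  have h3 : (a * (P - 2) - b * (m * P + 1)) ^ 2 ≤ ((2 * m + 1) * (P - 1)) ^ 2 :=
    sq_le_sq' (by nlinarith [abs_le.1 ha, abs_le.1 hb]) (by nlinarith [abs_le.1 ha, abs_le.1 hb])
  have h4 : ((P - 1) / P) ^ 2 ≤ (w - c) ^ 2 / (w * (w + 1)) := by
    have h5 : (P - 1) / P * (w + 1) ≤ w - c := by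
      rw [div_mul_eq_mul_div, div_le_iff₀ (by linarith)]; linarith
    have h6 : 0 ≤ (P - 1) / P := div_nonneg (by linarith) (by linarith)
    rw [le_div_iff₀ (by positivity)]
    nlinarith [mul_self_le_mul_self (by positivity) h5, mul_nonneg (sq_nonneg ((P - 1) / P)) hw.le]
  rw [← e, div_pow, div_le_div_iff₀ (by positivity) (by positivity)] at h4
  have h5 : (2 * m + 1) ^ 2 * P ^ 2 < (m * P + 1) * (P - 2) * (m * P + 1 + (P - 2)) := by
    have h6 : (2 * m + 1) ^ 2 < m * (m + 1) * (P - 2) := by nlinarith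
    nlinarith [mul_lt_mul_of_pos_right h6 (show 0 < P ^ 2 by positivity), mul_pos h2 h2]
  nlinarith [mul_lt_mul_of_pos_left h5 (show 0 < (P - 1) ^ 2 by nlinarith),
    mul_le_mul_of_nonneg_right h3 (sq_nonneg P)]

theorem F_one (h : Syl1 p x) (he : ee x = 2) (h7 : 7 ≤ p) {j : G} (hj : j * j = 1) (hn : j ∈ NN x)
    (hc : j ∉ CC x) : ∃ c : ℤ, ∃ w : ℕ, 0 < w ∧ p * (c + 1) ≤ w + 1 ∧ ∀ k : (ZMod p)ˣ,
      ip (WW j) (Phi p x (fun _ => 1) k) = 1 + c ^ 2 / w - (c + 1) ^ 2 / (w + 1) := by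
  classical
  obtain ⟨M, hM⟩ := H7.exists_isPModular hp.out
  obtain ⟨X, ψ, ε, δ, F, h1⟩ := h.exists_fam_principal hM
  obtain ⟨χ, h2, rfl⟩ : ∃ χ, irrOne G ≠ χ ∧ X = {irrOne G, χ} := by
    obtain ⟨a, b, hab, rfl⟩ := card_eq_two.1 (F.card₀.trans he)
    rcases mem_insert.1 h1 with rfl | h2
    · exact ⟨b, hab, rfl⟩
    · rw [mem_singleton.1 h2]; exact ⟨a, hab.symm, pair_comm _ _⟩
  have hr : ¬ p ∣ orderOf j := fun h3 => by
    have := Nat.le_of_dvd two_pos (h3.trans (orderOf_dvd_of_pow_eq_one (by rwa [sq])))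
    omega
  have h3 := fun k => F.reg k hr
  have h4 := fun k => F.deg_rel k
  have h5 : ∀ k : (ZMod p)ˣ, ip (WW j) (Phi p x (fun _ => 1) k) =
      1 + ε χ * (χ.1 j ^ 2 / χ.1 1) - δ * ((ψ k).1 j ^ 2 / (ψ k).1 1) := fun k => by
    simp [F.phi, H7.ip_sub_right, sum_pair h2, H7.ip_add_right, H7.ip_smul_right, ip_WW,
      H23.PB.eps_one F h1]
  simp only [sum_pair h2, H23.PB.eps_one F h1, deg_one, H8.irrOne_apply] at h3 h4
  have h6 := Fam.degX F rfl h.card_AA_one (χ := χ) (by simp)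
  have h8 := Fam.degY F 1
  have h9 := H23.deg_pos χ
  have h10 := H23.deg_pos (ψ 1)
  obtain ⟨a, ha⟩ := H6.exists_int_of_sq_eq_one (H6.isGen_of_irr χ.2) (g := j) (by rwa [sq])
  have h11 := norm_le_ml h (H7.irr_char χ.2) (m0_eq h (H7.irr_char χ.2)) hn hc
  have h12 := norm_le_ml h (H7.irr_char (ψ 1).2) (m0_eq h (H7.irr_char (ψ 1).2)) hn hc
  rw [charDegree_one, he] at h8
  have h13 := h4 1
  rcases F.sε χ (by simp) with e1 | e1 <;> rcases F.sδ with rfl | rfl <;> rw [e1] at h3 h4 h5 h6 h13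
  · have h14 : ∀ k, (ψ k).1 j = a + 1 := fun k => by linear_combination h3 k + ha
    rw [h14, ← Int.cast_one, ← Int.cast_add, Complex.norm_intCast] at h12
    norm_cast at h12
    refine ⟨a, charDegree χ.1, h9, by
      have := mul_le_mul_of_nonneg_left ((le_abs_self _).trans h12) (Int.natCast_nonneg p)
      omega, fun k => ?_⟩
    rw [h5, h14, ha, H8.irr_one_eq, H8.irr_one_eq, show charDegree (ψ k).1 = charDegree χ.1 + 1 by
      have := h4 k; omega]
    simp
  · omega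
  · omega
  · have h14 : ∀ k, (ψ k).1 j = a - 1 := fun k => by linear_combination -h3 k + ha
    rw [ha, Complex.norm_intCast] at h11
    norm_cast at h11
    refine ⟨a - 1, charDegree (ψ 1).1, h10, by
      have := mul_le_mul_of_nonneg_left ((le_abs_self _).trans h11) (Int.natCast_nonneg p)
      rw [sub_add_cancel]; omega, fun k => ?_⟩
    rw [h5, h14, ha, H8.irr_one_eq, H8.irr_one_eq, F.deg_eq k 1,
      show charDegree χ.1 = charDegree (ψ 1).1 + 1 by omega]
    push_cast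
    ring

theorem Fam.exists_linear {h : Syl1 p x} {B : Set (IrrCharacter G)} {θ : CC x → ℂ}
    {X : Finset (IrrCharacter G)} {ψ : (ZMod p)ˣ → IrrCharacter G} {ε : IrrCharacter G → ℤ}
    (F : Fam h B θ X ψ ε (-1)) (hC : Cen p x) (hx : x ∉ center G)
    (hZ : ∀ z ∈ center G, z * z = 1 → z = 1) (he : ee x = 2) (h7 : 7 ≤ p) {i : (ZMod p)ˣ}
    (hd : charDegree (ψ i).1 + 2 = p) [DecidableEq (IrrCharacter G)] :
    ∃ χ₁ χ₂, χ₁ ≠ χ₂ ∧ X = {χ₁, χ₂} ∧ ε χ₁ = 1 ∧ ε χ₂ = -1 ∧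
      charDegree χ₁.1 = 1 ∧ charDegree χ₂.1 + 1 = p := by
  have hθ := hC.theta_one h F.irr
  have hA := hC.card_AA h F.triv
  have h1 := fun χ hχ => Fam.degX F hθ hA (χ := χ) hχ
  have h2 := F.deg_rel i
  obtain ⟨χ₁, χ₂, h3, rfl, e1, e2⟩ : ∃ χ₁ χ₂, χ₁ ≠ χ₂ ∧ X = {χ₁, χ₂} ∧ ε χ₁ = 1 ∧ ε χ₂ = -1 := by
    obtain ⟨a, b, hab, rfl⟩ := card_eq_two.1 (F.card.trans (hA.trans he))
    rw [sum_pair hab] at h2
    have h3 := h1 a (by simp)
    have h4 := h1 b (by simp)
    rcases F.sε a (by simp) with e1 | e1 <;> rcases F.sε b (by simp) with e2 | e2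
    · rw [e1, e2] at h2; omega
    · exact ⟨a, b, hab, rfl, e1, e2⟩
    · exact ⟨b, a, hab.symm, pair_comm _ _, e2, e1⟩
    · rw [e1] at h2 h3
      rw [e2] at h2 h4
      have := Int.natCast_nonneg (p * m0 p x a.1)
      have := Int.natCast_nonneg (p * m0 p x b.1)
      push_cast at *
      omega
  rw [sum_pair h3, e1, e2] at h2
  suffices H : charDegree χ₁.1 = 1 from ⟨χ₁, χ₂, h3, rfl, e1, e2, H, by omega⟩
  by_contra H
  obtain ⟨⟨j, hn⟩, hj⟩ := exists_prime_orderOf_dvd_card' (G := NN x) 2 (by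
    rw [card_NN, show (CC x).relIndex (NN x) = 2 from he]; exact dvd_mul_left _ _)
  rw [Subgroup.orderOf_mk] at hj
  have j2 : j * j = 1 := by rw [← sq, ← hj, pow_orderOf_eq_one]
  have hr : ¬ p ∣ orderOf j := by rw [hj]; exact Nat.not_dvd_of_pos_of_lt two_pos (by omega)
  have hc : j ∉ CC x := fun hc => by
    rw [hZ j (hC j hc hr) j2, orderOf_one] at hj
    omega
  obtain ⟨c, w, hw, h4, h5⟩ := F_one h he h7 j2 hn hc
  have h6 := (ip_WW_Phi h hC hx hZ j2 F.triv hθ i).trans (h5 i)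
  have h8 := F.reg i hr
  obtain ⟨a, ha⟩ := H6.exists_int_of_sq_eq_one (H6.isGen_of_irr χ₁.2) (g := j) (by rwa [sq])
  obtain ⟨b, hb⟩ := H6.exists_int_of_sq_eq_one (H6.isGen_of_irr (ψ i).2) (g := j) (by rwa [sq])
  have h9 := norm_le_ml h (H7.irr_char χ₁.2) (m0_eq h (H7.irr_char χ₁.2)) hn hc
  have h10 := norm_le_ml h (H7.irr_char (ψ i).2) (m0_eq h (H7.irr_char (ψ i).2)) hn hc
  have h11 := h1 χ₁ (by simp)
  have h12 := Fam.degY F i
  rw [show charDegree θ = 1 by simp [charDegree, hθ], he] at h12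
  have h13 : m0 p x (ψ i).1 = 1 := by
    have : (p : ℤ) * m0 p x (ψ i).1 = p * 1 := by omega
    exact_mod_cast mul_left_cancel₀ (by omega) this
  rw [e1] at h11
  obtain ⟨m, hm⟩ : ∃ m, m0 p x χ₁.1 = m + 1 := Nat.exists_eq_succ_of_ne_zero fun e => by
    rw [e] at h11; omega
  have h14 : charDegree χ₁.1 = m * p + 1 := by
    rw [hm] at h11; push_cast at h11; zify; linarith
  rw [sum_pair h3, e1, e2, ha, hb] at h8
  simp only [F.phi, H7.ip_sub_right, sum_pair h3, H7.ip_add_right, H7.ip_smul_right, ip_WW, e1, e2,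
    ha, hb, map_intCast, show χ₂.1 j = a + b by push_cast at h8; linear_combination h8,
    H8.irr_one_eq, h14, show charDegree χ₂.1 = m * p + 1 + charDegree (ψ i).1 by omega] at h6
  rw [ha, hm, Complex.norm_intCast] at h9
  rw [hb, h13, Complex.norm_intCast] at h10
  have h15 : (charDegree (ψ i).1 : ℂ) = p - 2 := by rw [← hd]; simp
  refine num_lt (P := p) (m := m) (a := a) (b := b) (c := c) (w := w) (by exact_mod_cast h7)
    (by exact_mod_cast Nat.pos_of_ne_zero fun e => H (by simp [h14, e])) (by exact_mod_cast h9)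
    (by exact_mod_cast h10) (by exact_mod_cast hw) (by exact_mod_cast h4) ?_
  apply Complex.ofReal_injective
  push_cast at h6 ⊢
  rw [h15] at h6
  linear_combination h6

theorem sl_of_perfect (h : Syl1 p x) (hn : ¬ (zpowers x).Normal) (hN : NC x = ⊤) (h7 : 7 ≤ p)
    (ζ : IrrCharacter G) (hf : ∀ g, ζ.1 g = ζ.1 1 → g = 1) (hd : charDegree ζ.1 + 2 = p) :
    center G = ⊥ ∧ ∃ (a : ℕ) (F : Type) (_ : Field F) (_ : Fintype F), p = 2 ^ a + 1 ∧
      Fintype.card F = 2 ^ a ∧ Nonempty (G ≃* Matrix.SpecialLinearGroup (Fin 2) F) := by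
  classical
  obtain ⟨M, hM⟩ := H7.exists_isPModular hp.out
  obtain ⟨-, hC, he1, -, θ, X, ψ, ε, δ, i, F, rfl, hθ, ⟨-, -, h1, h2⟩ | ⟨rfl, h1⟩⟩ :=
    small_struct h hn hM ζ hf (by omega)
  · omega
  have he : ee x = 2 := by omega
  have hG := commutator_eq_top h hN he1
  have hx := not_mem_center hn
  have hA := hC.card_AA h F.triv
  have hv : ∀ z (hz : z ∈ center G), (ψ i).1 z = charDegree (ψ i).1 * θ ⟨z, center_le_CC x hz⟩ :=
    fun z hz => Fam.apply_of_neg F rfl hθ h1 (c := ⟨z, center_le_CC x hz⟩) (by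
      rw [Subgroup.orderOf_mk]; exact center_reg h hx hz)
  have hv1 : ∀ z (hz : z ∈ center G), θ ⟨z, center_le_CC x hz⟩ = 1 → z = 1 := fun z hz e =>
    hf z (by rw [hv z hz, e, mul_one, H8.irr_one_eq])
  obtain ⟨χ₁, χ₂, h2, rfl, e1, e2, h3, h4⟩ := Fam.exists_linear F hC hx (fun z hz h2 => by
    have h3 := H7.detChar_of_scalar (H7.irr_char (ψ i).2) (H8.irr_one_eq _)
      (norm_linear (H7.irr_char F.irr) hθ _) ((hv z hz).trans (mul_comm _ _))
    rw [← H7.detHom_apply, show H7.detHom (ψ i).1 z = 1 from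
      Abelianization.commutator_subset_ker _ (hG ▸ Subgroup.mem_top z)] at h3
    have h4 : θ ⟨z, center_le_CC x hz⟩ * θ ⟨z, center_le_CC x hz⟩ = 1 := by
      rw [← H7.linear_map_mul (H7.irr_char F.irr) hθ, ← hθ]
      exact congrArg θ (Subtype.ext h2)
    refine hv1 z hz ((mul_self_eq_one_iff.1 h4).resolve_right fun e => ?_)
    obtain ⟨k, hk⟩ := hp.out.odd_of_ne_two (by omega)
    rw [e, Odd.neg_one_pow ⟨k - 1, by omega⟩] at h3
    norm_num at h3) he h7 (by omega)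
  obtain rfl : χ₁ = irrOne G := by_contra fun h5 => by
    have := H23.deg_ne_one hG h5
    omega
  have hZ : center G = ⊥ := eq_bot_iff.2 fun z hz => hv1 z hz (by
    have h5 : ¬ p ∣ orderOf (⟨z, center_le_CC x hz⟩ : CC x) := by
      rw [Subgroup.orderOf_mk]; exact center_reg h hx hz
    have h6 := dvd_uu_mul h one_ne_zero h5
    have h8 := F.valX _ (mem_insert_self _ _) (uu x 1 * ⟨z, center_le_CC x hz⟩ : CC x) (by
      rwa [Subgroup.orderOf_coe])
    rw [h.Lf_of_inv h6 fun n => (congrFun (hC.cjf h F.triv n) _).trans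
      (F.triv.mul (Subgroup.npow_mem_zpowers _ _) _), hA, e1, show (CC x).relIndex (NN x) = 2
        from he, he] at h8
    simpa using h8.symm)
  have hS : SC p x := ⟨h.ord, le_antisymm (fun c hc => by
    obtain ⟨a, z, hz, -, rfl⟩ := hC.eq_mul h hc
    rw [hZ, Subgroup.mem_bot] at hz
    rw [hz, mul_one]
    exact Subgroup.npow_mem_zpowers _ _) (zp_le_CC x)⟩
  have h5 : ∀ g, p ∣ orderOf g → χ₂.1 g = -1 := fun g hg => by
    obtain ⟨t, ht⟩ := h.exists_conj hg
    obtain ⟨a, ha⟩ := h.exists_pow_val (hS.cent ▸ ht)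
    rw [← H7.irr_cf χ₂.2 g t, ← ha, Fam.val_pow F hθ hA (χ := χ₂) (by simp), e2, Int.cast_neg, Int.cast_one]
    rintro rfl
    rw [ZMod.val_zero, pow_zero, eq_comm, conj_eq_one_iff] at ha
    exact not_dvd_one (ha ▸ hg)
  refine ⟨hZ, e2_sl hS he h7 h4 h5 fun g hg => ?_⟩
  by_cases h6 : p ∣ orderOf g
  · rw [h5 g h6, H8.irr_one_eq] at hg
    norm_cast at hg
  · have h8 := F.reg i h6
    have h9 := F.reg i (not_dvd_one (G := G))
    rw [sum_pair h2, hg] at h8
    rw [sum_pair h2] at h9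
    exact hf g (by simp only [H8.irrOne_apply] at h8 h9; push_cast at h8 h9
                   linear_combination h9 - h8)

/-- Feit's theorem on faithful irreducible characters of degree `p - 2`. -/
theorem sl_of_deg (h : Syl1 p x) (hn : ¬ (zpowers x).Normal) (h7 : 7 ≤ p)
    (ζ : IrrCharacter G) (hf : ∀ g, ζ.1 g = ζ.1 1 → g = 1) (hd : charDegree ζ.1 + 2 = p) :
    ∃ (a : ℕ) (F : Type) (_ : Field F) (_ : Fintype F), p = 2 ^ a + 1 ∧ Fintype.card F = 2 ^ a ∧
      Nonempty (G ≃* Matrix.SpecialLinearGroup (Fin 2) F × center G) := by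
  obtain ⟨M, hM⟩ := H7.exists_isPModular hp.out
  obtain ⟨hG, hC, -⟩ := small_struct h hn hM ζ hf (by omega)
  obtain ⟨hZ, a, F, _, _, h1, h2, ⟨e⟩⟩ := sl_of_perfect (h.sub (mem_NC x)) (fun h1 =>
    hn (normal_of_NC_le h fun g hg => Subgroup.mem_normalizer_fintype fun u hu => by
      obtain ⟨k, rfl⟩ := hu
      obtain ⟨l, hl⟩ := h1.conj_mem _ (Subgroup.zpow_mem_zpowers _ k) ⟨g, hg⟩
      exact ⟨l, congrArg Subtype.val hl⟩)) (NC_xN h) h7
    ⟨_, (irr_res h hn ζ.2 hf (by omega)).1⟩ (fun g hg => Subtype.ext (hf g hg)) hd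
  refine ⟨a, F, _, _, h1, h2, ⟨(MulEquiv.ofBijective ((NC x).subtype.noncommCoprod
    (center G).subtype fun s z => Subgroup.mem_center_iff.1 z.2 s) ⟨?_, fun g => ?_⟩).symm.trans
      (e.prodCongr (MulEquiv.refl _))⟩⟩
  · rw [injective_iff_map_eq_one]
    rintro ⟨s, z⟩ h3
    have h4 : (s : G) = (z : G)⁻¹ := eq_inv_of_mul_eq_one_left h3
    obtain rfl : s = 1 := Subgroup.mem_bot.1 (hZ ▸ Subgroup.mem_center_iff.2 fun g =>
      Subtype.ext (Subgroup.mem_center_iff.1 (h4 ▸ inv_mem z.2) (g : G)))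
    exact Prod.ext rfl (Subtype.ext (by simpa using h4.symm))
  · obtain ⟨s, hs, c, hc, rfl⟩ := hG g
    obtain ⟨k, z, hz, -, rfl⟩ := hC.eq_mul h hc
    exact ⟨(⟨s * x ^ k.val, mul_mem hs (pow_mem (mem_NC x) _)⟩, ⟨z, hz⟩), mul_assoc _ _ _⟩

end Cfsg.Agent.H9.P1
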