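import Mathlib
import Cfsg.Agent.FT.Main
import Cfsg.Agent.H28.Cls

/-!
Normal subgroups with two `G`-class sizes.
-/

set_option autoImplicit false
set_option linter.unusedSectionVars false
set_option linter.unusedVariables false

namespace Cfsg.Agent.H9.TC

open Cfsg Subgroup Cfsg.Agent.FT Cfsg.Agent.H28
open scoped commutatorElement

variable {G : Type*} [Group G] [Finite G] {C A B U : Subgroup G} {q r s t : ℕ}

/-- `B` is an abelian `s`-subgroup whose noncentral elements all have centralizer `C`. -/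
structure Good (C : Subgroup G) (s : ℕ) (B : Subgroup G) : Prop where
  prime : s.Prime
  pgrp : PGrp s B
  le : C ≤ C(B)
  leC : B ≤ C
  nrm : N(C) ≤ N(B)
  nc : ¬ B ≤ center G
  cen : ∀ b ∈ B, b ∉ center G → C[b] ≤ C

theorem Good.cen_le (h : Good C s B) : C(B) ≤ C := by
  obtain ⟨b, hb, h1⟩ := SetLike.not_le_iff_exists.1 h.nc
  exact (cen_le_cen1 hb).trans (h.cen b hb h1)

theorem Good.ab (h : Good C s B) : Ab B := ab_iff.2 (h.leC.trans h.le)

theorem Good.contra (h : Good C s B) {g : G} (hg : g ∈ N(C)) (hg' : g ∉ C) (hs : PiElt {s} g)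
    (hne : s ≠ t) (hU : C < U) (hn : U ⊴ N(C)) (hi : PiNat {t} (C.relIndex U)) : False := by
  obtain ⟨T, hT⟩ := exists_syl t U
  have h1 := (hT.mulEq_of_relIndex hU.le hi).comm_eq_of_cents' h.le
  have hUB : U ≤ N(B) := hn.le.trans h.nrm
  have h2 : ⁅B, U⁆ ≠ ⊥ := fun e => hU.not_ge ((comm_eq_bot'.1 e).trans h.cen_le)
  have h3 := hs.zpowers.meet_cen (h.pgrp.mono (comm_le_left hUB))
    ((zpowers_le.2 hg).trans (normsR h.nrm hn.nrm)) h2
  obtain ⟨d, hd, d1⟩ := (Subgroup.bot_or_exists_ne_one _).resolve_left h3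
  by_cases hz : d ∈ center G
  · exact d1 ((coprime_abel_cent_TI (hT.le.trans hUB) (h.pgrp.cop_of_ne hT.pi hne) h.ab).le
      ⟨h1 ▸ hd.1, center_le_cen' _ hz⟩)
  · exact hg' (h.cen d (comm_le_left hUB hd.1) hz (mem_cen1.2 (hd.2 g (mem_zpowers g))))

/-- elements acting trivially on `B` modulo the centre -/
def Kz (B : Subgroup G) : Subgroup G where
  carrier := {g | ∀ b ∈ B, g * b * g⁻¹ * b⁻¹ ∈ center G}
  one_mem' := fun b _ => by simp
  mul_mem' := fun {g h} hg hh b hb => by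
    convert mul_mem (Normal.conj_mem inferInstance _ (hh b hb) g) (hg b hb) using 1
    group
  inv_mem' := fun {g} hg b hb => by
    convert Normal.conj_mem inferInstance _ (inv_mem (hg b hb)) g⁻¹ using 1
    group

theorem nrm_Kz (B : Subgroup G) : N(B) ≤ N(Kz B) := fun x hx =>
  mem_normalizer_fintype fun g hg b hb => by
    convert Normal.conj_mem inferInstance _ (hg (x⁻¹ * b * x)
      ((mem_normalizer_iff''.1 hx b).1 hb)) x using 1
    group

theorem Good.idx (h : Good C s B) : PiNat {s} (C.relIndex (N(C) ⊓ Kz B)) :=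
  piNat_relIndex_of_forall fun r hr hrs x hx hx' => by
    have hn : ⟪x⟫ ≤ N(B) := (zpowers_le.2 hx.1).trans h.nrm
    have h1 : ⁅B, ⟪x⟫⁆ ≤ center G := by
      rw [commutator_comm]
      exact commutator_le.2 fun y hy b hb => (zpowers_le.2 hx.2 : _ ≤ Kz B) hy b hb
    have h2 := coprime_abel_cent_TI hn (h.pgrp.cop_of_ne hx'.zpowers (Ne.symm hrs)) h.ab
    rw [inf_eq_left.2 (h1.trans (center_le_cen' _))] at h2
    exact h.cen_le (comm_eq_bot'.1 h2 (mem_zpowers x))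

/-- `N(C)/C` has a nontrivial normal subgroup of prime power order -/
theorem Good.exists_nml (h : Good C s B) (hs : s ≠ 2) (hne : C < N(C)) :
    ∃ t U, C < U ∧ U ⊴ N(C) ∧ PiNat {t} (C.relIndex U) := by
  have key : ∀ (t : ℕ) (V : Subgroup (Quo C)), V ≠ ⊥ → ⊤ ≤ N(V) → PGrp t V →
      ∃ t U, C < U ∧ U ⊴ N(C) ∧ PiNat {t} (C.relIndex U) := fun t V h1 h2 h3 =>
    ⟨t, qpre(C, V), (le_qpre V).lt_of_ne fun e => h1 (le_bot_iff.1 (qpre_le_qpre.1
      (e.ge.trans (qpre_bot C).ge))), ⟨qpre_le V, norms_qpre le_rfl (le_top.trans h2)⟩,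
      (relIndex_qpre_self V).symm ▸ h3⟩
  rcases Nat.even_or_odd (Nat.card (Quo C)) with he | ho
  · have hK : C ≤ N(C) ⊓ Kz B := le_inf (le_nrm C) fun g hg b hb => by
      rw [← h.le hg b hb]; simp
    rcases hK.lt_or_eq with h1 | h1
    · exact ⟨s, _, h1, ⟨inf_le_left, normsI (le_nrm _) (h.nrm.trans (nrm_Kz B))⟩, h.idx⟩
    haveI := Fact.mk Nat.prime_two
    obtain ⟨u, hu⟩ := exists_prime_orderOf_dvd_card' 2 he.two_dvd
    have h2 : ∀ x ∈ N(C), orderOf coset(C, x) = 2 → ∀ b ∈ B, x * b * x⁻¹ * b ∈ center G := by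
      intro x hx e b hb
      by_contra hz
      have a1 : x * b * x⁻¹ ∈ B := (mem_normalizer_iff.1 (h.nrm hx) b).1 hb
      have a2 : x ^ 2 ∈ C := by rw [← coset_eq_one_iff (pow_mem hx 2), coset_pow hx, ← e, pow_orderOf_eq_one]
      have a3 : x ∈ C := h.cen _ (mul_mem a1 hb) hz (mem_cen1.2 (by
        have a4 := h.le a2 b hb
        have a5 := ab_iff_forall.1 h.ab _ a1 b hb
        calc _ = x ^ 2 * b * x⁻¹ * b := by rw [sq]; group
          _ = b * (x * b * x⁻¹) * x := by rw [← a4, sq]; group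
          _ = _ := by rw [← a5]))
      rw [coset_of_mem a3, orderOf_one] at e
      exact absurd e (by decide)
    refine key 2 ⟪u⟫ (fun e => ?_) (fun v _ => ?_) (pGrp_of_card_prime Nat.prime_two (by rw [Nat.card_zpowers, hu]))
    · rw [zpowers_eq_bot.1 e, orderOf_one] at hu
      exact absurd hu (by decide)
    · refine norms_zpowers_of_cen1 le_rfl (mem_cen1.2 ?_)
      obtain ⟨x, hx, rfl⟩ := exists_coset u
      obtain ⟨g, hg, rfl⟩ := exists_coset v
      have a0 : g * x * g⁻¹ ∈ N(C) := mul_mem (mul_mem hg hx) (inv_mem hg)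
      have a1 : g * x * g⁻¹ * x⁻¹ ∈ C := h1.ge ⟨N(C).mul_mem a0 (N(C).inv_mem hx), fun b hb => by
        have a2 := (mem_normalizer_iff''.1 (h.nrm hx) b).1 hb
        convert mul_mem (h2 _ a0 (by rw [coset_conj hg hx, ← hu]; exact (MulAut.conj _).orderOf_eq _) _ a2)
          (inv_mem (h2 x hx hu _ a2)) using 1
        group⟩
      rw [← coset_eq_one_iff (mul_mem a0 (inv_mem hx)), coset_mul a0 (inv_mem hx), coset_conj hg hx,
        coset_inv hx] at a1
      rw [← mul_inv_eq_one, ← a1]; group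
  · have h1 : (⊤ : Subgroup (Quo C)) ≠ ⊥ := fun e => hne.not_ge ((quo_eq_bot le_rfl).1 ((quo_nrm C).trans e))
    obtain ⟨V, -, hV⟩ := exists_minNml h1 (le_nrm ⊤)
    haveI := odd_order_solvable ho
    obtain ⟨t, ht, h2⟩ := hV.abelem inferInstance
    exact key t V hV.ne hV.nrm (h2.pGrp ht)

theorem Good.false (h1 : Good C q A) (h2 : Good C r B) (hne : q ≠ r)
    (e1 : ∃ g ∈ N(C), g ∉ C ∧ PiElt {q} g) (e2 : ∃ g ∈ N(C), g ∉ C ∧ PiElt {r} g) : False := by
  obtain ⟨g, a1, a2, a3⟩ := e1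
  obtain ⟨k, b1, b2, b3⟩ := e2
  have hlt : C < N(C) := (le_nrm C).lt_of_ne fun e => a2 (e.ge a1)
  obtain ⟨t, U, c1, c2, c3⟩ : ∃ t U, C < U ∧ U ⊴ N(C) ∧ PiNat {t} (C.relIndex U) := by
    by_cases h : q = 2
    · exact h2.exists_nml (h ▸ hne.symm) hlt
    · exact h1.exists_nml h hlt
  by_cases h : q = t
  · exact h2.contra b1 b2 b3 (h ▸ hne.symm) c1 c2 c3
  · exact h1.contra a1 a2 a3 h c1 c2 c3

theorem exists_nrm (hs : s.Prime) {S N : Subgroup G} [N.Normal] (hS : Syl s S C) (hd : s ∣ C.index)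
    (h : C(S ⊓ N) = C) : ∃ g ∈ N(C), g ∉ C ∧ PiElt {s} g := by
  obtain ⟨P, hP, hle⟩ := hS.pi.exists_syl le_top
  have h1 : S < P := hle.lt_of_ne fun e => not_dvd_index_of_syl_le hs hP (e ▸ hS.le) hd
  obtain ⟨g, hg, g1⟩ := SetLike.exists_of_lt (hP.pi.lt_subnorm h1)
  refine ⟨g, ?_, fun e => g1 ((hS.max (hP.pi.inf_left C) (le_inf hle hS.le) inf_le_right).le ⟨hg.1, e⟩),
    hP.pi.piElt hg.1⟩
  rw [← h]
  exact norms_cent (normsI le_rfl (le_top.trans (normalizer_eq_top _).ge)) hg.2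

theorem nil_of_two {N R : Subgroup G} [hN : N.Normal] (hr : r.Prime) (hR : Syl r R ⊤) (hRZ : ¬ R ≤ center G)
    (hRN : R ≤ N) {m : ℕ} (h : ∀ x ∈ N, C[x].index = 1 ∨ C[x].index = m) : Nil N := by
  have nn : ∀ X : Subgroup G, X ≤ N(N) := fun X => le_top.trans (normalizer_eq_top _).ge
  have h1 : ∀ x ∈ N, x ∉ center G → C[x].index = m := fun x hx hz =>
    (h x hx).resolve_left fun e => hz (cs_eq_one.1 e)
  have h2 : ∀ x ∈ N, x ∉ center G → ∀ y ∈ N, y ∉ center G → C[x] ≤ C[y] → C[x] = C[y] :=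
    fun x hx hz y hy hz' e => eq_of_le_of_index_le e (by rw [h1 x hx hz, h1 y hy hz'])
  have h3 : ∀ s t : ℕ, s ≠ t → ∀ x ∈ N, x ∉ center G → PiElt {s} x → ∀ y ∈ N, PiElt {t} y → y ∈ C[x] →
      C[x] ≤ C[y] := fun s t hst x hx hz hs y hy ht hc => by
    have e := cen1_mul_pi hs (ht.pi (π := {s}ᶜ) hst.symm) (mem_cen1.1 hc).symm
    have e1 : x * y ∉ center G := fun e' => hz (cs_eq_one.1 (Nat.dvd_one.1
      (cs_eq_one.2 e' ▸ index_dvd_of_le (e.le.trans inf_le_left))))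
    exact (h2 _ (mul_mem hx hy) e1 x hx hz (e.le.trans inf_le_left)).ge.trans (e.le.trans inf_le_right)
  by_contra hne
  have hA : ∀ s : ℕ, s.Prime → ∀ x ∈ N, x ∉ center G → PiElt {s} x → s ∣ m := fun s hs x hx hz hx' => by
    by_contra hd
    obtain ⟨T, hT⟩ := exists_syl s N
    have a1 : N ≤ C(T) := subgroupOf_eq_top.1 (jordan_cover fun y => by
      obtain ⟨P, hP, hle⟩ := exists_syl_le_of_not_dvd hs (H := C[(y : G)]) (by
        rcases h y y.2 with e | e <;> rw [e]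
        · exact hs.one_lt.ne' ∘ Nat.dvd_one.1
        · exact hd)
      obtain ⟨g, hg, e⟩ := (hP.inf_nml ⟨le_top, nn _⟩).syl_trans hT
      refine ⟨⟨g, hg⟩, ?_⟩
      change g * y * g⁻¹ ∈ C(T)
      rw [← le_cen1, ← cj_cen1, e]
      exact cj_mono _ (inf_le_left.trans hle))
    have a2 : ∀ y ∈ N, PiElt {s} y → y ∈ C(N) := fun y hy hy' =>
      centsC a1 (hT.mem_of_cen hy hy' (a1 hy))
    refine hne (Ab.nil (ab_iff.2 (le_of_forall_pElt fun t ht y hy hy' => ?_)))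
    by_cases e : s = t
    · exact a2 y hy (e ▸ hy')
    · have a3 := le_cen1.2 (a2 x hx hx')
      exact le_cen1.1 (a3.trans (h3 s t e x hx hz hx' y hy hy' (a3 hy)))
  obtain ⟨q, hq, hqr, x, hx, hxq, hxz⟩ : ∃ q : ℕ, q.Prime ∧ q ≠ r ∧ ∃ x ∈ N, PiElt {q} x ∧ x ∉ center G := by
    by_contra! hc
    have := nil_of_p'_central (G := N) (p := r) fun q hq hqr x hx => mem_center_iff.2 fun y =>
      Subtype.ext (mem_center_iff.1 (hc q hq hqr x x.2 (by rwa [PiElt, Subgroup.orderOf_coe])) y)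
    exact hne (Group.nilpotent_of_mulEquiv topEquiv)
  obtain ⟨y₀, hy₀, y0z⟩ := SetLike.not_le_iff_exists.1 hRZ
  obtain ⟨y, hy, hyN, hyr, hyz⟩ : ∃ y ∈ C[x], y ∈ N ∧ PiElt {r} y ∧ y ∉ center G := by
    by_contra! hc
    obtain ⟨S, hS⟩ := exists_syl r C[x]
    have a1 : S ≤ center G := fun y hy =>
      hc y (hS.le hy) (hR.le_of_syl_le (nn _) hRN hS.pi le_top hy) (hS.pi.piElt hy)
    obtain ⟨T, hT, hle⟩ := (hS.pi.sup (hR.pi.piElt hy₀).zpowers
      ((centsC (a1.trans (center_le_cen' _))).trans (cen_le_nrm _))).exists_syl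
      (sup_le (a1.trans (center_le_cen1 y₀)) (zpowers_le_cen1 y₀))
    have a2 : #C[y₀] = #C[x] := by
      have e1 := C[y₀].card_mul_index
      rw [← C[x].card_mul_index, h1 x hx hxz, h1 y₀ (hRN hy₀) y0z] at e1
      exact Nat.eq_of_mul_eq_mul_right (h1 x hx hxz ▸ cs_pos x) e1
    have a3 : S = T := eq_of_card_le (le_sup_left.trans hle) (by rw [hS.card_syl hr, hT.card_syl hr, a2])
    exact y0z (a1 (a3.ge (hle (mem_sup_right (mem_zpowers y₀)))))
  have e1 : C[x] = C[y] := h2 x hx hxz y hyN hyz (h3 q r hqr x hx hxz hxq y hyN hyr hy)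
  have e2 : C[x] ⊓ N ≤ C(C[x]) := le_of_forall_pElt fun t ht w hw hw' => le_cen1.1 (by
    by_cases e : q = t
    · rw [e1]; exact h3 r t (e ▸ hqr.symm) y hyN hyz hyr w hw.2 hw' (e1 ▸ hw.1)
    · exact h3 q t e x hx hxz hxq w hw.2 hw' hw.1)
  have key : ∀ s : ℕ, s.Prime → ∀ w ∈ C[x], w ∈ N → PiElt {s} w → w ∉ center G →
      (∃ B, Good C[x] s B) ∧ ∃ g ∈ N(C[x]), g ∉ C[x] ∧ PiElt {s} g := fun s hs w hw hwN hws hwz => by
    obtain ⟨S, hS⟩ := exists_syl s C[x]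
    have a1 : S ⊓ N ≤ C[x] ⊓ N := inf_le_inf_right _ hS.le
    have a2 : w ∈ S ⊓ N := ⟨hS.mem_of_cen hw hws (cen_anti hS.le (e2 ⟨hw, hwN⟩)), hwN⟩
    have a3 : Good C[x] s (S ⊓ N) := ⟨hs, hS.pi.inf_left _, centsC (a1.trans e2), a1.trans inf_le_left,
      (hS.inf_of_norms (nn _)).norms_of_nml ((inf_le_left.trans (centsC (a1.trans e2))).trans (cen_le_nrm _))
        (normsI le_rfl (nn _)), fun e => hwz (e a2), fun b hb hz =>
      (h2 x hx hxz b hb.2 hz (le_cen1.2 (e2 (a1 hb)))).ge⟩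
    exact ⟨⟨_, a3⟩, exists_nrm hs hS (h1 x hx hxz ▸ hA s hs w hwN hwz hws) (a3.cen_le.antisymm a3.le)⟩
  obtain ⟨⟨A, g1⟩, g2⟩ := key q hq x (self_mem_cen1 x) hx hxq hxz
  obtain ⟨⟨B, g3⟩, g4⟩ := key r hr y hy hyN hyr hyz
  exact g1.false g3 hqr g2 g4

end Cfsg.Agent.H9.TC
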