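import Mathlib
import Cfsg.Agent.FT.Main
import Cfsg.Agent.H29.Maz
import Cfsg.Agent.H2.Misc
import Cfsg.Agent.H4.Alperin

/-!
Groups in which the centralizers of the nontrivial `p`-elements have normal `p`-complements.
-/

set_option autoImplicit false
set_option linter.unusedSectionVars false

namespace Cfsg.Agent.H9

open Subgroup Cfsg.Agent.FT

variable {G : Type*} [Group G] [Finite G] {p r : ℕ} {M U L B S P X : Subgroup G} {y u : G}

/-- The nontrivial `p`-elements of `M` have order `p` and `p`-nilpotent centralizers. -/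
def CN (p : ℕ) (M : Subgroup G) : Prop :=
  ∀ u ∈ M, PiElt {p} u → u ≠ 1 → NPC p (M ⊓ C[u]) ∧ u ^ p = 1

theorem CN.mono (h : CN p M) (hL : L ≤ M) : CN p L := fun u hu h1 h2 =>
  ⟨(h u (hL hu) h1 h2).1.mono (inf_le_inf_right _ hL), (h u (hL hu) h1 h2).2⟩

theorem CN.pow (h : CN p M) (hu : u ∈ M) (h1 : PiElt {p} u) : u ^ p = 1 := by
  by_cases h2 : u = 1
  · rw [h2, one_pow]
  · exact (h u hu h1 h2).2

theorem CN.quo (h : CN p M) : CN p (M /ₛ O[{p}ᶜ](M)) := by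
  intro v hv h1 h2
  obtain ⟨x, hx, hn, rfl⟩ := mem_quo.1 hv
  have h3 : coset(O[{p}ᶜ](M), constt {p} x) = coset(O[{p}ᶜ](M), x) := by
    rw [pfun_constt _ _ hn, h1.constt_eq]
  have h4 := h _ (constt_mem {p} hx) (piElt_constt _ x) fun e => h2 (by rw [← h3, e, coset_one])
  rw [← h3, ← coprime_quotient_cent1 (pcore_le _ _) (constt_mem _ hn)
    (PiNat.coprime' (pcore_pi _ M) (piElt_constt _ x)), ← coset_pow (constt_mem _ hn), h4.2]
  exact ⟨h4.1.quo (inf_le_left.trans (pcore_nrm _ _)), coset_one _⟩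

theorem CN.cent (h : CN p M) (hU : PGrp p U) (hUM : U ≤ M) (hy : y ∈ M) (hy' : PiElt {p}ᶜ y)
    (hn : y ∈ N(U)) (h1 : U ⊓ C[y] ≠ ⊥) : U ≤ C[y] := by
  by_contra h2
  have h4 := hU.lt_subnorm (lt_of_le_of_ne inf_le_left fun e : U ⊓ C[y] = U => h2 (inf_eq_left.1 e))
  have hV : PGrp p (U ⊓ N(U ⊓ C[y])) := hU.inf_left _
  obtain ⟨z, hz, z1⟩ := exists_ne_one (hV.nil.meet_cen (nml_subnorm inf_le_left) h1)
  have h6 : y ∈ O[{p}ᶜ](M ⊓ C[z]) := (h z (hUM hz.1.1) (hU.piElt hz.1.1) z1).1.hall.mem_pcore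
    ⟨hy, cen1_comm.1 hz.1.2⟩ hy'
  have h7 : U ⊓ N(U ⊓ C[y]) ≤ M ⊓ C[z] := le_inf (inf_le_left.trans hUM) (le_cen1.2 hz.2)
  have h8 : ⟪y⟫ ≤ N(U ⊓ N(U ⊓ C[y])) := normsI (zpowers_le.2 hn)
    (norms_norm (normsI (zpowers_le.2 hn) (norms_cen1 (zpowers_le_cen1 y))))
  refine h4.not_ge (le_inf inf_le_left ?_)
  exact (comm_eq_bot.1 (eq_bot_of_le (le_inf (comm_le_left h8) ((commSS le_rfl (zpowers_le.2 h6)).trans
    (comm_le_right (h7.trans (pcore_nrm _ _))))) (hV.inf_eq_bot (pcore_pi _ _)))).trans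
    (cen_zpowers y).le

section Core

variable (h : CN p M) (h0 : O[{p}ᶜ](M) = ⊥) (h1 : O[{p}](M) ≠ ⊥)
include h h0 h1

theorem CN.cen_le : M ⊓ C(O[{p}](M)) ≤ O[{p}](M) := by
  obtain ⟨z, hz, z1⟩ := exists_ne_one h1
  have hn : M ⊓ C(O[{p}](M)) ⊴ M := subcent_nml (pcore_nrm _ _)
  have h4 := ((h z (pcore_le _ _ hz) ((pcore_pi _ _).piElt hz) z1).1.mono
    (inf_le_inf_left _ (cen_le_cen1 hz))).hall
  rw [eq_bot_of_le (pcore_mono_nml _ hn) h0, hall_bot_iff, piGrp_compl_compl] at h4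
  exact pcore_max h4 hn

theorem CN.fpf (hy : y ∈ M) (hy' : PiElt {p}ᶜ y) (hu : u ∈ M) (hu' : PiElt {p} u) (u1 : u ≠ 1)
    (c : u * y = y * u) : y = 1 := by
  have hn : ∀ x ∈ M, x ∈ N(O[{p}](M)) := pcore_nrm _ _
  have h2 := h.cent ((pcore_pi _ M).sup hu'.zpowers (zpowers_le.2 (hn u hu)))
    (sup_le (pcore_le _ _) (zpowers_le.2 hu)) hy hy'
    (zpowers_le.1 (normsY (zpowers_le.2 (hn y hy))
      (norms_zpowers_of_cen1 (zpowers_le.2 (mem_cen1.2 c.symm)))))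
    (ne_bot_of_mem (x := u) ⟨mem_sup_right (mem_zpowers u), mem_cen1.2 c⟩ u1)
  exact hy'.eq_one_of_mem' (pcore_pi _ M) (h.cen_le h0 h1 ⟨hy, le_cen1.1 (le_sup_left.trans h2)⟩)

theorem CN.syl_of (hp : p.Prime) (hX : X ⊴ M) (hR : O[{p}](M) ≤ X) (hr : r ≠ p)
    (hi : PiNat {r} (O[{p}](M).relIndex X)) (hne : ¬ X ≤ O[{p}](M)) : Syl p O[{p}](M) M := by
  obtain ⟨T, hT⟩ := exists_syl r X
  have e := hT.sup_eq_of_relIndex hR hi
  have hTM := hT.le.trans hX.le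
  have hn : M ≤ N(O[{p}](M)) := pcore_nrm _ _
  have hT' : PiGrp {p}ᶜ T := hT.pi.p' hr
  refine MulEq.hall_left (R := M ⊓ N(T)) ⟨pcore_le _ _, inf_le_left, fun x hx => ?_⟩ (pcore_pi _ _) ?_
  · obtain ⟨a, ha, b, hb, rfl⟩ := (hT.frattini hX).mul x hx
    obtain ⟨c, hc, d, hd, rfl⟩ := (mem_sup_norm (hTM.trans hn)).1 (e ▸ ha)
    exact ⟨c, hc, d * b, mul_mem ⟨hTM hd, le_nrm _ hd⟩ hb, mul_assoc _ _ _⟩
  rw [p'grp_iff hp]
  intro hd
  obtain ⟨c, hc, ho⟩ := exists_elt_of_prime_dvd hp hd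
  have hc' : PiElt {p} c := (piElt_of_orderOf_prime hp ho).2 rfl
  have h2 := H29.cents_of_norm (pcore_pi {p} M).nil (hTM.trans hn) (hn hc.1) hc.2
    ((pcore_pi _ _).cop hT') hp.ne_zero (fun i i0 ip f hf c1 =>
      h.fpf h0 h1 (hTM hf) (hT'.piElt hf) (pow_mem hc.1 i) (hc'.pow i)
        (pow_ne_one_of_lt_orderOf i0.ne' (ho ▸ ip)) c1.symm) fun v hv =>
      h.pow (mul_mem (pcore_le _ _ hv) hc.1) (((pcore_pi _ M).sup hc'.zpowers
        (zpowers_le.2 (hn hc.1))).piElt (mul_mem_sup hv (mem_zpowers c)))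
  exact hne (e ▸ sup_le le_rfl ((le_inf hTM h2).trans (h.cen_le h0 h1)))

theorem CN.syl (hp : p.Prime) (h2 : p ≠ 2) : Syl p O[{p}](M) M := by
  have hn : M ≤ N(O[{p}](M)) := pcore_nrm _ _
  by_cases hd : 2 ∣ #M
  · obtain ⟨t, ht, ho⟩ := exists_elt_of_prime_dvd Nat.prime_two hd
    have h3 : ∀ s ∈ M, orderOf s = 2 → ∀ v ∈ O[{p}](M), s * v * s⁻¹ = v⁻¹ := fun s hs ho v hv =>
      inverts_of_fpf (by rw [← pow_two, ← ho, pow_orderOf_eq_one]) (hn hs) (by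
        by_contra h3
        obtain ⟨w, hw, w1⟩ := exists_ne_one h3
        have := h.fpf h0 h1 hs ((piElt_of_orderOf_prime Nat.prime_two ho).2 h2.symm)
          (pcore_le _ _ hw.1) ((pcore_pi _ _).piElt hw.1) w1 (mem_cen1.1 hw.2)
        simp [this] at ho) hv
    have ht' : PiElt {2} t := (piElt_of_orderOf_prime Nat.prime_two ho).2 rfl
    have h4 : ⟪t⟫ ≤ N(O[{p}](M)) := zpowers_le.2 (hn ht)
    refine h.syl_of h0 h1 hp (X := O[{p}](M) ⊔ ⟪t⟫) ⟨sup_le (pcore_le _ _) (zpowers_le.2 ht),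
      fun g hg => mem_nrm_of_cj_le ?_⟩ le_sup_left h2.symm ?_ fun h5 => ?_
    · rw [cj_sup, cj_of_mem_nrm (hn hg), cj_zpowers]
      refine sup_le le_sup_left (zpowers_le.2 ?_)
      have h5 := mul_mem (mul_mem hg ht) (inv_mem hg)
      have h6 := h.cen_le h0 h1 (x := g * t * g⁻¹ * t⁻¹) ⟨M.mul_mem h5 (M.inv_mem ht),
        mem_cen.2 fun v hv => by
          have a1 := h3 _ h5 ((orderOf_conj g t).trans ho) _ (inv_mem hv)
          have a2 := h3 _ (inv_mem ht) ((orderOf_inv t).trans ho) v hv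
          rw [inv_inv v, ← a2] at a1
          nth_rewrite 1 [← a1]
          group⟩
      simpa using mul_mem_sup h6 (mem_zpowers t)
    · rw [relIndex_sup_norm h4]
      exact ht'.zpowers.relIndex _
    · have := ((piElt_of_orderOf_prime Nat.prime_two ho).2 h2.symm : PiElt {p}ᶜ t).eq_one_of_mem'
        (pcore_pi _ M) (h5 (mem_sup_right (mem_zpowers t)))
      simp [this] at ho
  by_cases h3 : M /ₛ O[{p}](M) = ⊥
  · have := (pcore_le _ M).antisymm ((quo_eq_bot hn).1 h3)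
    nth_rewrite 2 [← this]
    exact hall_self (pcore_pi _ _)
  obtain ⟨r, -, hr⟩ := Sol.exists_pcore_ne_bot (Sol.quo (odd_order_solvable
    (Nat.odd_iff.2 (Nat.two_dvd_ne_zero.1 hd))) _) h3
  refine h.syl_of h0 h1 hp (qpre_nml (pcore_nml _ _) (pcore_nml {r} _)) (le_qpre _)
    (fun e => hr (e ▸ pcore_quo_pcore _ _)) ?_ (lt_qpre hr).not_ge
  rw [relIndex_qpre_self]
  exact pcore_pi _ _

end Core

theorem CN.exists_mul (h : CN p L) (hp : p.Prime) (h2 : p ≠ 2) (hB : PGrp p B) (h1 : B ≠ ⊥)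
    (hn : B ⊴ L) (hS : Syl p S L) {x : G} (hx : x ∈ L) : ∃ c ∈ C(B), ∃ n ∈ N(S), x = c * n := by
  have hK : L ≤ N(O[{p}ᶜ](L)) := pcore_nrm _ _
  have h3 := h.quo.syl (pcore_quo_pcore _ _) (pcore_ne_bot (hB.quo _) (hn.quo _)
    (quo_ne_bot (hn.le.trans hK) fun h3 => h1 (hB.eq_bot ((pcore_pi _ _).mono h3)))) hp h2
  have h4 := qpre_nml (pcore_nml _ L) (pcore_nml {p} (L /ₛ O[{p}ᶜ](L)))
  rw [← h3.eq_pcore (hS.quo hK), qpre_quo (hS.le.trans hK)] at h4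
  obtain ⟨a, ha, b, hb, rfl⟩ := ((hS.subl le_sup_right h4.le).frattini h4).mul x hx
  obtain ⟨c, hc, d, hd, rfl⟩ := (mem_sup_norm (hS.le.trans hK)).1 ha
  exact ⟨c, pcore_cents_of_pi' (piGrp_compl_compl.2 hB) hn hc, d * b, mul_mem (le_nrm _ hd) hb.2,
    mul_assoc _ _ _⟩

/-- Conjugation preserves the centre of a Sylow subgroup. -/
theorem CN.center [hp : Fact p.Prime] (h : CN p (⊤ : Subgroup G)) (h2 : p ≠ 2) (P : Sylow p G)
    {z g : G} (hz : z ∈ Z((P : Subgroup G))) (hg : g * z * g⁻¹ ∈ (P : Subgroup G)) :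
    g * z * g⁻¹ ∈ C((P : Subgroup G)) := by
  have e : ∀ k g a : G, k * (g * a * g⁻¹) * k⁻¹ = k * g * a * (k * g)⁻¹ := fun _ _ _ => by group
  refine (H4.alperin_induction P (fun A g => ∀ a ∈ A, a ∈ C((P : Subgroup G)) ↔
    g * a * g⁻¹ ∈ C((P : Subgroup G))) ?_ ?_ ?_ ?_ ⟪z⟫ g (zpowers_le.2 hz.1) ?_ z
      (mem_zpowers z)).1 hz.2
  · intro A g k _ _ _ h3 h4 a ha
    rw [h3 a ha, h4 _ (by rw [smul_eq_cj]; exact conj_mem_cj.2 ha), e]
  · intro A g _ _ h3 a ha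
    rw [smul_eq_cj] at ha
    obtain ⟨b, hb, rfl⟩ := mem_cj'.1 ha
    rw [← h3 b hb]
    simp [mul_assoc]
  · exact fun A B g h3 _ _ h4 a ha => h4 a (h3 ha)
  · intro B hB hS ih x hx a ha
    by_cases e1 : B = P
    · exact mem_normalizer_iff.1 (norms_cent (zpowers_le.2 (e1 ▸ hx)) (mem_zpowers x)) a
    by_cases h1 : B = ⊥
    · simp [mem_bot.1 (h1 ▸ ha)]
    have hP := (syl_top hp.out P).pi
    obtain ⟨c, hc, n, hn, h3⟩ := (h.mono le_top).exists_mul hp.out h2 (hP.mono hB) h1 (nml_nrm B)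
      (syl_of_not_dvd hS.1 (hP.inf_left _) hS.2.2) (inv_mem hx)
    have h4 := hP.lt_subnorm (lt_of_le_of_ne hB e1)
    have h5 := ih _ n⁻¹ (card_lt h4) inf_le_left (by
      rw [smul_eq_cj, cj_of_mem_nrm (inv_mem hn)]; exact inf_le_left) a (h4.le ha)
    rw [h5, inv_eq_iff_eq_inv.1 h3, mul_inv_rev, ← e, ← mem_cen.1 (inv_mem hc) a ha,
      mul_inv_cancel_right]
  · rw [smul_eq_cj, cj_zpowers]
    exact zpowers_le.2 hg

end Cfsg.Agent.H9
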