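import Mathlib
import Cfsg.Agent.H9.AbD
import Cfsg.Agent.H9.Cent

/-!
Nilpotent blocks with abelian defect groups have one Brauer character and `|D|` ordinary ones.
-/

set_option autoImplicit false

namespace Cfsg.Agent.H9

open MonoidAlgebra Cfsg
open Cfsg.Agent.H8 (locRing resField res rd eB fB fC up red Zen IsBlockUnion indSet
  secLift pPart pReg)
open Cfsg.Agent.H7 (ip)
open scoped ComplexConjugate

local notation "𝐂" Q => Subgroup.centralizer ((Q : Subgroup _) : Set _)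
local notation "𝐍" Q => Subgroup.normalizer ((Q : Subgroup _) : Set _)
local notation "𝐙" x => Subgroup.centralizer (Singleton.singleton x : Set _)

universe u

variable {M : Ideal AlgInt} [hMm : M.IsMaximal] {p : ℕ} [hp : Fact p.Prime] [hM : PMod M p]

section Quot

variable {G H : Type*} [Group G] [Finite G] [Group H] [Finite H] {φ : G →* H}

/-- The block dominated by `B` in a quotient by a central `p`-subgroup. -/
theorem exists_dominated (hφ : Function.Surjective φ) (hk : IsPGroup p φ.ker)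
    (hZ : ∀ x : G, x ∈ 𝐂 φ.ker) {B : Set (IrrCharacter G)} (hB : IsPBlock M B) :
    ∃ A : Set (IrrCharacter H), IsPBlock M A ∧ eB M A = em _ φ (eB M B) ∧
      (∀ ψ, H8.inflIrr φ hφ ψ ∈ B ↔ ψ ∈ A) ∧ blockRank p B = blockRank p A := by
  have h1 := (isBlk_eB hB).em_of_reg hk le_rfl top_le_normalizer_top (fun x _ _ => hZ x)
  rw [Subgroup.map_top_of_surjective φ hφ] at h1
  obtain ⟨A, hA, hAe⟩ := exists_eB h1
  obtain ⟨ψ, hψ⟩ := H8.block_nonempty hA
  have h2 : H8.inflIrr φ hφ ψ ∈ B := by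
    rw [infl_mem_iff_mul hφ hA (H8.isBlockUnion_of_block hB) hψ, ← hAe]
    exact (isBlk_eB hA).idem
  exact ⟨A, hA, hAe, infl_mem_iff hφ hk (fun x _ => hZ x) hA hB hψ h2,
    blockRank_infl hφ hk (fun x _ => hZ x) hA hB hψ h2⟩

theorem AbD.exists_quot (hφ : Function.Surjective φ) (hZ : ∀ x : G, x ∈ 𝐂 φ.ker)
    {B : Set (IrrCharacter G)} {D : Subgroup G} {e : (resField M)[G]} (h : AbD p B D e)
    (hk : φ.ker ≤ D) {A : Set (IrrCharacter H)} (hA : IsPBlock M A)
    (hAe : eB M A = em _ φ (eB M B)) : ∃ e' : (resField M)[H], AbD p A (D.map φ) e' ∧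
      (pstab ⊤ D e ≤ (𝐂 D) → pstab ⊤ (D.map φ) e' ≤ 𝐂 (D.map φ)) := by
  have hkp : IsPGroup p φ.ker := h.max.isP.to_le hk
  set K := (𝐂 (D.map φ)).comap φ with hK
  have hCK : (𝐂 D) ≤ K := fun x hx => map_mem_centralizer_map φ hx
  have hN : ∀ x, φ x ∈ (𝐍 (D.map φ)) → x ∈ 𝐍 D := fun x hx => by
    rw [mem_normalizer_iff_cg] at hx ⊢
    rw [cg_map] at hx
    refine eq_of_le_of_card_le (fun y hy => ?_) (card_cg x D).ge
    obtain ⟨d, hd, hdy⟩ : φ y ∈ D.map φ := hx ▸ Subgroup.mem_map_of_mem φ hy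
    have : d⁻¹ * y ∈ φ.ker := by simp [MonoidHom.mem_ker, hdy]
    simpa using D.mul_mem hd (hk this)
  have hKN : K ≤ 𝐍 D := fun x hx => hN x (Subgroup.centralizer_le_normalizer _ hx)
  have hKC := hKN.trans (normalizer_le_normalizer_centralizer D)
  have he : IsBlk (𝐂 D) e := by simpa using h.pair.blk
  obtain ⟨c, hc, hce⟩ := he.exists_prim_above le_rfl hCK hKC hKC
  have hcK : IsBlk K c :=
    (isBlk_iff_isPrim h.max.isP (h.ab.trans hCK) hKN inf_le_right hCK).2 hc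
  have hKm : K.map φ = 𝐂 (D.map φ) := Subgroup.map_comap_eq_self_of_surjective hφ _
  have hc' := hcK.em_of_reg hkp le_rfl Subgroup.le_normalizer (fun x _ _ => hZ x)
  rw [hKm] at hc'
  have hbr : br D (eB M B) * c = c := by
    refine hc.mul_eq_of_ne (fix_mono inf_le_right (le_inf le_top hKN) (br_mem_fix (eB_mem_fix B)))
      (br_idem h.max.isP (fun t _ => cj_eB B t) h.max.blk.idem) fun h0 => he.ne_zero ?_
    have hcomm : c * e = e * c := fix_comm le_rfl (fix_mono le_rfl hCK hc.mem) he.mem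
    rw [← h.max.pair.2, ← hce, ← mul_assoc, h0, zero_mul]
  have hpair : IsPairOf p ⊤ (eB M A) (D.map φ) (em _ φ c) := by
    refine ⟨⟨le_normalizer_top, h.max.isP.map φ, by rwa [top_inf_eq]⟩, ?_⟩
    rw [hAe, ← em_br' φ h.max.isP (fun t _ => cj_eB B t), ← map_mul, hbr]
  obtain ⟨ψ, hψ⟩ := H8.block_nonempty hA
  have h2 : H8.inflIrr φ hφ ψ ∈ B := by
    rw [infl_mem_iff_mul hφ hA h.ub hψ, ← hAe]
    exact (isBlk_eB hA).idem
  refine ⟨em _ φ c, ⟨hA, ⟨isBlk_eB hA, (isDefectGroup_iff hA).1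
    (isDefectGroup_of_br hφ hA h.blk hψ h2 h.isDefectGroup hpair.br_ne), hpair⟩, ?_⟩, fun hT y hy => ?_⟩
  · rintro _ ⟨x, hx, rfl⟩
    exact map_mem_centralizer_map φ (h.ab hx)
  obtain ⟨x, rfl⟩ := hφ y
  have hx := hN x hy.1.2
  have hxK : cg x K = K := by
    ext z
    rw [mem_cg, hK, Subgroup.mem_comap, Subgroup.mem_comap, map_mul, map_mul, map_inv, ← mem_cg,
      cg_centralizer, mem_normalizer_iff_cg.1 hy.1.2]
  have hxc : cj x c = c := by
    have h3 := hcK.cj x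
    rw [hxK] at h3
    refine h3.eq_of_mul_ne le_rfl hcK fun h0 => hc'.ne_zero ?_
    have := congrArg (em (resField M) φ) h0
    rwa [map_mul, ← cj_em, show cj (φ x) (em _ φ c) = em _ φ c from hy.2, hc'.idem, map_zero] at this
  have he' : IsBlk (𝐂 D) (cj x e) := by
    have := he.cj x
    rwa [cg_centralizer, mem_normalizer_iff_cg.1 hx] at this
  obtain ⟨k, hk1, hk2⟩ := hc.exists_cj_eq le_rfl hCK hKC hKC he he' (by rw [hce]; exact he.ne_zero)
    (by rw [← hxc, ← map_mul, hce]; exact he'.ne_zero)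
  have : k⁻¹ * x ∈ K := hCK (hT (mem_pstab.2 ⟨trivial, mul_mem (inv_mem (hKN hk1)) hx,
    by rw [← cj_cj, ← hk2, cj_inv_cj]⟩))
  have h5 : x ∈ K := by simpa using K.mul_mem hk1 this
  exact h5

end Quot

section Sub

variable {G : Type*} [Group G] [Finite G] {B : Set (IrrCharacter G)} {D : Subgroup G}
  {e : (resField M)[G]}

theorem AbD.abD_u (h : AbD p B D e) {u : G} (hu : u ∈ D) :
    AbD p (bu p D e u) (D.subgroupOf (𝐙 u)) (H8.resSub _ (𝐙 u) e) ∧
      (D.subgroupOf (𝐙 u)).map (𝐙 u).subtype = D ∧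
      em _ (𝐙 u).subtype (H8.resSub _ (𝐙 u) e) = e :=
  abD_sub (h.blk_bu hu) (by rw [h.eI_bu hu]; exact h.maxPair_u hu) h.ab

omit hp hM [Finite G] in
theorem pstab_sub_le {K : Subgroup G} {D' : Subgroup K} {e' : (resField M)[K]}
    (h1 : D'.map K.subtype = D) (h2 : em _ K.subtype e' = e) (hT : pstab K D e ≤ 𝐂 D) :
    pstab ⊤ D' e' ≤ 𝐂 D' := fun x hx => by
  rw [← apply_mem_pstab K.subtype_injective, map_top_subtype, h1, h2] at hx
  rw [← apply_mem_centralizer_map K.subtype_injective, h1]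
  exact hT hx

omit hp hM [Finite G] in
theorem pstab_eq_inf {F : Type*} [Field F] (K D : Subgroup G) (e : F[G]) :
    pstab K D e = K ⊓ pstab ⊤ D e := by
  ext x; simp [mem_pstab]

theorem AbD.card_le (h : AbD p B D e) {u : G} (hu : u ∈ D) :
    Nat.card B ≤ Nat.card D * blockRank p (bu p D e u) := by
  rw [← card_bs, h.card_D, ← h.defect_bu hu]
  exact (h.subs hu).card_le subset_rfl fun χ hχ =>
    (h.subs hu).contr_self_ne_zero_of_major (h.blk_bu hu) h.blk (h.defect_bu hu) (mem_bs.1 hχ)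

end Sub

theorem rank_one_aux (n : ℕ) : ∀ {G : Type u} [Group G] [Finite G] {B : Set (IrrCharacter G)}
    {D : Subgroup G} {e : (resField M)[G]}, AbD p B D e → pstab ⊤ D e ≤ (𝐂 D) → Nat.card D = n →
    blockRank p B = 1 ∧ Nat.card B = Nat.card D := by
  induction n using Nat.strong_induction_on with
  | _ n ih =>
  intro G _ _ B D e h hT hn
  classical
  have := Fintype.ofFinite D
  have h1 : ∀ u ∈ D, u ≠ 1 → blockRank p (bu p D e u) = 1 := fun u hu hu1 => by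
    obtain ⟨h', e1, e2⟩ := h.abD_u hu
    have hT' := pstab_sub_le e1 e2 (by rw [pstab_eq_inf]; exact inf_le_right.trans hT)
    let Z : Subgroup (𝐙 u) := Subgroup.zpowers (H8.selfC u)
    have hZ : ∀ x : (𝐙 u), x ∈ 𝐂 Z := fun x => by
      rw [H8.centralizer_zpowers, Subgroup.mem_centralizer_singleton_iff, H8.selfC_comm]
    have : Z.Normal := ⟨fun z hz g => by rw [← hZ g z hz, mul_inv_cancel_right]; exact hz⟩
    have hZD : Z ≤ D.subgroupOf (𝐙 u) := (Subgroup.zpowers_le).2 hu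
    have hk : (QuotientGroup.mk' Z).ker = Z := QuotientGroup.ker_mk' Z
    obtain ⟨A, hA, hAe, -, hr⟩ := exists_dominated (QuotientGroup.mk'_surjective Z)
      (by rw [hk]; exact h'.max.isP.to_le hZD) (by rw [hk]; exact hZ) h'.blk
    obtain ⟨e', hq, hT''⟩ := h'.exists_quot (QuotientGroup.mk'_surjective Z) (by rw [hk]; exact hZ)
      (by rw [hk]; exact hZD) hA hAe
    rw [hr]
    refine (ih _ ?_ hq (hT'' hT') rfl).1
    have hcD : Nat.card (D.subgroupOf (𝐙 u)) = n := by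
      rw [← hn, ← Subgroup.card_map_of_injective (𝐙 u).subtype_injective, e1]
    rw [← hcD]
    refine lt_of_le_of_ne (Nat.card_le_card_of_surjective _
      (MonoidHom.subgroupMap_surjective _ _)) fun hc => hu1 ?_
    have hinj : Function.Injective ((QuotientGroup.mk' Z).subgroupMap (D.subgroupOf (𝐙 u))) :=
      ((Nat.bijective_iff_surjective_and_card _).2
        ⟨MonoidHom.subgroupMap_surjective _ _, hc.symm⟩).1
    have := hinj (a₁ := ⟨H8.selfC u, hu⟩) (a₂ := 1) (by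
      rw [map_one]
      exact Subtype.ext ((QuotientGroup.eq_one_iff _).2 (Subgroup.mem_zpowers _)))
    exact congrArg (fun z : D.subgroupOf (𝐙 u) => ((z : (𝐙 u)) : G)) this
  have h2 : Nat.card B + 1 = blockRank p B + Nat.card D := by
    have := h.card_eq_sum
    simp only [fun u : D => Subgroup.relIndex_eq_one.2 (show pstab ⊤ D e ≤ 𝐙 (u : G) from
      hT.trans (Subgroup.centralizer_le (Set.singleton_subset_iff.2 u.2))), Nat.cast_one,
      div_one] at this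
    rw [← Finset.add_sum_erase _ _ (Finset.mem_univ (1 : D)), Finset.sum_congr rfl (g := fun _ => 1)
      fun u hu => by rw [h1 u u.2 fun h0 => (Finset.mem_erase.1 hu).1 (Subtype.ext h0), Nat.cast_one],
      Finset.sum_const, Finset.card_erase_of_mem (Finset.mem_univ _), Finset.card_univ,
      ← Nat.card_eq_fintype_card, OneMemClass.coe_one, h.blockRank_bu_one, nsmul_eq_mul, mul_one,
      Nat.cast_sub Nat.card_pos, Nat.cast_one] at this
    exact_mod_cast (show (Nat.card B : ℂ) + 1 = blockRank p B + Nat.card D by rw [this]; ring)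
  have h3 := blockRank_pos (p := p) h.blk
  by_cases hD : D = ⊥
  · have := blockRank_eq_one_of_sup (D := D) (by rw [hD]; simp) h.blk h.isDefectGroup
    omega
  obtain ⟨⟨u, hu⟩, hu1⟩ := Subgroup.ne_bot_iff_exists_ne_one.1 hD
  have h4 := h.card_le hu
  rw [h1 u hu fun h0 => hu1 (Subtype.ext h0), mul_one] at h4
  omega

variable {G : Type*} [Group G] [Finite G]

variable (M p) in
/-- A block all of whose characters agree on `p`-regular elements. -/
structure Uni (b : Set (IrrCharacter G)) : Prop where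
  blk : IsPBlock M b
  eq : ∀ χ ∈ b, ∀ ψ ∈ b, ∀ g, ¬ p ∣ orderOf g → (χ : G → ℂ) g = (ψ : G → ℂ) g

theorem uni_of_card {b : Set (IrrCharacter G)} (hb : IsPBlock M b) (hl : blockRank p b = 1)
    (hc : p ^ blockDefect p b ≤ Nat.card b) : Uni M p b := by
  obtain ⟨n, d, h1, h2, -, h4, -⟩ := exists_of_rank_one hb hl
  have h5 : ∀ χ ∈ b, d χ = 1 := fun χ hχ => by
    by_contra hne
    have : ∑ χ ∈ bs b, 1 < ∑ χ ∈ bs b, d χ ^ 2 :=
      Finset.sum_lt_sum (fun ψ hψ => Nat.one_le_iff_ne_zero.2 (pow_ne_zero _ (h4 ψ (mem_bs.1 hψ))))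
        ⟨χ, mem_bs.2 hχ, Nat.one_lt_pow two_ne_zero (by have := h4 χ hχ; omega)⟩
    rw [h2, ← Finset.card_eq_sum_ones, card_bs] at this
    omega
  exact ⟨hb, fun χ hχ ψ hψ g hg => by rw [h1 χ hχ g hg, h1 ψ hψ g hg, h5 χ hχ, h5 ψ hψ]⟩

theorem AbD.uni {B : Set (IrrCharacter G)} {D : Subgroup G} {e : (resField M)[G]} (h : AbD p B D e)
    (hT : pstab ⊤ D e ≤ 𝐂 D) : Uni M p B :=
  have := rank_one_aux _ h hT rfl
  uni_of_card h.blk this.1 (by rw [this.2, h.card_D])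

theorem AbD.uni_bu {B : Set (IrrCharacter G)} {D : Subgroup G} {e : (resField M)[G]}
    (h : AbD p B D e) {u : G} (hu : u ∈ D) (hT : (𝐙 u) ⊓ pstab ⊤ D e ≤ 𝐂 D) :
    Uni M p (bu p D e u) := by
  obtain ⟨h', e1, e2⟩ := h.abD_u hu
  exact h'.uni (pstab_sub_le e1 e2 (by rwa [pstab_eq_inf]))

namespace Uni

variable {b : Set (IrrCharacter G)} (h : Uni M p b)
include h

omit hp hM in
theorem ub : IsBlockUnion M b := H8.isBlockUnion_of_block h.blk

theorem rank : blockRank p b = 1 := by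
  obtain ⟨ξ, hξ⟩ := H8.block_nonempty h.blk
  exact blockRank_eq_one_of h.blk fun χ hχ => ⟨1, fun g hg => by rw [h.eq χ hχ ξ hξ g hg, one_mul]⟩

omit hM in
theorem deg_eq {χ ψ : IrrCharacter G} (hχ : χ ∈ b) (hψ : ψ ∈ b) :
    (χ : G → ℂ) 1 = (ψ : G → ℂ) 1 := h.eq χ hχ ψ hψ 1 not_dvd_orderOf_one

omit hM in
theorem height {χ : IrrCharacter G} (hχ : χ ∈ b) : blockHeight p b (χ : G → ℂ) = 0 := by
  obtain ⟨ψ, hψ, h0⟩ := H8.exists_height_zero (p := p) h.blk
  rw [← h0, blockHeight, blockHeight, charDegree, charDegree, h.deg_eq hχ hψ]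

omit hMm hp hM in
theorem sumB_reg {χ : IrrCharacter G} (hχ : χ ∈ b) {g : G} (hg : ¬ p ∣ orderOf g) :
    sumB b g = Nat.card b * (χ : G → ℂ) g := by
  rw [sumB, Finset.sum_apply, Finset.sum_congr rfl fun ψ hψ => h.eq ψ (mem_bs.1 hψ) χ hχ g hg,
    Finset.sum_const, card_bs, nsmul_eq_mul]

theorem sumB_sing {g : G} (hg : p ∣ orderOf g) : sumB b g = 0 := by
  classical
  have := H8.finite_irr (G := G)
  have := Fintype.ofFinite (IrrCharacter G)
  obtain ⟨ξ, hξ⟩ := H8.block_nonempty h.blk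
  have h1 := H8.weak_orthogonality hM.out h.ub (not_dvd_orderOf_one (G := G)) hg
  rw [← bs_eq_filter, Finset.sum_congr rfl fun ψ hψ => by rw [h.deg_eq (mem_bs.1 hψ) hξ],
    ← Finset.sum_mul] at h1
  rw [sumB, Finset.sum_apply]
  exact (mul_eq_zero.1 h1).resolve_right ((map_ne_zero _).2 (H8.irr_one_ne_zero ξ))

theorem rip_sumB (θ : G → ℂ) : rip p θ (sumB b) = ip θ (sumB b) := by
  rw [rip_eq_right, reg_eq_self_iff.2 fun g hg => h.sumB_sing hg]

theorem rip_irr_sumB {χ : IrrCharacter G} (hχ : χ ∈ b) : rip p (χ : G → ℂ) (sumB b) = 1 := by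
  classical
  rw [h.rip_sumB, sumB, H7.ip_sum_right, Finset.sum_eq_single_of_mem χ (mem_bs.2 hχ)
    fun ψ _ hne => by rw [ip_irr_irr, if_neg hne.symm], H7.ip_irr_self χ.2]

theorem card_mul_rip {χ ψ : IrrCharacter G} (hχ : χ ∈ b) (hψ : ψ ∈ b) :
    Nat.card b * rip p (χ : G → ℂ) ψ = 1 := by
  rw [← h.rip_irr_sumB hχ, rip_congr (fun _ _ => rfl) (φ' := (Nat.card b : ℂ) • (ψ : G → ℂ))
    fun g hg => h.sumB_reg hψ hg, rip_smul_right, map_natCast]

theorem card : Nat.card b = p ^ blockDefect p b := by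
  obtain ⟨ξ, hξ⟩ := H8.block_nonempty h.blk
  have h1 := mZ_spec (p := p) hξ (H6.isGen_of_irr ξ.2)
  have h2 : (mZ p b ξ ξ : ℂ) * Nat.card b = (p : ℂ) ^ blockDefect p b := by
    rw [h1, mul_assoc, mul_comm (rip _ _ _), h.card_mul_rip hξ hξ, mul_one]
  have h3 : mZ p b ξ ξ * Nat.card b = (p : ℤ) ^ blockDefect p b := by exact_mod_cast h2
  have h4 : ¬ (p : ℤ) ∣ mZ p b ξ ξ := by
    have := (pow_succ_dvd_mZ_iff h.blk hξ hξ).not.2 (not_not.2 (h.height hξ))
    rwa [h.height hξ, zero_add, pow_one] at this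
  have h5 : mZ p b ξ ξ = 1 := by
    obtain ⟨m, hm⟩ := Int.eq_ofNat_of_zero_le (mZ_self_nonneg (p := p) (B := b) (ξ : G → ℂ))
    rw [hm] at h3 h4 ⊢
    have h6 : m ∣ p ^ blockDefect p b := ⟨Nat.card b, by exact_mod_cast h3.symm⟩
    obtain ⟨k, -, rfl⟩ := (Nat.dvd_prime_pow hp.out).1 h6
    rcases k with _ | k
    · simp
    · exact absurd (by push_cast; exact dvd_pow_self _ k.succ_ne_zero) h4
  rw [h5, one_mul] at h3
  exact_mod_cast h3

theorem apply_eq {θ : G → ℂ} (hθ : blockPart b θ = θ) {ξ : IrrCharacter G} (hξ : ξ ∈ b) {g : G}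
    (hg : ¬ p ∣ orderOf g) : θ g = rip p θ (sumB b) * (ξ : G → ℂ) g := by
  rw [← hθ, blockPart_eq_bs, rip_sum_left, Finset.sum_apply, Finset.sum_mul]
  refine Finset.sum_congr rfl fun χ hχ => ?_
  rw [rip_smul_left, h.rip_irr_sumB (mem_bs.1 hχ), mul_one, Pi.smul_apply, smul_eq_mul,
    h.eq χ (mem_bs.1 hχ) ξ hξ g hg]

theorem rip_eq {θ φ : G → ℂ} (hθ : blockPart b θ = θ) (hφ : blockPart b φ = φ) :
    Nat.card b * rip p θ φ = rip p θ (sumB b) * conj (rip p φ (sumB b)) := by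
  obtain ⟨ξ, hξ⟩ := H8.block_nonempty h.blk
  rw [rip_congr (θ' := rip p θ (sumB b) • (ξ : G → ℂ)) (φ' := rip p φ (sumB b) • (ξ : G → ℂ))
    (fun g hg => h.apply_eq hθ hξ hg) fun g hg => h.apply_eq hφ hξ hg, rip_smul_left,
    rip_smul_right]
  linear_combination (rip p θ (sumB b) * conj (rip p φ (sumB b))) * h.card_mul_rip hξ hξ

end Uni

theorem Uni.image {H : Type*} [Group H] [Finite H] (ψ : H ≃* G) {b : Set (IrrCharacter H)}
    (h : Uni M p b) : Uni M p (irrEquiv ψ '' b) := by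
  refine ⟨isPBlock_image ψ h.blk, ?_⟩
  rintro _ ⟨χ, hχ, rfl⟩ _ ⟨ξ, hξ, rfl⟩ g hg
  exact h.eq χ hχ ξ hξ _ (by rwa [MulEquiv.orderOf_eq])

section DD

variable {x : G} {H : Subgroup G} {b : Set (IrrCharacter H)}

theorem Uni.sec_eq (h : Uni M p b) (θ : G → ℂ) {ξ : IrrCharacter H} (hξ : ξ ∈ b) {y : H}
    (hy : ¬ p ∣ orderOf y) : sec x b θ y = dd p x b θ * (ξ : H → ℂ) y :=
  h.apply_eq (blockPart_sec x b θ) hξ hy

theorem Uni.contr_eq (h : Uni M p b) (θ φ : G → ℂ) :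
    Nat.card b * contr p x b θ φ = dd p x b θ * conj (dd p x b φ) :=
  h.rip_eq (blockPart_sec x b θ) (blockPart_sec x b φ)

omit hMm hp hM in
theorem dd_sum {ι : Type*} (s : Finset ι) (c : ι → ℂ) (θ : ι → G → ℂ) :
    dd p x b (∑ i ∈ s, c i • θ i) = ∑ i ∈ s, c i * dd p x b (θ i) := by
  simp only [dd, sec_sum, rip_sum_left, rip_smul_left]

theorem Uni.dd_eq_sum (h : Uni M p b) (u : H) (hu : H ≤ 𝐙 (u : G)) {θ : G → ℂ}
    (hθ : IsClassFunction G θ) : dd p (u : G) b θ =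
      ∑ ξ ∈ bs b, ip (fun c : H => θ c) ξ * centralChar (ξ : H → ℂ) u := by
  rw [dd, sec_eq_sum u hu b hθ, rip_sum_left]
  exact Finset.sum_congr rfl fun ξ hξ => by rw [rip_smul_left, h.rip_irr_sumB (mem_bs.1 hξ), mul_one]

end DD

end Cfsg.Agent.H9
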