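import Mathlib
import Cfsg.Agent.H9.NilAb
import Cfsg.Agent.H8.Abel

/-!
Blocks with abelian defect groups on which the inertial quotient acts freely: the columns of
generalized decomposition numbers.
-/

set_option autoImplicit false
set_option linter.unusedSectionVars false

namespace Cfsg.Agent.H9

open MonoidAlgebra Cfsg
open Cfsg.Agent.H8 (locRing resField res rd eB fB fC up red Zen IsBlockUnion indSet
  secLift pPart pReg)
open Cfsg.Agent.H7 (ip)
open scoped ComplexConjugate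

local notation "𝐂" Q => Subgroup.centralizer ((Q : Subgroup _) : Set _)
local notation "𝐍" Q => Subgroup.normalizer ((Q : Subgroup _) : Set _)
local notation "𝐙" x => Subgroup.centralizer (Singleton.singleton x : Set _)

section Group

variable {G : Type*} [Group G] [Finite G] {p : ℕ} [hp : Fact p.Prime]

omit hp in
theorem exists_zpowers_eq {D : Subgroup G} (hc : IsCyclic D) : ∃ x, Subgroup.zpowers x = D :=
  (Subgroup.isCyclic_iff_exists_zpowers_eq_top D).1 hc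

omit hp in
theorem exists_pow_eq_of_mem {x u : G} (h : u ∈ Subgroup.zpowers x) : ∃ j : ℕ, x ^ j = u :=
  ((isOfFinOrder_of_finite x).mem_powers_iff_mem_zpowers).2 h

omit hp in
theorem le_centralizer_of_cyc {D : Subgroup G} (hc : IsCyclic D) : D ≤ 𝐂 D := by
  obtain ⟨x, rfl⟩ := exists_zpowers_eq hc
  rintro _ ⟨a, rfl⟩ _ ⟨b, rfl⟩
  exact (Commute.zpow_zpow_self x b a).eq

omit hp in
theorem normalizer_le_of_cyc {D Q : Subgroup G} (hc : IsCyclic D) (hQ : Q ≤ D) :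
    (𝐍 D) ≤ Subgroup.normalizer (Q : Set G) := by
  obtain ⟨x, rfl⟩ := exists_zpowers_eq hc
  intro t ht
  rw [mem_normalizer_iff_cg] at ht ⊢
  refine eq_of_le_of_card_le (cg_le_of_conj_mem fun y hy => ?_) (card_cg t Q).ge
  obtain ⟨a, ha⟩ : t * x * t⁻¹ ∈ Subgroup.zpowers x := ht ▸ conj_mem_cg.2 (Subgroup.mem_zpowers x)
  obtain ⟨b, rfl⟩ := hQ hy
  have : t * x ^ b * t⁻¹ = (x ^ b) ^ a := by
    rw [← conj_zpow, ← ha, ← zpow_mul, ← zpow_mul, mul_comm]
  exact this ▸ zpow_mem hy a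

omit hp in
theorem mem_of_pow_of_coprime {C : Subgroup G} {t : G} {m n : ℕ} (h : m.Coprime n) (hm : t ^ m ∈ C)
    (hn : t ^ n ∈ C) : t ∈ C := by
  have := Nat.gcd_eq_gcd_ab m n
  rw [h, Nat.cast_one] at this
  rw [← zpow_one t, this, zpow_add, zpow_mul, zpow_mul, zpow_natCast, zpow_natCast]
  exact mul_mem (zpow_mem hm _) (zpow_mem hn _)

/-- A `p'`-automorphism of a cyclic `p`-group has no fixed points. -/
theorem mem_centralizer_of_cyc {D : Subgroup G} (hD : IsPGroup p D) (hc : IsCyclic D) {t u : G}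
    (ht : t ∈ 𝐍 D) {n : ℕ} (hn : ¬ p ∣ n) (htn : t ^ n ∈ 𝐂 D) (hu : u ∈ D) (hu1 : u ≠ 1)
    (h : t * u = u * t) : t ∈ 𝐂 D := by
  obtain ⟨x, rfl⟩ := exists_zpowers_eq hc
  obtain ⟨d, hd⟩ := H8.pElt_of_mem hD (Subgroup.mem_zpowers x)
  obtain ⟨a, ha⟩ := exists_pow_eq_of_mem (mem_normalizer_iff_cg.1 ht ▸
    (conj_mem_cg (x := t)).2 (Subgroup.mem_zpowers x))
  obtain ⟨j, rfl⟩ := exists_pow_eq_of_mem hu
  have h1 : ∀ k : ℕ, t ^ k * x * (t ^ k)⁻¹ = x ^ a ^ k := fun k => by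
    induction k with
    | zero => simp
    | succ k ih =>
      calc t ^ (k + 1) * x * (t ^ (k + 1))⁻¹ = t * (t ^ k * x * (t ^ k)⁻¹) * t⁻¹ := by
            rw [pow_succ']; group
        _ = _ := by rw [ih, ← conj_pow, ← ha, ← pow_mul, ← pow_succ']
  have h2 : (p : ℤ) ∣ (a : ℤ) - 1 := by
    have h3 : x ^ (a * j) = x ^ j := by rw [pow_mul, ha, conj_pow, h, mul_inv_cancel_right]
    have h4 : (p : ℤ) ^ d ∣ ((a : ℤ) - 1) * j := by
      have := (Nat.modEq_iff_dvd.1 (pow_eq_pow_iff_modEq.1 h3.symm))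
      rw [hd] at this
      push_cast at this
      rwa [sub_mul, one_mul]
    by_contra h5
    have h6 : IsCoprime ((p : ℤ) ^ d) ((a : ℤ) - 1) :=
      (((Nat.prime_iff_prime_int.1 hp.out).coprime_iff_not_dvd).2 h5).pow_left
    refine hu1 (orderOf_dvd_iff_pow_eq_one.1 ?_)
    rw [hd]
    exact_mod_cast h6.dvd_of_dvd_mul_left h4
  refine mem_of_pow_of_coprime (m := p ^ d) (((Nat.Prime.coprime_iff_not_dvd hp.out).2 hn).pow_left d)
    ?_ htn
  rw [H8.centralizer_zpowers, Subgroup.mem_centralizer_singleton_iff, ← mul_inv_eq_iff_eq_mul, h1]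
  conv_rhs => rw [← pow_one x]
  rw [pow_eq_pow_iff_modEq, hd]
  refine (Nat.modEq_iff_dvd.2 ?_).symm
  have := dvd_sub_pow_of_dvd_sub h2 d
  push_cast
  rw [one_pow] at this
  exact (pow_dvd_pow _ (Nat.le_succ d)).trans this

omit hp in
/-- An automorphism of odd order of a four-group has no fixed points. -/
theorem mem_centralizer_of_klein {D : Subgroup G} (hD : IsKleinFour D) {t u : G}
    (ht : t ∈ 𝐍 D) {n : ℕ} (hn : ¬ 2 ∣ n) (htn : t ^ n ∈ 𝐂 D) (hu : u ∈ D) (hu1 : u ≠ 1)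
    (h : t * u = u * t) : t ∈ 𝐂 D := by
  refine mem_of_pow_of_coprime (m := 2) ((Nat.Prime.coprime_iff_not_dvd Nat.prime_two).2 hn) ?_ htn
  let α : MulAut D := D.normalizerMonoidHom ⟨t, ht⟩
  have hα : ∀ y : D, (α y : G) = t * y * t⁻¹ := fun y => rfl
  have h1 : α ⟨u, hu⟩ = ⟨u, hu⟩ := Subtype.ext (by rw [hα, h, mul_inv_cancel_right])
  have h2 : ∀ v : D, α (α v) = v := fun v => by
    by_cases hv1 : v = 1
    · simp [hv1]
    by_cases hvu : v = ⟨u, hu⟩
    · rw [hvu, h1, h1]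
    by_cases hv : α v = v
    · rw [hv, hv]
    have h3 : α v = ⟨u, hu⟩ * v := IsKleinFour.eq_mul_of_ne_all (fun h0 => hu1 (congrArg Subtype.val h0))
      hv1 (Ne.symm hvu) (fun h0 => hv1 (α.injective (h0.trans (map_one α).symm)))
      (fun h0 => hvu (α.injective (h0.trans h1.symm))) hv
    rw [h3, map_mul, h1, h3, ← mul_assoc, IsKleinFour.mul_self, one_mul]
  intro y hy
  have := congrArg Subtype.val (h2 ⟨y, hy⟩)
  rw [hα, hα] at this
  conv_lhs => rw [← show _ = y from this]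
  rw [pow_two]; group

omit [Finite G] hp in
theorem relIndex_sup_of_le {A C : Subgroup G} (h : A ≤ 𝐍 C) : C.relIndex (A ⊔ C) = C.relIndex A := by
  have := Subgroup.normal_subgroupOf_sup_of_le_normalizer h
  rw [← Subgroup.relIndex_subgroupOf (H := C) (K := A ⊔ C) (L := A ⊔ C) le_rfl,
    ← Subgroup.relIndex_subgroupOf (H := C) (K := A) (L := A ⊔ C) le_sup_left,
    ← Subgroup.relIndex_sup_right (A.subgroupOf (A ⊔ C)) (C.subgroupOf (A ⊔ C)),
    ← Subgroup.subgroupOf_sup le_sup_left le_sup_right]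

/-- The automorphisms of `Q` induced by `T`. -/
def autOf (Q T : Subgroup G) : Subgroup (MulAut Q) :=
  (T.subgroupOf (𝐍 Q)).map Q.normalizerMonoidHom

omit [Finite G] hp in
theorem mem_autOf {Q T : Subgroup G} {α : MulAut Q} :
    α ∈ autOf Q T ↔ ∃ t ∈ T, t ∈ (𝐍 Q) ∧ ∀ y : Q, (α y : G) = t * y * t⁻¹ :=
  ⟨fun ⟨t, ht, h⟩ => ⟨t, ht, t.2, fun _ => h ▸ rfl⟩,
    fun ⟨t, ht, hn, h⟩ => ⟨⟨t, hn⟩, ht, MulEquiv.ext fun y => Subtype.ext (h y).symm⟩⟩

omit [Finite G] hp in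
theorem card_autOf {Q T : Subgroup G} (h : T ≤ 𝐍 Q) : Nat.card (autOf Q T) = (𝐂 Q).relIndex T := by
  rw [autOf, ← Subgroup.relIndex_ker, Subgroup.normalizerMonoidHom_ker, Subgroup.relIndex_subgroupOf h]

omit hp in
theorem relIndex_dvd_card_sub_one {Q T : Subgroup G} (hab : Q ≤ 𝐂 Q) (h : T ≤ 𝐍 Q)
    (hf : ∀ u ∈ Q, u ≠ 1 → (𝐙 u) ⊓ T ≤ 𝐂 Q) : (𝐂 Q).relIndex T ∣ Nat.card Q - 1 := by
  have := H8.card_orb (A := autOf Q T) (fun a b => Subtype.ext (hab b.2 a a.2)) fun α hα y hy h1 => by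
    obtain ⟨t, ht, -, h2⟩ := mem_autOf.1 hα
    have h3 : t ∈ 𝐂 Q := hf y y.2 (fun h0 => hy (Subtype.ext h0)) ⟨Subgroup.mem_centralizer_singleton_iff.2
      (by rw [← mul_inv_eq_iff_eq_mul, ← h2, h1]), ht⟩
    exact MulEquiv.ext fun z => Subtype.ext (by rw [h2, ← h3 z z.2, mul_inv_cancel_right]; rfl)
  rw [← this, Nat.add_sub_cancel, card_autOf h]
  exact Dvd.intro_left _ rfl

omit hp in
theorem zpowers_pow_of_coprime {x : G} {t : ℕ} (ht : t.Coprime (orderOf x)) :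
    Subgroup.zpowers (x ^ t) = Subgroup.zpowers x :=
  eq_of_le_of_card_le (Subgroup.zpowers_le.2 (pow_mem (Subgroup.mem_zpowers x) t)) (by
    rw [Nat.card_zpowers, Nat.card_zpowers, ht.symm.orderOf_pow])

end Group

variable {M : Ideal AlgInt} [hMm : M.IsMaximal] {p : ℕ} [hp : Fact p.Prime] [hM : PMod M p]
variable {G : Type*} [Group G] [Finite G]

variable (p) in
/-- The generalized decomposition number at `u`. -/
noncomputable def dA (D : Subgroup G) (e : (resField M)[G]) (u : G) (θ : G → ℂ) : ℂ :=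
  dd p u (bu p D e u) θ

variable (p) in
/-- The column of generalized decomposition numbers at `u`. -/
noncomputable def col (D : Subgroup G) (e : (resField M)[G]) (u : G) : G → ℂ :=
  letI := Fintype.ofFinite G
  secLift p u (sumB (bu p D e u))

theorem dd_eq_rip {x : G} {H : Subgroup G} {b : Set (IrrCharacter H)} (hb : IsBlockUnion M b)
    (θ : G → ℂ) : dd p x b θ = rip p (fun c : H => θ (x * c)) (sumB b) := by
  rw [dd, sec, rip_blockPart_comm hb, blockPart_sumB]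

omit hp hM in
theorem dd_bOf_congr {x : G} {H H' : Subgroup G} (h : H = H') (f : (resField M)[G]) (θ : G → ℂ) :
    dd p x (bOf M H f) θ = dd p x (bOf M H' f) θ := by subst h; rfl

omit hp hM in
theorem cf_col (D : Subgroup G) (e : (resField M)[G]) (u : G) : IsClassFunction G (col p D e u) :=
  letI := Fintype.ofFinite G
  H8.isClassFunction_secLift

theorem col_eq_zero {D : Subgroup G} {e : (resField M)[G]} {u g : G} (h : ¬ IsConj (pPart p g) u) :
    col p D e u g = 0 :=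
  letI := Fintype.ofFinite G
  H8.secLift_eq_zero h

theorem col_reg {D : Subgroup G} {e : (resField M)[G]} {u g : G} (hu : u ≠ 1)
    (hg : ¬ p ∣ orderOf g) : col p D e u g = 0 :=
  col_eq_zero fun h => hu (by rwa [H8.pPart_eq_one_iff.2 hg, isConj_one_right] at h)

omit hp hM in
theorem dA_sum {D : Subgroup G} {e : (resField M)[G]} {u : G} {ι : Type*} (s : Finset ι) (c : ι → ℂ)
    (θ : ι → G → ℂ) : dA p D e u (∑ i ∈ s, c i • θ i) = ∑ i ∈ s, c i * dA p D e u (θ i) :=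
  dd_sum s c θ

namespace AbD

variable {B : Set (IrrCharacter G)} {D : Subgroup G} {e : (resField M)[G]} (h : AbD p B D e)
include h

omit hp hM in
theorem C_le : (𝐂 D) ≤ pstab ⊤ D e := by simpa using h.pair.centralizer_le_pstab

omit h hp hM in
theorem T_le : pstab ⊤ D e ≤ 𝐍 D := pstab_le.trans inf_le_right

theorem not_dvd : ¬ p ∣ (𝐂 D).relIndex (pstab ⊤ D e) := by
  have := h.max.not_dvd_relIndex.1
  rwa [top_inf_eq, sup_eq_right.2 h.ab] at this

omit h hp hM in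
theorem pow_mem {t : G} (ht : t ∈ pstab ⊤ D e) : t ^ (𝐂 D).relIndex (pstab ⊤ D e) ∈ 𝐂 D :=
  pow_mem_of_relIndex (T_le.trans (normalizer_le_normalizer_centralizer D)) ht

theorem ip_col {u : G} (hu : u ∈ D) {θ : G → ℂ} (hθ : IsClassFunction G θ) :
    ip θ (col p D e u) = dA p D e u θ := by
  have := Fintype.ofFinite G
  rw [dA, dd_eq_rip (h.ub_bu hu), ← ip_secLift_right (h.pelt hu) _ hθ, col]
  congr!

theorem blockPart_col {u : G} (hu : u ∈ D) : blockPart B (col p D e u) = col p D e u :=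
  letI := Fintype.ofFinite G
  blockPart_secLift_of_subset (h.pelt hu) h.ub (h.subs hu).sub (blockPart_sumB _)

theorem col_mul {u : G} (hu : u ∈ D) {y : (𝐙 u)} (hy : ¬ p ∣ orderOf y) :
    col p D e u (u * y) = sumB (bu p D e u) y :=
  letI := Fintype.ofFinite G
  H8.secLift_mul (cf_sumB _) (h.pelt hu) hy

theorem dA_conj {u t : G} (hu : u ∈ D) (ht : t ∈ pstab ⊤ D e) {θ : G → ℂ}
    (hθ : IsClassFunction G θ) : dA p D e (t * u * t⁻¹) θ = dA p D e u θ := by
  rw [dA, dA, bu, bu, ← h.cj_loc_u hu ht, dd_cj (h.isBlk_u hu) hθ]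

theorem dA_pow {u : G} (hu : u ∈ D) {s : ℕ} (hs : ¬ p ∣ s) (θ : G → ℂ) :
    dA p D e (u ^ s) θ = dd p (u ^ s) (bu p D e u) θ := by
  obtain ⟨k, hk⟩ := h.pelt hu
  have hc : s.Coprime (orderOf u) :=
    hk ▸ (((Nat.Prime.coprime_iff_not_dvd hp.out).2 hs).symm.pow_right k)
  rw [dA, bu, bu, zpowers_pow_of_coprime hc, dd_bOf_congr (centralizer_pow_of_coprime hc)]

theorem dA_of_notMem {u : G} (hu : u ∈ D) {χ : IrrCharacter G} (hχ : χ ∉ B) : dA p D e u χ = 0 := by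
  rw [dA, dd, rip_congr (θ' := 0) (fun y hy => (h.subs hu).sec_eq_zero hχ hy) fun _ _ => rfl,
    rip_zero_left]

theorem col_eq_sum {u : G} (hu : u ∈ D) :
    col p D e u = ∑ χ ∈ bs B, conj (dA p D e u χ) • (χ : G → ℂ) := by
  rw [← h.blockPart_col hu, blockPart_eq_bs]
  exact Finset.sum_congr rfl fun χ _ => by rw [← h.ip_col hu (H7.irr_cf χ.2), H7.ip_conj_symm]

theorem col_conj {u t : G} (hu : u ∈ D) (ht : t ∈ pstab ⊤ D e) :
    col p D e (t * u * t⁻¹) = col p D e u := by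
  rw [h.col_eq_sum hu, h.col_eq_sum (conj_mem hu ht)]
  exact Finset.sum_congr rfl fun χ _ => by rw [h.dA_conj hu ht (H7.irr_cf χ.2)]

theorem dA_col_eq_zero {u v : G} (hu : u ∈ D) (hv : v ∈ D)
    (huv : ¬ ∃ t ∈ pstab ⊤ D e, t * u * t⁻¹ = v) : dA p D e v (col p D e u) = 0 := by
  classical
  by_cases hc : IsConj u v
  · obtain ⟨g, rfl⟩ := isConj_iff.1 hc
    have hf : IsBlk (𝐙 u) (cj g⁻¹ (loc p D e (Subgroup.zpowers (g * u * g⁻¹)))) := by
      have := (h.isBlk_u hv).cj g⁻¹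
      rwa [cg_centralizer_singleton, show g⁻¹ * (g * u * g⁻¹) * g⁻¹⁻¹ = u by group] at this
    have h1 := dd_cj (p := p) (g := g) hf (cf_col (p := p) D e u)
    rw [cj_cj_inv] at h1
    rw [dA, bu, h1, dd_eq_rip (H8.isBlockUnion_of_block hf.bOf_spec.1),
      rip_congr (fun y hy => h.col_mul hu hy) fun _ _ => rfl, sumB, sumB, rip_sum_left]
    refine Finset.sum_eq_zero fun ξ hξ => ?_
    rw [rip_sum_right]
    refine Finset.sum_eq_zero fun η hη => rip_irr_eq_zero (h.ub_bu hu) (mem_bs.1 hξ) fun hη' =>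
      huv (h.max.fusion_ab h.ab hu hv rfl ?_)
    have h2 := H8.block_eq_of_mem (h.blk_bu hu) hf.bOf_spec.1 hη' (mem_bs.1 hη)
    rw [← h.eI_bu hu, h2, hf.bOf_spec.2, cj_cj_inv]
  · rw [dA, dd_eq_rip (h.ub_bu hv), rip_congr (θ' := 0) (fun y hy => col_eq_zero ?_) fun _ _ => rfl,
      rip_zero_left]
    rw [H8.pPart_mul (h.pelt hv) (by simpa using hy)
      (H8.mem_centralizer_singleton_iff_commute.1 y.2)]
    exact fun h0 => hc h0.symm

theorem card_bu {u : G} (hu : u ∈ D) (hU : Uni M p (bu p D e u)) :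
    Nat.card (bu p D e u) = Nat.card D := by rw [hU.card, h.defect_bu hu, h.card_D]

theorem dA_col_self {u : G} (hu : u ∈ D) (hU : Uni M p (bu p D e u)) :
    dA p D e u (col p D e u) = Nat.card D := by
  rw [dA, dd_eq_rip (h.ub_bu hu), rip_congr (fun y hy => h.col_mul hu hy) fun _ _ => rfl]
  conv_lhs => enter [2]; rw [sumB]
  rw [rip_sum_left, Finset.sum_congr rfl fun ξ hξ => hU.rip_irr_sumB (mem_bs.1 hξ), Finset.sum_const,
    card_bs, h.card_bu hu hU, nsmul_eq_mul, mul_one]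

theorem dA_ne_zero {u : G} (hu : u ∈ D) (hU : Uni M p (bu p D e u)) {χ : IrrCharacter G}
    (hχ : χ ∈ B) : dA p D e u χ ≠ 0 := fun h0 => by
  have h1 := hU.contr_eq (x := u) (χ : G → ℂ) χ
  rw [show dd p u (bu p D e u) χ = 0 from h0, zero_mul, mul_eq_zero] at h1
  refine h1.elim (fun h2 => ?_) ((h.subs hu).contr_self_ne_zero_of_major (h.blk_bu hu) h.blk
    (h.defect_bu hu) hχ)
  rw [h.card_bu hu hU] at h2
  exact Nat.card_pos.ne' (Nat.cast_eq_zero.1 h2)

theorem sum_dA_mul {u v : G} (hu : u ∈ D) (hv : v ∈ D) :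
    ∑ χ ∈ bs B, conj (dA p D e u χ) * dA p D e v χ = dA p D e v (col p D e u) := by
  rw [h.col_eq_sum hu, dA_sum]

theorem dA_eq_sum {u : G} (hu : u ∈ D) (hU : Uni M p (bu p D e u)) {s : ℕ} (hs : ¬ p ∣ s) {θ : G → ℂ}
    (hθ : IsClassFunction G θ) : dA p D e (u ^ s) θ = ∑ ξ ∈ bs (bu p D e u),
      ip (fun c : (𝐙 u) => θ c) ξ * centralChar (ξ : (𝐙 u) → ℂ) (H8.selfC u) ^ s := by
  rw [h.dA_pow hu hs]
  have := hU.dd_eq_sum (H8.selfC u ^ s) (fun c hc => Subgroup.mem_centralizer_singleton_iff.2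
    ((H8.mem_centralizer_singleton_iff_commute.1 hc).pow_left s).eq.symm) hθ
  simp only [centralChar_pow _ (H8.selfC_comm u)] at this
  exact this

theorem dA_int {u : G} (hu : u ∈ D) (hU : Uni M p (bu p D e u)) (h2 : u * u = 1) {θ : G → ℂ}
    (hθ : IsGeneralizedCharacter G θ) : ∃ n : ℤ, dA p D e u θ = n := by
  have h1 := h.dA_eq_sum hu hU (s := 1) hp.out.not_dvd_one (H6.isClassFunction_of_isGen hθ)
  obtain ⟨n, hn⟩ := exists_ip_int (H6.isGen_comp (𝐙 u).subtype hθ)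
  have h3 : ∀ ξ : IrrCharacter (𝐙 u), ∃ m : ℤ, centralChar (ξ : (𝐙 u) → ℂ) (H8.selfC u) = m :=
    fun ξ => by
      have := centralChar_pow_eq_one ξ (H8.selfC_comm u) (n := 2) (Subtype.ext (by simpa [pow_two]))
      rcases mul_self_eq_one_iff.1 (pow_two (M := ℂ) _ ▸ this) with h | h
      exacts [⟨1, by rw [h, Int.cast_one]⟩, ⟨-1, by rw [h]; simp⟩]
  choose m hm using h3
  rw [pow_one] at h1
  exact ⟨∑ ξ ∈ bs (bu p D e u), n ξ * m ξ, by
    rw [h1]; push_cast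
    exact Finset.sum_congr rfl fun ξ _ => by rw [pow_one, hm, ← hn]; rfl⟩

theorem contr_eq {u : G} (hu : u ∈ D) (hU : Uni M p (bu p D e u)) (θ φ : G → ℂ) :
    contr p u (bu p D e u) θ φ = dA p D e u θ * conj (dA p D e u φ) / Nat.card D := by
  rw [eq_div_iff (Nat.cast_ne_zero.2 Nat.card_pos.ne'), mul_comm, ← h.card_bu hu hU, hU.contr_eq]
  rfl

theorem dA_reg {u : G} (hu : u ∈ D) (hu1 : u ≠ 1) (θ : G → ℂ) :
    dA p D e u (pRegularPart p θ) = 0 := by
  rw [dA, dd_eq_rip (h.ub_bu hu), rip_congr (θ' := 0) (fun y hy => reg_of_dvd ?_) fun _ _ => rfl,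
    rip_zero_left]
  by_contra h0
  exact hu1 ((H8.pPart_mul (h.pelt hu) (by simpa using hy)
    (H8.mem_centralizer_singleton_iff_commute.1 y.2)).symm.trans (H8.pPart_eq_one_iff.2 h0))

end AbD

variable (p) in
/-- An abelian defect group on which the inertial quotient acts freely. -/
structure FrD (B : Set (IrrCharacter G)) (D : Subgroup G) (e : (resField M)[G]) : Prop
    extends AbD p B D e where
  free : ∀ u ∈ D, u ≠ 1 → (𝐙 u) ⊓ pstab ⊤ D e ≤ 𝐂 D

theorem AbD.frD_of_cyc {B : Set (IrrCharacter G)} {D : Subgroup G} {e : (resField M)[G]}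
    (h : AbD p B D e) (hc : IsCyclic D) : FrD p B D e :=
  ⟨h, fun _ hu hu1 _ ht => mem_centralizer_of_cyc h.max.isP hc (AbD.T_le ht.2) h.not_dvd
    (AbD.pow_mem ht.2) hu hu1 (Subgroup.mem_centralizer_singleton_iff.1 ht.1)⟩

omit hp hM in
theorem AbD.frD_of_klein [PMod M 2] {B : Set (IrrCharacter G)} {D : Subgroup G}
    {e : (resField M)[G]} (h : AbD 2 B D e) (hc : IsKleinFour D) : FrD 2 B D e :=
  ⟨h, fun _ hu hu1 _ ht => mem_centralizer_of_klein hc (AbD.T_le ht.2) h.not_dvd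
    (AbD.pow_mem ht.2) hu hu1 (Subgroup.mem_centralizer_singleton_iff.1 ht.1)⟩

omit hp hM in
theorem AbD.frD_of_le {B : Set (IrrCharacter G)} {D : Subgroup G} {e : (resField M)[G]}
    (h : AbD p B D e) (hT : pstab ⊤ D e ≤ 𝐂 D) : FrD p B D e :=
  ⟨h, fun _ _ _ => inf_le_right.trans hT⟩

theorem abD_of_induced {B : Set (IrrCharacter G)} {P : Subgroup G} {c : Set (IrrCharacter (𝐂 P))}
    (hP : IsDefectGroup p M B P) (hc : IsInducedBlock M (𝐂 P) c B) (hab : P ≤ 𝐂 P) :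
    AbD p B P (eI M c) := ⟨hc.2.1, maxPair_of_induced hP hc, hab⟩

/-- The local block at a subgroup of an abelian defect group. -/
theorem AbD.abD_C {B : Set (IrrCharacter G)} {D Q : Subgroup G} {e : (resField M)[G]}
    (h : AbD p B D e) (hQ : Q ≤ D) {f : Set (IrrCharacter (𝐂 Q))} (hf : IsPBlock M f)
    (hfe : eI M f = loc p D e Q) : AbD p f (D.subgroupOf (𝐂 Q)) (H8.resSub _ (𝐂 Q) e) ∧
      (D.subgroupOf (𝐂 Q)).map (𝐂 Q).subtype = D ∧
      em _ (𝐂 Q).subtype (H8.resSub _ (𝐂 Q) e) = e :=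
  abD_sub hf (by rw [hfe]; exact h.max.maxPair_loc h.ab hQ) h.ab

/-- The inertial index. -/
noncomputable def iidx (D : Subgroup G) (e : (resField M)[G]) : ℕ := (𝐂 D).relIndex (pstab ⊤ D e)

omit hp hM in
theorem iidx_ne_zero (D : Subgroup G) (e : (resField M)[G]) : iidx D e ≠ 0 :=
  Subgroup.index_ne_zero_of_finite

namespace FrD

variable {B : Set (IrrCharacter G)} {D : Subgroup G} {e : (resField M)[G]} (h : FrD p B D e)
include h

theorem uni_u {u : G} (hu : u ∈ D) (hu1 : u ≠ 1) : Uni M p (bu p D e u) :=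
  h.uni_bu hu (h.free u hu hu1)

omit hp hM in
theorem relIndex_of_le {K : Subgroup G} {u : G} (hu : u ∈ D) (hu1 : u ≠ 1) (h1 : (𝐂 D) ≤ K)
    (h2 : K ≤ 𝐙 u) : K.relIndex (pstab ⊤ D e) = iidx D e := by
  rw [iidx, ← Subgroup.inf_relIndex_right K, eq_comm, ← Subgroup.inf_relIndex_right, eq_comm]
  congr 1
  exact le_antisymm (le_inf ((inf_le_inf_right _ h2).trans (h.free u hu hu1)) inf_le_right)
    (inf_le_inf_right _ h1)

omit hp hM in
theorem relIndex_Z {u : G} (hu : u ∈ D) (hu1 : u ≠ 1) :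
    (𝐙 u).relIndex (pstab ⊤ D e) = iidx D e :=
  h.relIndex_of_le hu hu1 (Subgroup.centralizer_le (Set.singleton_subset_iff.2 hu)) le_rfl

omit hp hM in
theorem relIndex_C {Q : Subgroup G} (hQ : Q ≤ D) (hQ1 : Q ≠ ⊥) :
    (𝐂 Q).relIndex (pstab ⊤ D e) = iidx D e := by
  obtain ⟨⟨u, hu⟩, hu1⟩ := Subgroup.ne_bot_iff_exists_ne_one.1 hQ1
  exact h.relIndex_of_le (hQ hu) (fun h0 => hu1 (Subtype.ext h0)) (Subgroup.centralizer_le hQ)
    (Subgroup.centralizer_le (Set.singleton_subset_iff.2 hu))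

omit hp hM in
theorem iidx_dvd {Q : Subgroup G} (hQ : Q ≤ D) (hQ1 : Q ≠ ⊥) (hn : pstab ⊤ D e ≤ 𝐍 Q) :
    iidx D e ∣ Nat.card Q - 1 := by
  rw [← h.relIndex_C hQ hQ1]
  exact relIndex_dvd_card_sub_one (hQ.trans (h.ab.trans (Subgroup.centralizer_le hQ))) hn
    fun u hu hu1 => (h.free u (hQ hu) hu1).trans (Subgroup.centralizer_le hQ)

omit hp hM in
theorem pstab_C_le {Q : Subgroup G} (hQ : Q ≤ D) (hQ1 : Q ≠ ⊥) : pstab (𝐂 Q) D e ≤ 𝐂 D := by
  obtain ⟨⟨u, hu⟩, hu1⟩ := Subgroup.ne_bot_iff_exists_ne_one.1 hQ1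
  rw [pstab_eq_inf]
  exact (inf_le_inf_right _ (Subgroup.centralizer_le (Set.singleton_subset_iff.2 hu))).trans
    (h.free u (hQ hu) fun h0 => hu1 (Subtype.ext h0))

theorem card_mul : Nat.card B * iidx D e + 1 = blockRank p B * iidx D e + Nat.card D := by
  classical
  have := Fintype.ofFinite D
  have h1 := h.card_eq_sum
  have h0 : (iidx D e : ℂ) ≠ 0 := Nat.cast_ne_zero.2 (iidx_ne_zero D e)
  rw [← Finset.add_sum_erase _ _ (Finset.mem_univ (1 : D)), Finset.sum_congr rfl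
    (g := fun _ => 1 / (iidx D e : ℂ)) fun u hu => by
      have hu1 : (u : G) ≠ 1 := fun h0 => (Finset.mem_erase.1 hu).1 (Subtype.ext h0)
      rw [(h.uni_u u.2 hu1).rank, h.relIndex_Z u.2 hu1, Nat.cast_one],
    Finset.sum_const, Finset.card_erase_of_mem (Finset.mem_univ _), Finset.card_univ,
    ← Nat.card_eq_fintype_card, OneMemClass.coe_one, h.blockRank_bu_one, nsmul_eq_mul,
    Nat.cast_sub Nat.card_pos, Nat.cast_one, Subgroup.relIndex_eq_one.2 (fun x _ =>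
      Subgroup.mem_centralizer_singleton_iff.2 (by simp)), Nat.cast_one, div_one] at h1
  exact_mod_cast (show (Nat.card B : ℂ) * iidx D e + 1 = blockRank p B * iidx D e + Nat.card D by
    rw [h1]; field_simp; ring)

theorem ip_eq [Fintype D] [DecidableEq D] {θ φ : G → ℂ} (hθ : blockPart B θ = θ)
    (hφ : IsClassFunction G φ) : ip θ φ = rip p θ φ + ∑ u ∈ Finset.univ.erase (1 : D),
      dA p D e u θ * conj (dA p D e u φ) / (Nat.card D * iidx D e) := by
  rw [h.ip_eq_sum hθ hφ, ← Finset.add_sum_erase _ _ (Finset.mem_univ (1 : D)), OneMemClass.coe_one,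
    h.contr_one, Subgroup.relIndex_eq_one.2 (fun x _ => Subgroup.mem_centralizer_singleton_iff.2
      (by simp)), Nat.cast_one, div_one, ← rip_blockPart_comm h.ub, blockPart_idem, hθ]
  congr 1
  refine Finset.sum_congr rfl fun u hu => ?_
  have hu1 : (u : G) ≠ 1 := fun h0 => (Finset.mem_erase.1 hu).1 (Subtype.ext h0)
  rw [h.contr_eq u.2 (h.uni_u u.2 hu1), h.relIndex_Z u.2 hu1, div_div]

theorem vanish {θ : G → ℂ} (hθ : blockPart B θ = θ) (h0 : ∀ u ∈ D, u ≠ 1 → dA p D e u θ = 0)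
    {g : G} (hg : p ∣ orderOf g) : θ g = 0 := by
  classical
  have := Fintype.ofFinite D
  have hθc : IsClassFunction G θ := hθ ▸ H8.isClassFunction_blockPart B θ
  have h1 := h.ip_eq hθ (H7.cf_sub hθc (cf_reg (p := p) hθc))
  rw [Finset.sum_eq_zero fun u hu => by
      rw [h0 u u.2 fun h0 => (Finset.mem_erase.1 hu).1 (Subtype.ext h0), zero_mul, zero_div],
    add_zero, rip_sub_right, rip_eq_right θ (pRegularPart p θ), reg_reg, ← rip_eq_right,
    sub_self] at h1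
  have h2 : ip (θ - pRegularPart p θ) (θ - pRegularPart p θ) = 0 := by
    rw [H7.ip_sub_left, h1, H7.ip_sub_right, ← rip_eq_both, ← rip, sub_self, sub_self]
  simpa [reg_of_dvd hg] using congrFun (H7.eq_zero_of_ip_self h2) g

theorem dA_col {u v : G} (hu : u ∈ D) (hu1 : u ≠ 1) (hv : v ∈ D)
    [Decidable (∃ t ∈ pstab ⊤ D e, t * u * t⁻¹ = v)] : dA p D e v (col p D e u) =
      if ∃ t ∈ pstab ⊤ D e, t * u * t⁻¹ = v then (Nat.card D : ℂ) else 0 := by
  split_ifs with huv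
  · obtain ⟨t, ht, rfl⟩ := huv
    rw [h.dA_conj hu ht (cf_col D e u), h.dA_col_self hu (h.uni_u hu hu1)]
  · exact h.dA_col_eq_zero hu hv huv

theorem sum_norm_dA {u : G} (hu : u ∈ D) (hu1 : u ≠ 1) :
    ∑ χ ∈ bs B, ‖dA p D e u χ‖ ^ 2 = Nat.card D := by
  have := h.sum_dA_mul hu hu
  rw [h.dA_col_self hu (h.uni_u hu hu1)] at this
  simp only [Complex.conj_mul'] at this
  exact_mod_cast this

end FrD

end Cfsg.Agent.H9
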