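import Mathlib
import Cfsg.Agent.H9.Cyc
import Cfsg.Agent.H8.Star3
import Cfsg.Agent.H7.Deg3

/-!
The star construction for blocks with abelian defect groups; Watanabe's theorem.
-/

set_option autoImplicit false
set_option linter.unusedSectionVars false

namespace Cfsg.Agent.H9

open MonoidAlgebra Cfsg
open Cfsg.Agent.H8 (locRing resField res rd eB fB fC up red Zen IsBlockUnion st lf)
open Cfsg.Agent.H7 (ip)
open scoped ComplexConjugate

local notation "𝐂" Q => Subgroup.centralizer (SetLike.coe (Q : Subgroup _))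
local notation "𝐍" Q => Subgroup.normalizer (SetLike.coe (Q : Subgroup _))
local notation "𝐙" x => Subgroup.centralizer (Singleton.singleton x : Set _)

universe v

theorem loc_eq_of_br {F : Type*} [Field F] {G : Type*} [Group G] {p : ℕ} [Finite G] [Fact p.Prime]
    [CharP F p] {D Q : Subgroup G} {e f : F[G]} (he : IsPair p ⊤ D e) (hab : D ≤ 𝐂 D) (hQ : Q ≤ D)
    (hf : IsBlk (𝐂 Q) f) (h : br D f * e = e) : loc p D e Q = f :=
  have hD : D ≤ 𝐂 Q := hab.trans (Subgroup.centralizer_le hQ)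
  loc_eq he (NSub.subLE ⟨⟨le_normalizer_top, he.isP.to_le hQ, by simpa using hf⟩, he, hQ,
    hD.trans (Subgroup.centralizer_le_normalizer _), fun x hx => hf.inv (hD hx), h⟩)

variable {M : Ideal AlgInt} [hMm : M.IsMaximal] {p : ℕ} [hp : Fact p.Prime] [hM : PMod M p]

theorem blockRank_image {G H : Type*} [Group G] [Finite G] [Group H] [Finite H] (ψ : H ≃* G)
    {b : Set (IrrCharacter H)} (hb : IsPBlock M b) :
    blockRank p (irrEquiv ψ '' b) = blockRank p b := by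
  refine Nat.cast_injective (R := ℂ) ?_
  rw [blockRank_eq_sum (H8.isBlockUnion_of_block hb), blockRank_eq_sum
    (H8.isBlockUnion_of_block (isPBlock_image ψ hb)), sum_bs_image]
  exact Finset.sum_congr rfl fun χ _ => by simp [← rip_comp_equiv ψ]

section
variable {G : Type*} [Group G] [Finite G]

/-- Functions on `D` invariant under the inertial group. -/
def TInv (D : Subgroup G) (e : (resField M)[G]) (η : D → ℂ) : Prop :=
  ∀ t ∈ pstab ⊤ D e, ∀ u v : D, t * u * t⁻¹ = v → η u = η v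

variable (p) in
/-- The block of `C(Q)` below the pair `(D, e)`. -/
def bl (D : Subgroup G) (e : (resField M)[G]) (Q : Subgroup G) : Set (IrrCharacter (𝐂 Q)) :=
  bOf M (𝐂 Q) (loc p D e Q)

omit hp hM in
theorem rank_bOf_congr {H H' : Subgroup G} (h : H = H') (f : (resField M)[G]) :
    blockRank p (bOf M H f) = blockRank p (bOf M H' f) := by subst h; rfl

omit hp hM in
theorem rank_bu (D : Subgroup G) (e : (resField M)[G]) (u : G) :
    blockRank p (bu p D e u) = blockRank p (bl p D e (Subgroup.zpowers u)) :=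
  rank_bOf_congr (H8.centralizer_zpowers u).symm _

omit hp hM in
theorem dA_eq_bl (D : Subgroup G) (e : (resField M)[G]) (u : G) (θ : G → ℂ) :
    dA p D e u θ = dd p u (bl p D e (Subgroup.zpowers u)) θ :=
  dd_bOf_congr (H8.centralizer_zpowers u).symm _ _

omit hMm hp hM [Finite G] in
theorem map_Z_sub {Q : Subgroup G} (u : (𝐂 Q)) :
    (𝐙 u).map (𝐂 Q).subtype = 𝐂 (Q ⊔ Subgroup.zpowers (u : G)) := by
  rw [centralizer_sup', ← H8.centralizer_zpowers u, ← top_inf_eq (𝐂 (Subgroup.zpowers u)),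
    ← map_inf_centralizer (𝐂 Q).subtype_injective, map_top_subtype, MonoidHom.map_zpowers]
  rfl

omit hMm hp hM [Finite G] in
/-- The centralizer of an element computed in `C(Q)`. -/
noncomputable def cEquiv {Q : Subgroup G} (u : (𝐂 Q)) :
    (𝐙 u) ≃* 𝐂 (Q ⊔ Subgroup.zpowers (u : G)) :=
  ((𝐙 u).equivMapOfInjective _ (𝐂 Q).subtype_injective).trans (MulEquiv.subgroupCongr (map_Z_sub u))

namespace AbD

variable {B : Set (IrrCharacter G)} {D : Subgroup G} {e : (resField M)[G]} (h : AbD p B D e)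
include h

theorem sbk_eq {u : G} (hu : u ∈ D) : H8.sbk M p D e u = bu p D e u := by
  obtain ⟨h1, h2⟩ := H8.sbk_spec h.pair hu
  rw [← eI_inj h1 (h.blk_bu hu), h2, h.eI_bu hu]
  exact H8.sb_eq h.pair (loc_spec h.pair (Subgroup.zpowers_le.2 hu))

theorem fStab {η : D → ℂ} (hη : TInv D e η) : H8.FStab p D e η := fun u v ⟨g, h1, h2⟩ => by
  rw [H8.sb_eq h.pair (loc_spec h.pair (Subgroup.zpowers_le.2 u.2)),
    H8.sb_eq h.pair (loc_spec h.pair (Subgroup.zpowers_le.2 v.2))] at h2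
  obtain ⟨t, ht, h3⟩ := h.max.fusion_ab h.ab u.2 v.2 h1 h2
  exact hη t ht u v h3

theorem dA_st {η : D → ℂ} (hη : TInv D e η) {θ : G → ℂ} (hθ : IsClassFunction G θ) (u : D) :
    dA p D e u (st M p D e η θ) = η u * dA p D e u θ := by
  rw [dA, dA, dd, dd, ← rip_smul_left]
  refine rip_congr (fun y hy => ?_) fun _ _ => rfl
  rw [← h.sbk_eq u.2, H8.sec_st h.pair (h.fStab hη) hθ u hy]
  rfl

theorem contr_st {η : D → ℂ} (hη : TInv D e η) {θ : G → ℂ} (hθ : IsClassFunction G θ) (ψ : G → ℂ)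
    (u : D) : contr p (u : G) (bu p D e u) (st M p D e η θ) ψ =
      η u * contr p (u : G) (bu p D e u) θ ψ := by
  rw [contr, contr, ← rip_smul_left]
  refine rip_congr (fun y hy => ?_) fun _ _ => rfl
  rw [← h.sbk_eq u.2, H8.sec_st h.pair (h.fStab hη) hθ u hy]
  rfl

theorem ip_st [Fintype D] {η : D → ℂ} (hη : TInv D e η) {θ ψ : G → ℂ} (hθ : IsClassFunction G θ)
    (hψ : IsClassFunction G ψ) : ip (st M p D e η θ) ψ = ∑ u : D, η u *
      (contr p (u : G) (bu p D e u) θ ψ / (𝐙 (u : G)).relIndex (pstab ⊤ D e)) := by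
  rw [h.ip_eq_sum (H8.blockPart_st h.blk h.max (h.fStab hη) hθ) hψ]
  exact Finset.sum_congr rfl fun u _ => by rw [h.contr_st hη hθ, mul_div_assoc]

theorem exists_st {lam : D →* ℂˣ} (hl : TInv D e (lf lam)) {χ : IrrCharacter G} (hχ : χ ∈ B) :
    ∃ ψ ∈ B, (ψ : G → ℂ) = st M p D e (lf lam) χ := by
  have := Fintype.ofFinite G
  have := Fintype.ofFinite D
  have hs := h.fStab hl
  have h1 := H8.blockPart_st h.blk h.max hs (H8.irr_isClassFunction χ)
  have h2 : ip (st M p D e (lf lam) χ) (st M p D e (lf lam) χ) = 1 := by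
    rw [h.ip_st hl (H8.irr_isClassFunction χ) (H8.cf_st hs (H8.irr_isClassFunction χ)),
      ← H7.ip_irr_self χ.2, h.ip_eq_sum (H8.blockPart_of_mem hχ) (H8.irr_isClassFunction χ)]
    refine Finset.sum_congr rfl fun u _ => ?_
    rw [← contr_conj, h.contr_st hl (H8.irr_isClassFunction χ), map_mul, contr_conj, mul_div_assoc,
      ← mul_assoc, H7.linear_mul_conj (H7.char_of_hom lam) (by simp), one_mul]
  have h3 := H6.isIrr_of_norm_one_of_nonneg (H8.isGen_st h.max hs (H8.isGen_lf lam)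
    (H6.isGen_of_irr χ.2)) (by rwa [← H7.ip_eq_classInner]) (by
      rw [H8.st_reg h.blk h.max hs (H8.irr_isClassFunction χ) not_dvd_orderOf_one,
        H8.blockPart_of_mem hχ, H8.irr_one_eq]
      simp [lf])
  refine ⟨⟨_, h3⟩, by_contra fun hn => one_ne_zero (h2.symm.trans ?_), rfl⟩
  exact (blockPart_eq_self_iff (H7.irr_cf h3)).1 h1 ⟨_, h3⟩ hn

theorem eq_one_of_st {η : D → ℂ} (hl : TInv D e η) {χ : IrrCharacter G} (hχ : χ ∈ B)
    (h1 : st M p D e η χ = χ) (u : D) : η u = 1 := by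
  have := h.contr_st hl (H8.irr_isClassFunction χ) χ u
  rw [h1] at this
  exact (mul_eq_right₀ ((h.subs u.2).contr_self_ne_zero_of_major (h.blk_bu u.2) h.blk
    (h.defect_bu u.2) hχ)).1 this.symm

theorem ip_st_eq_zero {lam : D →* ℂˣ} (hl : TInv D e (lf lam)) (h1 : lam ≠ 1) {χ : IrrCharacter G}
    (hχ : χ ∈ B) : ip (st M p D e (lf lam) χ) χ = 0 := by
  obtain ⟨ψ, -, h2⟩ := h.exists_st hl hχ
  rw [← h2]
  exact H7.ip_irr_ne ψ.2 χ.2 fun h3 => h1 (MonoidHom.ext fun u =>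
    Units.ext (h.eq_one_of_st hl hχ (h2.symm.trans h3) u))

theorem sum_ip_st [Fintype D] {η : D → ℂ} (hη : TInv D e η) :
    ∑ χ ∈ bs B, ip (st M p D e η χ) χ = ∑ u : D, η u *
      (blockRank p (bu p D e u) / (𝐙 (u : G)).relIndex (pstab ⊤ D e)) := by
  simp only [fun χ : IrrCharacter G => h.ip_st hη (H8.irr_isClassFunction χ) (H8.irr_isClassFunction χ)]
  rw [Finset.sum_comm]
  exact Finset.sum_congr rfl fun u _ => by
    rw [← Finset.mul_sum, ← Finset.sum_div, (h.subs u.2).sum_contr_self]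

theorem exists_lin {x : D} (hx : x ≠ 1) (hT : pstab ⊤ D e ≤ 𝐙 (x : G)) :
    ∃ lam : D →* ℂˣ, TInv D e (lf lam) ∧ lam x ≠ 1 := by
  obtain ⟨μ, -, hμ, -⟩ := H7.exists_lin_ne_one (fun a b : D => Subtype.ext (h.comm a.2 b.2)) ⊥ hx hx
  have := Fintype.ofFinite (autOf D (pstab ⊤ D e))
  refine ⟨∏ α : autOf D (pstab ⊤ D e), H8.cmp μ α, fun t ht u v huv => ?_, fun h1 => hμ ?_⟩
  · let β : autOf D (pstab ⊤ D e) := ⟨D.normalizerMonoidHom ⟨t, T_le ht⟩,
      mem_autOf.2 ⟨t, ht, T_le ht, fun _ => rfl⟩⟩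
    simp only [lf, MonoidHom.finset_prod_apply, H8.cmp_apply]
    rw [← Equiv.prod_comp (Equiv.mulRight β), show v = β.1 u from Subtype.ext huv.symm]
    rfl
  · rw [MonoidHom.finset_prod_apply, Finset.prod_congr rfl (g := fun _ => μ x), Finset.prod_const,
      Finset.card_univ, ← Nat.card_eq_fintype_card, card_autOf T_le] at h1
    · obtain ⟨k, hk⟩ := h.pair.isP x
      exact (pow_eq_one_iff_of_coprime (((Nat.Prime.coprime_iff_not_dvd hp.out).2
        h.not_dvd).pow_left k)).1 ⟨by rw [← map_pow, hk, map_one], h1⟩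
    · rintro ⟨α, hα⟩ -
      obtain ⟨t, ht, -, h2⟩ := mem_autOf.1 hα
      rw [H8.cmp_apply, show α x = x from Subtype.ext (by
        rw [h2, Subgroup.mem_centralizer_singleton_iff.1 (hT ht), mul_inv_cancel_right])]

variable {Q : Subgroup G} (hQ : Q ≤ D)
include hQ

theorem blk_bl : IsPBlock M (bl p D e Q) := (isBlk_loc h.pair hQ).bOf_spec.1

theorem eI_bl : eI M (bl p D e Q) = loc p D e Q := (isBlk_loc h.pair hQ).bOf_spec.2

omit hp hM in
theorem le_C : D ≤ 𝐂 Q := h.ab.trans (Subgroup.centralizer_le hQ)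

theorem abD_bl : AbD p (bl p D e Q) (D.subgroupOf (𝐂 Q)) (H8.resSub _ (𝐂 Q) e) :=
  (h.abD_C hQ (h.blk_bl hQ) (h.eI_bl hQ)).1

theorem mem_pstab_bl {t : (𝐂 Q)} :
    t ∈ pstab ⊤ (D.subgroupOf (𝐂 Q)) (H8.resSub _ (𝐂 Q) e) ↔ (t : G) ∈ pstab ⊤ D e := by
  obtain ⟨-, h1, h2⟩ := h.abD_C hQ (h.blk_bl hQ) (h.eI_bl hQ)
  rw [← apply_mem_pstab (𝐂 Q).subtype_injective, h1, h2, map_top_subtype, pstab_eq_inf (𝐂 Q)]
  exact and_iff_right t.2

theorem relIndex_bl (u : (𝐂 Q)) :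
    (𝐙 u).relIndex (pstab ⊤ (D.subgroupOf (𝐂 Q)) (H8.resSub _ (𝐂 Q) e)) =
      (𝐙 (u : G)).relIndex ((𝐂 Q) ⊓ pstab ⊤ D e) := by
  rw [show (𝐙 u) = (𝐙 (u : G)).comap (𝐂 Q).subtype from Subgroup.ext fun x => by
    rw [Subgroup.mem_comap, Subgroup.mem_centralizer_singleton_iff,
      Subgroup.mem_centralizer_singleton_iff, Subtype.ext_iff]; rfl, Subgroup.relIndex_comap]
  congr 1
  ext x
  exact ⟨fun ⟨y, hy, hx⟩ => hx ▸ ⟨y.2, (h.mem_pstab_bl hQ).1 hy⟩,
    fun ⟨h1, h2⟩ => ⟨⟨x, h1⟩, (h.mem_pstab_bl hQ).2 h2, rfl⟩⟩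

theorem bl_sup {u : (𝐂 Q)} (hu : (u : G) ∈ D) : bl p D e (Q ⊔ Subgroup.zpowers (u : G)) =
    irrEquiv (cEquiv u) '' bu p (D.subgroupOf (𝐂 Q)) (H8.resSub _ (𝐂 Q) e) u := by
  obtain ⟨h', h1, h2⟩ := h.abD_C hQ (h.blk_bl hQ) (h.eI_bl hQ)
  have hR : Q ⊔ Subgroup.zpowers (u : G) ≤ D := sup_le hQ (Subgroup.zpowers_le.2 hu)
  have h3 := isPBlock_image (cEquiv u) (h'.blk_bu (u := u) hu)
  rw [← eI_inj (h.blk_bl hR) h3, h.eI_bl hR]
  refine loc_eq_of_br h.pair h.ab hR (isBlk_eI h3) ?_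
  have h4 := congrArg (em _ (𝐂 Q).subtype) (br_loc_mul h'.pair h'.ab
    (Subgroup.zpowers_le.2 (show u ∈ D.subgroupOf _ from hu)) le_rfl)
  rw [map_mul, loc_self h'.pair, em_br (𝐂 Q).subtype_injective, h1, h2, ← h'.eI_bu (u := u) hu, eI,
    em_em] at h4
  rw [eI, eB_image, em_em]
  exact h4

theorem rank_bu_bl {u : (𝐂 Q)} (hu : (u : G) ∈ D) :
    blockRank p (bu p (D.subgroupOf (𝐂 Q)) (H8.resSub _ (𝐂 Q) e) u) =
      blockRank p (bl p D e (Q ⊔ Subgroup.zpowers (u : G))) := by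
  rw [h.bl_sup hQ hu, blockRank_image _ ((h.abD_bl hQ).blk_bu (u := u) hu)]

theorem dA_bl {u : (𝐂 Q)} (hu : (u : G) ∈ D) (θ : G → ℂ) :
    dA p (D.subgroupOf (𝐂 Q)) (H8.resSub _ (𝐂 Q) e) u (fun x => θ x) =
      dd p (u : G) (bl p D e (Q ⊔ Subgroup.zpowers (u : G))) θ := by
  rw [h.bl_sup hQ hu]
  exact (dd_image _ _ fun c => rfl).symm

end AbD

end

theorem watanabe_aux (n : ℕ) : ∀ {G : Type v} [Group G] [Finite G] {B : Set (IrrCharacter G)}
    {D : Subgroup G} {e : (resField M)[G]}, AbD p B D e → Nat.card G = n → ∀ {u : G}, u ∈ D →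
    pstab ⊤ D e ≤ (𝐙 u) → blockRank p (bu p D e u) = blockRank p B := by
  induction n using Nat.strong_induction_on with
  | _ n ih =>
  intro G _ _ B D e h hn u hu hT
  classical
  have := Fintype.ofFinite D
  have key : ∀ {x y : G}, x ∈ D → y ∈ D → ¬ pstab ⊤ D e ≤ (𝐙 x) → (𝐙 x) ⊓ pstab ⊤ D e ≤ (𝐙 y) →
      blockRank p (bu p D e x) =
        blockRank p (bl p D e (Subgroup.zpowers x ⊔ Subgroup.zpowers y)) := fun {x y} hx hy h1 h2 => by
    have hx' := Subgroup.zpowers_le.2 hx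
    rw [rank_bu, ← h.rank_bu_bl hx' (u := ⟨y, h.le_C hx' hy⟩) hy, eq_comm]
    refine ih _ (hn ▸ lt_of_le_of_ne (Subgroup.card_le_card_group _)
      (mt (Subgroup.card_eq_iff_eq_top _).1 fun h3 =>
        h1 (le_top.trans (h3.symm.trans (H8.centralizer_zpowers x)).le))) (h.abD_bl hx') rfl hy
      fun t ht => Subgroup.mem_centralizer_singleton_iff.2 (Subtype.ext ?_)
    exact Subgroup.mem_centralizer_singleton_iff.1
      (h2 ⟨(H8.centralizer_zpowers x).le t.2, (h.mem_pstab_bl hx').1 ht⟩)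
  let Λ : Subgroup (D →* ℂˣ) :=
    { carrier := {lam | TInv D e (lf lam)}
      one_mem' := fun _ _ _ _ _ => rfl
      mul_mem' := fun ha hb t ht x y hxy => by
        simp only [lf, MonoidHom.mul_apply, Units.val_mul]
        exact congrArg₂ _ (ha t ht x y hxy) (hb t ht x y hxy)
      inv_mem' := fun ha t ht x y hxy => by
        simp only [lf, MonoidHom.inv_apply, Units.val_inv_eq_inv_val]
        exact congrArg _ (ha t ht x y hxy) }
  have := H8.finite_lin (Q := D)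
  have := Fintype.ofFinite Λ
  let w : D → ℂ := fun v => blockRank p (bu p D e v) / (𝐙 (v : G)).relIndex (pstab ⊤ D e)
  have h1 : ∀ z : D, ∑ x : D, (∑ lam : Λ, (lam.1 x : ℂ)) * w (x * z) = ∑ x, w x := fun z => by
    simp only [Finset.sum_mul]
    rw [Finset.sum_comm, Finset.sum_eq_single 1 (fun lam _ hl => ?_) (by simp),
      ← Equiv.sum_comp (Equiv.mulRight z) w]
    · simp
    have h2 := h.sum_ip_st lam.2
    rw [Finset.sum_eq_zero fun χ hχ => h.ip_st_eq_zero lam.2 (by simpa using hl) (mem_bs.1 hχ),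
      ← Equiv.sum_comp (Equiv.mulRight z)] at h2
    refine mul_left_cancel₀ (lam.1 z).ne_zero ?_
    rw [mul_zero, h2, Finset.mul_sum]
    refine Finset.sum_congr rfl fun x _ => ?_
    change _ = ((lam.1 (x * z) : ℂˣ) : ℂ) * w (x * z)
    rw [map_mul, Units.val_mul]
    ring
  have h2 := (h1 ⟨u, hu⟩).trans (h1 1).symm
  rw [← Finset.add_sum_erase _ _ (Finset.mem_univ (1 : D)),
    ← Finset.add_sum_erase Finset.univ _ (Finset.mem_univ (1 : D)), Finset.sum_congr rfl (g := fun x => (∑ lam : Λ, (lam.1 x : ℂ)) * w (x * 1)), add_left_inj] at h2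
  · have h3 := mul_left_cancel₀ (by simp) h2
    simp only [w, one_mul, Subgroup.relIndex_eq_one.2 hT, OneMemClass.coe_one, h.blockRank_bu_one,
      H6.centralizer_one', Subgroup.relIndex_top_left, Nat.cast_one, div_one] at h3
    exact_mod_cast h3
  intro x hx
  by_cases h3 : ∀ lam : Λ, lam.1 x = 1
  swap
  · rw [show ∑ lam : Λ, (lam.1 x : ℂ) = 0 from sum_hom_units_eq_zero
      ((Units.coeHom ℂ).comp ((MonoidHom.eval x).comp Λ.subtype)) fun h4 =>
        h3 fun lam => Units.ext (DFunLike.congr_fun h4 lam), zero_mul, zero_mul]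
  have h4 : ¬ pstab ⊤ D e ≤ 𝐙 (x : G) := fun h4 => by
    obtain ⟨lam, h5, h6⟩ := h.exists_lin (Finset.ne_of_mem_erase hx) h4
    exact h6 (h3 ⟨lam, h5⟩)
  have h5 : (𝐙 ((x : G) * u)) ⊓ pstab ⊤ D e = (𝐙 (x : G)) ⊓ pstab ⊤ D e := Subgroup.ext fun t =>
    and_congr_left fun ht => by
      have := Subgroup.mem_centralizer_singleton_iff.1 (hT ht)
      change t ∈ (𝐙 ((x : G) * u)) ↔ t ∈ 𝐙 (x : G)
      rw [Subgroup.mem_centralizer_singleton_iff, Subgroup.mem_centralizer_singleton_iff,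
        mul_assoc, ← this, ← mul_assoc, ← mul_assoc, mul_left_inj]
  simp only [w, mul_one, Subgroup.coe_mul]
  rw [← Subgroup.inf_relIndex_right, h5, Subgroup.inf_relIndex_right,
    key x.2 hu h4 (inf_le_right.trans hT), key (D.mul_mem x.2 hu) hu
      (fun h6 => h4 ((le_inf h6 le_rfl).trans (h5.le.trans inf_le_left))) (inf_le_right.trans hT),
    show Subgroup.zpowers ((x : G) * u) ⊔ Subgroup.zpowers u = Subgroup.zpowers (x : G) ⊔
      Subgroup.zpowers u from le_antisymm (sup_le (Subgroup.zpowers_le.2 (Subgroup.mul_mem_sup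
        (Subgroup.mem_zpowers _) (Subgroup.mem_zpowers _))) le_sup_right) (sup_le
          (Subgroup.zpowers_le.2 (by
            simpa using (Subgroup.mul_mem_sup (Subgroup.mem_zpowers ((x : G) * u))
              (inv_mem (Subgroup.mem_zpowers u))))) le_sup_right)]

variable {G : Type*} [Group G] [Finite G] {B : Set (IrrCharacter G)} {D : Subgroup G}
  {e : (resField M)[G]}

/-- Watanabe's theorem. -/
theorem AbD.rank_bu_eq (h : AbD p B D e) {u : G} (hu : u ∈ D) (hT : pstab ⊤ D e ≤ 𝐙 u) :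
    blockRank p (bu p D e u) = blockRank p B := watanabe_aux _ h rfl hu hT

theorem AbD.rank_bl_sup (h : AbD p B D e) {Q : Subgroup G} (hQ : Q ≤ D) {u : G} (hu : u ∈ D)
    (hT : (𝐂 Q) ⊓ pstab ⊤ D e ≤ 𝐙 u) :
    blockRank p (bl p D e (Q ⊔ Subgroup.zpowers u)) = blockRank p (bl p D e Q) := by
  rw [← h.rank_bu_bl hQ (u := ⟨u, h.le_C hQ hu⟩) hu]
  exact (h.abD_bl hQ).rank_bu_eq hu fun t ht => Subgroup.mem_centralizer_singleton_iff.2
    (Subtype.ext (Subgroup.mem_centralizer_singleton_iff.1 (hT ⟨t.2, (h.mem_pstab_bl hQ).1 ht⟩)))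

theorem AbD.card_bl (h : AbD p B D e) {u : G} (hu : u ∈ D) (hT : pstab ⊤ D e ≤ 𝐙 u) :
    Nat.card (bl p D e (Subgroup.zpowers u)) = Nat.card B := by
  have hQ := Subgroup.zpowers_le.2 hu
  have := Fintype.ofFinite D
  have := Fintype.ofFinite (D.subgroupOf (𝐂 (Subgroup.zpowers u)))
  refine Nat.cast_injective (R := ℂ) ?_
  rw [h.card_eq_sum, (h.abD_bl hQ).card_eq_sum]
  refine Fintype.sum_equiv (Subgroup.subgroupOfEquivOfLe (h.le_C hQ)).toEquiv _ _ fun x => ?_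
  rw [h.rank_bu_bl hQ x.2, h.relIndex_bl hQ,
    inf_eq_right.2 (hT.trans (H8.centralizer_zpowers u).ge), sup_comm,
    h.rank_bl_sup (Q := Subgroup.zpowers (x.1 : G)) (Subgroup.zpowers_le.2 x.2) hu
      (inf_le_right.trans hT), ← rank_bu]
  rfl

end Cfsg.Agent.H9
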