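import Mathlib
import Cfsg.Agent.H9.StAb

/-!
Blocks with abelian defect groups and freely acting inertial quotient: after a suitable choice of
signs the generalized decomposition numbers are values of generalized characters of the defect group.
-/

set_option autoImplicit false
set_option linter.unusedSectionVars false

namespace Cfsg.Agent.H9

open MonoidAlgebra Cfsg
open Cfsg.Agent.H8 (locRing resField res rd eB fB fC up red Zen IsBlockUnion st lf)
open Cfsg.Agent.H7 (ip)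
open Subgroup (zpowers)
open scoped ComplexConjugate

local notation "𝐂" Q => Subgroup.centralizer (SetLike.coe (Q : Subgroup _))
local notation "𝐍" Q => Subgroup.normalizer (SetLike.coe (Q : Subgroup _))
local notation "𝐙" x => Subgroup.centralizer (Singleton.singleton x : Set _)

/-- A generalized character of an abelian group which is unimodular off a subgroup agrees there
with a linear character up to sign. -/
theorem exists_eq_off {A : Type*} [Group A] [Finite A] (hA : ∀ a b : A, a * b = b * a)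
    (Q : Subgroup A) {W : A → ℂ} (hW : IsGeneralizedCharacter A W) (h : ∀ u, u ∉ Q → ‖W u‖ = 1) :
    ∃ (ε : ℤ) (α : A →* ℂˣ), (ε = 1 ∨ ε = -1) ∧ ∀ u, u ∉ Q → W u = ε * α u := by
  classical
  have := Fintype.ofFinite A
  let ι := {lam : A →* ℂˣ // Q ≤ lam.ker}
  have hip : ∀ a b : ι, classInner ((lf a.1 - lf 1) * W) ((lf b.1 - lf 1) * W) =
      ip (lf a.1 - lf 1) (lf b.1 - lf 1) := fun a b => by
    rw [← H7.ip_eq_classInner, H7.ip_def, H7.ip_def]
    refine congrArg _ (Finset.sum_congr rfl fun u _ => ?_)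
    by_cases hu : u ∈ Q
    · simp [lf, MonoidHom.mem_ker.1 (a.2 hu)]
    · rw [Pi.mul_apply, Pi.mul_apply, map_mul, mul_mul_mul_comm, Complex.mul_conj' (W u), h u hu]
      simp
  obtain ⟨ε, hε, μ, h1, h2, h3⟩ := H6.exists_exceptional (⟨1, by simp⟩ : ι)
    (fun a => (lf a.1 - lf 1) * W) (by simp) (fun a => H6.isGen_mul (H6.isGen_sub (H8.isGen_lf _)
      (H8.isGen_lf _)) hW) (fun a => by simp [lf]) (fun a ha => by
      have : a.1 ≠ 1 := fun h => ha (Subtype.ext h)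
      simp [hip, H7.ip_sub_left, H7.ip_sub_right, H8.ip_lf, this, this.symm]; norm_num)
    fun a b ha hb hab => by
      have h1 : a.1 ≠ 1 := fun h => ha (Subtype.ext h)
      have h2 : b.1 ≠ 1 := fun h => hb (Subtype.ext h)
      simp [hip, H7.ip_sub_left, H7.ip_sub_right, H8.ip_lf, h1, h2.symm, Subtype.coe_ne_coe.2 hab]
  obtain ⟨α, hα⟩ := H6.exists_linear_of_comm hA (h1 ⟨1, by simp⟩)
  obtain ⟨ε, rfl, hε'⟩ : ∃ n : ℤ, (n : ℂ) = ε ∧ (n = 1 ∨ n = -1) := by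
    rcases hε with rfl | rfl
    exacts [⟨1, by simp, .inl rfl⟩, ⟨-1, by simp, .inr rfl⟩]
  refine ⟨ε, α, hε', fun u hu => ?_⟩
  obtain ⟨lam, h4, h5, -⟩ := H7.exists_lin_ne_one hA Q hu hu
  obtain ⟨β, hβ⟩ := H6.exists_linear_of_comm hA (h1 ⟨lam, h4⟩)
  have h4' : Q ≤ lam⁻¹.ker := fun x hx => by
    simp [MonoidHom.mem_ker, MonoidHom.mem_ker.1 (h4 hx)]
  obtain ⟨γ, hγ⟩ := H6.exists_linear_of_comm hA (h1 ⟨lam⁻¹, h4'⟩)
  have e1 := h3 ⟨lam, h4⟩
  have e2 := h3 ⟨lam⁻¹, h4'⟩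
  simp only [hα, hβ, hγ] at e1 e2
  have e3 : lf β + lf (lam * γ) = lf α + lf (lam * α) := funext fun x => by
    have e1 := congrFun e1 x
    have e2 := congrFun e2 x
    have hx := (lam x).ne_zero
    simp only [lf, Pi.mul_apply, Pi.sub_apply, Pi.smul_apply, smul_eq_mul, MonoidHom.one_apply,
      Units.val_one, MonoidHom.inv_apply, Units.val_inv_eq_inv_val, Pi.add_apply, MonoidHom.mul_apply,
      Units.val_mul] at e1 e2 ⊢
    field_simp at e2
    rcases hε' with rfl | rfl <;> push_cast at e1 e2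
    exacts [by linear_combination -e1 - e2, by linear_combination e1 + e2]
  have e4 : β ≠ α := fun h6 => h5 (by
    rw [show lam = 1 from congrArg Subtype.val
      (h2 (hβ.trans (h6 ▸ hα.symm)) : (⟨lam, h4⟩ : ι) = ⟨1, _⟩)]; rfl)
  have e5 := congrArg (ip · (lf β)) e3
  simp only [H7.ip_add_left, H8.ip_lf, if_true, e4.symm, if_false, zero_add] at e5
  have e6 : lam * α = β := by
    by_contra h6
    rw [if_neg h6] at e5
    split_ifs at e5 <;> norm_num at e5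
  have e1 := congrFun e1 u
  simp only [← e6, lf, Pi.mul_apply, Pi.sub_apply, Pi.smul_apply, smul_eq_mul, MonoidHom.one_apply,
    Units.val_one, MonoidHom.mul_apply, Units.val_mul] at e1
  exact mul_left_cancel₀ (sub_ne_zero.2 (mt Units.val_eq_one.1 h5)) (by linear_combination e1)

variable {M : Ideal AlgInt} [hMm : M.IsMaximal] {p : ℕ} [hp : Fact p.Prime] [hM : PMod M p]
variable {G : Type*} [Group G] [Finite G] {B : Set (IrrCharacter G)} {D : Subgroup G}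
  {e : (resField M)[G]}

namespace AbD

variable (h : AbD p B D e) (hT : pstab ⊤ D e ≤ 𝐂 D)
include hT

omit hp hM in
theorem tInv_of_le (η : D → ℂ) : TInv D e η := fun t ht u v huv => by
  rw [show u = v from Subtype.ext (by rw [← huv, ← hT ht u u.2, mul_inv_cancel_right])]

include h

theorem ip_eq_nil {θ φ : G → ℂ} (hθ : IsClassFunction G θ) (hφ : blockPart B φ = φ) :
    ip θ φ = ip (fun u : D => dA p D e u θ) fun u : D => dA p D e u φ := by
  have := Fintype.ofFinite D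
  rw [← H7.ip_conj_symm, h.ip_eq_sum hφ hθ, H7.ip_def, map_sum, Finset.mul_sum]
  refine Finset.sum_congr rfl fun u _ => ?_
  rw [h.contr_eq u.2 (h.uni_bu u.2 (inf_le_right.trans hT)), Subgroup.relIndex_eq_one.2
    (hT.trans ((Subgroup.centralizer_le (Set.singleton_subset_iff.2 u.2))))]
  simp [div_eq_inv_mul, mul_comm]

theorem exists_st_bij {χ : IrrCharacter G} (hχ : χ ∈ B) : ∃ f : (D →* ℂˣ) ≃ B,
    ∀ lam (u : D), dA p D e u (f lam).1 = lam u * dA p D e u χ := by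
  have := H8.finite_lin (Q := D)
  choose f hf hf' using fun lam : D →* ℂˣ => h.exists_st (tInv_of_le hT (lf lam)) hχ
  have h1 : ∀ lam (u : D), dA p D e u (f lam) = lam u * dA p D e u χ := fun lam u => by
    rw [hf', h.dA_st (tInv_of_le hT _) (H8.irr_isClassFunction χ)]
  have := H8.finite_irr (G := G)
  refine ⟨Equiv.ofBijective (fun lam => ⟨f lam, hf lam⟩) ((Nat.bijective_iff_injective_and_card _).2
    ⟨fun a b hab => MonoidHom.ext fun u => Units.ext (mul_right_cancel₀ (h.dA_ne_zero u.2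
      (h.uni_bu u.2 (inf_le_right.trans hT)) hχ) ?_), ?_⟩), h1⟩
  · rw [← h1, ← h1, show f a = f b from congrArg Subtype.val hab]
  · rw [H8.card_lin fun a b : D => Subtype.ext (h.comm a.2 b.2), (h.uni hT).card, h.card_D]

theorem norm_dA {χ : IrrCharacter G} (hχ : χ ∈ B) {u : G} (hu : u ∈ D) : ‖dA p D e u χ‖ = 1 := by
  obtain ⟨f, hf⟩ := h.exists_st_bij hT hχ
  have := H8.finite_lin (Q := D)
  have := Fintype.ofFinite (D →* ℂˣ)
  have := H8.finite_irr (G := G)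
  have := Fintype.ofFinite B
  have h1 := h.sum_dA_mul hu hu
  rw [h.dA_col_self hu (h.uni_bu hu (inf_le_right.trans hT)), Finset.sum_subtype (p := (· ∈ B)) _
    fun _ => mem_bs, ← Equiv.sum_comp f, Finset.sum_congr rfl (g := fun _ => (‖dA p D e u χ‖ : ℂ) ^ 2),
    Finset.sum_const, Finset.card_univ, ← Nat.card_eq_fintype_card,
    H8.card_lin fun a b : D => Subtype.ext (h.comm a.2 b.2), nsmul_eq_mul,
    mul_eq_left₀ (H7.card_ne_zero' D)] at h1
  · exact (pow_eq_one_iff_of_nonneg (norm_nonneg _) two_ne_zero).1 (by exact_mod_cast h1)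
  · intro lam _
    rw [hf lam ⟨u, hu⟩, map_mul, mul_mul_mul_comm, mul_comm (conj _),
      H7.linear_mul_conj (H7.char_of_hom lam) (by simp), one_mul, Complex.conj_mul']

theorem dA_one {χ : IrrCharacter G} (hχ : χ ∈ B) : dA p D e 1 χ = 1 := by
  rw [dA, dd, h.bu_one, ← rip_comp_equiv (oneEquiv G), ← (h.uni hT).rip_irr_sumB hχ]
  simp only [sec, blockPart_image, sumB_image, one_mul, coe_oneEquiv, H8.blockPart_of_mem hχ]

theorem isGen_dA {ξ : IrrCharacter G} (hξ : ξ ∈ B) {θ : G → ℂ} (hθ : IsGeneralizedCharacter G θ) :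
    IsGeneralizedCharacter D fun u : D => dA p D e u θ * conj (dA p D e u ξ) := by
  have := Fintype.ofFinite D
  have hc : ∀ a b : D, a * b = b * a := fun a b => Subtype.ext (h.comm a.2 b.2)
  obtain ⟨f, hf⟩ := h.exists_st_bij hT hξ
  refine H6.isGen_of_classInner_int (fun a b => by rw [hc b, mul_inv_cancel_right]) fun ψ hψ => ?_
  obtain ⟨lam, rfl⟩ := H6.exists_linear_of_comm hc hψ
  obtain ⟨n, hn⟩ := exists_ip_int hθ
  refine ⟨n (f lam), ?_⟩
  rw [← hn, h.ip_eq_nil hT (H6.isClassFunction_of_isGen hθ) (H8.blockPart_of_mem (f lam).2),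
    ← H7.ip_eq_classInner, H7.ip_def, H7.ip_def]
  simp only [hf, map_mul, mul_assoc, mul_comm (conj (dA p D e _ ξ))]

end AbD

variable (p) in
/-- `θ` restricts to an irreducible character in the block of `C(Q)`. -/
def InB (D : Subgroup G) (e : (resField M)[G]) (Q : Subgroup G) (θ : G → ℂ) : Prop :=
  ∃ ξ ∈ bl p D e Q, (ξ : (𝐂 Q) → ℂ) = fun x : (𝐂 Q) => θ x

variable (p) in
/-- Generalized decomposition numbers computed in `C(Q)`. -/
noncomputable def dR (D : Subgroup G) (e : (resField M)[G]) (Q : Subgroup G) (u : G) (θ : G → ℂ) :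
    ℂ := dd p u (bl p D e (Q ⊔ zpowers u)) θ

omit hp hM in
theorem inB_extend {Q : Subgroup G} {ξ : IrrCharacter (𝐂 Q)} (hξ : ξ ∈ bl p D e Q) :
    InB p D e Q (Function.extend Subtype.val ξ.1 0) :=
  ⟨ξ, hξ, funext fun x => (Subtype.val_injective.extend_apply _ _ x).symm⟩

omit hp hM in
theorem dR_bot (u : G) (θ : G → ℂ) : dR p D e ⊥ u θ = dA p D e u θ := by
  rw [dR, bot_sup_eq, dA_eq_bl]

omit hp hM in
theorem InB.exists_mul {Q : Subgroup G} {θ : G → ℂ} (hθ : InB p D e Q θ) {z : G} (hz : z ∈ Q)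
    (hz' : z ∈ 𝐂 Q) : ∃ ω : ℂ, (θ z = θ 1 → ω = 1) ∧
      ∀ u ∈ (𝐂 Q), dR p D e Q (z * u) θ = ω * dR p D e Q u θ := by
  obtain ⟨ξ, -, hξ⟩ := hθ
  have hc : ∀ g : (𝐂 Q), ⟨z, hz'⟩ * g = g * ⟨z, hz'⟩ := fun g => Subtype.ext (g.2 z hz)
  refine ⟨centralChar ξ.1 ⟨z, hz'⟩, fun h => ?_, fun u hu => ?_⟩
  · have := H8.irr_central_mul ξ hc 1
    rw [mul_one, show ξ.1 ⟨z, hz'⟩ = ξ.1 1 by rw [hξ]; exact h] at this
    exact (mul_eq_right₀ (H7.irr_one_ne_zero ξ.2)).1 this.symm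
  rw [dR, dR, show Q ⊔ zpowers (z * u) = Q ⊔ zpowers u from le_antisymm (sup_le le_sup_left
    (Subgroup.zpowers_le.2 (Subgroup.mul_mem_sup hz (Subgroup.mem_zpowers _)))) (sup_le le_sup_left
      (Subgroup.zpowers_le.2 (by
        simpa using Subgroup.mul_mem_sup (inv_mem hz) (Subgroup.mem_zpowers (z * u))))),
    dd, dd, ← rip_smul_left, sec, sec, ← H8.blockPart_smul]
  congr 2
  funext c
  have := H8.irr_central_mul ξ hc ⟨u * c, mul_mem hu fun y hy => c.2 y (Subgroup.mem_sup_left hy)⟩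
  rw [hξ] at this ⊢
  rw [mul_assoc]
  exact this

theorem AbD.inB_cj (h : AbD p B D e) {Q : Subgroup G} (hQ : Q ≤ D) {θ : G → ℂ}
    (hθ : InB p D e Q θ) {t : G} (ht : t ∈ pstab ⊤ D e) :
    InB p D e (cg t Q) fun g => θ (t⁻¹ * g * t) := by
  obtain ⟨ξ, h1, h2⟩ := hθ
  rw [InB, bl, ← cj_loc h.pair hQ ht, bOf_cj (cg_centralizer t Q) (isBlk_loc h.pair hQ)]
  refine ⟨_, ⟨ξ, h1, rfl⟩, funext fun x => ?_⟩
  obtain ⟨x, rfl⟩ := (cgEquiv (cg_centralizer t Q)).surjective x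
  refine (congrArg ξ.1 (MulEquiv.symm_apply_apply _ x)).trans ?_
  rw [h2]
  exact congrArg θ (show (x : G) = t⁻¹ * (t * x * t⁻¹) * t by group)

theorem AbD.dR_cj (h : AbD p B D e) {Q : Subgroup G} (hQ : Q ≤ D) (θ : G → ℂ) {t u : G}
    (ht : t ∈ pstab ⊤ D e) (hu : u ∈ D) :
    dR p D e (cg t Q) (t * u * t⁻¹) (fun g => θ (t⁻¹ * g * t)) = dR p D e Q u θ := by
  have hR : Q ⊔ zpowers u ≤ D := sup_le hQ (Subgroup.zpowers_le.2 hu)
  rw [dR, ← cg_zpowers, ← cg_sup, bl, ← cj_loc h.pair hR ht,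
    bOf_cj (cg_centralizer t _) (isBlk_loc h.pair hR)]
  exact dd_image _ _ fun c =>
    congrArg θ (show t⁻¹ * (t * u * t⁻¹ * (t * c * t⁻¹)) * t = u * c by group)

theorem AbD.exists_inB_top (h : AbD p B D e) : ∃ θ, InB p D e D θ ∧ ∀ z ∈ D, θ z = θ 1 := by
  have hc : ∀ x : (𝐂 D), x ∈ 𝐂 (D.subgroupOf (𝐂 D)) := fun x y hy => Subtype.ext (x.2 _ hy)
  have : (D.subgroupOf (𝐂 D)).Normal := ⟨fun y hy x => by rwa [← hc x y hy, mul_inv_cancel_right]⟩
  obtain ⟨ξ, h1, h2, -⟩ := exists_canon (fun x _ => hc x) (h.blk_bl le_rfl)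
    (h.abD_bl le_rfl).isDefectGroup
  exact ⟨_, inB_extend h1, fun z hz => (Subtype.val_injective.extend_apply _ _ ⟨z, h.ab hz⟩).trans
    ((h2 _ hz).trans (Subtype.val_injective.extend_apply _ _ (1 : 𝐂 D)).symm)⟩

variable (p) in
/-- The signs `δ` are realised by an irreducible character of the block of `C(Q)`. -/
def Good (D : Subgroup G) (e : (resField M)[G]) (δ : Subgroup G → ℤ) (Q : Subgroup G) : Prop :=
  ∃ θ, InB p D e Q θ ∧ ∀ u ∈ D, dR p D e Q u θ = δ Q * δ (Q ⊔ zpowers u)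

namespace FrD

variable (h : FrD p B D e) {Q : Subgroup G} (hQ : Q ≤ D)
include h hQ

section
variable (hQ1 : Q ≠ ⊥) {θ : G → ℂ} (hθ : InB p D e Q θ)
include hQ1

theorem nil_bl : pstab ⊤ (D.subgroupOf (𝐂 Q)) (H8.resSub _ (𝐂 Q) e) ≤ 𝐂 (D.subgroupOf (𝐂 Q)) :=
  have h' := h.abD_C hQ (h.blk_bl hQ) (h.eI_bl hQ)
  pstab_sub_le h'.2.1 h'.2.2 (h.pstab_C_le hQ hQ1)

include hθ

theorem norm_dR {u : G} (hu : u ∈ D) : ‖dR p D e Q u θ‖ = 1 := by
  obtain ⟨ξ, h1, h2⟩ := hθ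
  rw [← (h.abD_bl hQ).norm_dA (h.nil_bl hQ hQ1) h1 (u := ⟨u, h.le_C hQ hu⟩) hu, h2, h.dA_bl hQ hu]
  rfl

theorem dR_one : dR p D e Q 1 θ = 1 := by
  obtain ⟨ξ, h1, h2⟩ := hθ
  rw [← (h.abD_bl hQ).dA_one (h.nil_bl hQ hQ1) h1, h2, h.dA_bl hQ D.one_mem]
  rfl

theorem exists_inB_mul (α : D →* ℂˣ) :
    ∃ θ', InB p D e Q θ' ∧ ∀ u : D, dR p D e Q u θ' = α u * dR p D e Q u θ := by
  obtain ⟨ξ, h1, h2⟩ := hθ
  obtain ⟨f, hf⟩ := (h.abD_bl hQ).exists_st_bij (h.nil_bl hQ hQ1) h1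
  let a := f (α.comp (Subgroup.subgroupOfEquivOfLe (h.le_C hQ)).toMonoidHom)
  refine ⟨_, inB_extend a.2, fun u => ?_⟩
  have := hf (α.comp (Subgroup.subgroupOfEquivOfLe (h.le_C hQ)).toMonoidHom)
    ⟨⟨u, h.le_C hQ u.2⟩, u.2⟩
  rw [h2, h.dA_bl hQ u.2, show (f _).1.1 = fun x : (𝐂 Q) => Function.extend Subtype.val a.1.1 0 x
    from funext fun x => (Subtype.val_injective.extend_apply _ _ x).symm, h.dA_bl hQ u.2] at this
  exact this

theorem isGen_dR {φ : G → ℂ} (hφ : IsGeneralizedCharacter (𝐂 Q) fun x => φ x) :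
    IsGeneralizedCharacter D fun u : D => dR p D e Q u φ * conj (dR p D e Q u θ) := by
  obtain ⟨ξ, h1, h2⟩ := hθ
  have := H6.isGen_comp (Subgroup.subgroupOfEquivOfLe (h.le_C hQ)).symm.toMonoidHom
    ((h.abD_bl hQ).isGen_dA (h.nil_bl hQ hQ1) h1 hφ)
  refine (congrArg _ (funext fun u => ?_)).mp this
  rw [h2, h.dA_bl hQ u.2, h.dA_bl hQ u.2]
  rfl

end

theorem exists_gen_off {δ : Subgroup G → ℤ} (hδ : ∀ R, δ R = 1 ∨ δ R = -1)
    (hg : ∀ R, Q < R → R ≤ D → Good p D e δ R) {φ : G → ℂ}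
    (hφ : ∀ R, Q < R → IsGeneralizedCharacter (𝐂 R) fun x => φ x) :
    ∃ W, IsGeneralizedCharacter D W ∧
      ∀ u : D, (u : G) ∉ Q → W u = δ (Q ⊔ zpowers (u : G)) * dR p D e Q u φ := by
  classical
  have := Fintype.ofFinite D
  let R : Finset D → Subgroup G := fun S => Q ⊔ S.sup fun s => zpowers (s : G)
  let F : Finset D → D → ℂ := fun S u =>
    (-1) ^ S.card * (δ (R S ⊔ zpowers (u : G)) * dR p D e (R S) u φ)
  let A : Finset D := Finset.univ.filter fun u => (u : G) ∉ Q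
  refine ⟨-∑ S ∈ A.powerset.erase ∅, F S, H6.isGen_neg (H6.isGen_sum _ fun S hS => ?_), fun u hu => ?_⟩
  · obtain ⟨s, hs⟩ := Finset.nonempty_iff_ne_empty.2 (Finset.ne_of_mem_erase hS)
    have h1 : Q < R S := lt_of_le_of_ne le_sup_left fun h1 =>
      (Finset.mem_filter.1 (Finset.mem_powerset.1 (Finset.mem_of_mem_erase hS) hs)).2 (h1.ge
        (Subgroup.mem_sup_right (Finset.le_sup (f := fun s : D => zpowers (s : G)) hs
          (Subgroup.mem_zpowers _))))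
    have h2 : R S ≤ D := sup_le hQ (Finset.sup_le fun s _ => Subgroup.zpowers_le.2 s.2)
    obtain ⟨θ, h3, h4⟩ := hg _ h1 h2
    have := H6.isGen_intCast_smul ((-1) ^ S.card * δ (R S))
      (h.isGen_dR h2 (ne_bot_of_gt h1) h3 (hφ _ h1))
    refine (congrArg _ (funext fun u => ?_)).mp this
    simp only [h4 u u.2, Pi.smul_apply, smul_eq_mul, map_mul, map_intCast, F]
    rcases hδ (R S) with h5 | h5 <;> simp [h5, mul_comm]
  · have h1 : ∑ S ∈ A.powerset, F S u = 0 := by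
      rw [← Finset.insert_erase (show u ∈ A by simpa [A] using hu),
        Finset.sum_powerset_insert (Finset.notMem_erase _ _), ← Finset.sum_add_distrib]
      refine Finset.sum_eq_zero fun S hS => ?_
      have h2 : R (insert u S) ⊔ zpowers (u : G) = R S ⊔ zpowers (u : G) := by
        simp only [R, Finset.sup_insert]
        ac_nf
      simp only [F, dR]
      rw [h2, Finset.card_insert_of_notMem fun h3 =>
        Finset.notMem_erase _ _ (Finset.mem_powerset.1 hS h3)]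
      ring
    rw [← Finset.add_sum_erase _ _ (Finset.empty_mem_powerset A), add_eq_zero_iff_eq_neg] at h1
    rw [Pi.neg_apply, Finset.sum_apply, ← h1]
    simp [F, R]

theorem exists_off (hQ1 : Q ≠ ⊥) {δ : Subgroup G → ℤ} (hδ : ∀ R, δ R = 1 ∨ δ R = -1)
    (hg : ∀ R, Q < R → R ≤ D → Good p D e δ R) : ∃ ε : ℤ, (ε = 1 ∨ ε = -1) ∧ ∃ θ, InB p D e Q θ ∧
      ∀ u ∈ D, u ∉ Q → dR p D e Q u θ = ε * δ (Q ⊔ zpowers u) := by
  obtain ⟨ξ, hξ⟩ := H8.block_nonempty (h.blk_bl hQ)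
  have h1 := inB_extend hξ
  obtain ⟨W, h2, h3⟩ := h.exists_gen_off hQ hδ hg (φ := Function.extend Subtype.val ξ.1 0)
    fun R hR => by
      have := H6.isGen_comp (Subgroup.inclusion (Subgroup.centralizer_le hR.le)) (H6.isGen_of_irr ξ.2)
      exact (congrArg _ (funext fun x => (Subtype.val_injective.extend_apply _ _
        (Subgroup.inclusion (Subgroup.centralizer_le hR.le) x)).symm)).mp this
  obtain ⟨ε, α, h4, h5⟩ := exists_eq_off (fun a b : D => Subtype.ext (h.comm a.2 b.2))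
    (Q.subgroupOf D) h2 fun u hu => by
      rw [h3 u hu, norm_mul, h.norm_dR hQ hQ1 h1 u.2]
      rcases hδ (Q ⊔ zpowers (u : G)) with h | h <;> simp [h]
  obtain ⟨θ, h6, h7⟩ := h.exists_inB_mul hQ hQ1 h1 α⁻¹
  refine ⟨ε, h4, θ, h6, fun u hu hu' => ?_⟩
  have h8 := (h3 ⟨u, hu⟩ hu').symm.trans (h5 ⟨u, hu⟩ hu')
  rw [h7 ⟨u, hu⟩, MonoidHom.inv_apply, Units.val_inv_eq_inv_val, inv_mul_eq_iff_eq_mul₀ (α _).ne_zero]
  rcases hδ (Q ⊔ zpowers u) with h | h <;> simp only [h] at h8 ⊢ <;> push_cast at h8 ⊢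
  exacts [by linear_combination h8, by linear_combination -h8]

theorem good_of_off (hQ1 : Q ≠ ⊥) {δ : Subgroup G → ℤ} (hδ : ∀ R, δ R = 1 ∨ δ R = -1)
    (hg : ∃ θ, InB p D e Q θ ∧ ∀ u ∈ D, u ∉ Q → dR p D e Q u θ = δ Q * δ (Q ⊔ zpowers u)) :
    Good p D e δ Q := by
  have key : ∀ θ, InB p D e Q θ → (∀ z ∈ Q, ∀ ω : ℂ, (θ z = θ 1 → ω = 1) →
      (∀ u ∈ (𝐂 Q), dR p D e Q (z * u) θ = ω * dR p D e Q u θ) → ω = 1) →
      ∀ z ∈ Q, dR p D e Q z θ = δ Q * δ (Q ⊔ zpowers z) := fun θ hθ h1 z hz => by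
    obtain ⟨ω, h2, h3⟩ := hθ.exists_mul hz (h.le_C hQ (hQ hz))
    have := h3 1 (one_mem _)
    rw [mul_one, h1 z hz ω h2 h3, h.dR_one hQ hQ1 hθ] at this
    rw [this, sup_eq_left.2 (Subgroup.zpowers_le.2 hz)]
    rcases hδ Q with h | h <;> simp [h]
  rcases hQ.eq_or_lt with rfl | hlt
  · obtain ⟨θ, h1, h2⟩ := h.exists_inB_top
    exact ⟨θ, h1, key θ h1 fun z hz ω h3 _ => h3 (h2 z hz)⟩
  obtain ⟨θ, h1, h2⟩ := hg
  obtain ⟨v, hv, hv'⟩ := SetLike.exists_of_lt hlt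
  refine ⟨θ, h1, fun u hu => (em' (u ∈ Q)).elim (h2 u hu) (key θ h1 (fun z hz ω _ h3 => ?_) u)⟩
  have := h3 v (h.le_C hQ hv)
  rw [h2 _ (mul_mem (hQ hz) hv) fun h4 => hv' ((mul_mem_cancel_left hz).1 h4), h2 v hv hv',
    show Q ⊔ zpowers (z * v) = Q ⊔ zpowers v from le_antisymm (sup_le le_sup_left
    (Subgroup.zpowers_le.2 (Subgroup.mul_mem_sup hz (Subgroup.mem_zpowers _)))) (sup_le le_sup_left
      (Subgroup.zpowers_le.2 (by
        simpa using Subgroup.mul_mem_sup (inv_mem hz) (Subgroup.mem_zpowers (z * v)))))] at this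
  refine (mul_eq_right₀ ?_).1 this.symm
  rcases hδ Q with h | h <;> rcases hδ (Q ⊔ zpowers v) with h' | h' <;> simp [h, h']

omit hQ

theorem exists_good (k : ℕ) : ∃ δ : Subgroup G → ℤ, (∀ R, δ R = 1 ∨ δ R = -1) ∧
    (∀ t ∈ pstab ⊤ D e, ∀ R ≤ D, δ (cg t R) = δ R) ∧
    ∀ Q ≤ D, Q ≠ ⊥ → Nat.card D < Nat.card Q + k → Good p D e δ Q := by
  classical
  induction k with
  | zero => exact ⟨1, fun _ => .inl rfl, fun _ _ _ _ => rfl, fun Q hQ _ h =>
      absurd (Subgroup.card_le_of_le hQ) (by omega)⟩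
  | succ k ih =>
  obtain ⟨δ, h1, h2, h3⟩ := ih
  let P : Subgroup G → Prop := fun Q =>
    ∃ θ, InB p D e Q θ ∧ ∀ u ∈ D, u ∉ Q → dR p D e Q u θ = δ (Q ⊔ zpowers u)
  have hP : ∀ t ∈ pstab ⊤ D e, ∀ Q ≤ D, P Q → P (cg t Q) := fun t ht Q hQ ⟨θ, h4, h5⟩ =>
    ⟨_, h.inB_cj hQ h4 ht, fun u hu hu' => by
      obtain ⟨v, rfl⟩ : ∃ v, t * v * t⁻¹ = u := ⟨t⁻¹ * u * t, by group⟩
      have hv : v ∈ D := by simpa [mul_assoc] using AbD.conj_mem hu (inv_mem ht)
      rw [h.dR_cj hQ θ ht hv, h5 v hv (mt conj_mem_cg.2 hu'), ← cg_zpowers, ← cg_sup,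
        h2 t ht _ (sup_le hQ (Subgroup.zpowers_le.2 hv))]⟩
  let δ' : Subgroup G → ℤ := fun R =>
    if Nat.card D = Nat.card R + k then (if P R then 1 else -1) else δ R
  have h4 : ∀ R, δ' R = 1 ∨ δ' R = -1 := fun R => by
    simp only [δ']
    split_ifs
    exacts [.inl rfl, .inr rfl, h1 R]
  have h5 : ∀ {Q R : Subgroup G}, Nat.card D < Nat.card Q + k → Q ≤ R → δ' R = δ R :=
    fun hQ hR => if_neg (by have := Subgroup.card_le_of_le hR; omega)
  have h6 : ∀ Q ≤ D, Q ≠ ⊥ → Nat.card D < Nat.card Q + k → Good p D e δ' Q := fun Q hQ hQ1 hc => by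
    obtain ⟨θ, h6, h7⟩ := h3 Q hQ hQ1 hc
    exact ⟨θ, h6, fun u hu => by rw [h5 hc le_rfl, h5 hc le_sup_left, h7 u hu]⟩
  refine ⟨δ', h4, fun t ht R hR => ?_, fun Q hQ hQ1 hc => ?_⟩
  · simp only [δ', card_cg, h2 t ht R hR, show P (cg t R) ↔ P R from ⟨fun h6 => by
      simpa only [cg_inv_cg] using hP _ (inv_mem ht) _ (cg_le_of_conj_mem fun y hy =>
        AbD.conj_mem (hR hy) ht) h6, hP t ht R hR⟩]
  rcases (Nat.le_of_lt_succ hc).eq_or_lt with hc | hc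
  swap
  · exact h6 Q hQ hQ1 hc
  have h7 : ∀ R, Q < R → Nat.card D < Nat.card R + k := fun R hR => by
    have := lt_of_le_of_ne (Subgroup.card_le_of_le hR.le) fun h7 =>
      hR.ne (eq_of_le_of_card_le hR.le h7.ge)
    omega
  have h8 : ∀ u, u ∉ Q → δ' (Q ⊔ zpowers u) = δ (Q ⊔ zpowers u) := fun u hu =>
    h5 (h7 _ (left_lt_sup.2 (mt Subgroup.zpowers_le.1 hu))) le_rfl
  refine h.good_of_off hQ hQ1 h4 ?_
  by_cases h9 : P Q
  · obtain ⟨θ, h10, h11⟩ := id h9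
    exact ⟨θ, h10, fun u hu hu' => by
      rw [h11 u hu hu', h8 u hu', show δ' Q = 1 from (if_pos hc).trans (if_pos h9)]; simp⟩
  obtain ⟨ε, rfl | rfl, θ, h10, h11⟩ := h.exists_off hQ hQ1 h1 fun R hR hR' =>
    h3 R hR' (ne_bot_of_gt hR) (h7 R hR)
  · exact absurd ⟨θ, h10, fun u hu hu' => by simp [h11 u hu hu']⟩ h9
  · exact ⟨θ, h10, fun u hu hu' => by
      rw [h11 u hu hu', h8 u hu', show δ' Q = -1 from (if_pos hc).trans (if_neg h9)]⟩

/-- After a choice of signs the generalized decomposition numbers are the values of generalized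
characters of the defect group. -/
theorem exists_sign : ∃ δ : G → ℤ, (∀ u, δ u = 1 ∨ δ u = -1) ∧
    (∀ t ∈ pstab ⊤ D e, ∀ u ∈ D, δ (t * u * t⁻¹) = δ u) ∧
    (∀ u v, zpowers u = zpowers v → δ u = δ v) ∧ ∀ θ, IsGeneralizedCharacter G θ →
      ∃ W, IsGeneralizedCharacter D W ∧ ∀ u : D, u ≠ 1 → W u = δ u * dA p D e u θ := by
  obtain ⟨δ, h1, h2, h3⟩ := h.exists_good (Nat.card D)
  refine ⟨fun u => δ (zpowers u), fun u => h1 _, fun t ht u hu => ?_, fun u v huv => congrArg δ huv,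
    fun θ hθ => ?_⟩
  · beta_reduce
    rw [← cg_zpowers, h2 t ht _ (Subgroup.zpowers_le.2 hu)]
  obtain ⟨W, h4, h5⟩ := h.exists_gen_off bot_le h1 (fun R hR hR' => h3 R hR' hR.ne'
    (by have := Nat.card_pos (α := R); omega)) fun R _ => H6.isGen_restrict _ hθ
  exact ⟨W, h4, fun u hu => by rw [h5 u (by simpa using hu), dR_bot, bot_sup_eq]⟩

end FrD

end Cfsg.Agent.H9
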