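import Mathlib
import Cfsg.Agent.H9.Sgn
import Cfsg.Agent.H24.D1Chr

/-!
Integral columns for blocks with abelian defect group and freely acting inertial quotient;
exceptional and nonexceptional characters.
-/

set_option autoImplicit false
set_option linter.unusedSectionVars false

namespace Cfsg.Agent.H9

open MonoidAlgebra Cfsg
open Cfsg.Agent.H8 (locRing resField res rd eB fB fC up red Zen IsBlockUnion st lf orbS orbT)
open Cfsg.Agent.H7 (ip)
open Subgroup (zpowers)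
open scoped ComplexConjugate

local notation "𝐂" Q => Subgroup.centralizer (SetLike.coe (Q : Subgroup _))
local notation "𝐍" Q => Subgroup.normalizer (SetLike.coe (Q : Subgroup _))
local notation "𝐙" x => Subgroup.centralizer (Singleton.singleton x : Set _)

theorem eq_zero_of_ip_lin {A : Type*} [Group A] [Finite A] (hA : ∀ a b : A, a * b = b * a)
    {W : A → ℂ} (h : ∀ lam : A →* ℂˣ, lam ≠ 1 → ip W (lf 1 - lf lam) = 0) {u : A} (hu : u ≠ 1) :
    W u = 0 := by
  have := H8.finite_lin (Q := A)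
  have := Fintype.ofFinite (A →* ℂˣ)
  rw [H8.apply_eq_sum_lin hA W u, Finset.sum_congr rfl (g := fun ψ => ip W (lf 1) * ψ u),
    ← Finset.mul_sum, H8.sum_lin_eq_zero hA hu, mul_zero]
  intro ψ _
  by_cases h1 : ψ = 1
  · rw [h1]
  · rw [← sub_eq_zero.1 ((H7.ip_sub_right _ _ _).symm.trans (h ψ h1))]

theorem add_three_le_sum_sq {ι : Type*} {s : Finset ι} {a : ι → ℤ} (h0 : ∀ i ∈ s, a i ≠ 0)
    (h : (s.card : ℤ) < ∑ i ∈ s, a i ^ 2) : (s.card : ℤ) + 3 ≤ ∑ i ∈ s, a i ^ 2 := by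
  have h1 : ∀ i ∈ s, 0 ≤ a i ^ 2 - 1 := fun i hi => sub_nonneg.2 (H24.D1.one_le_sq_int (h0 i hi))
  have h2 : ∑ i ∈ s, (a i ^ 2 - 1) = ∑ i ∈ s, a i ^ 2 - s.card := by simp
  obtain ⟨i, hi, h3⟩ := Finset.exists_ne_zero_of_sum_ne_zero (f := fun i => a i ^ 2 - 1) (s := s)
    (by omega)
  have h4 := Finset.single_le_sum h1 hi
  have h5 : 2 ≤ |a i| := by
    by_contra h5
    have := Int.one_le_abs (h0 i hi)
    exact h3 (by rw [← sq_abs, show |a i| = 1 by omega]; rfl)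
  have := sq_abs (a i)
  nlinarith

variable {M : Ideal AlgInt} [hMm : M.IsMaximal] {p : ℕ} [hp : Fact p.Prime] [hM : PMod M p]
variable {G : Type*} [Group G] [Finite G] {B : Set (IrrCharacter G)} {D : Subgroup G}
  {e : (resField M)[G]} {δ : G → ℤ}

/-- The inertial quotient as a group of automorphisms of the defect group. -/
noncomputable abbrev aut (D : Subgroup G) (e : (resField M)[G]) : Subgroup (MulAut D) :=
  autOf D (pstab ⊤ D e)

omit hp hM in
theorem card_aut (D : Subgroup G) (e : (resField M)[G]) : Nat.card (aut D e) = iidx D e :=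
  card_autOf AbD.T_le

variable (p) in
/-- The signed generalized decomposition numbers. -/
noncomputable def sW (D : Subgroup G) (e : (resField M)[G]) (δ : G → ℤ) (θ : G → ℂ) : D → ℂ :=
  fun u => δ u * dA p D e u θ

variable (p) in
/-- The class function attached to a function on the defect group. -/
noncomputable def Phi (D : Subgroup G) (e : (resField M)[G]) (δ : G → ℤ) (η : D → ℂ) : G → ℂ :=
  letI := Fintype.ofFinite D
  ∑ u : D, ((Nat.card D : ℂ)⁻¹ * η u * δ u) • col p D e u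

omit hp hM in
theorem sW_sum {ι : Type*} (s : Finset ι) (c : ι → ℂ) (θ : ι → G → ℂ) (u : D) :
    sW p D e δ (∑ i ∈ s, c i • θ i) u = ∑ i ∈ s, c i * sW p D e δ (θ i) u := by
  simp only [sW, dA_sum, Finset.mul_sum, mul_left_comm]

omit hp hM in
theorem sW_sub_smul (θ φ : G → ℂ) (a b : ℂ) (u : D) :
    sW p D e δ (a • θ - b • φ) u = a * sW p D e δ θ u - b * sW p D e δ φ u := by
  simpa [sub_eq_add_neg] using sW_sum (p := p) (e := e) (δ := δ) Finset.univ ![a, -b] ![θ, φ] u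

theorem Phi_reg {η : D → ℂ} (h1 : η 1 = 0) {g : G} (hg : ¬ p ∣ orderOf g) : Phi p D e δ η g = 0 := by
  rw [Phi, Finset.sum_apply]
  refine Finset.sum_eq_zero fun u _ => ?_
  by_cases hu : u = 1
  · simp [hu, h1]
  · rw [Pi.smul_apply, col_reg (by simpa using hu) hg, smul_zero]

variable (p) in
/-- A freely acting inertial quotient together with a choice of signs. -/
structure SgD (B : Set (IrrCharacter G)) (D : Subgroup G) (e : (resField M)[G]) (δ : G → ℤ) : Prop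
    extends FrD p B D e where
  sgn : ∀ u, δ u = 1 ∨ δ u = -1
  cnj : ∀ t ∈ pstab ⊤ D e, ∀ u ∈ D, δ (t * u * t⁻¹) = δ u
  gen : ∀ θ, IsGeneralizedCharacter G θ →
    ∃ W, IsGeneralizedCharacter D W ∧ ∀ u : D, u ≠ 1 → W u = sW p D e δ θ u

theorem FrD.exists_sgD (h : FrD p B D e) : ∃ δ, SgD p B D e δ :=
  have ⟨δ, h1, h2, _, h3⟩ := h.exists_sign
  ⟨δ, h, h1, h2, h3⟩

omit hp hM in
theorem AbD.commD (h : AbD p B D e) (a b : D) : a * b = b * a := Subtype.ext (h.comm a.2 b.2)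

omit hp hM in
theorem FrD.fpf (h : FrD p B D e) : ∀ α ∈ aut D e, ∀ y, y ≠ 1 → α y = y → α = 1 := by
  intro α hα y hy h1
  obtain ⟨t, ht, -, h2⟩ := mem_autOf.1 hα
  have h3 := h.free y y.2 (by simpa using hy) (show t ∈ _ from ⟨Subgroup.mem_centralizer_singleton_iff.2
    (by rw [← mul_inv_eq_iff_eq_mul, ← h2, h1]), ht⟩)
  exact MulEquiv.ext fun z => Subtype.ext (by rw [h2, ← h3 z z.2, mul_inv_cancel_right]; rfl)

omit hp hM in
theorem FrD.card_orb (h : FrD p B D e) :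
    Nat.card (Quotient (orbS (aut D e))) * iidx D e + 1 = Nat.card D := by
  rw [← card_aut]; exact H8.card_orb h.commD h.fpf

theorem FrD.card_eq (h : FrD p B D e) :
    Nat.card B = blockRank p B + Nat.card (Quotient (orbS (aut D e))) := by
  have h1 := h.card_mul
  rw [← h.card_orb, ← add_assoc, ← add_mul] at h1
  exact Nat.eq_of_mul_eq_mul_right (Nat.pos_of_ne_zero (iidx_ne_zero D e)) (Nat.succ_injective h1)

omit hp hM in
theorem FrD.card_orb_eq (h : FrD p B D e) :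
    Nat.card (Quotient (orbS (aut D e))) = (Nat.card D - 1) / iidx D e := by
  rw [← h.card_orb, Nat.add_sub_cancel, Nat.mul_div_cancel _ (Nat.pos_of_ne_zero (iidx_ne_zero D e))]

omit hp hM in
theorem FrD.nonempty_orb (h : FrD p B D e) (hD : D ≠ ⊥) : Nonempty (Quotient (orbS (aut D e))) := by
  have h1 := h.card_orb
  have h2 := (Subgroup.one_lt_card_iff_ne_bot D).2 hD
  exact (Nat.card_ne_zero.1 fun h0 => by rw [h0] at h1; omega).1

instance instFiniteOrb : Finite (Quotient (orbS (aut D e))) :=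
  have := H8.finite_lin (Q := D)
  inferInstance

variable (p) in
/-- The basic generalized characters vanishing on the `p`-regular elements. -/
noncomputable def Ph (D : Subgroup G) (e : (resField M)[G]) (δ : G → ℤ)
    (j : Quotient (orbS (aut D e))) : G → ℂ := Phi p D e δ (lf 1 - lf j.out.1)

namespace AbD

variable (h : AbD p B D e)
include h

theorem ip_Phi {θ : G → ℂ} (hθ : IsClassFunction G θ) (η : D → ℂ) :
    ip θ (Phi p D e δ η) = ip (sW p D e δ θ) η := by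
  letI := Fintype.ofFinite D
  rw [Phi, H7.ip_sum_right, H7.ip_def, Finset.mul_sum]
  refine Finset.sum_congr rfl fun u _ => ?_
  rw [H7.ip_smul_right, h.ip_col u.2 hθ, sW]
  simp only [map_mul, map_inv₀, map_natCast, map_intCast]
  ring

theorem blockPart_Phi (η : D → ℂ) : blockPart B (Phi p D e δ η) = Phi p D e δ η := by
  rw [Phi, H8.blockPart_sum]
  exact Finset.sum_congr rfl fun u _ => by rw [H8.blockPart_smul, h.blockPart_col u.2]

theorem cf_Phi (η : D → ℂ) : IsClassFunction G (Phi p D e δ η) :=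
  h.blockPart_Phi η ▸ H8.isClassFunction_blockPart B _

end AbD

namespace SgD

variable (h : SgD p B D e δ)
include h

omit hp hM in
theorem sq (u : G) : (δ u : ℂ) * δ u = 1 := by rcases h.sgn u with h | h <;> simp [h]

omit hp hM in
theorem dA_eq (θ : G → ℂ) (u : D) : dA p D e u θ = δ u * sW p D e δ θ u := by
  rw [sW, ← mul_assoc, h.sq, one_mul]

theorem sW_aut {θ : G → ℂ} (hθ : IsClassFunction G θ) (α : aut D e) (u : D) :
    sW p D e δ θ (α.1 u) = sW p D e δ θ u := by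
  obtain ⟨t, ht, -, h2⟩ := mem_autOf.1 α.2
  rw [sW, h2, h.cnj t ht u u.2, h.dA_conj u.2 ht hθ, sW]

theorem ip_sW_int {θ : G → ℂ} (hθ : IsGeneralizedCharacter G θ) {η : D → ℂ}
    (hη : IsGeneralizedCharacter D η) (h1 : η 1 = 0) : ∃ n : ℤ, ip (sW p D e δ θ) η = n := by
  obtain ⟨W, h2, h3⟩ := h.gen θ hθ
  have := Fintype.ofFinite D
  obtain ⟨n, hn⟩ := H6.classInner_int h2 hη
  refine ⟨n, ?_⟩
  rw [← hn, ← H7.ip_eq_classInner, H7.ip_def, H7.ip_def]
  refine congrArg _ (Finset.sum_congr rfl fun u _ => ?_)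
  by_cases hu : u = 1
  · simp [hu, h1]
  · rw [h3 u hu]

theorem isGen_Phi {η : D → ℂ} (hη : IsGeneralizedCharacter D η) (h1 : η 1 = 0) :
    IsGeneralizedCharacter G (Phi p D e δ η) :=
  have := Fintype.ofFinite G
  H6.isGen_of_classInner_int (h.cf_Phi η) fun χ hχ => by
    obtain ⟨n, hn⟩ := h.ip_sW_int (H6.isGen_of_irr hχ) hη h1
    exact ⟨n, by rw [← H7.ip_eq_classInner, ← H7.ip_conj_symm, h.ip_Phi (H7.irr_cf hχ), hn,
      map_intCast]⟩

theorem sW_Phi {η : D → ℂ} (h1 : η 1 = 0) {v : D} (hv : v ≠ 1) :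
    sW p D e δ (Phi p D e δ η) v = orbT (aut D e) η v := by
  classical
  letI := Fintype.ofFinite D
  have := Fintype.ofFinite (aut D e)
  rw [Phi, sW_sum, orbT, finsum_eq_sum_of_fintype, ← Finset.sum_image (s := Finset.univ)
    (g := fun α : aut D e => α.1 v) (f := η) fun α _ β _ hab => Subtype.ext (by
      have hab : α.1 v = β.1 v := hab
      rw [← mul_one β.1, ← h.fpf _ (mul_mem (inv_mem β.2) α.2) v hv (by simp [hab])]; simp),
    ← Finset.sum_subset (Finset.subset_univ (Finset.univ.image fun α : aut D e => α.1 v))]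
  · refine Finset.sum_congr rfl fun u hu => ?_
    obtain ⟨α, -, rfl⟩ := Finset.mem_image.1 hu
    rw [← h.sW_aut (cf_col D e _) α, sW, h.dA_col_self (α.1 v).2 (h.uni_u (α.1 v).2 (by simpa using hv))]
    have := H7.card_ne_zero' D
    field_simp
    rw [pow_two, h.sq, mul_one]
  · intro u _ hu
    by_cases hu1 : u = 1
    · simp [hu1, h1]
    rw [sW, h.dA_col_eq_zero u.2 v.2, mul_zero, mul_zero]
    rintro ⟨t, ht, h2⟩
    have h3 := AbD.T_le (inv_mem ht)
    exact hu (Finset.mem_image.2 ⟨⟨D.normalizerMonoidHom ⟨_, h3⟩, mem_autOf.2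
      ⟨_, inv_mem ht, h3, fun _ => rfl⟩⟩, Finset.mem_univ _, Subtype.ext (by
        change t⁻¹ * v * t⁻¹⁻¹ = u
        rw [← h2]; group)⟩)

theorem ip_Phi_Phi {η η' : D → ℂ} (h1 : η 1 = 0) (h1' : η' 1 = 0) :
    ip (Phi p D e δ η) (Phi p D e δ η') = ip (orbT (aut D e) η) η' := by
  have := Fintype.ofFinite D
  rw [h.ip_Phi (h.cf_Phi η), H7.ip_def, H7.ip_def]
  refine congrArg _ (Finset.sum_congr rfl fun u _ => ?_)
  by_cases hu : u = 1
  · simp [hu, h1']
  · rw [h.sW_Phi h1 hu]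

theorem vanish' {θ : G → ℂ} (hθ : blockPart B θ = θ) (h0 : ∀ u : D, u ≠ 1 → sW p D e δ θ u = 0)
    {g : G} (hg : p ∣ orderOf g) : θ g = 0 :=
  h.vanish hθ (fun u hu hu1 => by
    rw [h.dA_eq θ ⟨u, hu⟩, h0 _ (by simpa using hu1), mul_zero]) hg

theorem ip_Ph {θ : G → ℂ} (hθ : IsClassFunction G θ) (lam : {ψ : D →* ℂˣ // ψ ≠ 1}) :
    ip θ (Ph p D e δ (Quotient.mk _ lam)) = ip (sW p D e δ θ) (lf 1 - lf lam.1) := by
  obtain ⟨α, hα⟩ := Quotient.mk_out (s := orbS (aut D e)) lam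
  have := Fintype.ofFinite D
  rw [Ph, h.ip_Phi hθ, ← hα, H7.ip_def, H7.ip_def, ← α.1.toEquiv.sum_comp]
  simp [h.sW_aut hθ, lf]

theorem ip_Ph_of_const {θ : G → ℂ} (hθ : IsClassFunction G θ) {c : ℂ}
    (hc : ∀ u : D, u ≠ 1 → sW p D e δ θ u = c) (j : Quotient (orbS (aut D e))) :
    ip θ (Ph p D e δ j) = c := by
  classical
  have := Fintype.ofFinite D
  rw [Ph, h.ip_Phi hθ, show ip (sW p D e δ θ) (lf 1 - lf j.out.1) =
    ip (c • lf 1) (lf 1 - lf j.out.1) by
      rw [H7.ip_def, H7.ip_def]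
      refine congrArg _ (Finset.sum_congr rfl fun u _ => ?_)
      by_cases hu : u = 1
      · simp [hu, lf]
      · simp [hc u hu, lf], H7.ip_smul_left, H7.ip_sub_right, H8.ip_lf, H8.ip_lf]
  simp [j.out.2.symm]

theorem isGen_Ph (j : Quotient (orbS (aut D e))) : IsGeneralizedCharacter G (Ph p D e δ j) :=
  h.isGen_Phi (H6.isGen_sub (H8.isGen_lf _) (H8.isGen_lf _)) (by simp [lf])

omit h in
theorem Ph_reg (j : Quotient (orbS (aut D e))) {g : G} (hg : ¬ p ∣ orderOf g) :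
    Ph p D e δ j g = 0 := Phi_reg (by simp [lf]) hg

theorem ip_Ph_Ph [DecidableEq (Quotient (orbS (aut D e)))] (i j : Quotient (orbS (aut D e))) :
    ip (Ph p D e δ i) (Ph p D e δ j) = iidx D e + if i = j then 1 else 0 := by
  classical
  rw [Ph, Ph, h.ip_Phi_Phi (by simp [lf]) (by simp [lf]), H8.orbT_sub, H7.ip_sub_left,
    H7.ip_sub_right, H7.ip_sub_right, H8.ip_orbT_one, H8.ip_orbT_one, H8.ip_orbT_lf_one _ i.out.2,
    H8.ip_orbT_lf h.commD h.fpf, if_pos rfl, if_neg j.out.2, card_aut]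
  simp

theorem exists_ip_Ph_ne (hD : D ≠ ⊥) {χ : IrrCharacter G} (hχ : χ ∈ B) :
    ∃ j, ip (Ph p D e δ j) χ ≠ 0 := by
  by_contra! h0
  have := blockDefect_eq_zero_of_vanish h.blk hχ fun g hg => h.vanish' (H8.blockPart_of_mem hχ)
    (fun u hu => eq_zero_of_ip_lin h.commD (fun lam hl => by
      rw [← h.ip_Ph (H7.irr_cf χ.2) ⟨lam, hl⟩, ← H7.ip_conj_symm, h0, map_zero]) hu) hg
  exact hD (Subgroup.card_eq_one.1 (by rw [h.card_D, this, pow_zero]))

end SgD

variable (p) in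
/-- Nonexceptional and exceptional characters. -/
structure Fam (B : Set (IrrCharacter G)) (D : Subgroup G) (e : (resField M)[G]) (δ : G → ℤ)
    (X : Finset (IrrCharacter G)) (ψ : Quotient (orbS (aut D e)) → IrrCharacter G)
    (ε : IrrCharacter G → ℤ) (d : ℤ) : Prop extends SgD p B D e δ where
  mem : ∀ χ, χ ∈ B ↔ χ ∈ X ∨ ∃ j, ψ j = χ
  notMem : ∀ j, ψ j ∉ X
  card : X.card = iidx D e
  inj : Function.Injective ψ
  sε : ∀ χ ∈ X, ε χ = 1 ∨ ε χ = -1
  sd : d = 1 ∨ d = -1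
  phi : ∀ j, Ph p D e δ j = ∑ χ ∈ X, (ε χ : ℂ) • χ.1 - (d : ℂ) • (ψ j).1
  valX : ∀ χ ∈ X, ∀ u : D, u ≠ 1 → sW p D e δ χ u = ε χ
  valY : ∀ lam (u : D), u ≠ 1 →
    sW p D e δ (ψ (Quotient.mk _ lam)) u = d * orbT (aut D e) (lf lam.1) u

theorem SgD.exists_fam (h : SgD p B D e δ) (hD : D ≠ ⊥) (hl : iidx D e ≤ blockRank p B)
    (χ₀ : IrrCharacter G) : ∃ X ψ ε d, Fam p B D e δ X ψ ε d ∧ (χ₀ ∈ B →
      (∀ u v : D, u ≠ 1 → v ≠ 1 → sW p D e δ χ₀ u = sW p D e δ χ₀ v) → χ₀ ∈ X) := by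
  classical
  have := Fintype.ofFinite (Quotient (orbS (aut D e)))
  obtain ⟨o⟩ := h.nonempty_orb hD
  obtain ⟨X, ψ, ε, d, h1, h2, h3, h4, h5, h6, h7, h8, h9, h10⟩ := H24.D1.exists_fam_aux (p := p)
    (B := B) o (Φ := Ph p D e δ) (Nat.pos_of_ne_zero (iidx_ne_zero D e)) h.isGen_Ph
    (fun _ => h.blockPart_Phi _) (fun _ _ => SgD.Ph_reg _) h.ip_Ph_Ph hl
    (fun χ => h.exists_ip_Ph_ne hD) χ₀
  have key : ∀ (χ : IrrCharacter G) lam (hl : lam ≠ 1), ip (sW p D e δ χ) (lf 1 - lf lam) =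
      conj (ip (Ph p D e δ (Quotient.mk _ ⟨lam, hl⟩)) χ) := fun χ lam hl => by
    rw [H7.ip_conj_symm, h.ip_Ph (H7.irr_cf χ.2)]
  refine ⟨X, ψ, ε, d, ⟨h, h1, h2, h3, h4, h5, h6, h7, fun χ hχ u hu => ?_, fun lam u hu => ?_⟩,
    fun a b => h10 a fun q r => ?_⟩
  · exact (sub_eq_zero.1 (eq_zero_of_ip_lin h.commD (W := sW p D e δ χ - (ε χ : ℂ) • lf 1)
      (fun lam hl => by
        rw [H7.ip_sub_left, key χ lam hl, h8 χ hχ, H7.ip_smul_left, H7.ip_sub_right, H8.ip_lf, H8.ip_lf]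
        simp [hl.symm]) hu)).trans (mul_one _)
  · exact sub_eq_zero.1 (eq_zero_of_ip_lin h.commD
      (W := sW p D e δ (ψ (Quotient.mk _ lam)) - (d : ℂ) • orbT (aut D e) (lf lam.1)) (fun mu hl => by
        rw [H7.ip_sub_left, key _ mu hl, h9, H7.ip_smul_left, H7.ip_sub_right,
          H8.ip_orbT_lf_one _ lam.2, H8.ip_orbT_lf h.commD h.fpf lam ⟨mu, hl⟩]
        simp only [eq_comm (a := Quotient.mk _ lam)]
        split_ifs <;> simp) hu)
  · obtain ⟨v, hv⟩ := Subgroup.ne_bot_iff_exists_ne_one.1 hD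
    have := h.ip_Ph_of_const (H7.irr_cf χ₀.2) fun u hu => b u v hu hv
    rw [← H7.ip_conj_symm, this, ← this r, H7.ip_conj_symm]

namespace Fam

variable {X : Finset (IrrCharacter G)} {ψ : Quotient (orbS (aut D e)) → IrrCharacter G}
  {ε : IrrCharacter G → ℤ} {d : ℤ} (h : Fam p B D e δ X ψ ε d)
include h

omit hp hM in
theorem memX {χ : IrrCharacter G} (hχ : χ ∈ X) : χ ∈ B := (h.mem χ).2 (.inl hχ)

omit hp hM in
theorem memY (j : Quotient (orbS (aut D e))) : ψ j ∈ B := (h.mem _).2 (.inr ⟨j, rfl⟩)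

omit hp hM in
theorem sum_bs {A : Type*} [AddCommMonoid A] [Fintype (Quotient (orbS (aut D e)))]
    (f : IrrCharacter G → A) : ∑ χ ∈ bs B, f χ = ∑ χ ∈ X, f χ + ∑ j, f (ψ j) := by
  classical
  rw [show bs B = X ∪ Finset.univ.image ψ by ext χ; simp [h.mem], Finset.sum_union
    (Finset.disjoint_right.2 fun χ hχ => by
      obtain ⟨r, -, rfl⟩ := Finset.mem_image.1 hχ
      exact h.notMem r), Finset.sum_image fun a _ b _ hab => h.inj hab]

omit hp hM in
theorem card_B : Nat.card B = iidx D e + Nat.card (Quotient (orbS (aut D e))) := by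
  have := Fintype.ofFinite (Quotient (orbS (aut D e)))
  simpa [card_bs, h.card] using h.sum_bs fun _ => (1 : ℕ)

omit hp hM in
theorem ip_Ph_Y [DecidableEq (Quotient (orbS (aut D e)))] (i j : Quotient (orbS (aut D e))) :
    ip (Ph p D e δ i) (ψ j) = if i = j then -(d : ℂ) else 0 := by
  classical
  rw [h.phi, H7.ip_sub_left, H7.ip_sum_left, Finset.sum_eq_zero fun χ hχ => by
    rw [H7.ip_smul_left, ip_irr_irr, if_neg fun h0 : χ = ψ j => h.notMem j (h0 ▸ hχ), mul_zero],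
    H7.ip_smul_left, ip_irr_irr, if_congr h.inj.eq_iff rfl rfl]
  split_ifs <;> simp

theorem rank : blockRank p B = iidx D e := by
  have h1 := h.card_B
  have h2 := h.card_eq
  omega

theorem rel (j : Quotient (orbS (aut D e))) {g : G} (hg : ¬ p ∣ orderOf g) :
    ∑ χ ∈ X, (ε χ : ℂ) * χ.1 g = d * (ψ j).1 g := by
  have := SgD.Ph_reg (δ := δ) j hg
  rw [h.phi, Pi.sub_apply, sub_eq_zero, Finset.sum_apply] at this
  exact this

theorem not_dvd_mZ (hD : D ≠ ⊥) {χ χ₁ : IrrCharacter G} (hχ : χ ∈ B) (h₁ : χ₁ ∈ X) :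
    ¬ (p : ℤ) ∣ mZ p B χ χ₁ := by
  classical
  have := Fintype.ofFinite D
  have := Fintype.ofFinite (aut D e)
  have hq := h.card_orb
  have hp1 : (p : ℤ) ∣ Nat.card D := by
    rw [h.card_D, Nat.cast_pow]
    exact dvd_pow_self _ fun h0 => hD (Subgroup.card_eq_one.1 (by rw [h.card_D, h0, pow_zero]))
  have hp2 : ¬ (p : ℤ) ∣ 1 := by exact_mod_cast hp.out.not_dvd_one
  obtain ⟨n, hn, h2⟩ : ∃ n : ℤ, ¬ (p : ℤ) ∣ n ∧
      ∑ u ∈ Finset.univ.erase (1 : D), sW p D e δ χ u = iidx D e * n := by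
    rcases (h.mem χ).1 hχ with h2 | ⟨j, rfl⟩
    · refine ⟨Nat.card (Quotient (orbS (aut D e))) * ε χ, fun h3 => hp2 ?_, ?_⟩
      · rw [← hq] at hp1
        rcases h.sε χ h2 with h4 | h4 <;> simp only [h4, mul_one, mul_neg, dvd_neg] at h3 <;>
          exact (dvd_add_right (h3.mul_right (iidx D e))).1 (by exact_mod_cast hp1)
      · rw [Finset.sum_congr rfl fun u hu => h.valX χ h2 u (Finset.ne_of_mem_erase hu),
          Finset.sum_const, Finset.card_erase_of_mem (Finset.mem_univ _), Finset.card_univ,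
          ← Nat.card_eq_fintype_card, ← hq]
        simp only [Nat.add_sub_cancel, nsmul_eq_mul]
        push_cast; ring
    · refine ⟨-d, by rcases h.sd with rfl | rfl <;> simpa using hp2, ?_⟩
      have h3 := H8.ip_orbT_lf_one (aut D e) j.out.2
      rw [H7.ip_def, mul_eq_zero, ← Finset.add_sum_erase _ _ (Finset.mem_univ 1)] at h3
      have h4 := h3.resolve_left (inv_ne_zero (H7.card_ne_zero' D))
      rw [← j.out_eq, Finset.sum_congr rfl fun u hu => h.valY _ u (Finset.ne_of_mem_erase hu),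
        ← Finset.mul_sum, ← card_aut]
      simp only [orbT, finsum_eq_sum_of_fintype, lf, map_one, Units.val_one, MonoidHom.one_apply,
        mul_one, Finset.sum_const, Finset.card_univ, nsmul_eq_mul, ← Nat.card_eq_fintype_card] at h4 ⊢
      push_cast
      linear_combination (d : ℂ) * h4
  have h3 := h.ip_eq (H8.blockPart_of_mem hχ) (H7.irr_cf χ₁.2)
  rw [Finset.sum_congr rfl (g := fun u => sW p D e δ χ u * (ε χ₁ / (Nat.card D * iidx D e)))
    fun u hu => by
      rw [h.dA_eq χ₁, h.valX χ₁ h₁ u (Finset.ne_of_mem_erase hu), sW, map_mul, map_intCast,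
        map_intCast]; ring, ← Finset.sum_mul, h2, ip_irr_irr] at h3
  have h4 : mZ p B χ χ₁ = Nat.card D * (if χ = χ₁ then 1 else 0) - n * ε χ₁ := by
    apply Int.cast_injective (α := ℂ)
    have := H7.card_ne_zero' D
    have : (iidx D e : ℂ) ≠ 0 := Nat.cast_ne_zero.2 (iidx_ne_zero D e)
    rw [mZ_spec hχ (H6.isGen_of_irr χ₁.2), ← Nat.cast_pow, ← h.card_D]
    push_cast
    rw [h3]
    field_simp
    ring
  rw [h4, dvd_sub_right (hp1.mul_right _)]
  rcases h.sε χ₁ h₁ with h5 | h5 <;> simpa [h5] using hn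

theorem height (hD : D ≠ ⊥) {χ : IrrCharacter G} (hχ : χ ∈ B) :
    blockHeight p B (χ : G → ℂ) = 0 := by
  obtain ⟨χ₁, h₁⟩ := Finset.card_pos.1 (h.card ▸ Nat.pos_of_ne_zero (iidx_ne_zero D e))
  by_contra h0
  exact h.not_dvd_mZ hD hχ h₁ ((dvd_pow_self _ h0).trans (pow_dvd_mZ hχ (H6.isGen_of_irr χ₁.2)))

theorem sing_eq {χ χ' : IrrCharacter G} (hχ : χ ∈ X) (hχ' : χ' ∈ X) {g : G} (hg : p ∣ orderOf g) :
    (ε χ : ℂ) * χ.1 g = ε χ' * χ'.1 g := by
  refine sub_eq_zero.1 (h.vanish' (θ := (ε χ : ℂ) • χ.1 - (ε χ' : ℂ) • χ'.1) ?_ (fun u hu => ?_) hg)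
  · rw [H8.blockPart_sub, H8.blockPart_smul, H8.blockPart_smul, H8.blockPart_of_mem (h.memX hχ),
      H8.blockPart_of_mem (h.memX hχ')]
  · rw [sW_sub_smul, h.valX χ hχ u hu, h.valX χ' hχ' u hu]
    rcases h.sε χ hχ with h1 | h1 <;> rcases h.sε χ' hχ' with h2 | h2 <;> simp [h1, h2]

end Fam

theorem FrD.rank_le (h : FrD p B D e) (hD : D ≠ ⊥) : blockRank p B ≤ iidx D e := by
  obtain ⟨δ, h1⟩ := h.exists_sgD
  refine (le_total _ _).elim id fun hl => ?_
  obtain ⟨X, ψ, ε, d, h2, -⟩ := h1.exists_fam hD hl (H8.irrOne G)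
  exact h2.rank.le

/-- The case of a small inertial quotient. -/
theorem FrD.le_rank (h : FrD p B D e) (hD : D ≠ ⊥) (he : iidx D e ≤ 3)
    (ht : Nat.card (Quotient (orbS (aut D e))) = 1 ∨
      iidx D e + 1 < Nat.card (Quotient (orbS (aut D e)))) : iidx D e ≤ blockRank p B := by
  classical
  obtain ⟨δ, h⟩ := h.exists_sgD
  have := Fintype.ofFinite (Quotient (orbS (aut D e)))
  have := Fintype.ofFinite G
  by_contra! hl
  have h0 := blockRank_pos (p := p) h.blk
  have hk := h.card_eq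
  choose a ha using fun j => exists_ip_int (h.isGen_Ph j)
  have hsq : ∀ j, ∑ χ ∈ bs B, a j χ ^ 2 = iidx D e + 1 := fun j => by
    have h1 := ip_blockPart_left B (Ph p D e δ j) (Ph p D e δ j)
    rw [Ph, h.blockPart_Phi, ← Ph, h.ip_Ph_Ph, if_pos rfl] at h1
    apply Int.cast_injective (α := ℂ)
    push_cast
    rw [h1]
    exact Finset.sum_congr rfl fun χ _ => by rw [← H7.ip_conj_symm (Ph p D e δ j), ha, map_intCast, sq]
  have hne : ∀ χ ∈ B, ∃ j, a j χ ≠ 0 := fun χ hχ =>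
    (h.exists_ip_Ph_ne hD hχ).imp fun j hj h1 => hj (by rw [ha, h1, Int.cast_zero])
  obtain ⟨o⟩ := h.nonempty_orb hD
  rcases ht with ht | ht
  · have := (Nat.card_eq_one_iff_unique.1 ht).1
    have := add_three_le_sum_sq (s := bs B) (a := a o) (fun χ hχ => by
      obtain ⟨j, hj⟩ := hne χ (mem_bs.1 hχ)
      rwa [Subsingleton.elim o j]) (by rw [hsq, card_bs]; omega)
    rw [hsq, card_bs] at this
    omega
  obtain ⟨ε, hε, μ, h1, h2, h3⟩ := H6.exists_exceptional o (fun j => Ph p D e δ j - Ph p D e δ o)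
    (sub_self _) (fun j => H6.isGen_sub (h.isGen_Ph _) (h.isGen_Ph _))
    (fun j => by rw [Pi.sub_apply, SgD.Ph_reg _ not_dvd_orderOf_one, SgD.Ph_reg _ not_dvd_orderOf_one,
      sub_self]) (fun j hj => by
      simp [← H7.ip_eq_classInner, H7.ip_sub_left, H7.ip_sub_right, h.ip_Ph_Ph, hj, hj.symm]; ring)
    fun i j hi hj hij => by
      simp [← H7.ip_eq_classInner, H7.ip_sub_left, H7.ip_sub_right, h.ip_Ph_Ph, hi, hj.symm, hij]
  let ν : Quotient (orbS (aut D e)) → IrrCharacter G := fun j => ⟨μ j, h1 j⟩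
  have hν : Function.Injective ν := fun i j hij => h2 (congrArg Subtype.val hij)
  obtain ⟨ε, rfl, hε'⟩ : ∃ n : ℤ, (n : ℂ) = ε ∧ (n = 1 ∨ n = -1) := by
    rcases hε with rfl | rfl
    exacts [⟨1, by simp, .inl rfl⟩, ⟨-1, by simp, .inr rfl⟩]
  have h4 : ∀ j χ, a j χ - a o χ = ε * ((if ν j = χ then 1 else 0) - if ν o = χ then 1 else 0) :=
    fun j χ => by
      apply Int.cast_injective (α := ℂ)
      push_cast
      rw [← ha, ← ha, ← H7.ip_sub_left, h3, H7.ip_smul_left, H7.ip_sub_left, ← ip_irr_irr,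
        ← ip_irr_irr]
  have h5 : ∀ i j, i ≠ j → a j (ν i) = a i (ν i) - ε := fun i j hij => by
    have h5 := h4 i (ν i)
    have h6 := h4 j (ν i)
    simp only [hν.eq_iff, if_true, hij.symm, if_false] at h5 h6
    linear_combination h6 - h5
  have h6 : ∀ i, ν i ∈ B := fun i => by
    obtain ⟨j, hj⟩ := Fintype.exists_ne_of_one_lt_card
      (by rw [← Nat.card_eq_fintype_card]; omega) i
    by_contra h6
    have h7 : ∀ j, a j (ν i) = 0 := fun j => Int.cast_injective (α := ℂ) (by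
      rw [← ha, Ph, (blockPart_eq_self_iff (h.cf_Phi _)).1 (h.blockPart_Phi _) _ h6, Int.cast_zero])
    have := h5 i j hj.symm
    rw [h7, h7] at this
    omega
  have h7 : ∀ j, ∑ χ ∈ bs B \ Finset.univ.image ν, a o χ ^ 2 + ∑ i, a j (ν i) ^ 2 = iidx D e + 1 :=
    fun j => by
      rw [← hsq j, ← Finset.sum_sdiff (s₁ := Finset.univ.image ν) (s₂ := bs B) (fun χ hχ => by
        obtain ⟨i, -, rfl⟩ := Finset.mem_image.1 hχ
        exact mem_bs.2 (h6 i)), Finset.sum_image fun _ _ _ _ hab => hν hab]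
      refine congrArg (· + _) (Finset.sum_congr rfl fun χ hχ => ?_)
      have h7 : ∀ i, ν i ≠ χ := by simpa using (Finset.mem_sdiff.1 hχ).2
      rw [← sub_eq_zero.1 ((h4 j χ).trans (by simp [h7]))]
  have h8 : (bs B \ Finset.univ.image ν).card = blockRank p B := by
    rw [Finset.card_sdiff_of_subset (fun χ hχ => by
        obtain ⟨i, -, rfl⟩ := Finset.mem_image.1 hχ
        exact mem_bs.2 (h6 i)), Finset.card_image_of_injective _ hν, card_bs, Finset.card_univ,
      ← Nat.card_eq_fintype_card]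
    omega
  have h9 : ∀ χ ∈ bs B \ Finset.univ.image ν, a o χ ≠ 0 := fun χ hχ => by
    have h7 : ∀ i, ν i ≠ χ := by simpa using (Finset.mem_sdiff.1 hχ).2
    obtain ⟨j, hj⟩ := hne χ (mem_bs.1 (Finset.mem_sdiff.1 hχ).1)
    rwa [← sub_eq_zero.1 ((h4 j χ).trans (by simp [h7]))]
  have h10 : ∀ j, ∑ i, a j (ν i) ^ 2 = ∑ i, (a i (ν i) - ε) ^ 2 + 2 * ε * a j (ν j) - 1 := fun j => by
    rw [← Finset.add_sum_erase _ _ (Finset.mem_univ j), ← Finset.add_sum_erase _ _ (Finset.mem_univ j),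
      Finset.sum_congr rfl fun i hi => by rw [h5 i j (Finset.ne_of_mem_erase hi)]]
    rcases hε' with rfl | rfl <;> ring
  have h11 : ∀ j, a j (ν j) = a o (ν o) := fun j => by
    have := (h7 j).trans (h7 o).symm
    rw [h10, h10] at this
    rcases hε' with rfl | rfl <;> omega
  have h12 := h7 o
  simp only [h10, h11, Finset.sum_const, Finset.card_univ, ← Nat.card_eq_fintype_card,
    nsmul_eq_mul] at h12
  have h13 : ((bs B \ Finset.univ.image ν).card : ℤ) ≤ ∑ χ ∈ bs B \ Finset.univ.image ν, a o χ ^ 2 := by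
    rw [Finset.card_eq_sum_ones]
    push_cast
    exact Finset.sum_le_sum fun χ hχ => H24.D1.one_le_sq_int (h9 χ hχ)
  by_cases h14 : a o (ν o) - ε = 0
  · have := add_three_le_sum_sq h9
    rw [sub_eq_zero.1 h14] at h12
    rcases hε' with rfl | rfl <;> omega
  · have h15 := H24.D1.one_le_sq_int h14
    have h16 : (iidx D e : ℤ) + 2 ≤ Nat.card (Quotient (orbS (aut D e))) := by omega
    rcases hε' with rfl | rfl <;> nlinarith [sq_nonneg (a o (ν o))]

end Cfsg.Agent.H9
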