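import Mathlib
import Cfsg.Agent.H9.Subs
import Cfsg.Agent.H9.Lift
import Cfsg.Agent.H7.Sect

/-!
Blocks with one simple module: the basic algebra has dimension `|D|`.
-/

set_option autoImplicit false
set_option linter.unusedSectionVars false

namespace Cfsg.Agent.H9

open MonoidAlgebra Cfsg Module Polynomial
open Cfsg.Agent.H8 (locRing resField res rd eB fB fC up red Zen IsBlockUnion chiL)
open Cfsg.Agent.H7 (ip)
open scoped ComplexConjugate

universe v

section Alg

variable (k : Type*) [Field k] {A : Type v} [Ring A] [Algebra k A]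

/-- The map `a ↦ y a y'`. -/
noncomputable def sand {R B : Type*} [CommRing R] [Ring B] [Algebra R B] (y y' : B) : B →ₗ[R] B :=
  LinearMap.mulLeft R y ∘ₗ LinearMap.mulRight R y'

theorem sand_apply {R B : Type*} [CommRing R] [Ring B] [Algebra R B] (y y' a : B) :
    sand (R := R) y y' a = y * (a * y') := rfl

theorem sand_idem {R B : Type*} [CommRing R] [Ring B] [Algebra R B] {y y' : B} (hy : y * y = y)
    (hy' : y' * y' = y') : IsIdempotentElem (sand (R := R) y y') :=
  LinearMap.ext fun a => by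
    simp only [Module.End.mul_apply, sand_apply, mul_assoc, hy']
    rw [← mul_assoc, hy]

/-- The dimension of `yX`. -/
noncomputable def rk (y : A) (X : Type*) [AddCommGroup X] [Module k X] [Module A X]
    [IsScalarTower k A X] : ℕ := finrank k (LinearMap.range (Algebra.lsmul k k X y))

variable {k}

section
variable {X Y : Type*} [AddCommGroup X] [Module k X] [Module A X] [IsScalarTower k A X]
  [AddCommGroup Y] [Module k Y] [Module A Y] [IsScalarTower k A Y]

theorem rk_equiv (y : A) (φ : X ≃ₗ[A] Y) : rk k y X = rk k y Y := by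
  rw [rk, rk, ← LinearEquiv.finrank_map_eq (φ.restrictScalars k)]
  refine congrArg (fun W : Submodule k Y => finrank k W) (Submodule.ext fun z => ?_)
  constructor
  · rintro ⟨_, ⟨x, rfl⟩, rfl⟩
    exact ⟨φ x, (φ.map_smul y x).symm⟩
  · rintro ⟨x, rfl⟩
    exact ⟨_, ⟨φ.symm x, rfl⟩, by simp⟩

theorem rk_sub (y : A) (T : Submodule A X) :
    rk k y T = finrank k ((T.restrictScalars k).map (Algebra.lsmul k k X y)) := by
  rw [rk, ← (Submodule.equivMapOfInjective (T.subtype.restrictScalars k) Subtype.val_injective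
    _).finrank_eq.symm]
  refine congrArg (fun W : Submodule k X => finrank k W) (Submodule.ext fun z => ?_)
  constructor
  · rintro ⟨_, ⟨x, rfl⟩, rfl⟩
    exact ⟨x, x.2, rfl⟩
  · rintro ⟨x, hx, rfl⟩
    exact ⟨_, ⟨⟨x, hx⟩, rfl⟩, rfl⟩

theorem rk_add [FiniteDimensional k X] {y : A} (hy : y * y = y) (T : Submodule A X) :
    rk k y X = rk k y T + rk k y (X ⧸ T) := by
  let f := (T.mkQ.restrictScalars k) ∘ₗ (LinearMap.range (Algebra.lsmul k k X y)).subtype
  rw [rk, ← f.finrank_range_add_finrank_ker, add_comm, rk_sub, rk,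
    ← Submodule.finrank_map_subtype_eq _ (LinearMap.ker f)]
  congr 1
  · refine congrArg (fun W : Submodule k X => finrank k W) (Submodule.ext fun z => ?_)
    constructor
    · rintro ⟨⟨_, x, rfl⟩, hx, rfl⟩
      exact ⟨y • x, (Submodule.Quotient.mk_eq_zero T).1 hx, by simp [smul_smul, hy]⟩
    · rintro ⟨x, hx, rfl⟩
      exact ⟨⟨_, x, rfl⟩, (Submodule.Quotient.mk_eq_zero T).2 (T.smul_mem y hx), rfl⟩
  · refine congrArg (fun W : Submodule k (X ⧸ T) => finrank k W) (Submodule.ext fun z => ?_)
    constructor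
    · rintro ⟨⟨_, x, rfl⟩, rfl⟩
      exact ⟨T.mkQ x, rfl⟩
    · rintro ⟨z, rfl⟩
      obtain ⟨x, rfl⟩ := T.mkQ_surjective z
      exact ⟨⟨_, x, rfl⟩, rfl⟩

theorem rk_one : rk k (1 : A) X = finrank k X := by
  rw [rk, map_one, Module.End.one_eq_id, LinearMap.range_id, finrank_top]

end

theorem rk_span (y y' : A) :
    rk k y (Submodule.span A {y'}) = finrank k (LinearMap.range (sand (R := k) y y')) := by
  rw [rk_sub]
  refine congrArg (fun W : Submodule k A => finrank k W) (Submodule.ext fun z => ?_)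
  constructor
  · rintro ⟨x, hx, rfl⟩
    obtain ⟨a, rfl⟩ := Submodule.mem_span_singleton.1 hx
    exact ⟨a, rfl⟩
  · rintro ⟨a, rfl⟩
    exact ⟨a * y', Submodule.mem_span_singleton.2 ⟨a, rfl⟩, rfl⟩

variable (k) in
/-- `S` is the only simple module on which `b` acts as the identity. -/
def OnlySimple (b : A) (S : Type v) [AddCommGroup S] [Module A S] : Prop :=
  ∀ (T : Type v) [AddCommGroup T] [Module k T] [Module A T] [IsScalarTower k A T]
    [FiniteDimensional k T] [IsSimpleModule A T], (∀ x : T, b • x = x) → Nonempty (T ≃ₗ[A] S)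

variable {b : A} {S : Type v} [AddCommGroup S] [Module k S] [Module A S] [IsScalarTower k A S]

theorem OnlySimple.induction (hS : OnlySimple k b S)
    {P : ∀ (X : Type v) [AddCommGroup X] [Module k X] [Module A X] [IsScalarTower k A X], Prop}
    (h0 : ∀ (X : Type v) [AddCommGroup X] [Module k X] [Module A X] [IsScalarTower k A X]
      [Subsingleton X], P X)
    (h1 : ∀ (X : Type v) [AddCommGroup X] [Module k X] [Module A X] [IsScalarTower k A X]
      [FiniteDimensional k X] (T : Submodule A X), Nonempty (T ≃ₗ[A] S) → T ≠ ⊥ → P (X ⧸ T) → P X)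
    (n : ℕ) : ∀ (X : Type v) [AddCommGroup X] [Module k X] [Module A X] [IsScalarTower k A X]
      [FiniteDimensional k X], finrank k X = n → (∀ x : X, b • x = x) → P X := by
  induction n using Nat.strong_induction_on with
  | _ n ih =>
  intro X _ _ _ _ _ hn hb
  have : IsArtinian A X := isArtinian_of_tower k inferInstance
  rcases eq_bot_or_exists_atom_le (⊤ : Submodule A X) with h | ⟨T, hT, -⟩
  · have : Subsingleton X := (Submodule.subsingleton_iff A).1 (subsingleton_of_bot_eq_top h.symm)
    exact h0 X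
  have := isSimpleModule_iff_isAtom.2 hT
  have : FiniteDimensional k T :=
    FiniteDimensional.of_injective (T.subtype.restrictScalars k) Subtype.val_injective
  have : FiniteDimensional k (X ⧸ T) :=
    Module.Finite.of_surjective (T.mkQ.restrictScalars k) T.mkQ_surjective
  refine h1 X T (hS T fun x => Subtype.ext (hb x)) hT.1 (ih _ ?_ _ rfl fun z => ?_)
  · have h2 := rk_add (k := k) (mul_one (1 : A)) T
    have := IsSimpleModule.nontrivial A T
    have := finrank_pos (R := k) (M := T)
    simp only [rk_one] at h2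
    omega
  · obtain ⟨x, rfl⟩ := T.mkQ_surjective z
    rw [← map_smul, hb]

theorem OnlySimple.rk_mul (hS : OnlySimple k b S) {y i : A} (hy : y * y = y) (hi : i * i = i)
    (X : Type v) [AddCommGroup X] [Module k X] [Module A X] [IsScalarTower k A X]
    [FiniteDimensional k X] (hb : ∀ x : X, b • x = x) :
    rk k y X * rk k i S = rk k i X * rk k y S := by
  refine hS.induction (P := fun X => rk k y X * rk k i S = rk k i X * rk k y S) (fun X _ _ _ _ _ => ?_)
    (fun X _ _ _ _ _ T ⟨φ⟩ _ h => ?_) _ X rfl hb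
  · simp [rk, finrank_zero_of_subsingleton]
  · rw [rk_add hy T, rk_add hi T, rk_equiv y φ, rk_equiv i φ, add_mul, add_mul, h, mul_comm]

theorem OnlySimple.prod_smul (hS : OnlySimple k b S)
    (X : Type v) [AddCommGroup X] [Module k X] [Module A X] [IsScalarTower k A X]
    [FiniteDimensional k X] (hb : ∀ x : X, b • x = x) :
    ∃ N, ∀ l : List A, (∀ a ∈ l, ∀ s : S, a • s = 0) → N ≤ l.length → ∀ x : X, l.prod • x = 0 := by
  refine hS.induction (P := fun X => ∃ N, ∀ l : List A, (∀ a ∈ l, ∀ s : S, a • s = 0) →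
    N ≤ l.length → ∀ x : X, l.prod • x = 0) (fun X _ _ _ _ _ => ⟨0, fun _ _ _ _ => Subsingleton.elim _ _⟩)
    (fun X _ _ _ _ _ T ⟨φ⟩ _ ⟨N, h⟩ => ⟨N + 1, fun l hl hN x => ?_⟩) _ X rfl hb
  obtain _ | ⟨a, l⟩ := l
  · simp at hN
  have h1 : l.prod • x ∈ T := by
    rw [← Submodule.Quotient.mk_eq_zero, Submodule.Quotient.mk_smul]
    exact h l (fun c hc => hl c (List.mem_cons_of_mem _ hc)) (by simpa using hN) _
  have h2 : a • (⟨_, h1⟩ : T) = 0 := φ.injective (by
    rw [map_smul, hl a List.mem_cons_self, map_zero])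
  rw [List.prod_cons, mul_smul]
  exact congrArg Subtype.val h2

end Alg

variable {M : Ideal AlgInt} [hMm : M.IsMaximal] {p : ℕ} [hp : Fact p.Prime] [hM : PMod M p]
variable {G : Type v} [Group G] [Finite G]

omit hp hM in
theorem finrank_range_red_le (L : (locRing M)[G] → (locRing M)[G])
    (Lk : (resField M)[G] →ₗ[resField M] (resField M)[G]) (LC : ℂ[G] →ₗ[ℂ] ℂ[G])
    (h1 : ∀ a, red M (L a) = Lk (red M a)) (h2 : ∀ a, up M (L a) = LC (up M a)) :
    finrank (resField M) (LinearMap.range Lk) ≤ finrank ℂ (LinearMap.range LC) := by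
  let β := Module.finBasis (resField M) (LinearMap.range Lk)
  choose a ha using fun j => (β j).2
  have h3 := li_of_res (fun j g => (L (lft M (a j))).coeff g) (by
    have := (β.linearIndependent.map' _ (Submodule.ker_subtype _)).map'
      ((Finsupp.linearEquivFunOnFinite _ _ G).toLinearMap ∘ₗ (coeffLinearEquiv _).toLinearMap)
      (by simp [LinearMap.ker_comp])
    refine (congrArg (fun v => LinearIndependent (resField M) v)
      (_root_.funext fun j => _root_.funext fun g => ?_)).mp this
    rw [← H8.coeff_red, h1, red_lft, ha]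
    rfl)
  have h4 : LinearIndependent ℂ fun j => (⟨LC (up M (lft M (a j))), _, rfl⟩ : LinearMap.range LC) := by
    refine LinearIndependent.of_comp ((Finsupp.linearEquivFunOnFinite ℂ ℂ G).toLinearMap ∘ₗ
      (coeffLinearEquiv ℂ).toLinearMap ∘ₗ (LinearMap.range LC).subtype) ?_
    refine (congrArg (fun v => LinearIndependent ℂ v)
      (_root_.funext fun j => _root_.funext fun g => ?_)).mp h3
    rw [← H8.coeff_up, h2]
    rfl
  simpa using h4.fintype_card_le_finrank

omit hp hM in
theorem trace_sand (y y' : ℂ[G]) : LinearMap.trace ℂ _ (sand y y') = chiL (projChar y') y := by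
  classical
  have := Fintype.ofFinite G
  rw [LinearMap.trace_eq_matrix_trace ℂ (MonoidAlgebra.basis G ℂ), Matrix.trace, H8.chiL_apply]
  simp only [Matrix.diag, LinearMap.toMatrix_apply, projChar_apply, Finset.mul_sum]
  rw [Finset.sum_comm, ← Equiv.sum_comp (Equiv.inv G)]
  refine Finset.sum_congr rfl fun g _ => ?_
  change (y * (single g⁻¹ (1 : ℂ) * y')).coeff g⁻¹ = _
  rw [H8.coeff_mul_sum]
  refine Finset.sum_congr rfl fun h _ => ?_
  rw [coeff_single_mul_apply, one_mul, inv_inv, mul_assoc]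

omit hp hM in
theorem finrank_sand {y y' : (locRing M)[G]} (hy : y * y = y) (hy' : y' * y' = y') :
    (finrank (resField M) (LinearMap.range (sand (R := resField M) (red M y) (red M y'))) : ℂ) =
      chiL (projChar (up M y')) (up M y) := by
  have e1 := sand_idem (R := resField M) (y := red M y) (y' := red M y') (by rw [← map_mul, hy])
    (by rw [← map_mul, hy'])
  have e2 := sand_idem (R := ℂ) (y := up M y) (y' := up M y') (by rw [← map_mul, hy])
    (by rw [← map_mul, hy'])
  have h1 := finrank_range_red_le (sand (R := locRing M) y y') (sand (red M y) (red M y'))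
    (sand (up M y) (up M y')) (fun a => by simp [sand_apply]) fun a => by simp [sand_apply]
  have h2 := finrank_range_red_le (fun a => a - sand (R := locRing M) y y' a) (1 - sand (red M y) (red M y'))
    (1 - sand (up M y) (up M y')) (fun a => by simp [sand_apply]) fun a => by simp [sand_apply]
  rw [← LinearMap.IsIdempotentElem.ker_eq_range_one_sub e1,
    ← LinearMap.IsIdempotentElem.ker_eq_range_one_sub e2] at h2
  have h3 := (sand (R := resField M) (red M y) (red M y')).finrank_range_add_finrank_ker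
  have h4 := (sand (R := ℂ) (up M y) (up M y')).finrank_range_add_finrank_ker
  rw [finrank_eq_nat_card_basis (MonoidAlgebra.basis G _)] at h3 h4
  rw [← trace_sand, (LinearMap.IsIdempotentElem.isProj_range _ e2).trace]
  exact congrArg _ (by omega)

theorem chiL_congr_reg {e : (locRing M)[G]} (he : e * e = e) {θ θ' : G → ℂ}
    (hθ : IsClassFunction G θ) (hθ' : IsClassFunction G θ')
    (h : ∀ g, ¬ p ∣ orderOf g → θ g = θ' g) : chiL θ (up M e) = chiL θ' (up M e) := by
  have := Fintype.ofFinite G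
  have key : ∀ θ : G → ℂ, IsClassFunction G θ →
      Nat.card G * chiL θ (up M e) = ∑ g, θ g * projChar (up M e) g⁻¹ := fun θ hθ => by
    simp only [projChar_apply, Finset.mul_sum, inv_inv]
    rw [Finset.sum_comm, Finset.sum_congr rfl (g := fun _ => chiL θ (up M e)), Finset.sum_const,
      Finset.card_univ, nsmul_eq_mul, Nat.card_eq_fintype_card]
    intro j _
    rw [H8.chiL_apply, ← Equiv.sum_comp (MulAut.conj j).toEquiv fun g => (up M e).coeff g * θ g]
    exact Finset.sum_congr rfl fun g _ => by rw [mul_comm, ← hθ g j]; rfl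
  refine mul_left_cancel₀ (Nat.cast_ne_zero.2 (Nat.card_pos (α := G)).ne') ?_
  rw [key θ hθ, key θ' hθ']
  refine Finset.sum_congr rfl fun g _ => ?_
  by_cases hg : p ∣ orderOf g
  · rw [projChar_eq_zero he (by rwa [orderOf_inv]), mul_zero, mul_zero]
  · rw [h g hg]

omit hMm hp hM [Finite G] in
theorem exists_nat_chiL {e : ℂ[G]} (he : e * e = e) {χ : G → ℂ} (hχ : IsCharacter G χ) :
    ∃ n : ℕ, chiL χ e = n := by
  obtain ⟨n, ρ, rfl⟩ := hχ
  rw [H8.chiL_character]
  exact ⟨_, (LinearMap.IsIdempotentElem.isProj_range _ (show IsIdempotentElem (ρ.asAlgebraHom e) by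
    rw [IsIdempotentElem, ← map_mul, he])).trace⟩

/-- Inner products on `p'`-subgroups are values at idempotents. -/
theorem exists_idem_ip {E : Type*} [Group E] [Finite E] (hE : ¬ p ∣ Nat.card E) (ι : E →* G)
    (lam : E →* ℂˣ) : ∃ y : (locRing M)[G], y * y = y ∧
      ∀ θ : G → ℂ, ip (fun x => θ (ι x)) (fun x => (lam x : ℂ)) = chiL θ (up M y) := by
  classical
  have := Fintype.ofFinite E
  have h0 : (Nat.card E : ℂ) ≠ 0 := Nat.cast_ne_zero.2 Nat.card_pos.ne'
  let z : ℂ[E] := ofFun fun x => (Nat.card E : ℂ)⁻¹ * lam x⁻¹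
  have hz : ∀ x, z.coeff x ∈ locRing M := fun x => mul_mem (H8.inv_natCast_mem_locRing hM.out hE)
    (gen_mem (H6.isGen_of_irr (H7.irr_of_hom lam)) x⁻¹)
  have hzz : z * z = z := ext_coeff fun g => by
    rw [coeff_mul_sum, Finset.sum_congr rfl (g := fun _ => (Nat.card E : ℂ)⁻¹ * z.coeff g),
      Finset.sum_const, Finset.card_univ, nsmul_eq_mul, ← Nat.card_eq_fintype_card,
      mul_inv_cancel_left₀ h0]
    intro x _
    simp only [z, coeff_ofFun, mul_inv_rev, inv_inv, map_mul, map_inv, Units.val_mul,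
      Units.val_inv_eq_inv_val]
    field_simp
  have hup : ∀ a : (locRing M)[E], up M (em _ ι a) = em _ ι (up M a) := fun a => by
    rw [H8.eq_sum_single a]
    simp [em_single]
  refine ⟨em _ ι (H8.toOG M z), ?_, fun θ => ?_⟩
  · rw [← map_mul]
    exact congrArg _ (H8.up_injective (by rw [map_mul, H8.up_toOG hz, hzz]))
  · rw [hup, H8.up_toOG hz, H8.eq_sum_single z, map_sum, map_sum, H7.ip_def, Finset.mul_sum]
    refine Finset.sum_congr rfl fun x _ => ?_
    rw [em_single, H8.chiL_single, coeff_ofFun, H6.isGen_inv (H6.isGen_of_irr (H7.irr_of_hom lam)) x]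
    ring

/-- A generalized character whose values at idempotents are divisible by `n` is divisible by `n`
on the `p`-regular elements. -/
theorem exists_gen_of_idem {φ : G → ℂ} (hφ : IsClassFunction G φ)
    (h : ∀ y : (locRing M)[G], y * y = y → ∃ m : ℤ, chiL φ (up M y) = m) :
    ∃ η, IsGeneralizedCharacter G η ∧ ∀ g, ¬ p ∣ orderOf g → η g = φ g := by
  have hc := Nat.coprime_ordCompl hp.out (Nat.card_pos (α := G)).ne'
  obtain ⟨a, ha, ha'⟩ := H7.exists_piExp (hc.pow_left ((Nat.card G).factorization p))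
  refine ⟨fun x => φ (x ^ a), H7.gen_pow_of_elem (hc.pow_left _)
    (Nat.ordProj_mul_ordCompl_eq_self _ p).symm.dvd ha ha' hφ fun V _ _ _ hV => ?_, fun g hg => ?_⟩
  · have := Fintype.ofFinite V
    refine H6.isGen_of_classInner_int (H7.cf_comp V.subtype hφ) fun ψ hψ => ?_
    rw [← H7.ip_eq_classInner]
    have h1 := H7.mem_linSpan_elem (H6.isGen_of_irr hψ)
    clear hψ
    induction h1 using AddSubgroup.closure_induction with
    | mem _ h1 =>
      obtain ⟨E, -, lam, rfl⟩ := h1
      obtain ⟨y, hy, h2⟩ := exists_idem_ip (M := M) (p := p) (fun h => (Nat.Prime.coprime_iff_not_dvd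
        hp.out).1 hc (h.trans ((Subgroup.card_subgroup_dvd_card E).trans hV)))
        (V.subtype.comp E.subtype) lam
      rw [H7.ip_ind_right _ _ (H6.isClassFunction_restrict V hφ)]
      obtain ⟨m, hm⟩ := h y hy
      exact ⟨m, (h2 φ).trans hm⟩
    | zero => exact ⟨0, by rw [H7.ip_zero_right, Int.cast_zero]⟩
    | add _ _ _ _ h1 h2 =>
      obtain ⟨m, h1⟩ := h1
      obtain ⟨n, h2⟩ := h2
      exact ⟨m + n, by rw [H7.ip_add_right, h1, h2, Int.cast_add]⟩
    | neg _ _ h1 =>
      obtain ⟨m, h1⟩ := h1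
      exact ⟨-m, by rw [H7.ip_neg_right, h1, Int.cast_neg]⟩
  · have := H7.mul_pow_part (u := 1) ha ha' (Commute.one_left g) (by simp)
      (Nat.dvd_ordCompl_of_dvd_not_dvd (orderOf_dvd_natCard g) hg)
    rw [one_mul] at this
    simp only [this]

theorem onlySimple_of_rank {B : Set (IrrCharacter G)} (hB : IsBlockUnion M B)
    (hl : blockRank p B ≤ 1) {S : Type v} [AddCommGroup S] [Module (resField M) S]
    [Module (resField M)[G] S] [IsScalarTower (resField M) (resField M)[G] S]
    [FiniteDimensional (resField M) S] [IsSimpleModule (resField M)[G] S]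
    (hb : ∀ x : S, eB M B • x = x) : OnlySimple (resField M) (eB M B) S := by
  intro T _ _ _ _ _ _ hT
  by_contra hne
  let F : Bool → Submodule (resField M)[G] (T × S) := fun c =>
    cond c (Submodule.fst _ T S) (Submodule.snd _ T S)
  have h1 : ∀ c, IsSimpleModule (resField M)[G] (F c) := fun c => by
    cases c
    exacts [IsSimpleModule.congr (Submodule.sndEquiv _ T S),
      IsSimpleModule.congr (Submodule.fstEquiv _ T S)]
  have h2 : ∀ c, FiniteDimensional (resField M) (F c) := fun c =>
    FiniteDimensional.of_injective ((F c).subtype.restrictScalars _) Subtype.val_injective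
  have := card_le_blockRank (p := p) hB (fun c => F c)
    (fun c x => Subtype.ext (Prod.ext (hT _) (hb _))) fun c c' hc => ⟨fun φ => hne ?_⟩
  · simp at this; omega
  cases c <;> cases c'
  · exact absurd rfl hc
  · exact ⟨(Submodule.fstEquiv _ T S).symm.trans (φ.symm.trans (Submodule.sndEquiv _ T S))⟩
  · exact ⟨(Submodule.fstEquiv _ T S).symm.trans (φ.trans (Submodule.sndEquiv _ T S))⟩
  · exact absurd rfl hc

/-- A Morita idempotent for a block with one simple module. -/
theorem exists_morita {B : Set (IrrCharacter G)} (hB : IsPBlock M B) (hl : blockRank p B = 1) :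
    ∃ i : (resField M)[G], i * i = i ∧ eB M B * i = i ∧
      (∃ (n : ℕ) (u v : Fin n → (resField M)[G]), ∑ r, u r * i * v r = eB M B) ∧
      finrank (resField M) (LinearMap.range (sand (R := resField M) i i)) = p ^ blockDefect p B ∧
      (∀ χ ∈ B, chiK M (χ : G → ℂ) i ^ 2 = mZ p B χ χ) ∧
      ∃ J : TwoSidedIdeal (resField M)[G], (∀ a, ∃ c : resField M, i * a * i - c • i ∈ J) ∧
        ∃ N, ∀ l : List (resField M)[G], (∀ a ∈ l, a ∈ J) → N ≤ l.length → l.prod * eB M B = 0 := by
  classical
  have hU := H8.isBlockUnion_of_block hB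
  have hbb := H8.eB_mul_self hU
  have hbc := H8.Zen_comm (H8.eB_mem_Zen (M := M) B)
  have hbs : ∀ {y : (resField M)[G]}, eB M B * y = y →
      ∀ x : Submodule.span (resField M)[G] {y}, eB M B • x = x := fun {y} hy ⟨x, hx⟩ => by
    obtain ⟨a, rfl⟩ := Submodule.mem_span_singleton.1 hx
    exact Subtype.ext (by simp only [SetLike.mk_smul_mk, smul_eq_mul]; rw [← mul_assoc, hbc, mul_assoc, hy])
  have hfd : ∀ T : Submodule (resField M)[G] (resField M)[G], FiniteDimensional (resField M) T :=
    fun T => FiniteDimensional.of_injective (T.subtype.restrictScalars _) Subtype.val_injective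
  have : IsArtinian (resField M)[G] (resField M)[G] := isArtinian_of_tower (resField M) inferInstance
  obtain ⟨S, hS, hSb⟩ := (eq_bot_or_exists_atom_le (Submodule.span (resField M)[G] {eB M B})).resolve_left
    fun h => (isBlk_eB hB).ne_zero (Submodule.span_singleton_eq_bot.1 h)
  have := isSimpleModule_iff_isAtom.2 hS
  have hb : ∀ x : S, eB M B • x = x := fun x =>
    Subtype.ext (show eB M B * x = x from congrArg Subtype.val (hbs hbb ⟨x, hSb x.2⟩))
  have hO := onlySimple_of_rank (S := S) hU hl.le hb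
  have := IsSimpleModule.nontrivial (resField M)[G] S
  obtain ⟨w, hw⟩ := exists_ne (0 : S)
  obtain ⟨ℓ, hℓ⟩ := Module.Projective.exists_dual_eq_one (resField M) hw
  obtain ⟨r, hr⟩ := exists_smul_eq (resField M)[G] (ℓ.smulRight w)
  obtain ⟨î, g, h1, h2, h3, h4⟩ := exists_idem_lift (eB M B * r)
  let ρ := Algebra.lsmul (resField M) (resField M) S (A := (resField M)[G])
  have h5 : ρ (red M î) = ℓ.smulRight w := by
    have h6 : ρ (eB M B * r) = ℓ.smulRight w := LinearMap.ext fun x => by
      rw [← hr, ← hb (r • x), ← mul_smul]; rfl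
    rw [h2, ← aeval_algHom_apply, h6, aeval_idem (e := (ℓ.smulRight w : Module.End _ S))
      (LinearMap.ext fun x => by simp [hℓ]), h3, h4,
      zero_smul, zero_add, one_smul]
  set i := red M î with hi
  have hii : i * i = i := by rw [hi, ← map_mul, h1]
  have hbi : eB M B * i = i := by
    obtain ⟨q, hq⟩ := X_dvd_iff.2 ((coeff_zero_eq_eval_zero _).trans h3)
    rw [h2, hq, map_mul, aeval_X, ← mul_assoc, ← mul_assoc, hbb]
  have hiS : rk (resField M) i S = 1 := by
    rw [rk, h5, LinearMap.range_smulRight_apply (fun h => by simp [h] at hℓ), finrank_span_singleton hw]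
  obtain ⟨n, d, e1, e2, e3, e4, e5⟩ := exists_of_rank_one hB hl
  set φ : G → ℂ := ∑ ψ ∈ bs B, (n ψ : ℂ) • (ψ : G → ℂ) with hφ
  have hφc : IsClassFunction G φ := H6.isClassFunction_of_isGen (isGen_sum_bs B n)
  have e6 : ∀ χ ∈ B, ∀ g, ¬ p ∣ orderOf g → (χ : G → ℂ) g = d χ * φ g := fun χ hχ g hg => by
    rw [e1 χ hχ g hg, hφ, Finset.sum_apply]; rfl
  have e7 : ∀ y : (locRing M)[G], y * y = y → ∀ χ ∈ B,
      chiL (χ : G → ℂ) (up M y) = d χ * chiL φ (up M y) := fun y hy χ hχ => by
    rw [chiL_congr_reg hy (H7.irr_cf χ.2) (H7.cf_smul (d χ : ℂ) hφc) (e6 χ hχ),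
      H8.chiL_sum {()} (fun _ => d χ) (fun _ => φ) _ (by simp), Finset.sum_singleton]
  have e8 : ∀ y : (locRing M)[G], y * y = y →
      (finrank (resField M) (LinearMap.range (sand (R := resField M) (red M y) i)) : ℂ) =
        (p : ℂ) ^ blockDefect p B * chiL φ (up M î) * chiL φ (up M y) := fun y hy => by
    rw [finrank_sand hy h1, ← blockPart_projChar hU (fB_mul_of_red hU h1 hbi), blockPart_eq_bs,
      H8.chiL_sum (bs B) _ _ _ (fun g => Finset.sum_apply _ _ _), Finset.sum_congr rfl fun χ hχ => by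
        rw [ip_projChar _ (H8.irr_isChar χ), e7 _ h1 χ (mem_bs.1 hχ), e7 _ hy χ (mem_bs.1 hχ)],
      ← Nat.cast_pow, ← e2, Nat.cast_sum, Finset.sum_mul, Finset.sum_mul]
    exact Finset.sum_congr rfl fun χ _ => by push_cast; ring
  have hq : (p : ℂ) ^ blockDefect p B ≠ 0 := pow_ne_zero_C _
  have hn0 : chiL φ (up M î) ≠ 0 := fun h0 => by
    have := e8 î h1
    rw [h0, mul_zero, Nat.cast_eq_zero, Submodule.finrank_eq_zero, LinearMap.range_eq_bot] at this
    have h6 : i = 0 := by simpa [sand_apply, ← hi, hii] using LinearMap.congr_fun this 1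
    have := LinearMap.congr_fun h5 w
    rw [h6, map_zero] at this
    exact hw (by simpa [hℓ] using this.symm)
  have e9 : ∀ y : (locRing M)[G], y * y = y →
      chiL φ (up M y) = chiL φ (up M î) * rk (resField M) (red M y) S := fun y hy => by
    have h6 := congrArg (Nat.cast : ℕ → ℂ)
      (hO.rk_mul (y := red M y) (by rw [← map_mul, hy]) hii
        (Submodule.span (resField M)[G] {i}) (hbs hbi))
    rw [hiS, mul_one, Nat.cast_mul, rk_span, rk_span, e8 y hy, e8 î h1, mul_assoc (_ * _)] at h6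
    exact mul_left_cancel₀ (mul_ne_zero hq hn0) h6
  have hn1 : chiL φ (up M î) ^ 2 = 1 := by
    obtain ⟨η, hη, h6⟩ := exists_gen_of_idem (M := M) (p := p) (H7.cf_smul (chiL φ (up M î))⁻¹ hφc)
      fun y hy => ⟨rk (resField M) (red M y) S, by
        rw [H8.chiL_sum {()} (fun _ => (chiL φ (up M î))⁻¹) (fun _ => φ) _ (by simp),
          Finset.sum_singleton, e9 y hy, inv_mul_cancel_left₀ hn0, Int.cast_natCast]⟩
    obtain ⟨m, hm⟩ := exists_ip_int hη
    have h7 : pRegularPart p (blockPart B η) = pRegularPart p ((chiL φ (up M î))⁻¹ • φ) := by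
      rw [reg_blockPart hU, reg_eq_iff.2 h6, ← reg_blockPart hU, H8.blockPart_smul, hφ,
        blockPart_sum_bs]
    have h8 := chiL_congr_reg h1 (H8.isClassFunction_blockPart B η)
      (H7.cf_smul (chiL φ (up M î))⁻¹ hφc) (reg_eq_iff.1 h7)
    rw [H8.chiL_sum {()} (fun _ => (chiL φ (up M î))⁻¹) (fun _ => φ) ((chiL φ (up M î))⁻¹ • φ)
      (by simp), Finset.sum_singleton, inv_mul_cancel₀ hn0, blockPart_eq_bs,
      H8.chiL_sum (bs B) _ _ _ (fun g => Finset.sum_apply _ _ _), Finset.sum_congr rfl fun χ hχ => by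
        rw [e7 _ h1 χ (mem_bs.1 hχ), hm, ← mul_assoc], ← Finset.sum_mul] at h8
    obtain ⟨n₀, h9⟩ : ∃ n₀ : ℤ, chiL φ (up M î) = n₀ := by
      choose c hc using fun ψ : IrrCharacter G =>
        exists_nat_chiL (e := up M î) (by rw [← map_mul, h1]) (H8.irr_isChar ψ)
      refine ⟨∑ ψ ∈ bs B, n ψ * c ψ, ?_⟩
      rw [hφ, H8.chiL_sum (bs B) _ _ _ (fun g => Finset.sum_apply _ _ _)]
      simp [hc]
    rw [h9] at h8 ⊢
    have h10 : (∑ χ ∈ bs B, m χ * d χ) * n₀ = 1 := by exact_mod_cast h8
    rcases Int.eq_one_or_neg_one_of_mul_eq_one' h10 with h | h <;> simp [h.2]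
  refine ⟨i, hii, hbi, ?_, ?_, fun χ hχ => ?_, ⟨TwoSidedIdeal.ker ρ, fun a => ?_, ?_⟩⟩
  · let X := Submodule.span (resField M)[G] {eB M B}
    let T : Submodule (resField M)[G] X :=
      (Submodule.span (resField M)[G] (Set.range fun a => i * a)).comap X.subtype
    have : FiniteDimensional (resField M) (X ⧸ T) :=
      Module.Finite.of_surjective (T.mkQ.restrictScalars _) T.mkQ_surjective
    have h6 := hO.rk_mul (mul_one 1) hii (X ⧸ T) fun z => by
      obtain ⟨x, rfl⟩ := T.mkQ_surjective z
      rw [← map_smul, hbs hbb]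
    have h7 : rk (resField M) i (X ⧸ T) = 0 := by
      rw [rk, Submodule.finrank_eq_zero, LinearMap.range_eq_bot]
      refine LinearMap.ext fun z => ?_
      obtain ⟨x, rfl⟩ := T.mkQ_surjective z
      exact (Submodule.Quotient.mk_eq_zero T).2 (Submodule.subset_span ⟨x, rfl⟩)
    rw [h7, hiS, zero_mul, mul_one, rk_one, finrank_zero_iff] at h6
    have h8 : (⟨eB M B, Submodule.mem_span_singleton_self _⟩ : X) ∈ T :=
      (Submodule.Quotient.mk_eq_zero T).1 (Subsingleton.elim _ _)
    obtain ⟨N, u, v, h9⟩ := Submodule.mem_span_set'.1 h8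
    choose a ha using fun r => (v r).2
    exact ⟨N, u, a, by
      simpa only [mul_assoc, ha, smul_eq_mul, Submodule.subtype_apply] using h9⟩
  · have := e8 î h1
    rw [mul_assoc, ← pow_two, hn1, mul_one] at this
    exact_mod_cast this
  · rw [hi, (chiK_red (H8.irr_mem_locRing χ) î).2, ← H8.rd_pow (chiK_red (H8.irr_mem_locRing χ) î).1,
      e7 _ h1 χ hχ, mul_pow, hn1, mul_one, e5 χ hχ χ hχ, ← Nat.cast_pow, H8.rd_natCast]
    push_cast; ring
  · refine ⟨ℓ (a • w), ?_⟩
    rw [TwoSidedIdeal.mem_ker, map_sub, map_mul, map_mul, map_smul, h5]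
    refine LinearMap.ext fun x => ?_
    simp [ρ, smul_smul, mul_comm]
  · obtain ⟨N, hN⟩ := hO.prod_smul (Submodule.span (resField M)[G] {eB M B}) (hbs hbb)
    exact ⟨N, fun l hl h => congrArg Subtype.val (hN l (fun a ha s =>
      LinearMap.congr_fun ((TwoSidedIdeal.mem_ker ρ).1 (hl a ha)) s) h
      ⟨eB M B, Submodule.mem_span_singleton_self _⟩)⟩

end Cfsg.Agent.H9
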