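import Mathlib
import Cfsg.Agent.H9.Mod1
import Cfsg.Agent.H24.D1Mod

/-!
Simple modules detected by a uniserial local subalgebra with a normalizing unit.
-/

set_option autoImplicit false
set_option linter.unusedSectionVars false

namespace Cfsg.Agent.H9

open MonoidAlgebra Finset Cfsg
open Cfsg.Agent.H24.D1 (lrep trG toLin)
open LinearMap (range ker)

section Lin

variable {k : Type*} [Field k] {V : Type*} [AddCommGroup V] [Module k V]

theorem exists_eig [IsAlgClosed k] [FiniteDimensional k V] {Γ : Module.End k V}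
    {K R : Submodule k V} (hK : ∀ v ∈ K, Γ v ∈ K) (hR : ∀ v ∈ R, Γ v ∈ R) {v₀ : V} (h0 : v₀ ∈ K)
    (h1 : v₀ ∉ R) : ∃ (ζ : k) (w : V), w ∈ K ∧ w ∉ R ∧ Γ w - ζ • w ∈ R := by
  have : Nontrivial (K ⧸ R.comap K.subtype) := Submodule.Quotient.nontrivial_iff.2 fun h =>
    h1 (h.ge (trivial : (⟨v₀, h0⟩ : K) ∈ ⊤))
  obtain ⟨ζ, hζ⟩ := Module.End.exists_eigenvalue (Submodule.mapQ (R.comap K.subtype)
    (R.comap K.subtype) (Γ.restrict hK) fun v hv => hR _ hv)
  obtain ⟨w, hw⟩ := hζ.exists_hasEigenvector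
  obtain ⟨w, rfl⟩ := Submodule.Quotient.mk_surjective _ w
  refine ⟨ζ, w, w.2, fun h => hw.2 ((Submodule.Quotient.mk_eq_zero _).2 h), ?_⟩
  exact (Submodule.Quotient.eq (R.comap K.subtype) (x := Γ.restrict hK w) (y := ζ • w)).1
    hw.apply_eq_smul

theorem conj_aux {a Γ Γ' s s' : Module.End k V} (h1 : Γ * Γ' = 1) (h2 : Γ' * Γ = 1)
    (hs : Commute a s) (hs' : ∀ f, Commute f a → Commute f s') (h3 : Γ * a = s * a * Γ)
    (h4 : Γ' * a = s' * a * Γ') : (∀ v ∈ range a, Γ v ∈ range a) ∧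
      (∀ j, ∀ v ∈ ker (a ^ j), Γ v ∈ ker (a ^ j)) ∧ ∀ f, Commute f a → Commute (Γ * f * Γ') a := by
  have h5 : a * Γ = Γ * (s' * a) := by
    rw [← mul_one (s' * a), ← h2, ← mul_assoc (s' * a), ← h4, ← mul_assoc, ← mul_assoc, h1, one_mul]
  refine ⟨?_, fun j v hv => ?_, fun f hf => ?_⟩
  · rintro _ ⟨v, rfl⟩
    exact ⟨s (Γ v), by rw [← Module.End.mul_apply Γ, h3, ← hs.eq]; rfl⟩
  · rw [LinearMap.mem_ker, ← Module.End.mul_apply, (show SemiconjBy Γ (s' * a) a from h5.symm).pow_right j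
      |>.eq.symm, (hs' a rfl).symm.mul_pow, Module.End.mul_apply, Module.End.mul_apply, hv, map_zero,
      map_zero]
  · rw [Commute, SemiconjBy, mul_assoc, h4, ← mul_assoc a, ← mul_assoc a, h5, mul_assoc Γ _ f,
      ← ((hs' f hf).mul_right hf).eq]
    simp only [mul_assoc]

theorem exists_scalar [IsAlgClosed k] [FiniteDimensional k V] {a Γ Γ' s s' : Module.End k V}
    {n m : ℕ} (h1 : Γ * Γ' = 1) (h2 : Γ' * Γ = 1)
    (hs : ∀ f, Commute f a → Commute f s ∧ Commute f s' ∧ Commute f (Γ ^ n))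
    (h3 : Γ * a = s * a * Γ) (h4 : Γ' * a = s' * a * Γ') (hn : (n : k) ≠ 0)
    (hS : ∀ f, Commute f a → Commute f Γ → ∃ κ : k, ∀ v, (a ^ m) v = 0 → f v - κ • v ∈ range a) :
    ∃ ζ : k, ∀ v, (a ^ m) v = 0 → Γ v - ζ • v ∈ range a := by
  classical
  obtain ⟨hR, hK, hC⟩ := conj_aux h1 h2 (hs a rfl).1 (fun f hf => (hs f hf).2.1) h3 h4
  obtain ⟨hR', hK', -⟩ := conj_aux h2 h1 (hs a rfl).2.1 (fun f hf => (hs f hf).1) h4 h3
  by_cases h0 : ∀ v, (a ^ m) v = 0 → v ∈ range a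
  · exact ⟨0, fun v hv => by simpa using hR v (h0 v hv)⟩
  push Not at h0
  have hex : ∃ j, ∃ v, (a ^ j) v = 0 ∧ v ∉ range a := ⟨m, h0⟩
  have hle : Nat.find hex ≤ m := Nat.find_min' hex h0
  obtain ⟨v₀, hv₀, hv₀'⟩ := Nat.find_spec hex
  obtain ⟨j, hj⟩ : ∃ j, Nat.find hex = j + 1 := Nat.exists_eq_succ_of_ne_zero fun h0 => hv₀' (by
    rw [h0, pow_zero, Module.End.one_apply] at hv₀
    rw [hv₀]; exact zero_mem _)
  have hmin : ∀ v, (a ^ j) v = 0 → v ∈ range a := fun v hv => by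
    by_contra hv'
    exact Nat.find_min hex (m := j) (by omega) ⟨v, hv, hv'⟩
  rw [hj] at hv₀ hle
  obtain ⟨ζ, w₀, e1, e2, e3⟩ := exists_eig (hK (j + 1)) hR hv₀ hv₀'
  let X := ker (a ^ (j + 1)) ⊓ (range a).comap (Γ - ζ • 1)
  have hX : ∀ f : Module.End k V, Commute f Γ → (∀ v ∈ range a, f v ∈ range a) →
      (∀ j, ∀ v ∈ ker (a ^ j), f v ∈ ker (a ^ j)) → ∀ r : ℕ,
      (∀ v ∈ range a, (f ^ r) v ∈ range a) ∧ ∀ v ∈ X, (f ^ r) v ∈ X := fun f hf h5 h6 r => by
    refine ⟨fun v => Module.End.pow_apply_mem_of_forall_mem r h5 v,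
      fun v => Module.End.pow_apply_mem_of_forall_mem (p := X) r (fun w hw => ⟨h6 _ w hw.1, ?_⟩) v⟩
    have := h5 _ hw.2
    rwa [← Module.End.mul_apply, (hf.sub_right ((Commute.one_right f).smul_right ζ)).eq] at this
  obtain ⟨π, hπ, h5, h6⟩ := H24.D1.exists_commute_proj X (fun w hw => hw.1) hmin
  have hc : Commute Γ' Γ := h2.trans h1.symm
  have h7 : ∀ r : ℕ, Γ ^ r * Γ' ^ r = 1 := fun r => by rw [← hc.symm.mul_pow, h1, one_pow]
  obtain ⟨κ, hκ⟩ := hS ((n : k)⁻¹ • ∑ r ∈ Finset.range n, Γ ^ r * π * Γ' ^ r)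
    (Commute.smul_left (Commute.sum_left _ _ _ fun r _ => by
      induction r with
      | zero => simpa using hπ
      | succ r ih => simpa only [pow_succ' Γ, pow_succ Γ', mul_assoc] using hC _ (ih (by grind))) _)
    (Commute.smul_left (by
      have h8 := sum_range_succ' (fun r => Γ ^ r * π * Γ' ^ r * Γ) n
      rw [sum_range_succ, ← (hs π hπ).2.2.eq, mul_assoc π, h7] at h8
      simp only [pow_succ' Γ, pow_succ Γ', mul_assoc, h2, mul_one, pow_zero, one_mul,
        add_left_inj] at h8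
      rw [Commute, SemiconjBy, sum_mul, mul_sum]
      simpa only [mul_assoc] using h8) _)
  have h8 : ∀ v (w : ℕ → V), (∀ r, π ((Γ' ^ r) v) - w r ∈ range a) →
      ((n : k)⁻¹ • ∑ r ∈ Finset.range n, Γ ^ r * π * Γ' ^ r) v -
        (n : k)⁻¹ • ∑ r ∈ Finset.range n, (Γ ^ r) (w r) ∈ range a := fun v w hw => by
    rw [LinearMap.smul_apply, ← smul_sub, LinearMap.sum_apply, ← sum_sub_distrib]
    exact Submodule.smul_mem _ _ (Submodule.sum_mem _ fun r _ => by
      simpa only [map_sub, Module.End.mul_apply] using (hX Γ rfl hR hK r).1 _ (hw r))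
  have h9 : κ = 1 := by
    by_contra h9
    have e4 := h8 w₀ _ fun r => h6 _ ((hX Γ' hc hR' hK' r).2 _ ⟨e1, e3⟩)
    simp only [← Module.End.mul_apply, h7, Module.End.one_apply, sum_const, card_range,
      ← Nat.cast_smul_eq_nsmul k, inv_smul_smul₀ hn] at e4
    have e5 := sub_mem e4 (hκ w₀ (by
      rw [← Nat.sub_add_cancel hle, pow_add, Module.End.mul_apply, e1, map_zero]))
    rw [sub_sub_sub_cancel_left, ← one_smul k w₀, smul_smul, mul_one, ← sub_smul] at e5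
    exact e2 ((Submodule.smul_mem_iff _ (sub_ne_zero.2 h9)).1 e5)
  refine ⟨ζ, fun v hv => ?_⟩
  choose w hw hw' using fun r : ℕ => h5 ((Γ' ^ r) v)
  have e4 := sub_mem (h8 v w hw') (hκ v hv)
  rw [h9, one_smul, sub_sub_sub_cancel_left] at e4
  have e5 : _ ∈ X := X.smul_mem (n : k)⁻¹
    (X.sum_mem fun r (_ : r ∈ Finset.range n) => (hX Γ rfl hR hK r).2 _ (hw r))
  have e6 := add_mem (sub_mem (hR _ e4) (Submodule.smul_mem _ ζ e4)) e5.2
  simp only [map_sub, smul_sub, LinearMap.sub_apply, LinearMap.smul_apply,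
    Module.End.one_apply] at e6
  convert e6 using 1
  abel

end Lin

section Uns

variable {k A : Type*} [Field k] [Ring A] [Algebra k A] {α : A} {m : ℕ}

/-- The socle element of a uniserial algebra. -/
def tau (α : A) (m : ℕ) : A := α ^ m - α ^ (m + 1)

theorem mul_pow_eq_zero {x : A} (hx : x * α = 0) {j : ℕ} (hj : j ≠ 0) : x * α ^ j = 0 := by
  obtain ⟨j, rfl⟩ := Nat.exists_eq_succ_of_ne_zero hj
  rw [pow_succ', ← mul_assoc, hx, zero_mul]

theorem exists_eq_add {s : A} (hs : s ∈ Algebra.adjoin k {α}) :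
    ∃ (κ : k), ∃ s' ∈ Algebra.adjoin k {α}, s = κ • 1 + α * s' := by
  rw [Algebra.adjoin_singleton_eq_range_aeval] at hs ⊢
  obtain ⟨P, rfl⟩ := hs
  refine ⟨P.coeff 0, _, ⟨P.divX, rfl⟩, ?_⟩
  have := congrArg (Polynomial.aeval α) P.X_mul_divX_add
  simp only [map_add, map_mul, Polynomial.aeval_X, Polynomial.aeval_C,
    Algebra.algebraMap_eq_smul_one] at this
  exact this.symm.trans (add_comm _ _)

variable (hα : α ^ (m + 1) * α = α ^ (m + 1))
include hα

theorem pow_succ_mul_pow (j : ℕ) : α ^ (m + 1) * α ^ j = α ^ (m + 1) := by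
  induction j with
  | zero => simp
  | succ j ih => rw [pow_succ α j, ← mul_assoc, ih, hα]

theorem tau_mul_self : tau α m * α = 0 := by rw [tau, sub_mul, hα, pow_succ, sub_self]

theorem self_mul_tau : α * tau α m = 0 := by
  rw [tau, mul_sub, ← pow_succ', ← pow_succ', pow_succ α (m + 1), hα, sub_self]

theorem pow_mul_one_sub : α ^ m * (1 - α ^ (m + 1)) = tau α m := by
  rw [mul_sub, mul_one, pow_mul_comm, pow_succ_mul_pow hα, tau]

theorem tau_mul_add (κ : k) (s : A) : tau α m * (κ • 1 + α * s) = κ • tau α m := by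
  rw [mul_add, ← mul_assoc, tau_mul_self hα]; simp

theorem tau_mul_adj {s : A} (hs : s ∈ Algebra.adjoin k {α}) : ∃ κ : k, tau α m * s = κ • tau α m := by
  obtain ⟨κ, s', -, rfl⟩ := exists_eq_add hs
  exact ⟨κ, tau_mul_add hα κ s'⟩

theorem exists_eq_smul_tau (hτ : tau α m ≠ 0) {a : A} (ha : a ∈ Algebra.adjoin k {α})
    (h0 : α * a = 0) : ∃ κ : k, a = κ • tau α m := by
  have h1 : ∀ s, (1 - α) * (α ^ m * s) = tau α m * s := fun s => by
    rw [← mul_assoc, sub_mul, one_mul, ← pow_succ', tau]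
  have key : ∀ j ≤ m, ∃ s ∈ Algebra.adjoin k {α}, a = α ^ j * s := fun j hj => by
    induction j with
    | zero => exact ⟨a, ha, by simp⟩
    | succ j ih =>
      obtain ⟨s, hs, rfl⟩ := ih (by omega)
      obtain ⟨κ, s', hs', rfl⟩ := exists_eq_add hs
      have h2 := h1 (κ • 1 + α * s')
      rw [tau_mul_add hα, show m = m - (j + 1) + 1 + j by omega, pow_add, pow_succ, mul_assoc,
        mul_assoc, h0, mul_zero, mul_zero, eq_comm, smul_eq_zero] at h2
      refine ⟨s', hs', ?_⟩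
      rw [h2.resolve_right (by rwa [show m - (j + 1) + 1 + j = m by omega]), zero_smul, zero_add,
        pow_succ, mul_assoc]
  obtain ⟨s, hs, rfl⟩ := key m le_rfl
  obtain ⟨κ, hκ⟩ := tau_mul_adj hα hs
  exact ⟨κ, by rw [← hκ, ← h1, sub_mul, h0, one_mul, sub_zero]⟩

theorem pow_mul_idem : α ^ (m + 1) * (1 - α ^ (m + 1)) = 0 := by
  rw [mul_sub, pow_succ_mul_pow hα, mul_one, sub_self]

theorem idem_mul_pow : (1 - α ^ (m + 1)) * α ^ (m + 1) = 0 := by
  rw [sub_mul, pow_succ_mul_pow hα, one_mul, sub_self]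

theorem idem_mul_idem : (1 - α ^ (m + 1)) * (1 - α ^ (m + 1)) = 1 - α ^ (m + 1) := by
  rw [mul_sub, idem_mul_pow hα, mul_one, sub_zero]

theorem tau_mul_idem : tau α m * (1 - α ^ (m + 1)) = tau α m := by
  rw [← pow_mul_one_sub hα, mul_assoc, idem_mul_idem hα]

theorem idem_mul_tau : (1 - α ^ (m + 1)) * tau α m = tau α m := by
  rw [sub_mul, pow_succ α m, mul_assoc, self_mul_tau hα, mul_zero, one_mul, sub_zero]

omit hα in
theorem idem_mem : 1 - α ^ (m + 1) ∈ Algebra.adjoin k {α} :=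
  sub_mem (one_mem _) (pow_mem (Algebra.self_mem_adjoin_singleton k α) _)

theorem li_pow (hτ : tau α m ≠ 0) :
    LinearIndependent k fun j : Fin (m + 1) => α ^ j.1 * (1 - α ^ (m + 1)) := by
  refine Fintype.linearIndependent_iff.2 fun g hg j => ?_
  induction j using Fin.strong_induction_on with
  | h j ih =>
    have := congrArg (α ^ (m - j) * ·) hg
    simp only [mul_sum, mul_smul_comm, ← mul_assoc, ← pow_add, mul_zero] at this
    rw [sum_eq_single j (fun l _ hl => ?_) (by simp), show m - j + j = m by omega,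
      pow_mul_one_sub hα] at this
    · exact (smul_eq_zero.1 this).resolve_right hτ
    · rcases lt_or_gt_of_ne hl with hl | hl
      · rw [ih l hl, zero_smul]
      · rw [show m - j + l = (l - j - 1) + (m + 1) by omega, pow_add, mul_assoc, pow_mul_idem hα,
          mul_zero, smul_zero]

theorem exists_inv_adj {a : A} (ha : a ∈ Algebra.adjoin k {α})
    (h1 : α ^ (m + 1) * a = α ^ (m + 1)) (h2 : tau α m * a ≠ 0) :
    ∃ w ∈ Algebra.adjoin k {α}, w * a = 1 := by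
  obtain ⟨κ, s, hs, rfl⟩ := exists_eq_add ha
  have hκ : κ ≠ 0 := fun h => h2 (by rw [tau_mul_add hα, h, zero_smul])
  have hi := idem_mem (k := k) (α := α) (m := m)
  have h0 := Algebra.self_mem_adjoin_singleton k α
  have hc : ∀ {a b}, a ∈ Algebra.adjoin k {α} → b ∈ Algebra.adjoin k {α} → Commute a b :=
    fun ha hb => Algebra.commute_of_mem_adjoin_singleton_of_commute hb
      (Algebra.commute_of_mem_adjoin_self ha).symm
  let x := -(κ⁻¹ • ((1 - α ^ (m + 1)) * α * s))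
  have hx : x ∈ Algebra.adjoin k {α} := neg_mem (Subalgebra.smul_mem _ (mul_mem (mul_mem hi h0) hs) _)
  refine ⟨(∑ j ∈ Finset.range (m + 1), x ^ j) * (κ⁻¹ • (1 - α ^ (m + 1)) + α ^ (m + 1)),
    mul_mem (sum_mem fun j _ => pow_mem hx j) (add_mem (Subalgebra.smul_mem _ hi _) (pow_mem h0 _)), ?_⟩
  have h3 : x ^ (m + 1) = 0 := by
    rw [neg_pow, smul_pow, (hc (mul_mem hi h0) hs).mul_pow, (hc hi h0).mul_pow, pow_succ (1 - _),
      mul_assoc _ (1 - _), idem_mul_pow hα]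
    simp
  rw [mul_assoc, add_mul, h1, smul_mul_assoc, mul_add (1 - _), mul_smul_comm, smul_add, mul_one,
    inv_smul_smul₀ hκ, add_right_comm, sub_add_cancel, ← mul_assoc, ← sub_neg_eq_add,
    geom_sum_mul_neg, h3, sub_zero]

end Uns

section Alg

variable {k : Type*} [Field k] {G : Type*} [Group G] [Finite G]

theorem coeff_one_comm (a b : k[G]) : (a * b).coeff 1 = (b * a).coeff 1 := by
  have := Fintype.ofFinite G
  rw [H8.coeff_mul_sum, H8.coeff_mul_sum']
  simp only [mul_one, one_mul, mul_comm]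

theorem coeff_single_inv_mul (g : G) (y : k[G]) : (single g⁻¹ (1 : k) * y).coeff 1 = y.coeff g := by
  rw [H24.D1.coeff_single_mul', inv_inv, mul_one]

variable {V : Type*} [AddCommGroup V] [Module k V] [Module k[G] V] [IsScalarTower k k[G] V]

/-- The element of the group algebra dual to a matrix coefficient. -/
noncomputable def zf (ℓ : V →ₗ[k] k) (y : V) : k[G] := ofFun fun h => ℓ (single h⁻¹ (1 : k) • y)

theorem coeff_zf_mul (ℓ : V →ₗ[k] k) (y : V) (a : k[G]) : (zf ℓ y * a).coeff 1 = ℓ (a • y) := by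
  have := Fintype.ofFinite G
  rw [H24.D1.smul_eq_sum, H8.coeff_mul_sum', map_sum]
  refine sum_congr rfl fun g _ => ?_
  rw [zf, coeff_ofFun, ℓ.map_smul, one_mul, inv_inv, mul_comm]
  rfl

theorem mul_zf (ℓ : V →ₗ[k] k) (y : V) (a : k[G]) : a * zf ℓ y = zf ℓ (a • y) :=
  ext_coeff fun g => by
    rw [← coeff_single_inv_mul, ← mul_assoc, coeff_one_comm, coeff_zf_mul, mul_smul]; rfl

theorem zf_mul (ℓ : V →ₗ[k] k) (y : V) (a : k[G]) :
    zf ℓ y * a = zf (ℓ ∘ₗ Algebra.lsmul k k V a) y :=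
  ext_coeff fun g => by
    rw [← coeff_single_inv_mul, coeff_one_comm, mul_assoc, coeff_zf_mul, mul_smul]; rfl

theorem zf_zero_left (y : V) : zf (G := G) (0 : V →ₗ[k] k) y = 0 := ext_coeff fun _ => rfl

theorem zf_zero_right (ℓ : V →ₗ[k] k) : zf (G := G) ℓ 0 = 0 := ext_coeff fun _ => by simp [zf]

theorem trG_smulRight [Fintype G] (ℓ : V →ₗ[k] k) (y v : V) :
    trG (lrep (G := G) V) (ℓ.smulRight y) v = zf (G := G) ℓ v • y := by
  rw [H24.D1.smul_eq_sum, trG, LinearMap.sum_apply]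
  exact sum_congr rfl fun g _ => (lrep V g).map_smul _ _

theorem eq_sum_smulRight [FiniteDimensional k V] (f : Module.End k V) :
    f = ∑ j, ((Module.finBasis k V).coord j).smulRight (f (Module.finBasis k V j)) :=
  LinearMap.ext fun v => by
    conv_lhs => rw [← (Module.finBasis k V).sum_repr v, map_sum]
    simp

/-- The left ideal of eigenvectors. -/
def eid (b α Γ : k[G]) (hb : ∀ a, b * a = a * b) (ζ : k) : Submodule k[G] k[G] where
  carrier := {y | b * y = y ∧ y * α = 0 ∧ y * Γ = ζ • y}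
  add_mem' := fun ⟨h1, h2, h3⟩ ⟨h4, h5, h6⟩ => ⟨by rw [mul_add, h1, h4],
    by rw [add_mul, h2, h5, add_zero], by rw [add_mul, h3, h6, smul_add]⟩
  zero_mem' := ⟨mul_zero _, zero_mul _, by simp⟩
  smul_mem' := fun c y ⟨h1, h2, h3⟩ => ⟨by rw [smul_eq_mul, ← mul_assoc, hb, mul_assoc, h1],
    by rw [smul_eq_mul, mul_assoc, h2, mul_zero], by rw [smul_eq_mul, mul_assoc, h3, mul_smul_comm]⟩

instance finDim_sub (X : Submodule k[G] k[G]) : FiniteDimensional k X :=
  haveI : FiniteDimensional k k[G] := Module.Finite.of_basis (MonoidAlgebra.basis G k)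
  FiniteDimensional.of_injective (X.subtype.restrictScalars k) Subtype.val_injective

theorem exists_atom_eid {b α Γ s : k[G]} (hb : ∀ a, b * a = a * b) (hbb : b * b = b) {m n : ℕ}
    (hm : m ≠ 0) (hα : α ^ (m + 1) * α = α ^ (m + 1)) (hs : Commute α s) (h3 : Γ * α = s * α * Γ)
    (hn : (n : k) ≠ 0) (hR : ∀ z, α * z = 0 → ∃ y, z = tau α m * y) {ζ : k}
    (hζ0 : ζ ≠ 0) (hζ : tau α m * Γ ^ n = ζ ^ n • tau α m) (h0 : (b * tau α m).coeff 1 ≠ 0)
    (hj : ∀ j, j ≠ 0 → j < n → (b * tau α m * Γ ^ j).coeff 1 = 0) :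
    ∃ S : Submodule k[G] (eid b α Γ hb ζ), IsAtom S ∧
      ∃ x ∈ S, α ^ m • x = 0 ∧ (x : k[G]).coeff 1 ≠ 0 := by
  have := Fintype.ofFinite G
  have h1 := tau_mul_self hα
  have h2 := self_mul_tau hα
  have h2' := pow_mul_one_sub hα
  generalize tau α m = τ at *
  let ε : k[G] := (n : k)⁻¹ • ∑ j ∈ Finset.range n, ζ⁻¹ ^ j • Γ ^ j
  have h4 : ∀ j, τ * Γ ^ j * α = 0 := fun j => by
    induction j with
    | zero => simpa using h1
    | succ j ih => rw [pow_succ, ← mul_assoc, mul_assoc, h3, ← hs.eq, ← mul_assoc, ← mul_assoc, ih,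
        zero_mul, zero_mul]
  have h5 : ∀ y : k[G], y * Γ = ζ • y → y * ε = y := fun y hy => by
    have : ∀ j, y * Γ ^ j = ζ ^ j • y := fun j => by
      induction j with
      | zero => simp
      | succ j ih => rw [pow_succ, ← mul_assoc, ih, smul_mul_assoc, hy, smul_smul, pow_succ]
    simp [ε, mul_sum, this, smul_smul, ← mul_pow, hζ0, ← Nat.cast_smul_eq_nsmul k, hn]
  have h5' : τ * ε * Γ = ζ • (τ * ε) := by
    have h6 := sum_range_succ' (fun j => ζ⁻¹ ^ j • (τ * Γ ^ j)) n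
    rw [sum_range_succ, hζ, smul_smul, ← mul_pow, inv_mul_cancel₀ hζ0] at h6
    simp only [one_pow, pow_zero, mul_one, add_left_inj] at h6
    simp only [ε, mul_smul_comm, smul_mul_assoc, mul_sum]
    rw [smul_comm ζ]
    refine congrArg _ ?_
    conv_rhs => rw [h6]
    rw [sum_mul, smul_sum (r := ζ)]
    refine sum_congr rfl fun j hj => ?_
    rw [smul_smul, pow_succ' ζ⁻¹, mul_inv_cancel_left₀ hζ0, smul_mul_assoc, mul_assoc, ← pow_succ]
  let y₀ : eid b α Γ hb ζ := ⟨b * τ * ε, by rw [← mul_assoc, ← mul_assoc, hbb], by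
    simp [ε, mul_sum, sum_mul, mul_assoc b, h4], by
    rw [mul_assoc b, mul_assoc b, h5', mul_smul_comm]⟩
  obtain ⟨S, hS, hS'⟩ := H24.D1.exists_atom_not_trace (k := k) (G := G) (V := eid b α Γ hb ζ) fun f hf => by
    have h6 := LinearMap.congr_fun hf y₀
    rw [eq_sum_smulRight f, trG] at h6
    simp only [mul_sum, sum_mul] at h6
    rw [sum_comm, LinearMap.sum_apply] at h6
    have h7 := congrArg (fun x : eid b α Γ hb ζ => (x : k[G]).coeff 1) h6
    simp only [← trG.eq_1, Submodule.coe_sum, coeff_sum_apply] at h7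
    rw [sum_eq_zero fun j _ => ?_] at h7
    · refine mul_ne_zero (inv_ne_zero hn) h0 (h7.symm ▸ ?_)
      change _ = (b * τ * ε).coeff 1
      simp only [ε, mul_smul_comm, mul_sum, coeff_smul, Finsupp.smul_apply, coeff_sum_apply]
      rw [sum_eq_single 0 (fun j h h' => by rw [hj j h' (mem_range.1 h), smul_zero])
        fun h => absurd (mem_range.2 (Nat.pos_of_ne_zero fun h0 => hn (by simp [h0]))) h]
      simp
    · obtain ⟨y, hy⟩ := hR (zf ((Module.finBasis k _).coord j) y₀) (by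
        rw [mul_zf, show α • y₀ = 0 from Subtype.ext (by
          change α * (b * τ * ε) = 0
          rw [← mul_assoc, ← mul_assoc, ← hb, mul_assoc b, h2, mul_zero, zero_mul]), zf_zero_right])
      rw [trG_smulRight (G := G) _ _ y₀, hy, Submodule.coe_smul, smul_eq_mul, mul_assoc, coeff_one_comm, ← h2',
        ← mul_assoc, mul_assoc y,
        mul_pow_eq_zero (Subtype.prop (p := (· ∈ eid b α Γ hb ζ)) _).2.1 hm]
      simp
  refine ⟨S, hS, ?_⟩
  by_contra! hcon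
  let ev : eid b α Γ hb ζ →ₗ[k] k :=
    { toFun := fun x => (x : k[G]).coeff 1
      map_add' := fun _ _ => rfl
      map_smul' := fun _ _ => rfl }
  let inc : S →ₗ[k] eid b α Γ hb ζ := S.subtype.restrictScalars k
  obtain ⟨ℓ, hℓ⟩ := H24.D1.exists_factor (Algebra.lsmul k k (eid b α Γ hb ζ) τ ∘ₗ inc) (ev ∘ₗ inc)
      fun (x : S) hx => by
    have := hcon _ (S.smul_mem (1 - α ^ (m + 1)) x.2) (by rw [← mul_smul, h2']; exact hx)
    rwa [Submodule.coe_smul, smul_eq_mul, coeff_one_comm, mul_sub, mul_one,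
      mul_pow_eq_zero x.1.2.2.1 m.succ_ne_zero, sub_zero] at this
  refine hS' (ℓ.smulRight y₀) fun x hx => Subtype.ext ?_
  rw [trG_smulRight (G := G) ℓ y₀ x]
  change zf (G := G) ℓ x * (b * τ * ε) = (x : k[G])
  rw [← mul_assoc, ← mul_assoc, ← hb, mul_assoc b, zf_mul, show zf (G := G) (ℓ ∘ₗ Algebra.lsmul k k _ τ) x = (x : k[G]) from ext_coeff
    fun g => (hℓ ⟨_, S.smul_mem _ hx⟩).trans (coeff_single_inv_mul g _), x.2.1, h5 _ x.2.2.2]

end Alg

/-- The lower bound for the number of simple modules. -/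
theorem le_blockRank_of_unit {M : Ideal AlgInt} [M.IsMaximal] {p : ℕ} [Fact p.Prime] [PMod M p]
    {G : Type*} [Group G] [Finite G] {B : Set (IrrCharacter G)} (hB : H8.IsBlockUnion M B)
    {α Γ Γ' s s' : (H8.resField M)[G]} {m n : ℕ} (hm : m ≠ 0) (hα : α ^ (m + 1) * α = α ^ (m + 1))
    (h1 : Γ * Γ' = 1) (h2 : Γ' * Γ = 1) (hs : s ∈ Algebra.adjoin (H8.resField M) {α})
    (hs' : s' ∈ Algebra.adjoin (H8.resField M) {α})
    (hΓ : Γ ^ n ∈ Algebra.adjoin (H8.resField M) {α}) (h3 : Γ * α = s * α * Γ)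
    (h4 : Γ' * α = s' * α * Γ') (hn : ¬ p ∣ n) (hR : ∀ z, α * z = 0 → ∃ y, z = tau α m * y)
    (h0 : (H8.eB M B * tau α m).coeff 1 ≠ 0)
    (hj : ∀ j, j ≠ 0 → j < n → (H8.eB M B * tau α m * Γ ^ j).coeff 1 = 0)
    (hS : ∀ (ζ : H8.resField M) (S : Submodule (H8.resField M)[G]
      (eid _ α Γ (H8.Zen_comm (H8.eB_mem_Zen B)) ζ)), IsSimpleModule (H8.resField M)[G] S →
      ∀ f : Module.End (H8.resField M) S, (∀ v, f (α • v) = α • f v) → (∀ v, f (Γ • v) = Γ • f v) →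
        ∃ κ : H8.resField M, ∀ v, α ^ m • v = 0 → ∃ w, α • w = f v - κ • v) :
    n ≤ blockRank p B := by
  have hn' : (n : H8.resField M) ≠ 0 := by rwa [Ne, CharP.cast_eq_zero_iff _ p]
  have : NeZero (n : H8.resField M) := ⟨hn'⟩
  have hn0 : n ≠ 0 := fun h => hn' (by simp [h])
  obtain ⟨ω, hω⟩ := HasEnoughRootsOfUnity.exists_primitiveRoot (H8.resField M) n
  obtain ⟨κ, hκ⟩ := tau_mul_adj hα hΓ
  obtain ⟨ζ₀, rfl⟩ := IsAlgClosed.exists_pow_nat_eq κ (Nat.pos_of_ne_zero hn0)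
  have hζ0 : ζ₀ ≠ 0 := fun h => h0 (by
    rw [← mul_one (tau α m), ← one_pow n, ← h1, Commute.mul_pow (h1.trans h2.symm), ← mul_assoc _ (Γ ^ n),
      hκ, h, zero_pow hn0]; simp)
  choose S hS1 x hx hx0 hx1 using fun j : Fin n => exists_atom_eid (H8.Zen_comm (H8.eB_mem_Zen B))
    (H8.eB_mul_self hB) hm hα (Algebra.commute_of_mem_adjoin_self hs) h3 hn' hR (ζ := ζ₀ * ω ^ j.1)
    (mul_ne_zero hζ0 (pow_ne_zero _ (hω.ne_zero hn0)))
    (by rw [mul_pow, ← pow_mul, mul_comm j.1, pow_mul, hω.pow_eq_one, one_pow, mul_one, hκ]) h0 hj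
  have hsim := fun j => isSimpleModule_iff_isAtom.2 (hS1 j)
  have hfin : ∀ j, FiniteDimensional (H8.resField M) (S j) := fun j =>
    FiniteDimensional.of_injective ((S j).subtype.restrictScalars _) Subtype.val_injective
  have hev : ∀ j ζ, (∃ w : S j, α • w = Γ • ⟨x j, hx j⟩ - ζ • ⟨x j, hx j⟩) → ζ = ζ₀ * ω ^ j.1 :=
    fun j ζ ⟨w, hw⟩ => by
      have := congrArg (fun y : S j => (y : (H8.resField M)[G]).coeff 1) hw
      change (α * w).coeff 1 = (Γ * x j - ζ • (x j).1).coeff 1 at this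
      rw [coeff_one_comm, w.1.2.2.1, coeff_sub, Finsupp.sub_apply, coeff_one_comm, (x j).2.2.2] at this
      exact (mul_right_cancel₀ (hx1 j) (sub_eq_zero.1 this.symm)).symm
  have hsc : ∀ j, ∀ v : S j, α ^ m • v = 0 → ∃ w, α • w = Γ • v - (ζ₀ * ω ^ j.1) • v := fun j => by
    let L := Algebra.lsmul (H8.resField M) (H8.resField M) (S j) (A := (H8.resField M)[G])
    have hL : ∀ f, Commute f (L α) → ∀ a ∈ Algebra.adjoin (H8.resField M) {α}, Commute f (L a) :=
      fun f hf a ha => Algebra.commute_of_mem_adjoin_singleton_of_commute (R := H8.resField M)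
        (by rw [← Set.image_singleton, ← AlgHom.map_adjoin]; exact ⟨a, ha, rfl⟩) hf
    obtain ⟨ζ, hζ⟩ := exists_scalar (k := H8.resField M) (V := S j) (a := L α) (Γ := L Γ) (Γ' := L Γ') (s := L s) (s' := L s')
      (m := m) (by rw [← map_mul, h1, map_one]) (by rw [← map_mul, h2, map_one])
      (fun f hf => ⟨hL f hf _ hs, hL f hf _ hs', map_pow L Γ n ▸ hL f hf _ hΓ⟩)
      (by simp only [← map_mul, h3]) (by simp only [← map_mul, h4]) hn' fun f h5 h6 => by
        simp only [← map_pow]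
        exact hS _ _ (hsim j) f (LinearMap.congr_fun h5) (LinearMap.congr_fun h6)
    simp only [← map_pow] at hζ
    obtain rfl := hev j ζ (hζ _ (Subtype.ext (hx0 j)))
    exact hζ
  rw [← Nat.card_fin n]
  refine card_le_blockRank hB (fun j => S j) (fun i y => Subtype.ext (Subtype.ext y.1.2.1))
    fun i j hij => ⟨fun φ => hij (Fin.ext (hω.pow_inj i.2 j.2 (mul_left_cancel₀ hζ0 ?_)))⟩
  obtain ⟨w, hw⟩ := hsc j (φ ⟨x i, hx i⟩) (by
    rw [← map_smul, show α ^ m • (⟨x i, hx i⟩ : S i) = 0 from Subtype.ext (hx0 i), map_zero])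
  exact (hev i _ ⟨φ.symm w, φ.injective (by
    rw [map_smul, φ.apply_symm_apply, hw]
    have e1 := map_sub φ (Γ • ⟨x i, hx i⟩) ((ζ₀ * ω ^ j.1) • ⟨x i, hx i⟩)
    rw [e1, φ.map_smul, LinearMapClass.map_smul_of_tower])⟩).symm

end Cfsg.Agent.H9
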