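import Mathlib
import Cfsg.Agent.H9.Nak

/-!
Uniserial basic algebras inside a group algebra: homogeneous units and stable endomorphisms.
-/

set_option autoImplicit false
set_option linter.unusedSectionVars false

namespace Cfsg.Agent.H9

open MonoidAlgebra Cfsg Finset Cfsg.Agent.H18
open Cfsg.Agent.H24.D1 (lrep trG toLin coeff_single_mul' coeff_mul_single')
open Algebra (adjoin lsmul)

local notation "𝐂" Q => Subgroup.centralizer (SetLike.coe (Q : Subgroup _))
local notation "𝐍" Q => Subgroup.normalizer (SetLike.coe (Q : Subgroup _))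
local notation "𝐙" x => Subgroup.centralizer (Singleton.singleton x : Set _)

variable {k : Type*} [Field k] {G : Type*} [Group G] [Finite G]

section Coset

variable {C : Subgroup G} {t t' : G} {y y' : k[G]}

theorem Supp.add (h : Supp C y) (h' : Supp C y') : Supp C (y + y') := fun g hg => by
  simp [h g hg, h' g hg]

theorem supp_of_adjoin {α : k[G]} (hα : Supp C α) (h : y ∈ adjoin k {α}) : Supp C y :=
  ((Algebra.adjoin_le (S := fix C ⊥) (Set.singleton_subset_iff.2 ⟨hα, fun t ht => by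
    rw [Subgroup.mem_bot.1 ht, cj_one]⟩)) h).1

/-- Elements supported on a right coset. -/
def Cs (C : Subgroup G) (t : G) (y : k[G]) : Prop := Supp C (y * single t⁻¹ 1)

theorem cs_one : Cs C 1 y ↔ Supp C y := by rw [Cs, inv_one, ← one_def, mul_one]

theorem cs_single (h : t' * t⁻¹ ∈ C) : Cs C t (single t' (1 : k)) := by
  rw [Cs, single_mul_single]; exact supp_single h _

theorem Cs.mul (ht : t ∈ 𝐍 C) (h : Cs C t y) (h' : Cs C t' y') : Cs C (t * t') (y * y') := by
  have := Supp.mul h (mem_normalizer_iff_cg.1 ht ▸ Supp.cj h' t)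
  rw [cj_eq_mul] at this
  simpa only [Cs, mul_assoc, ← mul_assoc (single t⁻¹ (1 : k)), single_mul_single, inv_mul_cancel,
    mul_one, ← one_def, one_mul, mul_inv_rev] using this

theorem Cs.supp (ht : t ∈ C) (h : Cs C t y) : Supp C y := by
  simpa [mul_assoc, single_mul_single, ← one_def] using Supp.mul h (supp_single ht (1 : k))

theorem Cs.trunc (ht : t ∉ C) (h : Cs C t y) : trunc C y = 0 := ext_coeff fun g => by
  classical
  rw [coeff_trunc]
  split_ifs with hg
  · have := h (g * t⁻¹) fun h1 => ht (by simpa using C.mul_mem (C.inv_mem h1) hg)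
    rwa [coeff_mul_single', inv_inv, inv_mul_cancel_right] at this
  · rfl

theorem Cs.mul_single {Q : Subgroup G} (h : Cs (𝐂 Q) t y) {u : G} (hu : t * u * t⁻¹ ∈ Q) :
    y * single u 1 = single (t * u * t⁻¹) 1 * y := by
  have := congrArg (· * single (t * u * t⁻¹ * t) (1 : k)) (cj_eq_of_supp_centralizer h hu)
  simpa [cj_eq_mul, mul_assoc, single_mul_single, ← one_def] using this.symm

theorem eq_sum_trunc (C : Subgroup G) [Fintype (Quotient (QuotientGroup.rightRel C))] (z : k[G]) :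
    z = ∑ q : Quotient (QuotientGroup.rightRel C),
      trunc C (z * single q.out⁻¹ 1) * single q.out 1 := ext_coeff fun g => by
  classical
  rw [coeff_sum_apply, sum_eq_single ⟦g⟧ (fun q _ hq => ?_) (by simp), coeff_mul_single',
    coeff_trunc_of_mem _ (QuotientGroup.rightRel_apply.1 (Quotient.mk_out g)), coeff_mul_single',
    inv_inv, inv_mul_cancel_right]
  rw [coeff_mul_single', coeff_trunc, if_neg fun h => hq ?_]
  rw [← q.out_eq]
  exact Quotient.sound (QuotientGroup.rightRel_apply.2 h)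

end Coset

/-- A uniserial basic algebra of the block `c` of `C`. -/
structure Uns (C : Subgroup G) (c α : k[G]) (m : ℕ) : Prop where
  ne : m ≠ 0
  supp : Supp C α
  pow : α ^ (m + 1) * α = α ^ (m + 1)
  cen : ∀ a, Supp C a → c * a = a * c
  mul : c * (1 - α ^ (m + 1)) = 1 - α ^ (m + 1)
  sand : ∀ a, Supp C a → (1 - α ^ (m + 1)) * a * (1 - α ^ (m + 1)) ∈ adjoin k {α}
  mor : ∃ (n : ℕ) (u v : Fin n → k[G]), (∀ r, Supp C (u r) ∧ Supp C (v r)) ∧
    ∑ r, u r * (1 - α ^ (m + 1)) * v r = c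
  coeff : (tau α m).coeff 1 ≠ 0

theorem adj_comm {α a b : k[G]} (ha : a ∈ adjoin k {α}) (hb : b ∈ adjoin k {α}) : Commute a b :=
  Algebra.commute_of_mem_adjoin_singleton_of_commute hb (Algebra.commute_of_mem_adjoin_self ha).symm

theorem tau_mem (α : k[G]) (m : ℕ) : tau α m ∈ adjoin k {α} :=
  sub_mem (pow_mem (Algebra.self_mem_adjoin_singleton k α) _)
    (pow_mem (Algebra.self_mem_adjoin_singleton k α) _)

/-- Homogeneous elements that act as the identity off the basic algebra. -/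
structure HomU (C : Subgroup G) (α : k[G]) (m : ℕ) (g : G) (Γ : k[G]) : Prop where
  cs : Cs C g (Γ * (1 - α ^ (m + 1)))
  left : α ^ (m + 1) * Γ = α ^ (m + 1)
  right : Γ * α ^ (m + 1) = α ^ (m + 1)

theorem HomU.comm {C : Subgroup G} {α Γ : k[G]} {m : ℕ} {g : G} (h : HomU C α m g Γ) :
    (1 - α ^ (m + 1)) * Γ = Γ * (1 - α ^ (m + 1)) := by
  rw [sub_mul, mul_sub, h.left, h.right, one_mul, mul_one]

namespace Uns

variable {C : Subgroup G} {c α : k[G]} {m : ℕ} (h : Uns C c α m)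
include h

theorem tau_ne : tau α m ≠ 0 := fun h0 => h.coeff (by simp [h0])

theorem supp_adj {a : k[G]} (ha : a ∈ adjoin k {α}) : Supp C a := supp_of_adjoin h.supp ha

theorem mul' : (1 - α ^ (m + 1)) * c = 1 - α ^ (m + 1) := by
  rw [← h.cen _ (h.supp_adj idem_mem), h.mul]

theorem induction {z : k[G]} {P : k[G] → Prop} (h0 : P 0) (h1 : ∀ a b, P a → P b → P (a + b))
    (h2 : ∀ a ∈ adjoin k {α}, (∀ β ∈ adjoin k {α}, β * z = 0 → β * a = 0) → ∀ y, P (a * y)) :
    P ((1 - α ^ (m + 1)) * z) := by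
  have := Fintype.ofFinite (Quotient (QuotientGroup.rightRel C))
  obtain ⟨n, u, v, huv, hc⟩ := h.mor
  rw [eq_sum_trunc C z, mul_sum]
  refine sum_induction _ P h1 h0 fun q _ => ?_
  rw [← h.mul', mul_assoc, ← mul_assoc c, h.cen _ (supp_trunc _ _), ← hc, mul_sum, sum_mul, mul_sum]
  refine sum_induction _ P h1 h0 fun r _ => ?_
  have := h2 _ (h.sand _ ((supp_trunc C (z * single q.out⁻¹ 1)).mul (huv r).1)) (fun β hβ h3 => by
    rw [← mul_assoc, ← mul_assoc, (adj_comm hβ idem_mem).eq, mul_assoc _ β, ← mul_assoc β,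
      ← trunc_mul_left (h.supp_adj hβ), ← mul_assoc β, h3]
    simp) (v r * single q.out 1)
  simpa only [mul_assoc] using this

theorem annR (z : k[G]) (hz : α * z = 0) : ∃ y, z = tau α m * y := by
  have h1 : (1 - α ^ (m + 1)) * z = z := by rw [sub_mul, pow_succ, mul_assoc, hz]; simp
  rw [← h1]
  refine h.induction (P := fun z => ∃ y, z = tau α m * y) ⟨0, by simp⟩
    (fun _ _ ⟨a, ha⟩ ⟨b, hb⟩ => ⟨a + b, by rw [ha, hb, mul_add]⟩) fun a ha h2 y => ?_
  obtain ⟨κ, rfl⟩ := exists_eq_smul_tau h.pow h.tau_ne ha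
    (h2 _ (Algebra.self_mem_adjoin_singleton k α) hz)
  exact ⟨κ • y, by rw [smul_mul_assoc, mul_smul_comm]⟩

theorem annL (z : k[G]) (hz : tau α m * z = 0) : ∃ y, z = α * y := by
  obtain ⟨y, hy⟩ := h.induction (z := z) (P := fun z => ∃ y, z = α * y) ⟨0, by simp⟩
    (fun _ _ ⟨a, ha⟩ ⟨b, hb⟩ => ⟨a + b, by rw [ha, hb, mul_add]⟩) fun a ha h2 y => by
      obtain ⟨κ, s, -, rfl⟩ := exists_eq_add ha
      have := h2 _ (tau_mem α m) hz
      rw [tau_mul_add h.pow, smul_eq_zero] at this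
      exact ⟨s * y, by rw [this.resolve_right h.tau_ne, zero_smul, zero_add, mul_assoc]⟩
  exact ⟨y + α ^ m * z, by rw [mul_add, ← hy, ← mul_assoc, ← pow_succ', sub_mul]; simp⟩

theorem homU_of_mem {a : k[G]} (ha : a ∈ adjoin k {α}) (h1 : α ^ (m + 1) * a = α ^ (m + 1)) :
    HomU C α m 1 a :=
  ⟨cs_one.2 (h.supp_adj (mul_mem ha idem_mem)), h1,
    (adj_comm ha (pow_mem (Algebra.self_mem_adjoin_singleton k α) _)).eq.trans h1⟩

theorem homU_mul {g g' : G} {Γ Γ' : k[G]} (hg : g ∈ 𝐍 C) (h1 : HomU C α m g Γ)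
    (h2 : HomU C α m g' Γ') : HomU C α m (g * g') (Γ * Γ') :=
  ⟨by
    have := h1.cs.mul hg h2.cs
    rwa [mul_assoc, ← mul_assoc _ Γ', h2.comm, mul_assoc, idem_mul_idem h.pow, ← mul_assoc] at this,
  by rw [← mul_assoc, h1.left, h2.left], by rw [mul_assoc, h2.right, h1.right]⟩

theorem homU_pow {g : G} {Γ : k[G]} (hg : g ∈ 𝐍 C) (h1 : HomU C α m g Γ) (j : ℕ) :
    HomU C α m (g ^ j) (Γ ^ j) := by
  induction j with
  | zero => simpa only [pow_zero] using h.homU_of_mem (one_mem _) (mul_one _)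
  | succ j ih => simpa only [pow_succ' g, pow_succ' Γ] using h.homU_mul hg h1 ih

theorem mem_of_homU {g : G} {Γ : k[G]} (hg : g ∈ C) (h1 : HomU C α m g Γ) : Γ ∈ adjoin k {α} := by
  have := add_mem (h.sand _ (h1.cs.supp hg)) (pow_mem (Algebra.self_mem_adjoin_singleton k α) (m + 1))
  rwa [mul_assoc, mul_assoc, idem_mul_idem h.pow, ← mul_assoc, h1.comm, mul_assoc,
    idem_mul_idem h.pow, mul_sub, h1.right, mul_one, sub_add_cancel] at this

theorem homU_sand {g : G} (hg : g ∈ 𝐍 C) {a : k[G]} (ha : Cs C g a) :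
    HomU C α m g ((1 - α ^ (m + 1)) * a * (1 - α ^ (m + 1)) + α ^ (m + 1)) :=
  ⟨by
    have h1 := cs_one.2 (h.supp_adj (idem_mem (m := m)))
    have := ((h1.mul (one_mem _) ha).mul (by rwa [one_mul]) h1)
    rwa [add_mul, pow_mul_idem h.pow, add_zero, mul_assoc, idem_mul_idem h.pow, ← mul_one g,
      ← one_mul g],
  by rw [mul_add, ← mul_assoc, ← mul_assoc, pow_mul_idem h.pow, pow_succ_mul_pow h.pow]; simp,
  by rw [add_mul, mul_assoc, idem_mul_pow h.pow, pow_succ_mul_pow h.pow]; simp⟩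

theorem exists_unit {g : G} (hg : g ∈ 𝐍 C) (hc : cj g c = c) : ∃ Γ Γ' : k[G],
    HomU C α m g Γ ∧ HomU C α m g⁻¹ Γ' ∧ Γ * Γ' = 1 ∧ Γ' * Γ = 1 := by
  obtain ⟨n, u, v, huv, hc'⟩ := h.mor
  have h1 := fun r => h.homU_sand (inv_mem hg) (mul_one g⁻¹ ▸ (cs_single (k := k) (t' := g⁻¹)
    (by simp)).mul (inv_mem hg) (cs_one.2 (huv r).1))
  have h2 := fun r => h.homU_sand hg (one_mul g ▸ (cs_one.2 (huv r).2).mul (one_mem _)
    (cs_single (k := k) (t' := g) (by simp)))
  have h3 := fun r => h.homU_mul (inv_mem hg) (h1 r) (h2 r)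
  obtain ⟨r, -, hr⟩ := exists_ne_zero_of_sum_ne_zero (s := univ) (f := fun r => tau α m *
      ((((1 - α ^ (m + 1)) * (single g⁻¹ 1 * u r) * (1 - α ^ (m + 1)) + α ^ (m + 1))) *
      ((1 - α ^ (m + 1)) * (v r * single g 1) * (1 - α ^ (m + 1)) + α ^ (m + 1)))) (by
    have h4 := cj_inv_eq hc
    rw [cj_eq_mul, inv_inv, ← hc', mul_sum, sum_mul] at h4
    have h5 := congrArg (fun x => tau α m * x * (1 - α ^ (m + 1))) h4
    simp only [hc', mul_assoc _ c, h.mul, tau_mul_idem h.pow] at h5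
    rw [mul_sum, sum_mul] at h5
    refine fun h6 => h.tau_ne (h5.symm.trans (Eq.trans (sum_congr rfl fun r _ => ?_) h6))
    simp only [add_mul, mul_add, ← mul_assoc, tau_mul_idem h.pow,
      mul_pow_eq_zero (tau_mul_self h.pow) m.succ_ne_zero, zero_mul, add_zero]
    simp only [mul_assoc, idem_mul_pow h.pow, ← mul_assoc (1 - α ^ (m + 1)) (1 - _),
      idem_mul_idem h.pow, mul_zero, add_zero])
  obtain ⟨w, hw, hw'⟩ := exists_inv_adj h.pow (h.mem_of_homU (by simp) (h3 r)) (h3 r).left hr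
  have : IsArtinianRing k[G] := isArtinian_of_tower k inferInstance
  have h4 := h.homU_mul (one_mem _) (h.homU_of_mem hw (by
    rw [← (adj_comm hw (pow_mem (Algebra.self_mem_adjoin_singleton k α) _)).eq]
    conv_lhs => rw [← (h3 r).right, ← mul_assoc, hw', one_mul])) (h1 r)
  rw [one_mul] at h4
  exact ⟨_, _, h2 r, h4, mul_eq_one_comm.1 ((mul_assoc _ _ _).trans hw'),
    (mul_assoc _ _ _).trans hw'⟩

theorem exists_conj {g : G} (hg : g ∈ 𝐍 C) {Γ Γ' : k[G]} (h1 : HomU C α m g Γ)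
    (h2 : HomU C α m g⁻¹ Γ') (h3 : Γ' * Γ = 1) : ∃ s ∈ adjoin k {α}, Γ * α = s * α * Γ := by
  have h0 := Algebra.self_mem_adjoin_singleton k α
  have : IsArtinianRing k[G] := isArtinian_of_tower k inferInstance
  obtain ⟨κ, s, hs, h4⟩ := exists_eq_add (h.mem_of_homU (by simp)
    (h.homU_mul (by simpa) (h.homU_mul hg h1 (h.homU_of_mem h0 h.pow)) h2))
  have h5 : ∀ j, tau α m * Γ * α ^ j = κ ^ j • (tau α m * Γ) := fun j => by
    induction j with
    | zero => simp
    | succ j ih => rw [pow_succ, ← mul_assoc, ih, smul_mul_assoc, mul_assoc, ← mul_one (Γ * α), ← h3,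
        ← mul_assoc (Γ * α), h4, ← mul_assoc, tau_mul_add h.pow, smul_mul_assoc, smul_smul, pow_succ]
  have h6 := h5 (m + 1)
  rw [mul_assoc, h1.right, mul_pow_eq_zero (tau_mul_self h.pow) m.succ_ne_zero, eq_comm,
    smul_eq_zero] at h6
  have h7 : κ = 0 := pow_eq_zero_iff m.succ_ne_zero |>.1 (h6.resolve_right fun h7 => h.tau_ne (by
    rw [← mul_one (tau α m), ← (mul_eq_one_comm (M := k[G])).1 h3, ← mul_assoc, h7, zero_mul]))
  exact ⟨s, hs, by rw [(adj_comm hs h0).eq, ← zero_add (α * s), ← zero_smul k (1 : k[G]), ← h7, ← h4,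
    mul_assoc, h3, mul_one]⟩

theorem tau_mul_single {p : ℕ} [Fact p.Prime] [CharP k p] {u : G} (hu : u ∈ C)
    (hc : ∀ a : k[G], Supp C a → single u 1 * a = a * single u 1) {n : ℕ} (hn : u ^ p ^ n = 1) :
    tau α m * single u 1 = tau α m := by
  obtain ⟨κ, hκ⟩ := tau_mul_adj h.pow (h.sand _ (supp_single hu (1 : k)))
  rw [mul_assoc, hc _ (h.supp_adj idem_mem), ← mul_assoc, ← mul_assoc, tau_mul_idem h.pow,
    tau_mul_idem h.pow] at hκ
  have h1 : ∀ j, tau α m * single (u ^ j) 1 = κ ^ j • tau α m := fun j => by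
    induction j with
    | zero => simp [← one_def]
    | succ j ih => rw [pow_succ, ← mul_one (1 : k), ← single_mul_single, ← mul_assoc, ih,
        smul_mul_assoc, hκ, smul_smul, pow_succ]
  have h2 := h1 (p ^ n)
  rw [hn, ← one_def, mul_one, eq_comm, ← sub_eq_zero, ← one_smul k (tau α m), smul_smul, mul_one,
    ← sub_smul, smul_eq_zero, ← one_pow (p ^ n), ← sub_pow_char_pow] at h2
  rw [hκ, sub_eq_zero.1 (pow_eq_zero_iff (pow_ne_zero n (Fact.out : p.Prime).ne_zero) |>.1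
    (h2.resolve_right h.tau_ne)), one_smul]

end Uns

section Trace

variable {D T N : Subgroup G}

theorem out_smul (D : Subgroup G) (g : G) (ω : G ⧸ D) : ∃ d ∈ D, (g • ω).out = g * ω.out * d := by
  obtain ⟨d, hd⟩ := QuotientGroup.mk_out_eq_mul D (g * ω.out)
  exact ⟨d, d.2, by rw [← hd, ← smul_eq_mul, MulAction.Quotient.mk_smul_out]⟩

theorem out_smul_mem (hD : D ≤ T) {g : G} (hg : g ∈ T) (ω : G ⧸ D) :
    (g • ω).out ∈ T ↔ ω.out ∈ T := by
  obtain ⟨d, hd, h⟩ := out_smul D g ω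
  rw [h, T.mul_mem_cancel_right (hD hd), T.mul_mem_cancel_left hg]

theorem cj_out_smul {a : k[G]} (ha : ∀ d ∈ D, cj d a = a) (g : G) (ω : G ⧸ D) :
    cj (g • ω).out a = cj g (cj ω.out a) := by
  obtain ⟨d, hd, h⟩ := out_smul D g ω
  rw [h, ← cj_cj, ha d hd, cj_cj]

theorem cj_csum_self (y : G) {t : G} (ht : t ∈ T) : cj t (csum k T y) = csum k T y :=
  (csum_mem_fix (N := ⊤) Subgroup.le_normalizer_of_normal (Subgroup.mem_top y)).2 t ht

theorem sum_out_csum [Fintype (G ⧸ D)] [DecidablePred (· ∈ T)] (hD : D ≤ T) (y : G) :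
    ∑ ω : G ⧸ D with ω.out ∈ T, cj ω.out (csum k D y) =
      (D.relIndex (T ⊓ 𝐙 y) : k) • csum k T y := ext_coeff fun g => by
  classical
  have ha := fun d (hd : d ∈ D) => cj_csum_self (k := k) y hd
  rw [coeff_smul, Finsupp.smul_apply, coeff_csum]
  split_ifs with hg
  · obtain ⟨s, hs, rfl⟩ := hg
    rw [cj_eq_iff.1 (by
      rw [map_sum]
      exact sum_equiv (MulAction.toPerm s) (fun ω => by simp [out_smul_mem hD hs])
        fun ω _ => (cj_out_smul ha s ω).symm), coeff_sum_apply]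
    simp only [coeff_cj, coeff_csum, sum_boole, smul_eq_mul, mul_one, filter_filter]
    rw [Subgroup.relIndex, show D.subgroupOf (T ⊓ 𝐙 y) = MulAction.stabilizer (T ⊓ 𝐙 y : Subgroup G)
      ((1 : G) : G ⧸ D) from Subgroup.ext fun x =>
        (SetLike.ext_iff.1 (MulAction.stabilizer_quotient D) (x : G)).symm,
      MulAction.index_stabilizer, ← Set.ncard_coe_finset]
    congr 2
    ext ω
    simp only [coe_filter, mem_univ, true_and, Set.mem_setOf_eq]
    refine ⟨fun ⟨h1, d, hd, h2⟩ => ⟨⟨ω.out * d, T.mul_mem h1 (hD hd),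
      Subgroup.mem_centralizer_singleton_iff.2 ?_⟩, ?_⟩, fun ⟨x, hx⟩ => ?_⟩
    · rw [mul_assoc, ← inv_mul_cancel_right (d * y) d, h2]; group
    · exact ((congrArg _ (mul_one _)).trans (QuotientGroup.mk_mul_of_mem _ hd)).trans ω.out_eq'
    · obtain ⟨d, hd⟩ := QuotientGroup.mk_out_eq_mul D (x : G)
      rw [show ω = ((x : G) : G ⧸ D) from hx.symm.trans (congrArg _ (mul_one _)), hd]
      refine ⟨T.mul_mem x.2.1 (hD d.2), d⁻¹, D.inv_mem d.2, ?_⟩
      rw [mul_assoc _ y (_ * _), ← mul_assoc y, ← Subgroup.mem_centralizer_singleton_iff.1 x.2.2]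
      group
  · rw [coeff_sum_apply, smul_zero]
    refine sum_eq_zero fun ω hω => ?_
    rw [coeff_cj, coeff_csum, if_neg fun ⟨d, hd, h⟩ => hg ⟨ω.out * d,
      T.mul_mem (mem_filter.1 hω).2 (hD hd),
      (by group : _ = ω.out * (d * y * d⁻¹) * ω.out⁻¹).trans (by rw [h]; group)⟩]

theorem exists_tr {p : ℕ} [Fact p.Prime] [CharP k p] [Fintype (G ⧸ D)] [DecidablePred (· ∈ T)]
    {c : k[G]} (hD : IsDef p T c D) (hT : T ≤ 𝐍 N) (hc : c ∈ fix N T) :
    ∃ a, (∀ d ∈ D, cj d a = a) ∧ ∑ ω : G ⧸ D with ω.out ∈ T, cj ω.out a = c := by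
  refine fix_induction (motive := fun c => ∃ a, (∀ d ∈ D, cj d a = a) ∧
    ∑ ω : G ⧸ D with ω.out ∈ T, cj ω.out a = c) hT hc ⟨0, by simp⟩
    (fun _ _ _ _ ⟨a, ha, ha'⟩ ⟨b, hb, hb'⟩ => ⟨a + b, fun d hd => by rw [map_add, ha d hd, hb d hd],
      by simp only [map_add, sum_add_distrib, ha', hb']⟩) fun g hg => ?_
  obtain ⟨P, hP, -⟩ := exists_sylIn_ge (p := p) IsPGroup.of_bot (bot_le : ⊥ ≤ T ⊓ 𝐙 g)
  obtain ⟨t, ht, hle⟩ := hD.exists_cg_le (hP.le.trans inf_le_left) hP.isP (trunc_ne_zero_iff.2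
    ⟨g, le_centralizer_singleton_iff.1 (hP.le.trans inf_le_right), hg⟩)
  have hP' := sylIn_cg hP t
  rw [cg_inf, cg_eq_of_mem ht, cg_centralizer_singleton] at hP'
  have h1 : (D.relIndex (T ⊓ 𝐙 (t * g * t⁻¹)) : k) ≠ 0 := by
    rw [Ne, CharP.cast_eq_zero_iff k p]
    exact fun h => hP'.not_dvd_relIndex (h.trans (Subgroup.relIndex_dvd_of_le_left _ hle))
  refine ⟨(c.coeff g * (D.relIndex (T ⊓ 𝐙 (t * g * t⁻¹)) : k)⁻¹) • csum k D (t * g * t⁻¹),
    fun d hd => by rw [map_smul, cj_csum_self _ hd], ?_⟩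
  simp only [map_smul, ← smul_sum]
  rw [sum_out_csum hD.le, smul_smul, inv_mul_cancel_right₀ h1,
    ← cj_csum_self g ht, cj_csum, cg_eq_of_mem ht]

variable {V : Type*} [AddCommGroup V] [Module k V] [Module k[G] V] [IsScalarTower k k[G] V]

theorem lsmul_cj (g : G) (a : k[G]) :
    lsmul k k V (cj g a) = lrep V g * lsmul k k V a * lrep V g⁻¹ := by
  rw [cj_eq_mul, map_mul, map_mul]; rfl

theorem exists_trace [IsAlgClosed k] [FiniteDimensional k V] [IsSimpleModule k[G] V] [Fintype T]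
    {p : ℕ} [Fact p.Prime] [CharP k p] {C : Subgroup G} {c : k[G]} (hD : IsDef p T c D)
    (hT : T ≤ 𝐍 C) (hc : c ∈ fix C T) (hcc : c * c = c) (hN : T ≤ N)
    (h0 : ∀ n ∈ N, n ∉ T → c * cj n c = 0) (hTI : ∀ g ∉ N, ∀ u ∈ D, g⁻¹ * u * g ∈ D → u = 1)
    {X : Module.End k V} (hX : ∀ t ∈ T, Commute X (lrep V t)) (h1 : lsmul k k V c * X = X)
    (h2 : X * lsmul k k V c = X) : ∃ (κ : k) (W : Module.End k V),
      κ • lsmul k k V c = X + ∑ t : T, lrep V (t : G) * W * lrep V (t : G)⁻¹ := by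
  classical
  have := Fintype.ofFinite (G ⧸ D)
  obtain ⟨a, ha, ha'⟩ := exists_tr hD hT hc
  have hL := fun (g : G) (a : k[G]) => lsmul_cj (V := V) g a
  have hs : (∀ F : Module.End k V, (∀ g : G, Commute F (lrep V g)) → ∃ κ : k, F = κ • 1) := fun F hF =>
    (schur k (toLin F hF)).imp fun κ hκ => LinearMap.ext hκ
  generalize (lrep V : Representation k G V) = ρ, (lsmul k k V : k[G] →ₐ[k] _) = L at *
  have hi : ∀ g (Y : Module.End k V), Y * ρ g⁻¹ * ρ g = Y := fun g Y => by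
    rw [mul_assoc, ← map_mul, inv_mul_cancel, map_one, mul_one]
  have hXc : ∀ t ∈ T, ρ t * (L a * X) * ρ t⁻¹ = L (cj t a) * X := fun t ht => by
    rw [hL, mul_assoc, mul_assoc, (hX _ (inv_mem ht)).eq, ← mul_assoc, ← mul_assoc]
  have hLc : ∀ g, ρ g * L c = L (cj g c) * ρ g := fun g => by rw [hL, hi]
  let F : G ⧸ D → Module.End k V := fun ω => ρ ω.out * (L a * X) * ρ ω.out⁻¹
  have hF : ∀ g ω, F (g • ω) = ρ g * F ω * ρ g⁻¹ := fun g ω => by
    obtain ⟨d, hd, h⟩ := out_smul D g ω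
    have := hXc d (hD.le hd)
    rw [ha d hd] at this
    simp only [F, h, mul_inv_rev, map_mul]
    conv_rhs => rw [← this]
    simp only [mul_assoc]
  obtain ⟨κ, hκ⟩ := hs (∑ ω, F ω) fun g => by
    rw [Commute, SemiconjBy, sum_mul, mul_sum, ← Equiv.sum_comp (MulAction.toPerm g)]
    exact sum_congr rfl fun ω _ => by rw [MulAction.toPerm_apply, hF, hi]
  obtain ⟨W, hW⟩ := H24.D1.exists_sum_eq_trace (P := T) (fun u => (AddMonoidHom.mulRight
    (ρ (u : G)⁻¹)).comp (AddMonoidHom.mulLeft (ρ u))) (fun x : (G ⧸ D) × (G ⧸ D) =>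
      L (cj x.1.out a) * F x.2 * L c) (fun u x => by
        change L (cj ((u : G) • x.1).out a) * F ((u : G) • x.2) * L c = ρ u * _ * ρ (u : G)⁻¹
        rw [cj_out_smul ha, hL, hF, mul_assoc _ _ (L c), mul_assoc _ _ (L c), hLc,
          hc.2 _ (inv_mem u.2), ← mul_assoc, ← mul_assoc, ← mul_assoc, hi]
        simp only [mul_assoc])
    ((univ.filter fun ω : G ⧸ D => ω.out ∈ T) ×ˢ univ.filter fun ω : G ⧸ D => ω.out ∉ N) (fun u x hx => by
      simp only [mem_product, mem_filter, mem_univ, true_and] at hx ⊢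
      exact ⟨(out_smul_mem hD.le u.2 _).2 hx.1,
        fun h => hx.2 ((out_smul_mem (hD.le.trans hN) (hN u.2) _).1 h)⟩) fun u x hx h => by
      simp only [mem_product, mem_filter, mem_univ, true_and] at hx
      have h3 : ∀ ω : G ⧸ D, (u : G) • ω = ω → ω.out⁻¹ * u * ω.out ∈ D := fun ω h => by
        rw [← MulAction.Quotient.mk_smul_out, ← ω.out_eq', eq_comm, QuotientGroup.eq, ω.out_eq'] at h
        rwa [mul_assoc]
      have := hTI (x.1.out⁻¹ * x.2.out) (by rw [N.mul_mem_cancel_left (inv_mem (hN hx.1))]; exact hx.2)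
        _ (h3 _ (congrArg Prod.fst h)) (by simpa [mul_assoc] using h3 _ (congrArg Prod.snd h))
      exact Subtype.ext (by simpa [mul_assoc, inv_mul_eq_one] using this)
  refine ⟨κ, W, ?_⟩
  have h3 := congrArg (fun Y => L c * Y * L c) hκ
  simp only [mul_smul_comm, smul_mul_assoc, mul_one, ← map_mul, hcc] at h3
  rw [← h3, ← sum_filter_add_sum_filter_not univ fun ω : G ⧸ D => ω.out ∈ N, mul_add, add_mul]
  refine congrArg₂ _ ?_ (Eq.trans ?_ hW)
  · rw [mul_assoc, sum_mul, ← sum_subset (s₁ := {ω : G ⧸ D | ω.out ∈ T})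
      (fun ω hω => by simpa using hN (mem_filter.1 hω).2) fun ω hω hω' => ?_,
      sum_congr rfl fun ω hω => by rw [show F ω = _ from hXc _ (mem_filter.1 hω).2], ← sum_mul,
      ← sum_mul, ← map_sum, ha', h1, h2, h1]
    have h4 := congrArg L (h0 _ (inv_mem (mem_filter.1 hω).2) (by simpa using hω'))
    rw [map_mul, map_zero] at h4
    rw [mul_assoc, hLc, ← h2]
    simp only [mul_assoc, ← mul_assoc (L c), h4, zero_mul, mul_zero]
  · rw [sum_product, ← ha', map_sum, sum_mul_sum]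
    simp only [sum_mul]

theorem sum_sub_smulRight (T : Subgroup G) [Fintype T] (ℓ : V →ₗ[k] k) (y v : V) :
    (∑ t : T, lrep V (t : G) * ℓ.smulRight y * lrep V (t : G)⁻¹ : Module.End k V) v =
      trunc T (zf (G := G) ℓ v) • y := by
  have := Fintype.ofFinite G
  rw [H24.D1.smul_eq_sum, H8.sum_subgroup_eq T _ fun g hg => by rw [supp_trunc T _ g hg, zero_smul],
    LinearMap.sum_apply]
  exact sum_congr rfl fun t _ => by rw [coeff_trunc_of_mem _ t.2]; exact (lrep V (t : G)).map_smul _ _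

theorem Uns.scal [IsAlgClosed k] [FiniteDimensional k V] [IsSimpleModule k[G] V]
    {p : ℕ} [Fact p.Prime] [CharP k p] {C : Subgroup G} {c α Γ Γ' : k[G]} {m : ℕ} (h : Uns C c α m)
    (hD : IsDef p T c D) (hT : T ≤ 𝐍 C) (hC : C ≤ T) (hc : c ∈ fix C T) (hcc : c * c = c)
    (hN : T ≤ N) (h0 : ∀ n ∈ N, n ∉ T → c * cj n c = 0)
    (hTI : ∀ g ∉ N, ∀ u ∈ D, g⁻¹ * u * g ∈ D → u = 1) {g : G} (hg : g ∈ T)
    (hgen : ∀ t ∈ T, ∃ j : ℕ, t * g⁻¹ ^ j ∈ C) (h1 : HomU C α m g Γ) (h2 : HomU C α m g⁻¹ Γ')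
    (h3 : Γ' * Γ = 1) (f : Module.End k V) (hα : ∀ v, f (α • v) = α • f v)
    (hΓ : ∀ v, f (Γ • v) = Γ • f v) : ∃ κ : k, ∀ v, α ^ m • v = 0 → ∃ w, α • w = f v - κ • v := by
  have := Fintype.ofFinite T
  have : IsArtinianRing k[G] := isArtinian_of_tower k inferInstance
  obtain ⟨n, u, v, huv, hc'⟩ := h.mor
  let L : k[G] →ₐ[k] Module.End k V := lsmul k k V
  have hA : ∀ a ∈ adjoin k {α}, Commute f (L a) := fun a ha =>
    Algebra.commute_of_mem_adjoin_singleton_of_commute (R := k) (b := L α)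
      (by rw [← Set.image_singleton, ← AlgHom.map_adjoin]; exact ⟨a, ha, rfl⟩) (LinearMap.ext hα)
  have hi := hA _ (idem_mem (m := m))
  have hii := idem_mul_idem h.pow
  have hci := h.mul
  have hic := h.mul'
  have hB : ∀ t ∈ T, ∀ a, Cs C t a →
      Commute f (L ((1 - α ^ (m + 1)) * a * (1 - α ^ (m + 1)))) := fun t ht a ha => by
    obtain ⟨j, hj⟩ := hgen t ht
    have h4 := (hA _ (h.mem_of_homU hj (h.homU_mul (hT ht) (h.homU_sand (hT ht) ha)
      (h.homU_pow (hT (inv_mem hg)) h2 j)))).mul_right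
      (Commute.pow_right (show Commute f (L Γ) from LinearMap.ext hΓ) j)
    rw [← map_pow, ← map_mul, mul_assoc, ← Commute.mul_pow (h3.trans (mul_eq_one_comm.1 h3).symm), h3,
      one_pow, mul_one] at h4
    simpa only [← map_sub, add_sub_cancel_right] using
      h4.sub_right (hA _ (pow_mem (Algebra.self_mem_adjoin_singleton k α) (m + 1)))
  have hv : ∀ x : V, α ^ m • x = 0 → (1 - α ^ (m + 1)) • x = x ∧ tau α m • x = 0 := fun x hx => by
    simp [tau, sub_smul, pow_succ', mul_smul, hx]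
  generalize 1 - α ^ (m + 1) = i at *
  obtain ⟨κ, W, hW⟩ := exists_trace (V := V) hD hT hc hcc hN h0 hTI
    (X := ∑ r, L (u r * i) * f * L (i * v r)) (fun t ht => by
      have h4 : c * single t 1 = single t 1 * c := comm_of_inv hc.2 (supp_single ht _)
      change _ * L (single t 1) = L (single t 1) * _
      calc _ = ∑ r, ∑ s, L (u r * i) * (f * L (i * (v r * single t 1 * u s) * i)) * L (i * v s) := by
            rw [sum_mul]
            refine sum_congr rfl fun r _ => ?_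
            have h5 : i * v r * single t 1 = ∑ s, i * (v r * single t 1 * u s) * i * (i * v s) := by
              simp only [mul_assoc, ← mul_assoc i i, hii, ← mul_sum]
              simp only [← mul_assoc, hc']
              rw [mul_assoc _ _ c, ← h4, mul_assoc i, mul_assoc i, ← mul_assoc _ c,
                ← h.cen _ (huv r).2, mul_assoc c, ← mul_assoc i c, hic]
            rw [mul_assoc, ← map_mul, h5]
            simp only [mul_sum, map_sum, mul_assoc, ← map_mul]
        _ = _ := by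
            rw [sum_comm, mul_sum]
            refine sum_congr rfl fun s _ => ?_
            have h5 := fun r => (hB t ht (v r * single t 1 * u s) (by
              simpa using ((cs_one.2 (huv r).2).mul (one_mem _) (cs_single (k := k) (t := t)
                (t' := t) (by simp))).mul (by simpa using hT ht) (cs_one.2 (huv s).1))).eq
            simp only [h5]
            simp only [← mul_assoc, ← map_mul, ← sum_mul, ← map_sum, mul_assoc _ i i, hii, hc', h4]
            rw [mul_assoc _ c, h.cen _ (huv s).1, ← mul_assoc _ _ c, mul_assoc _ c, hci])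
    (by
      rw [mul_sum]
      refine sum_congr rfl fun r _ => ?_
      rw [← mul_assoc, ← mul_assoc, ← map_mul L, ← mul_assoc, h.cen _ (huv r).1, mul_assoc _ c, hci])
    (by
      rw [sum_mul]
      refine sum_congr rfl fun r _ => ?_
      rw [mul_assoc, ← map_mul L, mul_assoc i, ← h.cen _ (huv r).2, ← mul_assoc i, hic])
  refine ⟨κ, fun x hx => ?_⟩
  obtain ⟨h4, h5⟩ := hv x hx
  have h6 : (∑ r, L (u r * i) * f * L (i * v r)) * L i = f * L i := by
    have h7 := fun r => (hB 1 (one_mem _) _ (cs_one.2 (huv r).2)).eq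
    simp only [sum_mul, mul_assoc (L _), mul_assoc f, ← map_mul, h7]
    simp only [← mul_assoc, ← map_mul, ← sum_mul, ← map_sum, mul_assoc _ i i, hii, hc', hci, hi.eq]
  change κ • L c = _ at hW
  have h7 := LinearMap.congr_fun (congrArg (· * L i) hW) x
  simp only [add_mul, h6, smul_mul_assoc, ← map_mul L, hci] at h7
  rw [eq_sum_smulRight W] at h7
  simp only [mul_sum, sum_mul] at h7
  rw [sum_comm] at h7
  simp only [← sum_mul, LinearMap.add_apply, LinearMap.smul_apply, Module.End.mul_apply,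
    show L i x = x from h4] at h7
  simp only [LinearMap.sum_apply _ (fun j : Fin _ => ∑ _t : T, _), sum_sub_smulRight] at h7
  choose z hz using fun ℓ : V →ₗ[k] k => h.annL (trunc T (zf ℓ x)) (by
    rw [← trunc_mul_left ((h.supp_adj (tau_mem α m)).mono hC), mul_zf, h5, zf_zero_right, map_zero])
  simp only [hz, mul_smul, ← smul_sum] at h7
  exact ⟨_, by rw [h7, sub_add_cancel_left, ← smul_neg]⟩

end Trace

end Cfsg.Agent.H9
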