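import Mathlib
import Cfsg.Agent.H9.Nak2
import Cfsg.Agent.H9.Cols
import Cfsg.Agent.H3.Cyclic

/-!
Blocks with cyclic defect groups: the number of simple modules is the inertial index.
-/

set_option autoImplicit false
set_option linter.unusedSectionVars false

namespace Cfsg.Agent.H9

open MonoidAlgebra Cfsg Finset
open Cfsg.Agent.H8 (locRing resField res rd eB fB fC up red Zen IsBlockUnion pPart pReg omega toOG)
open Cfsg.Agent.H7 (ip)
open scoped ComplexConjugate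

local notation "𝐂" Q => Subgroup.centralizer (SetLike.coe (Q : Subgroup _))
local notation "𝐍" Q => Subgroup.normalizer (SetLike.coe (Q : Subgroup _))
local notation "𝐙" x => Subgroup.centralizer (Singleton.singleton x : Set _)

theorem Uns.em {k H G : Type*} [Field k] [Group H] [Group G] [Finite H] [Finite G] {φ : H →* G}
    (hφ : Function.Injective φ) {c α : k[H]} {m : ℕ} (h : Uns ⊤ c α m) :
    Uns φ.range (em k φ c) (em k φ α) m := by
  have h1 : 1 - H9.em k φ α ^ (m + 1) = H9.em k φ (1 - α ^ (m + 1)) := by simp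
  obtain ⟨n, u, v, -, huv⟩ := h.mor
  refine ⟨h.ne, supp_em φ α, by rw [← map_pow, ← map_mul, h.pow], fun a ha => ?_,
    by rw [h1, ← map_mul, h.mul], fun a ha => ?_, ⟨n, fun r => H9.em k φ (u r),
      fun r => H9.em k φ (v r), fun r => ⟨supp_em _ _, supp_em _ _⟩, by
        simp only [h1, ← map_mul, ← map_sum, huv]⟩, ?_⟩
  · obtain ⟨b, rfl⟩ := exists_em_eq hφ ha
    rw [← map_mul, h.cen b (supp_top b), map_mul]
  · obtain ⟨b, rfl⟩ := exists_em_eq hφ ha
    rw [h1, ← map_mul, ← map_mul, ← Set.image_singleton, ← AlgHom.map_adjoin]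
    exact ⟨_, h.sand b (supp_top b), rfl⟩
  · rw [tau, ← map_pow, ← map_pow, ← map_sub, ← map_one φ, coeff_em hφ]
    exact h.coeff

theorem exists_gen_of_card_prime {G : Type*} [Group G] [Finite G] {p : ℕ} [hp : Fact p.Prime]
    {Q T : Subgroup G} (hQ : Nat.card Q = p) (hT : T ≤ 𝐍 Q) : ∃ g ∈ T,
      (∀ j : ℕ, g ^ j ∈ (𝐂 Q) ↔ (𝐂 Q).relIndex T ∣ j) ∧ ∀ t ∈ T, ∃ j : ℕ, t * g⁻¹ ^ j ∈ 𝐂 Q := by
  have := isCyclic_of_prime_card hQ
  have : IsCyclic (ZMod (Nat.card Q))ˣ := ZMod.isCyclic_units_prime (hQ ▸ hp.out)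
  have : IsCyclic (MulAut Q) := (IsCyclic.mulAutMulEquiv Q).isCyclic.2 inferInstance
  obtain ⟨a, ha⟩ := exists_zpowers_eq (D := autOf Q T) inferInstance
  obtain ⟨g, hg, rfl⟩ : a ∈ autOf Q T := ha ▸ Subgroup.mem_zpowers a
  have h1 : ∀ x : (𝐍 Q), (x : G) ∈ (𝐂 Q) ↔ Q.normalizerMonoidHom x = 1 := fun x => by
    rw [← MonoidHom.mem_ker, Subgroup.normalizerMonoidHom_ker, Subgroup.mem_subgroupOf]
  refine ⟨g, hg, fun j => ?_, fun t ht => ?_⟩
  · rw [← card_autOf hT, ← ha, Nat.card_zpowers, orderOf_dvd_iff_pow_eq_one, ← map_pow, ← h1]; rfl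
  · obtain ⟨j, hj⟩ := exists_pow_eq_of_mem (ha.symm ▸ ⟨⟨t, hT ht⟩, ht, rfl⟩ :
      Q.normalizerMonoidHom ⟨t, hT ht⟩ ∈ Subgroup.zpowers (Q.normalizerMonoidHom g))
    exact ⟨j, (h1 (⟨t, hT ht⟩ * g⁻¹ ^ j)).2 (by rw [map_mul, ← hj]; simp)⟩

variable {M : Ideal AlgInt} [hMm : M.IsMaximal] {p : ℕ} [hp : Fact p.Prime] [hM : PMod M p]
variable {G : Type*} [Group G] [Finite G] {B : Set (IrrCharacter G)} {D : Subgroup G}
  {e : (resField M)[G]}

theorem AbD.isIntegral_dA (h : AbD p B D e) {u : G} (hu : u ∈ D) (hU : Uni M p (bu p D e u))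
    {θ : G → ℂ} (hθ : IsGeneralizedCharacter G θ) : IsIntegral ℤ (dA p D e u θ) := by
  have h1 := h.dA_eq_sum hu hU (s := 1) hp.out.not_dvd_one (H6.isClassFunction_of_isGen hθ)
  obtain ⟨n, hn⟩ := exists_ip_int (H6.isGen_comp (𝐙 u).subtype hθ)
  rw [pow_one] at h1
  rw [h1]
  refine IsIntegral.sum _ fun ξ _ => IsIntegral.mul ?_ ((H8.isIntegral_centralChar ξ _).pow 1)
  exact (hn ξ).symm ▸ isIntegral_algebraMap

theorem AbD.exists_col_eq (h : AbD p B D e) {u : G} (hu : u ∈ D) (hU : Uni M p (bu p D e u))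
    (g : G) : ∃ w, IsIntegral ℤ w ∧ col p D e u g = Nat.card D * w := by
  by_cases hg : IsConj (pPart p g) u
  · obtain ⟨t, ht⟩ := isConj_iff.1 hg
    obtain ⟨ξ, hξ⟩ := H8.block_nonempty hU.blk
    rw [← H8.pPart_conj] at ht
    have h1 := h.col_mul hu (y := ⟨pReg p (t * g * t⁻¹), ht ▸ (H8.regC p _).2⟩)
      (by rw [← Subgroup.orderOf_coe]; exact H8.not_dvd_orderOf_pReg _)
    rw [hU.sumB_reg hξ (by rw [← Subgroup.orderOf_coe]; exact H8.not_dvd_orderOf_pReg _),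
      h.card_bu hu hU] at h1
    refine ⟨_, H8.char_isIntegral (H8.irr_isChar ξ) _, Eq.trans ?_ h1⟩
    rw [← cf_col D e u g t]
    exact congrArg _ ((H8.pPart_mul_pReg p _).symm.trans (congrArg (· * _) ht))
  · exact ⟨0, isIntegral_zero, by rw [col_eq_zero hg, mul_zero]⟩

variable (p) in
/-- The central unit attached to a column of generalized decomposition numbers. -/
noncomputable def czC (D : Subgroup G) (e : (resField M)[G]) (x : G) (χ : IrrCharacter G) : ℂ[G] :=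
  ofFun fun g => conj (dA p D e x χ) * ((χ : G → ℂ) 1 / Nat.card G) * conj (col p D e x g)

omit hp hM in
theorem czC_mem (x : G) (χ : IrrCharacter G) : czC p D e x χ ∈ Zen ℂ G :=
  H8.mem_Zen_iff.2 fun a g => by simp only [czC, coeff_ofFun, cf_col D e x g a]

theorem AbD.omega_czC (h : AbD p B D e) {x : G} (hx : x ∈ D) (χ ψ : IrrCharacter G) :
    omega (ψ : G → ℂ) (czC p D e x χ) =
      conj (dA p D e x χ) * dA p D e x ψ * ((χ : G → ℂ) 1 / (ψ : G → ℂ) 1) := by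
  have := Fintype.ofFinite G
  rw [← h.ip_col hx (H8.irr_isClassFunction ψ), H7.ip_def, H8.omega_apply]
  simp only [mul_sum, sum_mul, czC, coeff_ofFun]
  exact sum_congr rfl fun g _ => by ring

theorem Uni.uB_eq (hU : Uni M p B) {χ : IrrCharacter G} (hχ : χ ∈ B) :
    uB p B χ = (p : ℂ) ^ blockDefect p B * (χ : G → ℂ) 1 / Nat.card G := by
  rw [uB, hU.height hχ]; simp

theorem AbD.czC_int (h : AbD p B D e) (hT : pstab ⊤ D e ≤ 𝐂 D) {x : G} (hx : x ∈ D)
    {χ : IrrCharacter G} (hχ : χ ∈ B) (g : G) : (czC p D e x χ).coeff g ∈ locRing M := by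
  have hUx := h.uni_bu hx (inf_le_right.trans hT)
  obtain ⟨w, hw, hw'⟩ := h.exists_col_eq hx hUx g
  have : (czC p D e x χ).coeff g = conj (dA p D e x χ) * uB p B χ * conj w := by
    rw [czC, coeff_ofFun, hw', (h.uni hT).uB_eq hχ, map_mul, map_natCast, h.card_D, Nat.cast_pow]
    ring
  rw [this]
  exact mul_mem (mul_mem (H8.mem_locRing_of_isIntegral M (isIntegral_conj (h.isIntegral_dA hx hUx
    (H6.isGen_of_irr χ.2)))) (H8.mem_locRing_of_rd_ne_zero (rd_uB_ne hχ)))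
    (H8.mem_locRing_of_isIntegral M (isIntegral_conj hw))

theorem AbD.czC_pow (h : AbD p B D e) (hT : pstab ⊤ D e ≤ 𝐂 D) {x : G}
    (hx : Subgroup.zpowers x = D) {χ : IrrCharacter G} (hχ : χ ∈ B) :
    czC p D e x χ ^ Nat.card D = fC B ∧ ∃ ξ ∈ B, (∑ j ∈ range (Nat.card D), czC p D e x χ ^ j) * fC B =
      (Nat.card D : ℂ) • fC {ξ} := by
  have hxD : x ∈ D := hx ▸ Subgroup.mem_zpowers x
  obtain ⟨f, hf⟩ := h.exists_st_bij hT hχ
  have hz := czC_mem (p := p) (D := D) (e := e) x χ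
  have ho := h.omega_czC hxD χ
  have ho' : ∀ lam, omega ((f lam).1 : G → ℂ) (czC p D e x χ) = lam ⟨x, hxD⟩ := fun lam => by
    rw [ho, hf lam ⟨x, hxD⟩, (h.uni hT).deg_eq hχ (f lam).2, div_self (H8.irr_one_ne_zero _),
      mul_left_comm, Complex.conj_mul', h.norm_dA hT hχ hxD]
    simp
  generalize czC p D e x χ = z at *
  have hp' : ∀ (ψ : IrrCharacter G) j, omega (ψ : G → ℂ) (z ^ j) = omega (ψ : G → ℂ) z ^ j :=
    fun ψ j => by
      induction j with
      | zero => rw [pow_zero, pow_zero, H8.omega_one]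
      | succ j ih => rw [pow_succ', H8.omega_mul ψ hz, ih, pow_succ']
  have hl : ∀ lam : D →* ℂˣ, (lam ⟨x, hxD⟩ : ℂ) ^ Nat.card D = 1 := fun lam => by
    rw [← Units.val_pow_eq_pow_val, ← map_pow, pow_card_eq_one', map_one, Units.val_one]
  have hs : ∑ j ∈ range (Nat.card D), z ^ j ∈ Zen ℂ G := sum_mem fun j _ => Subalgebra.pow_mem _ hz j
  refine ⟨H8.eq_of_omega (Subalgebra.pow_mem _ hz _) (H8.fC_mem_Zen _) fun ψ => ?_, (f 1).1, (f 1).2,
    H8.eq_of_omega (mul_mem hs (H8.fC_mem_Zen _)) (Subalgebra.smul_mem _ (H8.fC_mem_Zen _) _)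
      fun ψ => ?_⟩
  · rw [hp']
    by_cases hψ : ψ ∈ B
    · obtain ⟨lam, hlam⟩ := f.surjective ⟨ψ, hψ⟩
      rw [H8.omega_fC_of_mem hψ, show ψ = (f lam).1 by rw [hlam], ho', hl]
    · rw [H8.omega_fC_of_notMem hψ, ho, h.dA_of_notMem hxD hψ, mul_zero, zero_mul,
        zero_pow Nat.card_pos.ne']
  rw [H8.omega_mul ψ hs, map_sum, map_smul, smul_eq_mul]
  by_cases hψ : ψ ∈ B
  · obtain ⟨lam, hlam⟩ := f.surjective ⟨ψ, hψ⟩
    rw [H8.omega_fC_of_mem hψ, show ψ = (f lam).1 by rw [hlam]]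
    simp only [hp', ho']
    by_cases h0 : lam = 1
    · rw [h0, H8.omega_fC_of_mem (Set.mem_singleton _)]; simp
    · rw [H8.omega_fC_of_notMem (B := {(f 1).1}) fun h3 => h0 (f.injective (Subtype.ext h3)), mul_one,
        mul_zero]
      refine (mul_eq_zero.1 ((geom_sum_mul _ _).trans (by rw [hl, sub_self]))).resolve_right
        fun h3 => h0 (MonoidHom.ext fun u => ?_)
      obtain ⟨j, hj⟩ := exists_pow_eq_of_mem (hx.symm ▸ u.2 : (u : G) ∈ Subgroup.zpowers x)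
      rw [show u = ⟨x, hxD⟩ ^ j from Subtype.ext hj.symm, map_pow,
        Units.ext (sub_eq_zero.1 h3 : _ = ((1 : ℂˣ) : ℂ)), one_pow, MonoidHom.one_apply]
  · rw [H8.omega_fC_of_notMem hψ, H8.omega_fC_of_notMem fun h3 => hψ (by rw [h3]; exact (f 1).2)]
    simp

theorem AbD.exists_cz (h : AbD p B D e) (hT : pstab ⊤ D e ≤ 𝐂 D) {x : G}
    (hx : Subgroup.zpowers x = D) : ∃ z ∈ Zen (resField M) G, z ^ Nat.card D = eB M B ∧
      ∃ χ ∈ B, ∃ κ ≠ 0, ∀ a, ((∑ j ∈ range (Nat.card D), z ^ j) * eB M B * a).coeff 1 =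
        κ * chiK M (χ : G → ℂ) a := by
  have := Fintype.ofFinite G
  obtain ⟨χ, hχ⟩ := H8.block_nonempty h.blk
  obtain ⟨h1, ξ, hξ, h2⟩ := h.czC_pow hT hx hχ
  have hzO := H8.up_toOG (h.czC_int hT (hx ▸ Subgroup.mem_zpowers x) hχ)
  have hz := czC_mem (p := p) (D := D) (e := e) x χ
  generalize czC p D e x χ = z at *
  refine ⟨red M (toOG M z), H8.red_mem_Zen (H8.mem_Zen_of_up (hzO.symm ▸ hz)), ?_, ξ, hξ,
    rd M (uB p B ξ), rd_uB_ne hξ, fun a => ?_⟩
  · rw [← map_pow, ← H8.red_fB]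
    exact congrArg _ (H8.up_injective (by rw [map_pow, hzO, h1, H8.up_fB h.ub]))
  · rw [H8.coeff_mul_sum', chiK_apply, mul_sum]
    refine sum_congr rfl fun g _ => ?_
    simp only [← map_pow, ← H8.red_fB, ← map_sum, ← map_mul]
    rw [H8.coeff_red_eq_rd, map_mul (up M), map_sum, H8.up_fB h.ub]
    simp only [map_pow, hzO, h2]
    have h3 : ((Nat.card D : ℂ) • fC {ξ}).coeff (1 * g⁻¹) = uB p B ξ * (ξ : G → ℂ) g := by
      rw [coeff_smul, Finsupp.smul_apply, H8.coeff_fC, blockCoeff, finsum_mem_singleton,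
        (h.uni hT).uB_eq hξ, one_mul, H8.irr_inv, Complex.conj_conj, h.card_D, smul_eq_mul,
        Nat.cast_pow]
      ring
    rw [h3, H8.rd_mul (H8.mem_locRing_of_rd_ne_zero (rd_uB_ne hξ)) (H8.irr_mem_locRing _ _)]
    ring

theorem AbD.exists_uns (h : AbD p B D e) (hT : pstab ⊤ D e ≤ 𝐂 D) (hc : IsCyclic D) (h1 : D ≠ ⊥) :
    ∃ α m, Uns ⊤ (eB M B) α m := by
  obtain ⟨x, hx⟩ := exists_zpowers_eq hc
  obtain ⟨z, hz, hzq, χ, hχ, κ, hκ, hco⟩ := h.exists_cz hT hx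
  obtain ⟨i, hii, hbi, ⟨n, u, v, huv⟩, hdim, hchi, -⟩ := exists_morita h.blk (h.uni hT).rank
  obtain ⟨m, hm⟩ := Nat.exists_eq_succ_of_ne_zero (Nat.card_pos (α := D)).ne'
  have hm0 : m ≠ 0 := fun h0 => h1 (Subgroup.card_eq_one.1 (by rw [hm, h0]))
  have hw := H8.Zen_comm (sub_mem hz (one_mem _))
  have h2 : ∀ j, ((z - 1) * i + (1 - i)) ^ j = (z - 1) ^ j * i + (1 - i) := fun j => by
    induction j with
    | zero => simp
    | succ j ih =>
      rw [pow_succ, ih, add_mul, mul_add, mul_add, mul_assoc, ← mul_assoc i, ← hw, mul_assoc _ i i, hii,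
        ← mul_assoc, ← pow_succ, mul_assoc, ← mul_assoc (1 - i), ← hw, mul_assoc]
      simp [mul_sub, sub_mul, hii]
  have h3 : (z - 1) ^ (m + 1) = eB M B - 1 := by
    have := congrArg (Polynomial.aeval z) (sub_pow_char_pow (p := p) (n := blockDefect p B)
      (Polynomial.X : Polynomial (resField M)) 1)
    simp only [map_pow, map_sub, Polynomial.aeval_X, map_one, one_pow, ← h.card_D, hzq] at this
    rwa [hm] at this
  have h4 : ((z - 1) * i + (1 - i)) ^ (m + 1) = 1 - i := by rw [h2, h3, sub_mul, hbi]; simp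
  have h5 : tau ((z - 1) * i + (1 - i)) m = (∑ j ∈ range (Nat.card D), z ^ j) * eB M B * i := by
    have h6 : (Polynomial.X - 1 : Polynomial (resField M)) ^ m =
        ∑ j ∈ range (Nat.card D), Polynomial.X ^ j := mul_right_cancel₀ (Polynomial.X_sub_C_ne_zero 1) (by
      rw [map_one, geom_sum_mul, ← pow_succ, ← Nat.succ_eq_add_one, ← hm, h.card_D, sub_pow_char_pow,
        one_pow])
    have := congrArg (Polynomial.aeval z) h6
    simp only [map_pow, map_sub, Polynomial.aeval_X, map_one, map_sum] at this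
    rw [tau, h4, h2, add_sub_cancel_right, this, mul_assoc, hbi]
  have h6 : (tau ((z - 1) * i + (1 - i)) m).coeff 1 ≠ 0 := by
    rw [h5, hco]
    refine mul_ne_zero hκ fun h0 => ?_
    have h7 := hchi χ hχ
    rw [h0, zero_pow two_ne_zero, eq_comm, CharP.intCast_eq_zero_iff _ p] at h7
    have := (pow_succ_dvd_mZ_iff h.blk hχ hχ).1 (by rwa [(h.uni hT).height hχ, zero_add, pow_one])
    exact this ((h.uni hT).height hχ)
  have h7 : ((z - 1) * i + (1 - i)) ^ (m + 1) * ((z - 1) * i + (1 - i)) =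
      ((z - 1) * i + (1 - i)) ^ (m + 1) := by
    rw [← pow_succ, h4, h2, pow_succ', h3, mul_assoc, sub_mul _ 1 i, hbi]; simp
  have h8 : 1 - ((z - 1) * i + (1 - i)) ^ (m + 1) = i := by rw [h4, sub_sub_cancel]
  generalize (z - 1) * i + (1 - i) = α at *
  refine ⟨α, m, hm0, supp_top _, h7, fun a _ => H8.Zen_comm (H8.eB_mem_Zen B) a, by rw [h8, hbi],
    fun a _ => ?_, ⟨n, u, v, fun r => ⟨supp_top _, supp_top _⟩, by rw [h8, huv]⟩, h6⟩
  have h9 := li_pow (k := resField M) h7 fun h0 => h6 (by simp [h0])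
  rw [h8] at h9 ⊢
  have h10 : Submodule.span (resField M) (Set.range fun j : Fin (m + 1) => α ^ j.1 * i) =
      LinearMap.range (sand (R := resField M) i i) := by
    refine Submodule.eq_of_le_of_finrank_eq (Submodule.span_le.2 ?_)
      (by rw [finrank_span_eq_card h9, hdim, ← h.card_D, hm, Fintype.card_fin])
    rintro _ ⟨j, rfl⟩
    refine ⟨α ^ j.1, ?_⟩
    have := adj_comm (h8 ▸ idem_mem) (_root_.pow_mem (Algebra.self_mem_adjoin_singleton (resField M) α) j.1)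
    rw [sand_apply, ← mul_assoc, this.eq, mul_assoc, hii]
  have h11 : i * a * i ∈ Submodule.span (resField M) (Set.range fun j : Fin (m + 1) => α ^ j.1 * i) :=
    h10 ▸ ⟨a, (mul_assoc _ _ _).symm⟩
  refine Submodule.span_induction (fun _ ⟨j, hj⟩ => hj ▸ ?_) (zero_mem _) (fun _ _ _ _ => add_mem)
    (fun c _ _ h => Subalgebra.smul_mem _ h c) h11
  exact mul_mem (_root_.pow_mem (Algebra.self_mem_adjoin_singleton _ α) _) (h8 ▸ idem_mem)

/-- Dade's theorem on the number of simple modules. -/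
theorem AbD.le_rank_of_cyc (h : AbD p B D e) (hc : IsCyclic D) (h1 : D ≠ ⊥) :
    iidx D e ≤ blockRank p B := by
  have hD := h.max.isP
  have hF := h.frD_of_cyc hc
  obtain ⟨Q, hQ, hQc⟩ := H3.exists_le_card_eq_pow (k := 1) hD (H3.pow_succ_le_card_of_lt hD (by
    rwa [pow_zero, Subgroup.one_lt_card_iff_ne_bot]))
  rw [pow_one] at hQc
  have hQ1 : Q ≠ ⊥ := fun h0 => hp.out.ne_one (by rw [← hQc, h0, Subgroup.card_bot])
  obtain ⟨α', m, hU⟩ := (h.abD_bl hQ).exists_uns (hF.nil_bl hQ hQ1)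
    ((Subgroup.subgroupOfEquivOfLe (h.le_C hQ)).isCyclic.2 hc)
    (by rw [Ne, Subgroup.subgroupOf_eq_bot, disjoint_iff, inf_eq_left.2 (h.le_C hQ)]; exact h1)
  replace hU := hU.em (Subgroup.subtype_injective (𝐂 Q))
  rw [Subgroup.range_subtype, show em _ _ (eB M _) = _ from h.eI_bl hQ] at hU
  generalize em _ (Subgroup.subtype (𝐂 Q)) α' = α at hU
  have hP := h.max.pairOf_loc hQ
  have hM := h.max.maxPair_loc h.ab hQ
  have hn : pstab ⊤ D e ≤ 𝐍 Q := AbD.T_le.trans (normalizer_le_of_cyc hc hQ)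
  have hi : (𝐂 Q).relIndex (pstab ⊤ Q (loc p D e Q)) = iidx D e := by
    rw [h.max.pstab_loc h.ab hQ hn, relIndex_sup_of_le (hn.trans
      (normalizer_le_normalizer_centralizer Q)), hF.relIndex_C hQ hQ1]
  generalize loc p D e Q = c at *
  have hC : (𝐂 Q) ≤ pstab ⊤ Q c := by simpa using hP.1.centralizer_le_pstab
  have hN : pstab ⊤ Q c ≤ 𝐍 Q := AbD.T_le
  have hT := hN.trans (normalizer_le_normalizer_centralizer Q)
  obtain ⟨g, hg, hg1, hg2⟩ := exists_gen_of_card_prime hQc hN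
  rw [hi] at hg1
  obtain ⟨Γ, Γ', e1, e2, e3, e4⟩ := hU.exists_unit (hT hg) (mem_pstab.1 hg).2.2
  obtain ⟨s, hs, e5⟩ := hU.exists_conj (hT hg) e1 e2 e4
  obtain ⟨s', hs', e6⟩ := hU.exists_conj (inv_mem (hT hg)) e2 (by rwa [inv_inv]) e3
  have hτ := hU.supp_adj (tau_mem α m)
  have hQp : IsPGroup p Q := hD.to_le hQ
  have hu : ∀ u ∈ Q, tau α m * single u 1 = tau α m ∧ single u 1 * tau α m = tau α m :=
    fun u hu => by
      have e7 : ∀ a : (resField M)[G], Supp (𝐂 Q) a → single u 1 * a = a * single u 1 := fun a ha => by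
        simpa using ((cs_one.2 ha).mul_single (u := u) (by simpa)).symm
      have := hU.tau_mul_single (p := p) (h.le_C hQ (hQ hu)) e7 (n := 1)
        (by rw [pow_one, ← hQc]; exact congrArg Subtype.val (pow_card_eq_one' (x := (⟨u, hu⟩ : Q))))
      exact ⟨this, (e7 _ hτ).trans this⟩
  have hbr : ∀ j, br Q (eB M B * tau α m * Γ ^ j) = br Q (eB M B) * br Q (tau α m * Γ ^ j) ∧
      Cs (𝐂 Q) (g ^ j) (tau α m * Γ ^ j) := fun j => by
    have e7 := hU.homU_pow (hT hg) e1 j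
    have e8 : Cs (𝐂 Q) (g ^ j) (tau α m * Γ ^ j) := by
      have := (cs_one.2 hτ).mul (one_mem _) e7.cs
      rwa [← e7.comm, ← mul_assoc, tau_mul_idem hU.pow, one_mul] at this
    refine ⟨(congrArg _ (mul_assoc _ _ _)).trans (br_mul hQp
      (fun t _ => h.max.blk.inv (Subgroup.mem_top t)) fun t ht => ?_), e8⟩
    have e9 := (Subgroup.mem_normalizer_iff.1 (_root_.pow_mem (hN hg) j) _).1 (inv_mem ht)
    rw [cj_eq_mul, ← mul_assoc, (hu t ht).2, e8.mul_single e9, ← mul_assoc, (hu _ e9).2]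
  refine le_blockRank_of_unit h.ub hU.ne hU.pow e3 e4 hs hs'
    (hU.mem_of_homU ((hg1 _).2 dvd_rfl) (hU.homU_pow (hT hg) e1 _)) e5 e6 h.not_dvd hU.annR ?_
    (fun j hj hj' => ?_) fun ζ S hS f h2 h3 => ?_
  · have := (hbr 0).1
    simp only [pow_zero, mul_one] at this
    rw [← coeff_trunc_of_mem _ (one_mem (𝐂 Q)), this, trunc_eq_self hτ, ← idem_mul_tau hU.pow,
      ← hU.mul, mul_assoc, ← mul_assoc, hP.2, ← mul_assoc, hU.mul, idem_mul_tau hU.pow]
    exact hU.coeff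
  · rw [← coeff_trunc_of_mem _ (one_mem (𝐂 Q)), (hbr j).1, (hbr j).2.trunc fun h0 =>
      (Nat.le_of_dvd (Nat.pos_of_ne_zero hj) ((hg1 j).1 h0)).not_gt hj']
    simp
  · have : FiniteDimensional (resField M) S :=
      FiniteDimensional.of_injective (S.subtype.restrictScalars _) Subtype.val_injective
    refine hU.scal (p := p) (D := D) (V := S) ⟨(h.le_C hQ).trans hC, hD, hM.isDef.br_ne, fun R hR hRp hb =>
      (hM.isDef.exists_cg_le (fun r hr => ?_) hRp hb).imp fun t ht => ⟨hC ht.1, ht.2⟩⟩ hT hC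
      ⟨hM.blk.supp, fun t ht => (mem_pstab.1 ht).2.2⟩ hM.blk.idem hN (fun n hn hn' => ?_)
      (fun x hx u hu hu' => ?_) hg hg2 e1 e2 e4 f h2 h3
    · obtain ⟨a, ha⟩ := hRp ⟨r, hr⟩
      refine mem_of_pow_of_coprime (((Nat.Prime.coprime_iff_not_dvd hp.out).2 h.not_dvd).pow_left a)
        (by rw [show r ^ p ^ a = 1 from congrArg Subtype.val ha]; exact one_mem _) ?_
      have := pow_mem_of_relIndex hT (hR hr)
      rwa [hi] at this
    · have := hM.blk.cj n
      rw [cg_centralizer, mem_normalizer_iff_cg.1 hn] at this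
      exact hM.blk.mul_eq_zero le_rfl this fun h0 => hn' (mem_pstab.2 ⟨trivial, hn, h0.symm⟩)
    · by_contra h0
      have h4 : Q ≤ cg x D := (H3.le_of_card_eq_p_of_isCyclic hD hc hQ inf_le_left hQc
        fun h4 => h0 (Subgroup.mem_bot.1 (h4 ▸ ⟨hu, mem_cg.2 hu'⟩))).trans inf_le_right
      exact hx (mem_normalizer_iff_cg.2 (H3.eq_of_card_eq_of_isCyclic (H3.isCyclic_map _ hc)
        (cg_mono x hQ) h4 (card_cg x Q)))

theorem AbD.rank_of_cyc (h : AbD p B D e) (hc : IsCyclic D) (h1 : D ≠ ⊥) :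
    blockRank p B = iidx D e :=
  le_antisymm ((h.frD_of_cyc hc).rank_le h1) (h.le_rank_of_cyc hc h1)

end Cfsg.Agent.H9
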