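import Mathlib
import Cfsg.Agent.H9.Nak3
import Cfsg.Agent.H9.Trace2

/-!
Bounds for `k(B)` from subsections whose defect group is cyclic modulo the `p`-element.
-/

set_option autoImplicit false
set_option linter.unusedSectionVars false

namespace Cfsg.Agent.H9

open MonoidAlgebra Cfsg
open Cfsg.Agent.H8 (locRing resField res rd eB fB fC up red Zen IsBlockUnion pPart pReg inflIrr
  orbS)
open Cfsg.Agent.H7 (ip)
open Subgroup (zpowers)
open scoped ComplexConjugate

local notation "𝐂" Q => Subgroup.centralizer (SetLike.coe (Q : Subgroup _))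
local notation "𝐍" Q => Subgroup.normalizer (SetLike.coe (Q : Subgroup _))
local notation "𝐙" x => Subgroup.centralizer (Singleton.singleton x : Set _)

universe u

variable {M : Ideal AlgInt} [hMm : M.IsMaximal] {p : ℕ} [hp : Fact p.Prime] [hM : PMod M p]

section Quot

variable {G H : Type*} [Group G] [Finite G] [Group H] [Finite H] {φ : G →* H}

omit hMm hM in
theorem rip_comp (hφ : Function.Surjective φ) (hk : IsPGroup p φ.ker) (hZ : ∀ x : G, x ∈ 𝐂 φ.ker)
    (θ ψ : H → ℂ) :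
    Nat.card φ.ker * rip p (fun x => θ (φ x)) (fun x => ψ (φ x)) = rip p θ ψ := by
  classical
  have := Fintype.ofFinite G
  have := Fintype.ofFinite H
  have h1 : Nat.card G = Nat.card φ.ker * Nat.card H := by
    rw [← Subgroup.card_mul_index φ.ker, Subgroup.index_ker, MonoidHom.range_eq_top.2 hφ,
      Subgroup.card_top]
  rw [rip_def, rip_def, h1, Nat.cast_mul, mul_inv, ← mul_assoc, ← mul_assoc,
    mul_inv_cancel₀ (H7.card_ne_zero' _), one_mul]
  congr 1
  refine Finset.sum_bij (fun x _ => φ x) (fun x hx => ?_) (fun x hx y hy e => ?_)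
    (fun y hy => ?_) fun _ _ => rfl
  · simpa using not_dvd_orderOf_map φ (Finset.mem_filter.1 hx).2
  · exact reg_lift_unique hk (Finset.mem_filter.1 hx).2 (Finset.mem_filter.1 hy).2 (hZ x) e
  · obtain ⟨x, hx, e⟩ := exists_reg_lift hφ (Finset.mem_filter.1 hy).2
    exact ⟨x, by simpa using hx, e⟩

omit hMm hM in
theorem pReg_eq_of_map (hk : IsPGroup p φ.ker) (hZ : ∀ x : G, x ∈ 𝐂 φ.ker) {x y : G}
    (h : φ x = φ y) : pReg p x = pReg p y := by
  have hz : x * y⁻¹ ∈ φ.ker := by simp [MonoidHom.mem_ker, h]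
  obtain ⟨k, hk1⟩ := IsPGroup.iff_orderOf.1 hk ⟨_, hz⟩
  rw [Subgroup.orderOf_mk] at hk1
  obtain ⟨l, hl⟩ := H8.orderOf_pPart (p := p) y
  have hc : ∀ g, Commute (x * y⁻¹) g := fun g => hZ g _ hz
  have e : x = (x * y⁻¹ * pPart p y) * pReg p y := by
    rw [mul_assoc, H8.pPart_mul_pReg, inv_mul_cancel_right]
  rw [e]
  refine H8.pReg_mul ?_ (H8.not_dvd_orderOf_pReg y) ((hc _).mul_left (H8.commute_pPart_pReg y))
  have : orderOf (x * y⁻¹ * pPart p y) ∣ p ^ (k + l) := by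
    rw [pow_add, ← hk1, ← hl]; exact (hc _).orderOf_mul_dvd_mul_orderOf
  obtain ⟨j, -, hj⟩ := (Nat.dvd_prime_pow hp.out).1 this
  exact ⟨j, hj⟩

omit hMm hM in
theorem exists_gen_desc (hφ : Function.Surjective φ) (hk : IsPGroup p φ.ker)
    (hZ : ∀ x : G, x ∈ 𝐂 φ.ker) {θ : G → ℂ} (hθ : IsGeneralizedCharacter G θ) :
    ∃ η, IsGeneralizedCharacter H η ∧ ∀ x, ¬ p ∣ orderOf x → η (φ x) = θ x := by
  have := Fintype.ofFinite H
  let σ := Function.surjInv hφ
  have hσ : ∀ y, φ (σ y) = y := Function.surjInv_eq hφ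
  have h1 : ∀ x, pReg p (σ (φ x)) = pReg p x := fun x => pReg_eq_of_map hk hZ (hσ _)
  refine ⟨fun y => θ (pReg p (σ y)), H6.isGen_of_classInner_int (fun y t => ?_) fun ψ hψ => ?_,
    fun x hx => by simp only [h1, H8.pReg_of_not_dvd hx]⟩
  · obtain ⟨x, rfl⟩ := hφ y
    obtain ⟨s, rfl⟩ := hφ t
    simp only [← map_inv, ← map_mul, h1, H8.pReg_conj, H6.isClassFunction_of_isGen hθ _ _]
  · have := Fintype.ofFinite G
    rw [← H6.classInner_comp_of_surjective φ hφ]
    simp only [h1]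
    exact H6.classInner_int (H8.isGen_comp_pReg hθ) (H6.isGen_comp φ (H6.isGen_of_irr hψ))

theorem exists_desc (hφ : Function.Surjective φ) (hk : IsPGroup p φ.ker)
    (hZ : ∀ x : G, x ∈ 𝐂 φ.ker) {B : Set (IrrCharacter G)} (hB : IsBlockUnion M B)
    {A : Set (IrrCharacter H)} (hA : IsBlockUnion M A) (hAB : ∀ ψ, inflIrr φ hφ ψ ∈ B ↔ ψ ∈ A)
    {v : G → ℂ} (hv : v ∈ regLat p B) : ∃ w ∈ regLat p A, Nat.card φ.ker * ip v v = ip w w := by
  obtain ⟨θ, h1, h2, rfl⟩ := mem_regLat_iff.1 hv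
  obtain ⟨η, h3, h4⟩ := exists_gen_desc hφ hk hZ h1
  have h5 : blockPart A (pRegularPart p η) = pRegularPart p η := by
    rw [blockPart_eq_self_iff (cf_reg (H6.isClassFunction_of_isGen h3))]
    intro ψ hψ
    change rip p η ψ = 0
    rw [← rip_comp hφ hk hZ, rip_congr (φ := fun x => ψ.1 (φ x)) (φ' := inflIrr φ hφ ψ) h4
      fun _ _ => rfl, ← h2,
      rip_blockPart_comm hB, H8.blockPart_of_notMem (mt (hAB ψ).1 hψ), rip_zero_right, mul_zero]
  refine ⟨pRegularPart p η, mem_regLat_iff.2 ⟨blockPart A η, (BG.blockPart h3).gen,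
    blockPart_idem _ _, by rw [reg_blockPart hA, h5]⟩, ?_⟩
  rw [← rip_eq_both, ← rip_eq_both, ← rip_comp hφ hk hZ, rip_congr h4 h4]

end Quot

section Cyc

theorem form_ge {ι : Type*} {X : Finset ι} {a : ι → ℤ} (h0 : ∃ i ∈ X, a i ≠ 0) {m : ℤ}
    (hm : 1 ≤ m) : (X.card : ℤ) ≤ (m * X.card + 1) * ∑ i ∈ X, a i ^ 2 - m * (∑ i ∈ X, a i) ^ 2 := by
  classical
  set s := X.filter fun i => a i ≠ 0 with hs
  have h1 : ∑ i ∈ s, a i = ∑ i ∈ X, a i := Finset.sum_filter_ne_zero X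
  have h2 : ∑ i ∈ s, a i ^ 2 = ∑ i ∈ X, a i ^ 2 :=
    Finset.sum_filter_of_ne fun i _ h e => h (by rw [e]; ring)
  have h3 : (∑ i ∈ s, a i) ^ 2 ≤ s.card * ∑ i ∈ s, a i ^ 2 := sq_sum_le_card_mul_sum_sq
  have h4 : (s.card : ℤ) ≤ ∑ i ∈ s, a i ^ 2 := by
    have := Finset.card_nsmul_le_sum s (fun i => a i ^ 2) 1 fun i hi =>
      H24.D1.one_le_sq_int (Finset.mem_filter.1 hi).2
    simpa using this
  have h5 : (s.card : ℤ) ≤ X.card := by exact_mod_cast Finset.card_filter_le _ _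
  have h6 : (1 : ℤ) ≤ s.card := by
    obtain ⟨i, hi, h⟩ := h0
    exact_mod_cast Finset.card_pos.2 ⟨i, Finset.mem_filter.2 ⟨hi, h⟩⟩
  rw [← h1, ← h2]
  generalize ∑ i ∈ s, a i ^ 2 = N at *
  generalize (∑ i ∈ s, a i) ^ 2 = S at *
  generalize (s.card : ℤ) = c at *
  generalize (X.card : ℤ) = e at *
  have h7 : 0 ≤ (e - c) * (m * N - 1) := mul_nonneg (by omega) (by nlinarith)
  nlinarith [mul_le_mul_of_nonneg_left h3 (by omega : 0 ≤ m)]

variable {G : Type*} [Group G] [Finite G] {B : Set (IrrCharacter G)} {D : Subgroup G}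
  {e : (resField M)[G]} {δ : G → ℤ}

theorem Fam.exists_coord {X : Finset (IrrCharacter G)}
    {ψ : Quotient (orbS (aut D e)) → IrrCharacter G} {ε : IrrCharacter G → ℤ} {d : ℤ}
    (h : Fam p B D e δ X ψ ε d) {w : G → ℂ} (hw : w ∈ regLat p B) :
    ∃ a : IrrCharacter G → ℤ, w = pRegularPart p (∑ χ ∈ X, ((a χ * ε χ : ℤ) : ℂ) • χ.1) := by
  classical
  induction hw using AddSubgroup.closure_induction with
  | mem v hv =>
    obtain ⟨ξ, hξ, rfl⟩ := hv
    rcases (h.mem ξ).1 hξ with h1 | ⟨j, rfl⟩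
    · refine ⟨fun χ => if χ = ξ then ε ξ else 0, congrArg _ ?_⟩
      rw [Finset.sum_eq_single_of_mem ξ h1 fun χ _ hne => by simp [hne]]
      rcases h.sε ξ h1 with h2 | h2 <;> simp [h2]
    · refine ⟨fun _ => d, reg_eq_iff.2 fun g hg => ?_⟩
      have := h.rel j hg
      simp only [Finset.sum_apply, Pi.smul_apply, smul_eq_mul, Int.cast_mul, mul_assoc,
        ← Finset.mul_sum, this]
      rcases h.sd with h2 | h2 <;> simp [h2]
  | zero => exact ⟨0, by simp [← regL_apply]⟩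
  | add v w _ _ hv hw =>
    obtain ⟨a, rfl⟩ := hv
    obtain ⟨b, rfl⟩ := hw
    refine ⟨a + b, ?_⟩
    rw [← regL_apply, ← regL_apply, ← regL_apply, ← map_add, ← Finset.sum_add_distrib]
    congr 1
    exact Finset.sum_congr rfl fun χ _ => by rw [← add_smul]; push_cast [Pi.add_apply]; ring_nf
  | neg v _ hv =>
    obtain ⟨a, rfl⟩ := hv
    refine ⟨-a, ?_⟩
    rw [← regL_apply, ← regL_apply, ← map_neg, ← Finset.sum_neg_distrib]
    congr 1
    exact Finset.sum_congr rfl fun χ _ => by rw [← neg_smul]; push_cast [Pi.neg_apply]; ring_nf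

theorem Fam.rip_coord {X : Finset (IrrCharacter G)}
    {ψ : Quotient (orbS (aut D e)) → IrrCharacter G} {ε : IrrCharacter G → ℤ} {d : ℤ}
    (h : Fam p B D e δ X ψ ε d) (a : IrrCharacter G → ℤ) :
    Nat.card D * rip p (∑ χ ∈ X, ((a χ * ε χ : ℤ) : ℂ) • χ.1) (∑ χ ∈ X, ((a χ * ε χ : ℤ) : ℂ) • χ.1) =
      ((Nat.card D * ∑ χ ∈ X, a χ ^ 2 -
        Nat.card (Quotient (orbS (aut D e))) * (∑ χ ∈ X, a χ) ^ 2 : ℤ) : ℂ) := by
  classical
  have := Fintype.ofFinite D
  set θ : G → ℂ := ∑ χ ∈ X, ((a χ * ε χ : ℤ) : ℂ) • χ.1 with hθ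
  have hε : ∀ χ ∈ X, ε χ * ε χ = 1 := fun χ hχ => by rcases h.sε χ hχ with h1 | h1 <;> simp [h1]
  have h1 : blockPart B θ = θ := by
    rw [hθ, H8.blockPart_sum]
    exact Finset.sum_congr rfl fun χ hχ => by
      rw [H8.blockPart_smul, H8.blockPart_of_mem (h.memX hχ)]
  have h2 : IsClassFunction G θ := h1 ▸ H8.isClassFunction_blockPart B θ
  have h3 := h.ip_eq h1 h2
  have h4 : ∀ u ∈ Finset.univ.erase (1 : D), dA p D e u θ * conj (dA p D e u θ) /
      (Nat.card D * iidx D e) = ((∑ χ ∈ X, a χ : ℤ) : ℂ) ^ 2 / (Nat.card D * iidx D e) := by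
    intro u hu
    have : sW p D e δ θ u = ((∑ χ ∈ X, a χ : ℤ) : ℂ) := by
      rw [hθ, sW_sum, Int.cast_sum]
      refine Finset.sum_congr rfl fun χ hχ => ?_
      rw [h.valX χ hχ u (Finset.ne_of_mem_erase hu), ← Int.cast_mul, mul_assoc, hε χ hχ, mul_one]
    rw [h.dA_eq, this, map_mul, map_intCast, map_intCast]
    linear_combination ((∑ χ ∈ X, a χ : ℤ) : ℂ) ^ 2 / (Nat.card D * iidx D e) * h.sq u
  have h5 : ip θ θ = ((∑ χ ∈ X, a χ ^ 2 : ℤ) : ℂ) := by
    rw [hθ, H7.ip_sum_left, Int.cast_sum]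
    refine Finset.sum_congr rfl fun χ hχ => ?_
    rw [H7.ip_smul_left, H7.ip_sum_right, Finset.sum_eq_single_of_mem χ hχ fun ξ _ hne => by
      rw [H7.ip_smul_right, ip_irr_irr, if_neg hne.symm, mul_zero], H7.ip_smul_right, ip_irr_irr,
      if_pos rfl, map_intCast, mul_one, ← Int.cast_mul]
    congr 1
    linear_combination a χ ^ 2 * hε χ hχ
  rw [Finset.sum_congr rfl h4, Finset.sum_const, Finset.card_erase_of_mem (Finset.mem_univ _),
    Finset.card_univ, ← Nat.card_eq_fintype_card, h5, nsmul_eq_mul] at h3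
  have h6 : ((Nat.card D - 1 : ℕ) : ℂ) = Nat.card (Quotient (orbS (aut D e))) * iidx D e := by
    rw [← h.card_orb, Nat.add_sub_cancel, Nat.cast_mul]
  have := H7.card_ne_zero' D
  have : (iidx D e : ℂ) ≠ 0 := Nat.cast_ne_zero.2 (iidx_ne_zero D e)
  rw [h6] at h3
  rw [Int.cast_sub, Int.cast_mul, h3]
  push_cast
  field_simp
  ring

/-- The minimum of the inverse Cartan form of a block with cyclic defect group. -/
theorem cyc_min (hB : IsPBlock M B) (hD : IsDefectGroup p M B D) (hc : IsCyclic D) {w : G → ℂ}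
    (hw : w ∈ regLat p B) (h0 : w ≠ 0) : (blockRank p B : ℝ) / Nat.card D ≤ (ip w w).re := by
  have hpos : (0 : ℝ) < Nat.card D := by exact_mod_cast Nat.card_pos
  by_cases h1 : D = ⊥
  · obtain ⟨n, h2, -, h3⟩ := one_le_ip_regLat hw h0
    rw [h3, blockRank_eq_one_of_sup (D := D) (by rw [h1]; simp) hB hD,
      H8.card_defectGroup hM.out hB hD]
    push_cast
    exact div_le_div_of_nonneg_right (by exact_mod_cast h2) (by have := hp.out.pos; positivity)
  obtain ⟨e, h⟩ := exists_abD hB hD (le_centralizer_of_cyc hc)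
  obtain ⟨δ, hδ⟩ := (h.frD_of_cyc hc).exists_sgD
  obtain ⟨χ₀, -⟩ := H8.block_nonempty hB
  obtain ⟨X, ψ, ε, d, hF, -⟩ := hδ.exists_fam h1 (h.le_rank_of_cyc hc h1) χ₀
  obtain ⟨a, rfl⟩ := hF.exists_coord hw
  have h2 := hF.rip_coord a
  have h3 := form_ge (X := X) (a := a) (by
    by_contra! h3
    exact h0 (by rw [Finset.sum_eq_zero fun χ hχ => by simp [h3 χ hχ], ← regL_apply, map_zero]))
    (m := Nat.card (Quotient (orbS (aut D e)))) (by
      have := hF.nonempty_orb h1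
      exact_mod_cast Nat.card_pos)
  have h4 : (Nat.card (Quotient (orbS (aut D e))) * X.card + 1 : ℤ) = Nat.card D := by
    rw [hF.card]; exact_mod_cast hF.card_orb
  rw [h4, hF.card, ← hF.rank] at h3
  rw [← rip_eq_both, div_le_iff₀ hpos, mul_comm]
  have h5 := congrArg Complex.re h2
  rw [Complex.intCast_re, ← Complex.ofReal_natCast, Complex.re_ofReal_mul] at h5
  rw [h5]
  exact_mod_cast h3

end Cyc

section Dom

variable {G H : Type*} [Group G] [Finite G] [Group H] [Finite H] {φ : G →* H}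

theorem exists_dom (hφ : Function.Surjective φ) (hk : IsPGroup p φ.ker)
    (hZ : ∀ x : G, x ∈ 𝐂 φ.ker) {B : Set (IrrCharacter G)} (hB : IsPBlock M B) {D : Subgroup G}
    (hD : IsDefectGroup p M B D) : ∃ A : Set (IrrCharacter H), IsPBlock M A ∧
      IsDefectGroup p M A (D.map φ) ∧ blockRank p B = blockRank p A ∧
      Nat.card φ.ker * Nat.card (D.map φ) = Nat.card D ∧
      ∀ v ∈ regLat p B, ∃ w ∈ regLat p A, Nat.card φ.ker * ip v v = ip w w := by
  obtain ⟨A, hA, -, h1, h2⟩ := exists_dominated hφ hk hZ hB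
  obtain ⟨ψ, h3, h4⟩ := exists_infl_def hφ hk hB hD
  rw [← H8.block_eq_blockOf hA ((h1 ψ).1 h3)] at h4
  refine ⟨A, hA, h4, h2, ?_, fun v hv => exists_desc hφ hk hZ (H8.isBlockUnion_of_block hB)
    (H8.isBlockUnion_of_block hA) h1 hv⟩
  have h5 : φ.ker ≤ D := ((isDefectGroup_iff hB).1 hD).le_of_normal le_rfl (isBlk_eB hB) hk le_top
    (top_le_normalizer_of_normal _)
  rw [← Subgroup.relIndex_ker, ← Nat.card_congr (Subgroup.subgroupOfEquivOfLe h5).toEquiv]
  exact Subgroup.card_mul_index _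

theorem min_of_cyc_map (hφ : Function.Surjective φ) (hk : IsPGroup p φ.ker)
    (hZ : ∀ x : G, x ∈ 𝐂 φ.ker) {B : Set (IrrCharacter G)} (hB : IsPBlock M B) {D : Subgroup G}
    (hD : IsDefectGroup p M B D) (hc : IsCyclic (D.map φ)) {v : G → ℂ} (hv : v ∈ regLat p B)
    (h0 : v ≠ 0) : (blockRank p B : ℝ) / Nat.card D ≤ (ip v v).re := by
  obtain ⟨A, hA, h1, h2, h3, h4⟩ := exists_dom hφ hk hZ hB hD
  obtain ⟨w, hw, h5⟩ := h4 v hv
  have h6 := cyc_min hA h1 hc hw fun h => h0 (by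
    rw [h, H7.ip_zero_left, mul_eq_zero] at h5
    exact H7.eq_zero_of_ip_self (h5.resolve_left (H7.card_ne_zero' _)))
  have h7 : (0 : ℝ) < Nat.card φ.ker := by exact_mod_cast Nat.card_pos
  rw [← h5, ← Complex.ofReal_natCast, Complex.re_ofReal_mul, ← div_le_iff₀' h7, div_div] at h6
  rwa [h2, ← h3, Nat.cast_mul, mul_comm]

omit hMm hM [Finite G] in
theorem normal_zpowers_of_comm {x : G} (hx : ∀ g, x * g = g * x) : (zpowers x).Normal :=
  ⟨fun z hz g => by
    obtain ⟨n, rfl⟩ := Subgroup.mem_zpowers_iff.1 hz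
    rw [← (Commute.zpow_left (hx g) n).eq, mul_inv_cancel_right]; exact hz⟩

omit hMm hM in
theorem mem_centralizer_ker_mk {x : G} (hx : ∀ g, x * g = g * x) [(zpowers x).Normal] (g : G) :
    g ∈ 𝐂 (QuotientGroup.mk' (zpowers x)).ker := by
  rw [QuotientGroup.ker_mk', H8.centralizer_zpowers, Subgroup.mem_centralizer_singleton_iff, hx]

end Dom

section Main

variable {G : Type*} [Group G] [Finite G]
variable {x : G} {H : Subgroup G} {b : Set (IrrCharacter H)} {B : Set (IrrCharacter G)}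

omit hM in
theorem Subs.isP_ker (h : Subs M p x b B) [(zpowers (⟨x, h.mem⟩ : H)).Normal] :
    IsPGroup p (QuotientGroup.mk' (zpowers (⟨x, h.mem⟩ : H))).ker := by
  rw [QuotientGroup.ker_mk']
  exact H8.isPGroup_zpowers (by simpa only [Subgroup.orderOf_mk] using h.pelt)

theorem Subs.card_le_of_cyc (h : Subs M p x b B) (hb : IsPBlock M b) {Q : Subgroup H}
    (hQ : IsDefectGroup p M b Q) [(zpowers (⟨x, h.mem⟩ : H)).Normal]
    (hc : IsCyclic (Q.map (QuotientGroup.mk' (zpowers (⟨x, h.mem⟩ : H)))))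
    {S : Finset (IrrCharacter G)} (hS : S ⊆ bs B) (h0 : ∀ χ ∈ S, contr p x b χ χ ≠ 0) :
    S.card ≤ Nat.card Q := by
  have h1 := h.card_mul_le (fun v hv h1 => min_of_cyc_map (QuotientGroup.mk'_surjective _)
    h.isP_ker (mem_centralizer_ker_mk h.comm) hb hQ hc hv h1) hS h0
  have h2 : (0 : ℝ) < Nat.card Q := by exact_mod_cast Nat.card_pos
  have h3 : (0 : ℝ) < blockRank p b := by exact_mod_cast blockRank_pos (p := p) hb
  rw [← mul_div_assoc, div_le_iff₀ h2, mul_comm, mul_le_mul_iff_right₀ h3] at h1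
  exact_mod_cast h1

theorem Subs.card_le_of_sup (h : Subs M p x b B) (hb : IsPBlock M b) {Q : Subgroup H}
    (hQ : IsDefectGroup p M b Q) {y : H} (hy : Q ≤ zpowers (⟨x, h.mem⟩ : H) ⊔ zpowers y)
    {S : Finset (IrrCharacter G)} (hS : S ⊆ bs B) (h0 : ∀ χ ∈ S, contr p x b χ χ ≠ 0) :
    S.card ≤ Nat.card Q := by
  have := normal_zpowers_of_comm h.comm
  refine h.card_le_of_cyc hb hQ ?_ hS h0
  refine Subgroup.isCyclic_of_le (H' := zpowers (QuotientGroup.mk' _ y)) ?_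
  refine (Subgroup.map_mono hy).trans ?_
  rw [Subgroup.map_sup, MonoidHom.map_zpowers, MonoidHom.map_zpowers, sup_le_iff,
    Subgroup.zpowers_le]
  refine ⟨?_, le_rfl⟩
  have : QuotientGroup.mk' (zpowers (⟨x, h.mem⟩ : H)) ⟨x, h.mem⟩ = 1 :=
    (QuotientGroup.eq_one_iff _).2 (Subgroup.mem_zpowers _)
  rw [this]
  exact one_mem _

theorem Subs.card_le_of_defect (h : Subs M p x b B) (hb : IsPBlock M b) (hx : x ≠ 1)
    (hd : blockDefect p b ≤ 2) {S : Finset (IrrCharacter G)} (hS : S ⊆ bs B)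
    (h0 : ∀ χ ∈ S, contr p x b χ χ ≠ 0) : S.card ≤ p ^ blockDefect p b := by
  have := normal_zpowers_of_comm h.comm
  obtain ⟨Q, hQ⟩ := exists_isDefectGroup (p := p) hb
  rw [← H8.card_defectGroup hM.out hb hQ]
  refine h.card_le_of_cyc hb hQ ?_ hS h0
  obtain ⟨A, hA, h1, -, h2, -⟩ := exists_dom (QuotientGroup.mk'_surjective _)
    h.isP_ker (mem_centralizer_ker_mk h.comm) hb hQ
  obtain ⟨k, hk⟩ := h.pelt
  rw [QuotientGroup.ker_mk', Nat.card_zpowers, Subgroup.orderOf_mk, hk,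
    H8.card_defectGroup hM.out hb hQ, H8.card_defectGroup hM.out hA h1, ← pow_add] at h2
  have h3 := Nat.pow_right_injective hp.out.two_le h2
  have h4 : k ≠ 0 := fun e => hx (orderOf_eq_one_iff.1 (by rw [hk, e, pow_zero]))
  refine isCyclic_of_card_dvd_prime (p := p) ?_
  rw [H8.card_defectGroup hM.out hA h1]
  exact (pow_dvd_pow p (by omega)).trans (pow_one p).dvd

theorem exists_major (hB : IsPBlock M B) {D : Subgroup G} (hD : IsDefectGroup p M B D) {z : G}
    (hzD : z ∈ D) (hzc : ∀ d ∈ D, d * z = z * d) : ∃ b : Set (IrrCharacter (𝐙 z)), IsPBlock M b ∧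
      Subs M p z b B ∧ IsDefectGroup p M b (D.subgroupOf (𝐙 z)) ∧
      blockDefect p b = blockDefect p B := by
  have hD' := (isDefectGroup_iff hB).1 hD
  obtain ⟨e, he⟩ := exists_isPairOf le_rfl top_le_normalizer_top (eB_mem_fix B)
    (isBlk_eB hB).idem le_top hD'.isP hD'.br_ne
  have h : MaxPair p ⊤ (eB M B) D e := ⟨isBlk_eB hB, hD', he⟩
  have hQ : zpowers z ≤ D := (Subgroup.zpowers_le).2 hzD
  have hDZ : D ≤ 𝐙 z := fun d hd => Subgroup.mem_centralizer_singleton_iff.2 (hzc d hd)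
  have h1 : IsDef p (𝐙 z) (loc p D e (zpowers z)) D := by
    rw [← H8.centralizer_zpowers] at hDZ ⊢
    obtain ⟨E, hE, hDE⟩ := h.exists_def_ge (L := 𝐂 (zpowers z)) (loc_spec h.pair.1 hQ) inf_le_right
      (by simpa using (isPair_loc h.pair.1 hQ).centralizer_le_pstab)
    rw [inf_eq_left.2 hDZ] at hDE
    obtain ⟨t, -, -, h2, -⟩ := h.exists_conj_def le_top (h.pairOf_loc hQ)
      (by simpa using (isPair_loc h.pair.1 hQ).centralizer_le_pstab) hE
    have : D = E := eq_of_le_of_card_le hDE (by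
      rw [← card_cg t E, ← h2]; exact Subgroup.card_le_of_le inf_le_left)
    rwa [← this] at hE
  have h2 : IsBlk (𝐙 z) (loc p D e (zpowers z)) := by
    rw [← H8.centralizer_zpowers]; exact isBlk_loc h.pair.1 hQ
  obtain ⟨b, hb, hbe⟩ := exists_eI h2
  obtain ⟨k, hk⟩ := IsPGroup.iff_orderOf.1 hD'.isP ⟨z, hzD⟩
  rw [Subgroup.orderOf_mk] at hk
  have h3 : IsInducedBlock M (𝐙 z) b B := by
    rw [induced_Z_iff hB ⟨k, hk⟩ hb, hbe]; exact h.pairOf_loc hQ
  have h4 := (isDefectGroup_subgroupOf hb hDZ).2 (hbe ▸ h1)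
  obtain ⟨h5, h6⟩ := major_of_defectGroup hB hD hzD hzc h3 h4
  exact ⟨b, hb, h5, h4, h6⟩

/-- Brauer's `k(B)` bound when the defect group is cyclic modulo a central cyclic subgroup. -/
theorem card_le_of_sup (hB : IsPBlock M B) {D : Subgroup G} (hD : IsDefectGroup p M B D) {z y : G}
    (hzD : z ∈ D) (hzc : ∀ d ∈ D, d * z = z * d) (hyD : y ∈ D) (hy : D ≤ zpowers z ⊔ zpowers y) :
    Nat.card B ≤ Nat.card D := by
  obtain ⟨b, hb, h, h1, h2⟩ := exists_major hB hD hzD hzc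
  have hDZ : D ≤ 𝐙 z := fun d hd => Subgroup.mem_centralizer_singleton_iff.2 (hzc d hd)
  have := h.card_le_of_sup hb h1 (y := ⟨y, hDZ hyD⟩) (by
      rw [← Subgroup.map_le_map_iff_of_injective (𝐙 z).subtype_injective, Subgroup.map_sup,
        MonoidHom.map_zpowers, MonoidHom.map_zpowers, map_subgroupOf_subtype hDZ]
      exact hy) le_rfl
    fun χ hχ => h.contr_self_ne_zero_of_major hb hB h2 (mem_bs.1 hχ)
  rwa [card_bs, Nat.card_congr (Subgroup.subgroupOfEquivOfLe hDZ).toEquiv] at this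

theorem Subs.card_sq_le (h : Subs M p x b B) (hb : IsPBlock M b) (hB : IsPBlock M B)
    (h0 : ∀ χ ∈ B, blockHeight p B (χ : G → ℂ) = 0) :
    Nat.card B ^ 2 ≤ p ^ (2 * blockDefect p b) * blockRank p b := by
  obtain ⟨k, hk⟩ := h.pelt
  have hT : (0 : ℝ) < (resT p k).card := by exact_mod_cast card_resT_pos k
  have h1 : ∀ χ ∈ bs B, (Nat.card B : ℝ) * (resT p k).card ≤
      p ^ (2 * blockDefect p b) * ∑ t ∈ resT p k, (contr p (x ^ t) b χ χ).re := by
    intro χ hχ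
    rw [← h.sum_sum_norm_sq, ← card_bs, ← nsmul_eq_mul]
    refine Finset.card_nsmul_le_sum _ _ _ fun ψ hψ => ?_
    have hf := h.contr_mem_fam hk (H6.isGen_of_irr χ.2) (H6.isGen_of_irr ψ.2)
    have := fam_sum_norm_sq_ge (M := M) (h := 0) hf (by
      simp only [pow_one]
      exact mul_ne_zero (pow_ne_zero_C _) (h.contr_ne_zero_of_height hb hB (mem_bs.1 hχ)
        (mem_bs.1 hψ) (h0 _ (mem_bs.1 hχ)) (h0 _ (mem_bs.1 hψ)))) fun t _ => by
          rw [pow_zero, div_one]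
          exact H8.mem_locRing_of_isIntegral M (fam_isIntegral (by
            have := hp.out.pos; positivity) hf t)
    simpa using this
  have h2 := Finset.card_nsmul_le_sum _ _ _ h1
  rw [← Finset.mul_sum, h.sum_sum_contr_self, card_bs, nsmul_eq_mul, ← mul_assoc, mul_left_comm,
    mul_comm, mul_le_mul_iff_right₀ hT, ← sq] at h2
  exact_mod_cast h2

theorem card_le_of_height (hB : IsPBlock M B) {χ : IrrCharacter G} (hχ : χ ∈ B)
    (h : blockHeight p B (χ : G → ℂ) ≠ 0) : 2 * Nat.card B ≤ p ^ (2 * blockDefect p B - 2) := by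
  classical
  set S := (bs B).filter fun ξ : IrrCharacter G => blockHeight p B (ξ : G → ℂ) = 0 with hS
  have h1 := four_mul_sum_erase_le (p := p) (H8.isBlockUnion_of_block hB) hχ
  have h2 : (S.card : ℤ) * p ^ 2 ≤ ∑ ξ ∈ (bs B).erase χ, mZ p B χ ξ ^ 2 := by
    rw [← nsmul_eq_mul]
    refine (Finset.card_nsmul_le_sum _ (fun ξ : IrrCharacter G => mZ p B χ ξ ^ 2) _
      fun ξ hξ => ?_).trans (Finset.sum_le_sum_of_subset_of_nonneg (fun ξ hξ => ?_)
        fun _ _ _ => sq_nonneg _)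
    · obtain ⟨h2, h3⟩ := Finset.mem_filter.1 hξ
      refine le_trans ?_ (pow_le_mZ_sq hB hχ (mem_bs.1 h2) h3)
      exact pow_le_pow_right₀ (by exact_mod_cast hp.out.one_le) (by omega)
    · obtain ⟨h2, h3⟩ := Finset.mem_filter.1 hξ
      exact Finset.mem_erase.2 ⟨fun e => h (e ▸ h3), h2⟩
  have h3 := brauer_feit (p := p) hB
  rw [← Finset.sum_filter_add_sum_filter_not _
    fun ξ : IrrCharacter G => blockHeight p B (ξ : G → ℂ) = 0] at h3
  set T := (bs B).filter fun ξ : IrrCharacter G => ¬ blockHeight p B (ξ : G → ℂ) = 0 with hT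
  have h4 : T.card * p ^ 2 ≤ ∑ ξ ∈ T, p ^ (2 * blockHeight p B (ξ : G → ℂ)) :=
    Finset.card_nsmul_le_sum _ _ _ fun ξ hξ => Nat.pow_le_pow_right hp.out.pos (by
      have := (Finset.mem_filter.1 hξ).2; omega)
  obtain ⟨ψ, hψ, h5⟩ := H8.exists_height_zero (p := p) hB
  have h6 : 1 ≤ ∑ ξ ∈ S, p ^ (2 * blockHeight p B (ξ : G → ℂ)) := by
    have := Finset.single_le_sum (f := fun ξ : IrrCharacter G => p ^ (2 * blockHeight p B (ξ : G → ℂ)))
      (fun _ _ => Nat.zero_le _) (show ψ ∈ S from Finset.mem_filter.2 ⟨mem_bs.2 hψ, h5⟩)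
    simpa [h5] using this
  have h7 : S.card + T.card = Nat.card B := by
    rw [← card_bs]; exact Finset.card_filter_add_card_filter_not _
  have h8 : 4 * (S.card * p ^ 2) ≤ p ^ (2 * blockDefect p B) := by
    exact_mod_cast (mul_le_mul_of_nonneg_left h2 (by norm_num)).trans h1
  have h9 := height_add_two_le hB hχ h
  obtain ⟨m, hm⟩ : ∃ m, 2 * blockDefect p B = m + 2 := ⟨2 * blockDefect p B - 2, by omega⟩
  rw [hm, pow_add] at h3 h8
  rw [hm, Nat.add_sub_cancel]
  refine Nat.le_of_mul_le_mul_right (c := p ^ 2) ?_ (pow_pos hp.out.pos 2)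
  rw [← h7, mul_assoc, add_mul]
  rw [← hS] at h3
  omega

theorem card_le_pow_aux (n : ℕ) : ∀ {G : Type u} [Group G] [Finite G] {B : Set (IrrCharacter G)},
    IsPBlock M B → blockDefect p B = n →
      (n ≤ 2 → Nat.card B ≤ p ^ n) ∧ (2 ≤ n → Nat.card B ≤ p ^ (2 * n - 2)) := by
  induction n with
  | zero =>
    intro G _ _ B hB hd
    obtain ⟨χ, hχ⟩ := H8.block_nonempty hB
    rw [(blockDefect_eq_zero_iff_singleton hB hχ).1 hd]
    simp
  | succ n ih =>
  intro G _ _ B hB hd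
  obtain ⟨D, hD⟩ := exists_isDefectGroup (p := p) hB
  have hc := H8.card_defectGroup hM.out hB hD
  have hP := H8.IsDefectGroup.isP hD
  have : Nontrivial D := Finite.one_lt_card_iff_nontrivial.1 (by
    rw [hc, hd]; exact Nat.one_lt_pow (by omega) hp.out.one_lt)
  have := hP.center_nontrivial
  obtain ⟨z, hz⟩ := exists_prime_orderOf_dvd_card' (G := Subgroup.center D) p (by
    obtain ⟨k, hk, e⟩ := (hP.to_subgroup (Subgroup.center D)).nontrivial_iff_card.1 inferInstance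
    rw [e]; exact dvd_pow_self _ hk.ne')
  rw [← Subgroup.orderOf_coe, ← Subgroup.orderOf_coe] at hz
  obtain ⟨b, hb, h, h1, h2⟩ := exists_major hB hD (z := z) z.1.2 fun d hd =>
    congrArg Subtype.val (Subgroup.mem_center_iff.1 z.2 ⟨d, hd⟩)
  have h3 : n + 1 ≤ 2 → Nat.card B ≤ p ^ (n + 1) := fun hn => by
    have := h.card_le_of_defect hb (fun e => hp.out.one_lt.ne' (by rw [← hz, e, orderOf_one]))
      (by omega) le_rfl fun χ hχ => h.contr_self_ne_zero_of_major hb hB h2 (mem_bs.1 hχ)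
    rwa [card_bs, h2, hd] at this
  refine ⟨h3, fun hn => ?_⟩
  rcases hn.eq_or_lt with hn | hn
  · rw [← hn] at h3 ⊢; exact h3 le_rfl
  by_cases h0 : ∀ χ ∈ B, blockHeight p B (χ : G → ℂ) = 0
  swap
  · push Not at h0
    obtain ⟨χ, hχ, h0⟩ := h0
    have := card_le_of_height hB hχ h0
    rw [hd] at this
    omega
  have := normal_zpowers_of_comm h.comm
  obtain ⟨A, hA, h4, h5, h6, -⟩ := exists_dom (QuotientGroup.mk'_surjective _)
    h.isP_ker (mem_centralizer_ker_mk h.comm) hb h1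
  rw [QuotientGroup.ker_mk', Nat.card_zpowers, Subgroup.orderOf_mk, hz,
    H8.card_defectGroup hM.out hb h1, H8.card_defectGroup hM.out hA h4, ← pow_succ', h2, hd] at h6
  have h7 := (ih hA (by have := Nat.pow_right_injective hp.out.two_le h6; omega)).2 (by omega)
  have h8 := h.card_sq_le hb hB h0
  rw [h5, h2, hd] at h8
  refine (Nat.pow_le_pow_iff_left two_ne_zero).1 (h8.trans ?_)
  rw [← pow_mul, show (2 * (n + 1) - 2) * 2 = 2 * (n + 1) + (2 * n - 2) by omega, pow_add]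
  exact Nat.mul_le_mul_left _ ((blockRank_le_card A).trans h7)

theorem card_le_pow_of_le_two (hB : IsPBlock M B) (hd : blockDefect p B ≤ 2) :
    Nat.card B ≤ p ^ blockDefect p B := (card_le_pow_aux _ hB rfl).1 hd

theorem card_le_pow_of_two_le (hB : IsPBlock M B) (hd : 2 ≤ blockDefect p B) :
    Nat.card B ≤ p ^ (2 * blockDefect p B - 2) := (card_le_pow_aux _ hB rfl).2 hd

end Main

end Cfsg.Agent.H9
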