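import Mathlib
import Cfsg.Agent.H9.Cols

/-!
Perfect isometries between blocks with abelian defect groups and freely acting inertial quotients.
-/

set_option autoImplicit false
set_option linter.unusedSectionVars false

namespace Cfsg.Agent.H9

open MonoidAlgebra Cfsg
open Cfsg.Agent.H8 (locRing resField res rd eB fB fC up red Zen IsBlockUnion st lf orbS orbT)
open Cfsg.Agent.H7 (ip)
open Subgroup (zpowers)
open scoped ComplexConjugate

local notation "𝐂" Q => Subgroup.centralizer (SetLike.coe (Q : Subgroup _))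
local notation "𝐍" Q => Subgroup.normalizer (SetLike.coe (Q : Subgroup _))
local notation "𝐙" x => Subgroup.centralizer (Singleton.singleton x : Set _)

variable {M : Ideal AlgInt} [hMm : M.IsMaximal] {p : ℕ} [hp : Fact p.Prime] [hM : PMod M p]
variable {G : Type*} [Group G] [Finite G] {B : Set (IrrCharacter G)} {D : Subgroup G}
  {e : (resField M)[G]} {δ : G → ℤ}

theorem div_card_mem_of_pgroup {K : Subgroup G} {z : ℂ}
    (h : ∀ P ≤ K, IsPGroup p P → z / Nat.card P ∈ locRing M) : z / Nat.card K ∈ locRing M := by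
  obtain ⟨P⟩ : Nonempty (Sylow p K) := inferInstance
  have h1 := h (P.1.map K.subtype) (Subgroup.map_subtype_le _) (P.isPGroup'.map _)
  rw [Subgroup.card_map_of_injective K.subtype_injective] at h1
  rw [← P.1.card_mul_index, Nat.cast_mul, ← div_div, div_eq_mul_inv]
  exact mul_mem h1 (H8.inv_natCast_mem_locRing hM.out P.not_dvd_index)

theorem div_cent_mem {θ : G → ℂ} (hθ : IsClassFunction G θ) (h0 : ∀ y, p ∣ orderOf y → θ y = 0)
    (hi : ∀ χ : IrrCharacter G, ip θ χ ∈ locRing M) (x : G) :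
    θ x / Nat.card (𝐙 x) ∈ locRing M := by
  have := Fintype.ofFinite G
  by_cases hx : p ∣ orderOf x
  · rw [h0 x hx, zero_div]; exact zero_mem _
  exact div_card_mem_of_pgroup fun P hP hP' => H8.div_card_mem_locRing hθ h0
    (fun χ => H7.ip_eq_classInner θ χ ▸ hi χ) hx hP hP'

theorem FrD.col_div_cent (h : FrD p B D e) {u : G} (hu : u ∈ D) (hu1 : u ≠ 1) (x : G) :
    col p D e u x / Nat.card (𝐙 x) ∈ locRing M := by
  by_cases hx : IsConj (H8.pPart p x) u
  swap
  · rw [col_eq_zero hx, zero_div]; exact zero_mem _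
  obtain ⟨t, y, hy, h1⟩ := exists_conj_eq_mul hx
  have := Fintype.ofFinite (𝐙 u)
  rw [← cf_col D e u x t, ← card_cg t, cg_centralizer_singleton, h1, h.col_mul hu hy]
  refine div_card_mem_of_pgroup fun P hP hP' => ?_
  have hc := H8.mem_centralizer_singleton_iff_commute.1 y.2
  have hy' : ¬ p ∣ orderOf (y : G) := by simpa using hy
  have h2 : P ≤ 𝐙 u := fun g hg => H8.mem_centralizer_singleton_iff_commute.2 (by
    have := H8.commute_pPart (p := p) (H8.mem_centralizer_singleton_iff_commute.1 (hP hg)).symm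
    rw [H8.pPart_mul (h.pelt hu) hy' hc] at this
    exact this.symm)
  rw [← Nat.card_congr (Subgroup.subgroupOfEquivOfLe h2).toEquiv]
  refine H8.div_card_mem_locRing (cf_sumB _) (fun g hg => (h.uni_u hu hu1).sumB_sing hg) (fun χ => ?_)
    hy (fun g hg => Subgroup.mem_centralizer_singleton_iff.2 (Subtype.ext ?_))
    (hP'.of_equiv (Subgroup.subgroupOfEquivOfLe h2).symm)
  · obtain ⟨m, hm⟩ := H6.classInner_int (isGen_sumB (bu p D e u)) (H6.isGen_of_irr χ.2)
    rw [hm]; exact intCast_mem _ m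
  · have := H8.commute_pReg (p := p) (H8.mem_centralizer_singleton_iff_commute.1 (hP hg)).symm
    rw [H8.pReg_mul (h.pelt hu) hy' hc] at this
    exact this

theorem FrD.col_div_card (h : FrD p B D e) {u : G} (hu : u ∈ D) (hu1 : u ≠ 1) (x : G) :
    col p D e u x / Nat.card D ∈ locRing M := by
  by_cases hx : IsConj (H8.pPart p x) u
  swap
  · rw [col_eq_zero hx, zero_div]; exact zero_mem _
  obtain ⟨t, y, hy, h1⟩ := exists_conj_eq_mul hx
  obtain ⟨ξ, hξ⟩ := H8.block_nonempty (h.blk_bu hu)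
  rw [← cf_col D e u x t, h1, h.col_mul hu hy, Uni.sumB_reg (h.uni_u hu hu1) hξ hy,
    h.card_bu hu (h.uni_u hu hu1), mul_div_cancel_left₀ _ (H7.card_ne_zero' D)]
  exact gen_mem (H6.isGen_of_irr ξ.2) y

theorem SgD.div_cent_sing (h : SgD p B D e δ) {θ : G → ℂ} (hθ : blockPart B θ = θ)
    (h0 : ∀ u : D, u ≠ 1 → sW p D e δ θ u / Nat.card D ∈ locRing M) {x : G} (hx : p ∣ orderOf x) :
    θ x / Nat.card (𝐙 x) ∈ locRing M := by
  classical
  letI := Fintype.ofFinite D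
  have := Fintype.ofFinite (aut D e)
  have hc : IsClassFunction G θ := hθ ▸ H8.isClassFunction_blockPart B θ
  let η : D → ℂ := fun u => if u = 1 then 0 else sW p D e δ θ u
  have h1 := h.vanish' (θ := (iidx D e : ℂ) • θ - (1 : ℂ) • Phi p D e δ η) (by
    rw [H8.blockPart_sub, H8.blockPart_smul, H8.blockPart_smul, hθ, h.blockPart_Phi]) (fun u hu => by
    rw [sW_sub_smul, h.sW_Phi (if_pos rfl) hu, orbT, finsum_eq_sum_of_fintype]
    simp [η, hu, h.sW_aut hc, ← card_aut]) hx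
  rw [Pi.sub_apply, sub_eq_zero, one_smul, Pi.smul_apply, smul_eq_mul,
    ← eq_inv_mul_iff_mul_eq₀ (Nat.cast_ne_zero.2 (iidx_ne_zero D e))] at h1
  rw [h1, mul_div_assoc, Phi, Finset.sum_apply, Finset.sum_div]
  refine mul_mem (H8.inv_natCast_mem_locRing hM.out h.not_dvd) (sum_mem fun u _ => ?_)
  by_cases hu : u = 1
  · simp [η, hu]
  rw [Pi.smul_apply, smul_eq_mul, mul_div_assoc, ← div_eq_inv_mul, show η u = _ from if_neg hu]
  exact mul_mem (mul_mem (h0 u hu) (intCast_mem _ _)) (h.col_div_cent u.2 (by simpa using hu) x)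

variable {H : Type*} [Group H] [Finite H] {c : Set (IrrCharacter H)} {D' : Subgroup H}
  {e' : (resField M)[H]} {δ' : H → ℤ}

theorem perfect_half (h : SgD p B D e δ) (h' : SgD p c D' e' δ') (hq : Nat.card D = Nat.card D')
    {ι : Type*} (s : Finset ι) (a : ι → IrrCharacter G) (b : ι → IrrCharacter H) (σ : ι → ℤ)
    (ha : ∀ i ∈ s, a i ∈ B) (hb : ∀ f : IrrCharacter H → ℂ, ∑ i ∈ s, f (b i) = ∑ η ∈ bs c, f η)
    (hr : ∀ u : D, u ≠ 1 → ∃ v : D', v ≠ 1 ∧
      ∀ i ∈ s, σ i * sW p D e δ (a i) u = conj (sW p D' e' δ' (b i) v)) (x : G) (y : H) :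
    (p ∣ orderOf x ∨ ¬ p ∣ orderOf y →
      (∑ i ∈ s, σ i * (a i).1 x * (b i).1 y) / Nat.card (𝐙 x) ∈ locRing M) ∧
    (p ∣ orderOf x → ¬ p ∣ orderOf y → ∑ i ∈ s, σ i * (a i).1 x * (b i).1 y = 0) := by
  classical
  let θ : G → ℂ := ∑ i ∈ s, (σ i * (b i).1 y) • (a i).1
  have h1 : ∀ x, ∑ i ∈ s, σ i * (a i).1 x * (b i).1 y = θ x := fun x => by
    simp only [θ, Finset.sum_apply, Pi.smul_apply, smul_eq_mul, mul_right_comm]
  have h2 : blockPart B θ = θ := by
    rw [H8.blockPart_sum]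
    exact Finset.sum_congr rfl fun i hi => by rw [H8.blockPart_smul, H8.blockPart_of_mem (ha i hi)]
  have h3 : ∀ u : D, u ≠ 1 → ∃ v : D', (v : H) ≠ 1 ∧ sW p D e δ θ u = δ' v * col p D' e' v y :=
    fun u hu => by
      obtain ⟨v, hv, h3⟩ := hr u hu
      refine ⟨v, by simpa using hv, ?_⟩
      rw [sW_sum, h'.col_eq_sum v.2, Finset.sum_apply, Finset.mul_sum, ← hb]
      refine Finset.sum_congr rfl fun i hi => ?_
      rw [mul_right_comm, h3 i hi, sW, map_mul, map_intCast, mul_assoc]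
      rfl
  have h4 : ¬ p ∣ orderOf y → ∀ x, p ∣ orderOf x → θ x = 0 := fun hy x => h.vanish' h2 fun u hu => by
    obtain ⟨v, hv, h3⟩ := h3 u hu
    rw [h3, col_reg hv hy, mul_zero]
  rw [h1]
  refine ⟨fun hxy => hxy.elim (h.div_cent_sing h2 fun u hu => ?_) fun hy => div_cent_mem
    (h2 ▸ H8.isClassFunction_blockPart B θ) (h4 hy) (fun χ => ?_) x, fun hx hy => h4 hy x hx⟩
  · obtain ⟨v, hv, h3⟩ := h3 u hu
    rw [h3, mul_div_assoc, hq]
    exact mul_mem (intCast_mem _ _) (h'.col_div_card v.2 hv y)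
  · rw [H7.ip_sum_left]
    refine sum_mem fun i _ => ?_
    rw [H7.ip_smul_left, ip_irr_irr]
    refine mul_mem (mul_mem (intCast_mem _ _) (gen_mem (H6.isGen_of_irr (b i).2) y)) ?_
    split_ifs
    exacts [one_mem _, zero_mem _]

theorem perfect_of (h : SgD p B D e δ) (h' : SgD p c D' e' δ') (φ : D' ≃* D)
    {I : IrrCharacter H → IrrCharacter G} {σ : IrrCharacter H → ℤ} (hI : Set.BijOn I c B)
    (hσ : ∀ η ∈ c, σ η = 1 ∨ σ η = -1) (hr : ∀ η ∈ c, ∀ v : D', v ≠ 1 →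
      σ η * sW p D e δ (I η) (φ v) = conj (sW p D' e' δ' η v)) : IsPerfectIsometry p M c B I σ := by
  refine ⟨hI, hσ, fun x y => ?_⟩
  have hq := Nat.card_congr φ.toEquiv
  obtain ⟨h1, h2⟩ := perfect_half h h' hq.symm (bs c) I id σ (fun η hη => hI.1 (mem_bs.1 hη))
    (fun _ => rfl) (fun u hu => ⟨φ.symm u, by simpa using hu, fun η hη => by
      simpa using hr η (mem_bs.1 hη) (φ.symm u) (by simpa using hu)⟩) x y
  obtain ⟨h3, h4⟩ := perfect_half h' h hq (bs c) id I σ (fun η hη => mem_bs.1 hη)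
    (fun f => Finset.sum_nbij I (fun η hη => mem_bs.2 (hI.1 (mem_bs.1 hη)))
      (fun a ha b hb => hI.2.1 (mem_bs.1 ha) (mem_bs.1 hb)) (fun χ hχ => by
        obtain ⟨η, h1, h2⟩ := hI.2.2 (mem_bs.1 hχ)
        exact ⟨η, mem_bs.2 h1, h2⟩) fun _ _ => rfl)
    (fun v hv => ⟨φ v, by simpa using hv, fun η hη => by
      have := congrArg conj (hr η (mem_bs.1 hη) v hv)
      rw [Complex.conj_conj, map_mul, map_intCast] at this
      rw [id, ← this]
      rcases hσ η (mem_bs.1 hη) with h5 | h5 <;> simp [h5]⟩) y x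
  simp only [id, mul_right_comm _ (_ : ℂ) ((I _).1 x)] at h1 h2 h3 h4
  rw [signedBijectionKernel, finsum_bs]
  by_cases hx : p ∣ orderOf x <;> by_cases hy : p ∣ orderOf y
  · exact ⟨h1 (.inl hx), h3 (.inl hy), .inl (by simp [IsPRegular, hx, hy])⟩
  · exact ⟨h1 (.inl hx), by rw [h2 hx hy, zero_div]; exact (locRing M).zero_mem, .inr (h2 hx hy)⟩
  · exact ⟨by rw [h4 hy hx, zero_div]; exact (locRing M).zero_mem, h3 (.inl hy), .inr (h4 hy hx)⟩
  · exact ⟨h1 (.inr hy), h3 (.inr hx), .inl (by simp [IsPRegular, hx, hy])⟩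

theorem Fam.exists_perfect {X : Finset (IrrCharacter G)}
    {ψ : Quotient (orbS (aut D e)) → IrrCharacter G} {ε : IrrCharacter G → ℤ} {d : ℤ}
    (h : Fam p B D e δ X ψ ε d) {X' : Finset (IrrCharacter H)}
    {ψ' : Quotient (orbS (aut D' e')) → IrrCharacter H} {ε' : IrrCharacter H → ℤ} {d' : ℤ}
    (h' : Fam p c D' e' δ' X' ψ' ε' d') (φ : D' ≃* D)
    (hφ : (aut D' e').map (MulAut.congr φ).toMonoidHom = aut D e) :
    ∃ I σ, IsPerfectIsometry p M c B I σ ∧ ∀ j, σ (ψ' j) = d * d' := by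
  classical
  let a : aut D' e' ≃* aut D e :=
    ((aut D' e').equivMapOfInjective _ (MulAut.congr φ).injective).trans (MulEquiv.subgroupCongr hφ)
  have ha : ∀ α v, (a α).1 (φ v) = φ (α.1 v) := fun α v => by
    change φ (α.1 (φ.symm (φ v))) = _
    rw [φ.symm_apply_apply]
  let l : {ψ : D' →* ℂˣ // ψ ≠ 1} ≃ {ψ : D →* ℂˣ // ψ ≠ 1} :=
    (φ.monoidHomCongrLeftEquiv.trans (Equiv.inv _)).subtypeEquiv fun lam => by
      simp [MonoidHom.ext_iff, φ.surjective.forall, -Subtype.forall]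
  have hl : ∀ lam v, (l lam).1 (φ v) = (lam.1 v)⁻¹ := fun lam v => by simp [l]
  let j : Quotient (orbS (aut D' e')) ≃ Quotient (orbS (aut D e)) := Quotient.congr l fun lam mu => by
    change (∃ α, _) ↔ ∃ α, _
    simp only [a.surjective.exists, MonoidHom.ext_iff, φ.surjective.forall, ha, hl, H8.cmp_apply,
      inv_inj]
  have hX : X'.card = X.card := by
    rw [h.card, h'.card, ← card_aut, ← card_aut, Nat.card_congr a.toEquiv]
  let f := Finset.equivOfCardEq hX
  let I : IrrCharacter H → IrrCharacter G := fun η =>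
    if hη : η ∈ X' then f ⟨η, hη⟩ else Function.extend ψ' (ψ ∘ j) (fun _ => H8.irrOne G) η
  have h1 : ∀ η (hη : η ∈ X'), I η = f ⟨η, hη⟩ := fun η hη => dif_pos hη
  have h2 : ∀ i, I (ψ' i) = ψ (j i) := fun i => (dif_neg (h'.notMem i)).trans (h'.inj.extend_apply ..)
  refine ⟨I, fun η => if η ∈ X' then ε (I η) * ε' η else d * d', perfect_of h.toSgD h'.toSgD φ
    ⟨fun η hη => ?_, fun η hη η' hη' h3 => ?_, fun χ hχ => ?_⟩ (fun η hη => ?_) fun η hη v hv => ?_,
    fun i => if_neg (h'.notMem i)⟩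
  · rcases (h'.mem η).1 hη with h3 | ⟨i, rfl⟩
    exacts [h1 η h3 ▸ h.memX (f _).2, h2 i ▸ h.memY _]
  · rcases (h'.mem η).1 hη with h4 | ⟨i, rfl⟩ <;> rcases (h'.mem η').1 hη' with h5 | ⟨i', rfl⟩
    · rw [h1 η h4, h1 η' h5] at h3
      exact congrArg Subtype.val (f.injective (Subtype.ext h3))
    · rw [h1 η h4, h2] at h3
      exact absurd (h3 ▸ (f _).2) (h.notMem _)
    · rw [h1 η' h5, h2] at h3
      exact absurd (h3 ▸ (f _).2) (h.notMem _)
    · rw [h2, h2] at h3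
      rw [j.injective (h.inj h3)]
  · rcases (h.mem χ).1 hχ with h3 | ⟨i, rfl⟩
    · exact ⟨f.symm ⟨χ, h3⟩, h'.memX (f.symm _).2, by rw [h1 _ (f.symm _).2]; simp⟩
    · exact ⟨ψ' (j.symm i), h'.memY _, by rw [h2, j.apply_symm_apply]⟩
  · split_ifs with h3
    · rcases h.sε (I η) (h1 η h3 ▸ (f _).2) with h4 | h4 <;> rcases h'.sε η h3 with h5 | h5 <;>
        simp [h4, h5]
    · rcases h.sd with h4 | h4 <;> rcases h'.sd with h5 | h5 <;> simp [h4, h5]
  · rcases (h'.mem η).1 hη with h3 | ⟨i, rfl⟩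
    · have h4 : I η ∈ X := h1 η h3 ▸ (f _).2
      rw [if_pos h3, h.valX _ h4 _ (by simpa using hv), h'.valX _ h3 _ hv]
      rcases h.sε _ h4 with h5 | h5 <;> simp [h5]
    · obtain ⟨lam, rfl⟩ := i.exists_rep
      have := Fintype.ofFinite (aut D e)
      have := Fintype.ofFinite (aut D' e')
      rw [if_neg (h'.notMem _), h2, show j (Quotient.mk _ lam) = Quotient.mk _ (l lam) from rfl,
        h.valY _ _ (by simpa using hv), h'.valY _ _ hv, orbT, orbT, finsum_eq_sum_of_fintype,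
        finsum_eq_sum_of_fintype, ← a.toEquiv.sum_comp, map_mul, map_intCast, map_sum,
        Finset.sum_congr rfl (g := fun α => conj (lf lam.1 (α.1 v))) fun α _ => by
          rw [MulEquiv.toEquiv_eq_coe, EquivLike.coe_coe, ha, lf, hl, Units.val_inv_eq_inv_val,
            inv_eq_of_mul_eq_one_right (H7.linear_mul_conj (H7.char_of_hom lam.1) (by simp) _)]]
      rcases h.sd with h5 | h5 <;> simp [h5]

/-- A block of a subgroup containing the normalizer of the defect group. -/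
theorem exists_abD_sub {K : Subgroup G} {c : Set (IrrCharacter K)} (hD : IsDefectGroup p M B D)
    (hab : D ≤ 𝐂 D) (hK : (𝐍 D) ≤ K) (hcD : IsDefectGroup p M c (D.subgroupOf K))
    (hc : IsInducedBlock M K c B) : ∃ (e : (resField M)[G]) (e' : (resField M)[K]), AbD p B D e ∧
      AbD p c (D.subgroupOf K) e' ∧ (aut (D.subgroupOf K) e').map (MulAut.congr
        (Subgroup.subgroupOfEquivOfLe (Subgroup.le_normalizer.trans hK))).toMonoidHom = aut D e := by
  have hDK := Subgroup.le_normalizer.trans hK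
  have hCK := (Subgroup.centralizer_le_normalizer _).trans hK
  obtain ⟨e', h'⟩ := exists_abD hc.1 hcD fun x hx y hy => Subtype.ext (hab hx y hy)
  have h1 := (maxPair_em K.subtype_injective).2 h'.max
  rw [map_top_subtype, map_subgroupOf_subtype hDK] at h1
  have h2 : IsBlk (⊤ ⊓ 𝐂 D) (em _ K.subtype e') := by
    have := h1.pair.1.2.2
    rwa [inf_eq_right.2 hCK, ← top_inf_eq (𝐂 D)] at this
  have h3 := (isInd_iff_br le_top hDK h1.isP (inf_le_right.trans hCK) (le_inf (inf_le_right.trans hCK)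
    (inf_le_right.trans (Subgroup.centralizer_le_normalizer _))) le_rfl (isBlk_eI hc.1)
    (isBlk_eB hc.2.1) h2 h1.pair.2).1 (isInducedBlock_iff.1 hc).2.2
  have h4 : ∀ t : K, t ∈ pstab ⊤ (D.subgroupOf K) e' ↔ (t : G) ∈ pstab ⊤ D (em _ K.subtype e') :=
    fun t => by
      rw [← apply_mem_pstab K.subtype_injective, map_top_subtype, map_subgroupOf_subtype hDK,
        pstab_eq_inf K]
      exact and_iff_right t.2
  refine ⟨_, e', ⟨hc.2.1, ⟨isBlk_eB hc.2.1, (isDefectGroup_iff hc.2.1).1 hD,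
    ⟨le_normalizer_top, h1.isP, h2⟩, h3⟩, hab⟩, h', le_antisymm ?_ fun α hα => ?_⟩
  · rintro _ ⟨α, hα, rfl⟩
    obtain ⟨t, ht, -, h5⟩ := mem_autOf.1 hα
    exact mem_autOf.2 ⟨t, (h4 t).1 ht, AbD.T_le ((h4 t).1 ht), fun y =>
      congrArg Subtype.val (h5 ⟨⟨y, hDK y.2⟩, y.2⟩)⟩
  · obtain ⟨t, ht, ht', h5⟩ := mem_autOf.1 hα
    exact ⟨(MulAut.congr (Subgroup.subgroupOfEquivOfLe hDK)).symm α, mem_autOf.2 ⟨⟨t, hK ht'⟩, (h4 _).2 ht, AbD.T_le ((h4 _).2 ht),
      fun y => Subtype.ext (h5 ⟨y, y.2⟩)⟩, MulEquiv.apply_symm_apply ..⟩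

theorem FrD.exists_perfect (h : FrD p B D e) (h' : FrD p c D' e') (hD : D ≠ ⊥)
    (hl : iidx D e ≤ blockRank p B) (hl' : iidx D' e' ≤ blockRank p c) (φ : D' ≃* D)
    (hφ : (aut D' e').map (MulAut.congr φ).toMonoidHom = aut D e) :
    Nat.card c = Nat.card B ∧ blockRank p c = blockRank p B ∧
      ∃ I σ, IsPerfectIsometry p M c B I σ := by
  obtain ⟨δ, h1⟩ := h.exists_sgD
  obtain ⟨δ', h1'⟩ := h'.exists_sgD
  obtain ⟨X, ψ, ε, d, h2, -⟩ := h1.exists_fam hD hl (H8.irrOne G)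
  obtain ⟨X', ψ', ε', d', h2', -⟩ := h1'.exists_fam (by
    rwa [← Subgroup.one_lt_card_iff_ne_bot, Nat.card_congr φ.toEquiv,
      Subgroup.one_lt_card_iff_ne_bot]) hl' (H8.irrOne H)
  obtain ⟨I, σ, h3, -⟩ := h2.exists_perfect h2' φ hφ
  refine ⟨Nat.card_congr h3.1.equiv, ?_, I, σ, h3⟩
  rw [h2.rank, h2'.rank, ← card_aut, ← card_aut, ← hφ,
    Subgroup.card_map_of_injective (MulAut.congr φ).injective]

theorem FrD.le_rank_of_card_four (h : FrD p B D e) (hD : Nat.card D = 4) :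
    iidx D e ≤ blockRank p B := by
  have h1 := h.card_orb
  have h2 : iidx D e ∣ 3 := Dvd.intro_left _ (Nat.succ_injective (h1.trans hD))
  have h3 := (Nat.dvd_prime Nat.prime_three).1 h2
  refine h.le_rank ((Subgroup.one_lt_card_iff_ne_bot D).1 (by omega)) (by omega) ?_
  rcases h3 with h3 | h3 <;> rw [h3] at h1 ⊢ <;> omega

end Cfsg.Agent.H9
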