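import Mathlib

/-!
Symmetric local algebras with small centre.
-/

set_option autoImplicit false
set_option linter.unusedSectionVars false

namespace Cfsg.Agent.H9

open Module Submodule

variable {k A : Type*} [Field k] [Ring A] [Algebra k A]

variable (k A) in
/-- The commutator subspace. -/
def comK : Submodule k A := span k {x | ∃ a b : A, a * b - b * a = x}

theorem comm_mem_comK (a b : A) : a * b - b * a ∈ comK k A := subset_span ⟨a, b, rfl⟩

theorem comK_le {S : Submodule k A} : comK k A ≤ S ↔ ∀ a b : A, a * b - b * a ∈ S :=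
  ⟨fun h a b => h (comm_mem_comK a b), fun h => span_le.2 fun _ ⟨a, b, e⟩ => e ▸ h a b⟩

theorem le_of_dual {V : Type*} [AddCommGroup V] [Module k V] {S T : Submodule k V}
    (h : ∀ f : Dual k V, (∀ x ∈ T, f x = 0) → ∀ x ∈ S, f x = 0) : S ≤ T := fun x hx => by
  by_contra hT
  obtain ⟨f, h1, h2⟩ := exists_dual_map_eq_bot_of_notMem hT inferInstance
  exact h1 (h f (fun y hy => by simpa using h2.le (mem_map_of_mem hy)) x hx)

theorem symm_of_shift {X : Type*} {β : X → X → k} {l r : X → k}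
    (h : ∀ a b c, β a b * l c = β b c * r a) {c : X} (hc : l c ≠ 0) (a b : X) : β a b = β b a := by
  apply mul_right_cancel₀ (mul_ne_zero hc hc)
  linear_combination l c * h a b c - l c * h b a c + r a * h b c c - r b * h a c c

/-- A symmetric local algebra with radical `J` and symmetrising form `s`. -/
structure SLA (J : Submodule k A) (s : A →ₗ[k] k) : Prop where
  loc : ∀ a, ∃ c : k, a - algebraMap k A c ∈ J
  mul : ∀ a ∈ J, ∀ b ∈ J, a * b ∈ J
  nil : ∃ N, J ^ (N + 1) = ⊥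
  tr : ∀ a b, s (a * b) = s (b * a)
  nd : ∀ w, (∀ a, s (w * a) = 0) → w = 0

theorem mul_mem_pow_add {J : Submodule k A} {i j : ℕ} {a b : A} (ha : a ∈ J ^ i) (hb : b ∈ J ^ j) :
    a * b ∈ J ^ (i + j) := by rw [pow_add]; exact mul_mem_mul ha hb

theorem mul_mem_pow_left {J : Submodule k A} {j : ℕ} {a b : A} (ha : a ∈ J) (hb : b ∈ J ^ j) :
    a * b ∈ J ^ (j + 1) := by rw [pow_succ']; exact mul_mem_mul ha hb

theorem mul_mem_pow_right {J : Submodule k A} {j : ℕ} {a b : A} (ha : a ∈ J ^ j) (hb : b ∈ J) :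
    a * b ∈ J ^ (j + 1) := mul_mem_mul ha hb

theorem mul_mem_sq {J : Submodule k A} {a b : A} (ha : a ∈ J) (hb : b ∈ J) : a * b ∈ J ^ 2 := by
  rw [sq]; exact mul_mem_mul ha hb

theorem pow_succ_le_right {J S : Submodule k A} {j : ℕ} :
    J ^ (j + 1) ≤ S ↔ ∀ a ∈ J ^ j, ∀ b ∈ J, a * b ∈ S := by rw [pow_succ, mul_le]

theorem pow_succ_le_left {J S : Submodule k A} {j : ℕ} :
    J ^ (j + 1) ≤ S ↔ ∀ a ∈ J, ∀ b ∈ J ^ j, a * b ∈ S := by rw [pow_succ', mul_le]

theorem sq_le_iff {J S : Submodule k A} : J ^ 2 ≤ S ↔ ∀ a ∈ J, ∀ b ∈ J, a * b ∈ S := by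
  rw [sq, mul_le]

theorem cube_le_iff {J S : Submodule k A} :
    J ^ 3 ≤ S ↔ ∀ a ∈ J, ∀ b ∈ J, ∀ c ∈ J, a * b * c ∈ S := by
  refine ⟨fun h a ha b hb c hc => h (mul_mem_pow_right (mul_mem_sq ha hb) hc), fun h => ?_⟩
  rw [pow_succ_le_right]
  intro w hw c hc
  exact (sq_le_iff (S := S.comap (LinearMap.mulRight k c))).2 (fun a ha b hb => h a ha b hb c hc) hw

theorem mem_span_sup {V : Type*} [AddCommGroup V] [Module k V] {S : Submodule k V} {x a : V} :
    a ∈ span k {x} ⊔ S ↔ ∃ c : k, a - c • x ∈ S := by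
  rw [mem_sup]
  constructor
  · rintro ⟨_, h, z, hz, rfl⟩
    obtain ⟨c, rfl⟩ := mem_span_singleton.1 h
    exact ⟨c, by simpa using hz⟩
  · rintro ⟨c, h⟩
    exact ⟨c • x, mem_span_singleton.2 ⟨c, rfl⟩, _, h, by simp⟩

theorem finrank_span_sup_le {V : Type*} [AddCommGroup V] [Module k V] [FiniteDimensional k V]
    (x : V) (S : Submodule k V) : finrank k ↥(span k {x} ⊔ S) ≤ finrank k S + 1 := by
  refine (finrank_add_le_finrank_add_finrank _ _).trans ?_
  have := finrank_span_le_card (R := k) ({x} : Set V)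
  simp only [Set.toFinset_singleton, Finset.card_singleton] at this
  omega

theorem finrank_span_sup {V : Type*} [AddCommGroup V] [Module k V] [FiniteDimensional k V]
    {x : V} {S : Submodule k V} (h : x ∉ S) : finrank k ↥(span k {x} ⊔ S) = finrank k S + 1 :=
  (finrank_span_sup_le x S).antisymm (finrank_lt_finrank_of_lt (lt_of_le_of_ne le_sup_right
    fun e => h (e ▸ mem_sup_left (mem_span_singleton_self x))))

theorem exists_span_sup {V : Type*} [AddCommGroup V] [Module k V] [FiniteDimensional k V]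
    {S T : Submodule k V} (h : S ≤ T) (hd : finrank k T ≤ finrank k S + 1) :
    ∃ x ∈ T, T = span k {x} ⊔ S := by
  rcases h.eq_or_lt with rfl | h'
  · exact ⟨0, zero_mem _, by simp⟩
  · obtain ⟨x, h1, h2⟩ := SetLike.exists_of_lt h'
    exact ⟨x, h1, (eq_of_le_of_finrank_le (sup_le ((span_singleton_le_iff_mem _ _).2 h1) h)
      (by rwa [finrank_span_sup h2])).symm⟩

theorem exists_span_sup_le {V : Type*} [AddCommGroup V] [Module k V] [FiniteDimensional k V]
    {S T : Submodule k V} (h : S ≤ T) {n : ℕ} (hd : finrank k T = finrank k S + (n + 1)) :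
    ∃ x ∈ T, finrank k T = finrank k ↥(span k {x} ⊔ S) + n := by
  obtain ⟨x, h1, h2⟩ := SetLike.exists_of_lt (h.lt_of_ne fun e => by rw [e] at hd; omega)
  exact ⟨x, h1, by rw [finrank_span_sup h2]; omega⟩

namespace SLA

variable {J : Submodule k A} {s : A →ₗ[k] k} (h : SLA J s)
include h

theorem mul_left {a : A} (ha : a ∈ J) (b : A) : b * a ∈ J := by
  obtain ⟨c, hc⟩ := h.loc b
  have := add_mem (h.mul _ hc _ ha) (J.smul_mem c ha)
  rwa [sub_mul, ← Algebra.smul_def, sub_add_cancel] at this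

theorem mul_right {a : A} (ha : a ∈ J) (b : A) : a * b ∈ J := by
  obtain ⟨c, hc⟩ := h.loc b
  have := add_mem (h.mul _ ha _ hc) (J.smul_mem c ha)
  rwa [mul_sub, ← Algebra.commutes, ← Algebra.smul_def, sub_add_cancel] at this

theorem pow_mul_left {n : ℕ} {a : A} (ha : a ∈ J ^ (n + 1)) (b : A) : b * a ∈ J ^ (n + 1) :=
  (pow_succ_le_left (S := (J ^ (n + 1)).comap (LinearMap.mulLeft k b))).2 (fun x hx y hy => by
    rw [mem_comap, LinearMap.mulLeft_apply, ← mul_assoc]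
    exact mul_mem_pow_left (h.mul_left hx b) hy) ha

theorem pow_mul_right {n : ℕ} {a : A} (ha : a ∈ J ^ (n + 1)) (b : A) : a * b ∈ J ^ (n + 1) :=
  (pow_succ_le_right (S := (J ^ (n + 1)).comap (LinearMap.mulRight k b))).2 (fun x hx y hy => by
    rw [mem_comap, LinearMap.mulRight_apply, mul_assoc]
    exact mul_mem_pow_right hx (h.mul_right hy b)) ha

theorem pow_succ_le (n : ℕ) : J ^ (n + 2) ≤ J ^ (n + 1) :=
  pow_succ_le_right.2 fun _ ha b _ => h.pow_mul_right ha b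

theorem pow_le {i j : ℕ} (hij : i + 1 ≤ j) : J ^ j ≤ J ^ (i + 1) := by
  induction j, hij using Nat.le_induction with
  | base => exact le_rfl
  | succ j hj ih =>
    obtain ⟨j, rfl⟩ := Nat.exists_eq_add_one_of_ne_zero (show j ≠ 0 by omega)
    exact (h.pow_succ_le j).trans ih

theorem sq_le : J ^ 2 ≤ J := (h.pow_succ_le 0).trans (pow_one J).le

theorem cube_le : J ^ 3 ≤ J ^ 2 := h.pow_succ_le 1

/-- Nakayama's lemma. -/
theorem le_of_le_sup {i : ℕ} {S : Submodule k A}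
    (hS : ∀ j, i ≤ j → J ^ (j + 1) ≤ S ⊔ J ^ (j + 2)) : J ^ (i + 1) ≤ S := by
  obtain ⟨N, hN⟩ := h.nil
  have : ∀ j, J ^ (i + 1) ≤ S ⊔ J ^ (i + j + 1) := fun j => by
    induction j with
    | zero => exact le_sup_right
    | succ j ih => exact ih.trans (sup_le le_sup_left (hS _ (Nat.le_add_right i j)))
  refine (this N).trans (sup_le le_rfl ?_)
  exact (h.pow_le (by omega)).trans (hN.le.trans bot_le)

theorem eq_bot_of_le {i : ℕ} (hi : J ^ (i + 1) ≤ J ^ (i + 2)) : J ^ (i + 1) = ⊥ :=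
  le_bot_iff.1 (h.le_of_le_sup fun j hj => by
    obtain ⟨j, rfl⟩ := Nat.exists_eq_add_of_le hj
    rw [bot_sup_eq, show i + j + 1 = (i + 1) + j by ring, show i + j + 2 = (i + 2) + j by ring,
      pow_add, pow_add J (i + 2)]
    exact mul_le_mul_left hi _)

theorem comK_le_of {S : Submodule k A} (hS : ∀ a ∈ J, ∀ b ∈ J, a * b - b * a ∈ S) :
    comK k A ≤ S := comK_le.2 fun a b => by
  obtain ⟨c, hc⟩ := h.loc a
  obtain ⟨d, hd⟩ := h.loc b
  convert hS _ hc _ hd using 1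
  simp only [mul_sub, sub_mul, Algebra.commutes, ← map_mul, mul_comm c d]
  abel

theorem comK_le_sq : comK k A ≤ J ^ 2 :=
  h.comK_le_of fun _ ha _ hb => sub_mem (mul_mem_sq ha hb) (mul_mem_sq hb ha)

theorem s_comK {x : A} (hx : x ∈ comK k A) : s x = 0 :=
  (comK_le (S := LinearMap.ker s)).2 (fun a b => by simp [h.tr a b]) hx

theorem eq_zero_of {w : A} (h1 : s w = 0) (h2 : ∀ a ∈ J, s (w * a) = 0) : w = 0 :=
  h.nd w fun a => by
    obtain ⟨c, hc⟩ := h.loc a
    have := h2 _ hc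
    rwa [mul_sub, map_sub, ← Algebra.commutes, ← Algebra.smul_def, map_smul, h1, smul_zero,
      sub_zero] at this

theorem exists_s_ne {n : ℕ} (hn : J ^ (n + 1) ≠ ⊥) : ∃ w ∈ J ^ (n + 1), s w ≠ 0 := by
  by_contra! h0
  exact hn (eq_bot_iff.2 fun w hw => h.nd w fun a => h0 _ (h.pow_mul_right hw a))

theorem comK_lt {n : ℕ} (hn : J ^ (n + 1) ≠ ⊥) : comK k A < comK k A ⊔ J ^ (n + 1) := by
  obtain ⟨w, h1, h2⟩ := h.exists_s_ne hn
  exact lt_of_le_of_ne le_sup_left fun e => h2 (h.s_comK (e ▸ mem_sup_right h1))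

theorem comm_of_cube (h3 : J ^ 3 = ⊥) : comK k A = ⊥ :=
  eq_bot_iff.2 fun w hw => h.eq_zero_of (h.s_comK hw) fun a ha => by
    rw [h3.le (mul_mem_pow_right (h.comK_le_sq hw) ha), map_zero]

theorem le_subalgebra {S : Subalgebra k A} (hS : J ≤ (Subalgebra.toSubmodule S ⊓ J) ⊔ J ^ 2) (a : A) :
    a ∈ S := by
  have h1 : ∀ j, J ^ (j + 1) ≤ (Subalgebra.toSubmodule S ⊓ J ^ (j + 1)) ⊔ J ^ (j + 2) := fun j => by
    induction j with
    | zero => simpa using hS
    | succ j ih =>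
      refine pow_succ_le_right.2 fun x hx y hy => ?_
      obtain ⟨x₁, h1, x₂, h2, rfl⟩ := mem_sup.1 (ih hx)
      obtain ⟨y₁, h3, y₂, h4, rfl⟩ := mem_sup.1 (hS hy)
      rw [show (x₁ + x₂) * (y₁ + y₂) = x₁ * y₁ + (x₁ * y₂ + x₂ * (y₁ + y₂)) by noncomm_ring]
      exact add_mem_sup ⟨S.mul_mem h1.1 h3.1, mul_mem_pow_right h1.2 h3.2⟩
        (add_mem (mul_mem_pow_add h1.2 h4) (mul_mem_pow_right h2 hy))
  have h2 := h.le_of_le_sup (i := 0) (S := Subalgebra.toSubmodule S) fun j _ =>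
    (h1 j).trans (sup_le_sup_right inf_le_left _)
  obtain ⟨c, hc⟩ := h.loc a
  have := S.add_mem (h2 (x := a - algebraMap k A c) (by simpa using hc)) (S.algebraMap_mem c)
  rwa [sub_add_cancel] at this

theorem comm_of_gen {x y : A} (hx : x ∈ J) (hy : y ∈ J) (hxy : Commute x y)
    (hJ : J ≤ span k {x} ⊔ (span k {y} ⊔ J ^ 2)) : comK k A = ⊥ := by
  have h1 : ∀ {z}, Commute z x → Commute z y → ∀ a, Commute z a := fun {z} h1 h2 a => by
    have := h.le_subalgebra (S := Subalgebra.centralizer k {z}) (hJ.trans (sup_le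
      (le_sup_of_le_left ((span_singleton_le_iff_mem _ _).2 (mem_inf.2 ⟨fun _ e => e ▸ h1.eq, hx⟩)))
      (sup_le_sup_right ((span_singleton_le_iff_mem _ _).2
        (mem_inf.2 ⟨fun _ e => e ▸ h2.eq, hy⟩)) _))) a
    exact this z rfl
  exact le_bot_iff.1 (comK_le.2 fun a b => sub_eq_zero.2
    (h1 (h1 (Commute.refl x) hxy a).symm (h1 hxy.symm (Commute.refl y) a).symm b))

theorem comK_le_two {x y : A} (hx : x ∈ J) (hy : y ∈ J)
    (hJ : J ≤ span k {x} ⊔ (span k {y} ⊔ J ^ 2)) {S : Submodule k A}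
    (hS : ∀ a ∈ J, ∀ w ∈ J ^ 2, a * w - w * a ∈ S) :
    comK k A ≤ span k {x * y - y * x} ⊔ S := h.comK_le_of fun a ha b hb => by
  obtain ⟨a₁, h1⟩ := mem_span_sup.1 (hJ ha)
  obtain ⟨a₂, h2⟩ := mem_span_sup.1 h1
  obtain ⟨b₁, h3⟩ := mem_span_sup.1 (hJ hb)
  obtain ⟨b₂, h4⟩ := mem_span_sup.1 h3
  refine mem_span_sup.2 ⟨a₁ * b₂ - a₂ * b₁, ?_⟩
  convert sub_mem (hS _ ha _ h4) (hS _ (add_mem (J.smul_mem b₁ hx) (J.smul_mem b₂ hy)) _ h2) using 1
  simp only [mul_sub, sub_mul, mul_add, add_mul, smul_mul_assoc, mul_smul_comm]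
  module

theorem comm_mem_cube {a w : A} (ha : a ∈ J) (hw : w ∈ J ^ 2) : a * w - w * a ∈ J ^ 3 :=
  sub_mem (mul_mem_pow_left ha hw) (mul_mem_pow_right hw ha)

theorem comK_le_cube {c : A} (hc : c ∈ J ^ 2) (h2 : J ^ 2 ≤ span k {c} ⊔ J ^ 3) (h3 : J ^ 3 ≠ ⊥) :
    comK k A ≤ J ^ 3 := by
  choose! β hβ using fun a (ha : a ∈ J) b (hb : b ∈ J) => mem_span_sup.1 (h2 (mul_mem_sq ha hb))
  by_contra hK
  refine h3 (h.eq_bot_of_le (le_of_dual fun f hf => ?_))
  have e1 : ∀ a ∈ J, ∀ b ∈ J, ∀ z ∈ J, f (a * b * z) = β a b * f (c * z) := fun a ha b hb z hz => by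
    have := hf _ (mul_mem_pow_right (hβ a ha b hb) hz)
    rwa [sub_mul, smul_mul_assoc, map_sub, map_smul, sub_eq_zero] at this
  have e2 : ∀ a ∈ J, ∀ b ∈ J, ∀ z ∈ J, f (z * a * b) = β a b * f (z * c) := fun a ha b hb z hz => by
    have := hf _ (mul_mem_pow_left hz (hβ a ha b hb))
    rwa [mul_sub, mul_smul_comm, map_sub, map_smul, sub_eq_zero, ← mul_assoc] at this
  refine (cube_le_iff (S := LinearMap.ker f)).2 fun a ha b hb z hz => ?_
  rw [LinearMap.mem_ker, e1 a ha b hb z hz]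
  refine mul_eq_zero_of_right _ (not_not.1 fun h0 => hK (h.comK_le_of fun u hu v hv => ?_))
  have := symm_of_shift (X := J) (β := fun a b => β a b) (l := fun z => f (c * z))
    (r := fun z => f (z * c)) (fun a b z => (e1 a a.2 b b.2 z z.2).symm.trans (e2 b b.2 z z.2 a a.2))
    (c := ⟨z, hz⟩) h0 ⟨u, hu⟩ ⟨v, hv⟩
  simpa [show β u v = β v u from this] using sub_mem (hβ u hu v hv) (hβ v hv u hu)

variable [FiniteDimensional k A]

theorem finrank_le_J : finrank k A ≤ finrank k J + 1 := by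
  rw [← finrank_top]
  refine le_trans (finrank_mono fun a _ => ?_) (finrank_span_sup_le 1 J)
  obtain ⟨c, hc⟩ := h.loc a
  exact mem_span_sup.2 ⟨c, by rwa [← Algebra.algebraMap_eq_smul_one]⟩

theorem finrank_J_lt [Nontrivial A] : finrank k J < finrank k A := by
  rw [← finrank_top k A]
  refine finrank_lt_finrank_of_lt (lt_top_iff_ne_top.2 fun e => ?_)
  obtain ⟨N, hN⟩ := h.nil
  simpa [hN] using pow_mem_pow J (x := 1) (e ▸ mem_top) (N + 1)

theorem comm_of_finrank (hJ : finrank k J ≤ finrank k ↥(J ^ 2) + 1) : comK k A = ⊥ := by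
  obtain ⟨x, hx, e⟩ := exists_span_sup h.sq_le hJ
  exact h.comm_of_gen hx hx (Commute.refl x) (e.le.trans (sup_le_sup_left le_sup_right _))

theorem exists_two (hJ : finrank k J = finrank k ↥(J ^ 2) + 2) :
    ∃ x ∈ J, ∃ y ∈ J, J = span k {x} ⊔ (span k {y} ⊔ J ^ 2) := by
  obtain ⟨y, hy, e⟩ := exists_span_sup_le h.sq_le hJ
  obtain ⟨x, hx, e'⟩ := exists_span_sup (sup_le ((span_singleton_le_iff_mem _ _).2 hy) h.sq_le) e.le
  exact ⟨x, hx, y, hy, e'⟩

/-- Külshammer: a symmetric local algebra with centre of dimension at most four is commutative. -/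
theorem comm_of_le_four (h4 : finrank k A ≤ finrank k (comK k A) + 4) : comK k A = ⊥ := by
  by_contra hK
  have h3 : J ^ 3 ≠ ⊥ := fun e => hK (h.comm_of_cube e)
  have : Nontrivial A := by
    by_contra! hA
    exact hK (Subsingleton.elim _ _)
  have h1 := h.finrank_J_lt
  have h2 : ¬ finrank k J ≤ finrank k ↥(J ^ 2) + 1 := fun e => hK (h.comm_of_finrank e)
  have h5 : finrank k (comK k A) < finrank k ↥(comK k A ⊔ J ^ 3) :=
    finrank_lt_finrank_of_lt (h.comK_lt h3)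
  have h6 := sup_le h.comK_le_sq h.cube_le
  have h7 := finrank_mono h6
  obtain ⟨x, hx, y, hy, e⟩ := h.exists_two (by omega)
  have h8 := eq_of_le_of_finrank_le h6 (by omega)
  have h9 := h.comK_le_cube (sub_mem (mul_mem_sq hx hy) (mul_mem_sq hy hx)) (h8.ge.trans
    (sup_le (h.comK_le_two hx hy e.le fun _ ha _ hw => h.comm_mem_cube ha hw) le_sup_right)) h3
  exact hK (le_bot_iff.1 (h.comK_le_sq.trans (h.eq_bot_of_le (h8.ge.trans (sup_le h9 le_rfl))).le))

end SLA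

end Cfsg.Agent.H9
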