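import Mathlib
import Cfsg.Agent.H9.SLA

/-!
Two-generated symmetric local algebras with five-dimensional centre.
-/

set_option autoImplicit false
set_option linter.unusedSectionVars false

namespace Cfsg.Agent.H9

open Module Submodule

variable {k A : Type*} [Field k] [Ring A] [Algebra k A]

theorem exists_mul_eq_one_of {a : k} (h : a ≠ 0) : ∃ e, a * e = 1 := ⟨a⁻¹, mul_inv_cancel₀ h⟩

theorem exists_quad_root [IsAlgClosed k] (a b c : k) :
    ∃ α β : k, (α ≠ 0 ∨ β ≠ 0) ∧ a * α ^ 2 + b * α * β + c * β ^ 2 = 0 := by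
  by_cases ha : a = 0
  · exact ⟨1, 0, Or.inl one_ne_zero, by simp [ha]⟩
  obtain ⟨t, ht⟩ := IsAlgClosed.exists_root (Polynomial.C a * Polynomial.X ^ 2 +
    Polynomial.C b * Polynomial.X + Polynomial.C c) (by rw [Polynomial.degree_quadratic ha]; decide)
  exact ⟨t, 1, Or.inr one_ne_zero, by simpa using ht⟩

theorem exists_ker_two {a b c d : k} (h : a * d - b * c = 0) :
    ∃ γ δ : k, (γ ≠ 0 ∨ δ ≠ 0) ∧ a * γ + b * δ = 0 ∧ c * γ + d * δ = 0 := by
  by_cases h1 : a = 0 ∧ b = 0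
  · by_cases h2 : c = 0 ∧ d = 0
    · exact ⟨1, 0, Or.inl one_ne_zero, by simp [h1], by simp [h2]⟩
    · exact ⟨d, -c, by rw [neg_ne_zero]; tauto, by linear_combination h, by ring⟩
  · exact ⟨-b, a, by rw [neg_ne_zero]; tauto, by ring, by linear_combination h⟩

theorem mem_span_pair_sup {V : Type*} [AddCommGroup V] [Module k V] {S : Submodule k V}
    {x y a : V} : a ∈ span k {x, y} ⊔ S ↔ ∃ c d : k, a - (c • x + d • y) ∈ S := by
  rw [span_insert, sup_assoc]
  simp only [mem_span_sup, sub_sub]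

theorem exists_pair_sup {V : Type*} [AddCommGroup V] [Module k V] [FiniteDimensional k V]
    {S T : Submodule k V} (h : S ≤ T) (hd : finrank k T ≤ finrank k S + 2) :
    ∃ x ∈ T, ∃ y ∈ T, T ≤ span k {x, y} ⊔ S := by
  rcases hd.eq_or_lt with hd | hd
  · obtain ⟨y, hy, e⟩ := exists_span_sup_le h hd
    obtain ⟨x, hx, e'⟩ := exists_span_sup (sup_le ((span_singleton_le_iff_mem _ _).2 hy) h) e.le
    exact ⟨x, hx, y, hy, by rw [span_insert, sup_assoc]; exact e'.le⟩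
  · obtain ⟨x, hx, e⟩ := exists_span_sup h (by omega)
    exact ⟨x, hx, x, hx, by simpa using e.le⟩

theorem finrank_le_of_pair {V : Type*} [AddCommGroup V] [Module k V] [FiniteDimensional k V]
    {S T : Submodule k V} {x y : V} (h : T ≤ span k {x, y} ⊔ S) : finrank k T ≤ finrank k S + 2 := by
  rw [span_insert, sup_assoc] at h
  have := finrank_mono h
  have := finrank_span_sup_le x (span k {y} ⊔ S)
  have := finrank_span_sup_le y S
  omega

theorem mem_of_smul_add {V : Type*} [AddCommGroup V] [Module k V] {S : Submodule k V} {c : k}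
    {x y : V} (hc : c ≠ 0) (h : c • x + y ∈ S) (hy : y ∈ S) : x ∈ S :=
  (S.smul_mem_iff hc).1 (by simpa using sub_mem h hy)

theorem mul_mem_pow_eq {J : Submodule k A} {i j n : ℕ} {a b : A} (ha : a ∈ J ^ i) (hb : b ∈ J ^ j)
    (e : i + j = n := by omega) : a * b ∈ J ^ n := e ▸ mul_mem_pow_add ha hb

/-- `X` spans `J ^ (j + 1)` modulo `J ^ (j + 2)`. -/
structure Sp (J : Submodule k A) (j : ℕ) (X : Set A) : Prop where
  mem : ∀ x ∈ X, x ∈ J ^ (j + 1)
  le : J ^ (j + 1) ≤ span k X ⊔ J ^ (j + 2)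

theorem Sp.mul_le {J : Submodule k A} {i j : ℕ} {X W : Set A} (hX : Sp J i X) (hW : Sp J j W)
    {S : Submodule k A} (hS : J ^ (i + j + 3) ≤ S) (h : ∀ a ∈ X, ∀ w ∈ W, a * w ∈ S) :
    J ^ (i + j + 2) ≤ S := by
  rw [show i + j + 2 = (i + 1) + (j + 1) by ring, pow_add, Submodule.mul_le]
  intro a ha b hb
  obtain ⟨a₁, h1, a₂, h2, rfl⟩ := mem_sup.1 (hX.le ha)
  obtain ⟨b₁, h3, b₂, h4, rfl⟩ := mem_sup.1 (hW.le hb)
  rw [show (a₁ + a₂) * (b₁ + b₂) = a₁ * b₁ + (a₁ * b₂ + a₂ * (b₁ + b₂)) by noncomm_ring]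
  refine add_mem ?_ (hS (add_mem ?_ ?_))
  · have := mul_mem_mul h1 h3
    rw [span_mul_span] at this
    exact span_le.2 (by rintro _ ⟨a, ha, w, hw, rfl⟩; exact h a ha w hw) this
  · exact mul_mem_pow_eq (span_le.2 hX.mem h1) h4
  · exact mul_mem_pow_eq h2 hb

theorem Sp.comm_mem {J : Submodule k A} {i j : ℕ} {X W : Set A} (hX : Sp J i X) (hW : Sp J j W)
    {S : Submodule k A} (h1 : ∀ a ∈ J ^ (i + 1), ∀ w ∈ J ^ (j + 2), a * w - w * a ∈ S)
    (h2 : ∀ a ∈ J ^ (i + 2), ∀ w ∈ J ^ (j + 1), a * w - w * a ∈ S)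
    (h : ∀ a ∈ X, ∀ w ∈ W, a * w - w * a ∈ S) {a : A} (ha : a ∈ J ^ (i + 1)) {b : A}
    (hb : b ∈ J ^ (j + 1)) : a * b - b * a ∈ S := by
  obtain ⟨a₁, h3, a₂, h4, rfl⟩ := mem_sup.1 (hX.le ha)
  obtain ⟨b₁, h5, b₂, h6, rfl⟩ := mem_sup.1 (hW.le hb)
  rw [show (a₁ + a₂) * (b₁ + b₂) - (b₁ + b₂) * (a₁ + a₂) = (a₁ * b₁ - b₁ * a₁) +
    ((a₁ * b₂ - b₂ * a₁) + (a₂ * (b₁ + b₂) - (b₁ + b₂) * a₂)) by noncomm_ring]
  refine add_mem ?_ (add_mem (h1 _ (span_le.2 hX.mem h3) _ h6) (h2 _ h4 _ hb))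
  refine (span_le (p := S.comap (LinearMap.mulRight k b₁ - LinearMap.mulLeft k b₁))).2
    (fun a ha => ?_) h3
  exact (span_le (p := S.comap (LinearMap.mulLeft k a - LinearMap.mulRight k a))).2 (h a ha) h5

theorem comm_mem_pow {J : Submodule k A} {i j n : ℕ} {a b : A} (ha : a ∈ J ^ i) (hb : b ∈ J ^ j)
    (e : i + j = n := by omega) : a * b - b * a ∈ J ^ n :=
  sub_mem (mul_mem_pow_eq ha hb e) (mul_mem_pow_eq hb ha)

/-- Every cyclic form of degree three vanishes. -/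
def T3 (J : Submodule k A) : Prop :=
  ∀ S : Submodule k A, J ^ 4 ≤ S → (∀ a ∈ J, ∀ w ∈ J ^ 2, a * w - w * a ∈ S) → J ^ 3 ≤ S

theorem T3.le {J : Submodule k A} (h : T3 J) {X W : Set A} (hX : Sp J 0 X) (hW : Sp J 1 W)
    {S : Submodule k A} (hS : J ^ 4 ≤ S) (h1 : ∀ a ∈ X, ∀ w ∈ W, a * w - w * a ∈ S) : J ^ 3 ≤ S :=
  h S hS fun _ ha _ hw => hX.comm_mem hW (fun _ ha _ hw => hS (comm_mem_pow ha hw))
    (fun _ ha _ hw => hS (comm_mem_pow ha hw)) h1 (by simpa using ha) hw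

theorem sp_pair {J : Submodule k A} {j : ℕ} {x y : A} : Sp J j {x, y} ↔
    x ∈ J ^ (j + 1) ∧ y ∈ J ^ (j + 1) ∧ J ^ (j + 1) ≤ span k {x, y} ⊔ J ^ (j + 2) :=
  ⟨fun h => ⟨h.mem x (by simp), h.mem y (by simp), h.le⟩,
    fun h => ⟨by simpa using ⟨h.1, h.2.1⟩, h.2.2⟩⟩

theorem Sp.left {J : Submodule k A} {x y : A} (h : Sp J 0 {x, y}) : x ∈ J := by
  simpa using (sp_pair.1 h).1

theorem Sp.right {J : Submodule k A} {x y : A} (h : Sp J 0 {x, y}) : y ∈ J := by
  simpa using (sp_pair.1 h).2.1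

theorem Sp.swap {J : Submodule k A} {j : ℕ} {x y : A} (h : Sp J j {x, y}) : Sp J j {y, x} :=
  Set.pair_comm x y ▸ h

theorem Sp.change {J : Submodule k A} {x y : A} (h : Sp J 0 {x, y}) {a b c d : k}
    (hd : a * d - b * c ≠ 0) : Sp J 0 {a • x + b • y, c • x + d • y} := by
  obtain ⟨h1, h2, h3⟩ := sp_pair.1 h
  refine sp_pair.2 ⟨add_mem (smul_mem _ _ h1) (smul_mem _ _ h2),
    add_mem (smul_mem _ _ h1) (smul_mem _ _ h2), h3.trans (sup_le_sup_right (span_le.2 ?_) _)⟩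
  rw [Set.insert_subset_iff, Set.singleton_subset_iff]
  obtain ⟨e, he⟩ := exists_mul_eq_one_of hd
  exact ⟨mem_span_pair.2 ⟨d * e, -b * e, by linear_combination (norm := module) he • x⟩,
    mem_span_pair.2 ⟨-c * e, a * e, by linear_combination (norm := module) he • y⟩⟩

theorem Sp.complete {J : Submodule k A} {x y : A} (h : Sp J 0 {x, y}) {a b : k}
    (hd : a ≠ 0 ∨ b ≠ 0) : ∃ z, Sp J 0 {a • x + b • y, z} := by
  rcases hd with hd | hd
  · exact ⟨_, h.change (c := 0) (d := 1) (by simpa)⟩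
  · exact ⟨_, h.change (c := 1) (d := 0) (by simpa)⟩

theorem mem_sup_fst {V : Type*} [AddCommGroup V] [Module k V] {S : Submodule k V} (x y : V) :
    x ∈ span k {x, y} ⊔ S := mem_sup_left (subset_span (by simp))

theorem mem_sup_snd {V : Type*} [AddCommGroup V] [Module k V] {S : Submodule k V} (x y : V) :
    y ∈ span k {x, y} ⊔ S := mem_sup_left (subset_span (by simp))

theorem Sp.mul_pair {J : Submodule k A} {i j : ℕ} {x y u v : A} (hX : Sp J i {x, y})
    (hW : Sp J j {u, v}) {S : Submodule k A} (hS : J ^ (i + j + 3) ≤ S) (h1 : x * u ∈ S)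
    (h2 : x * v ∈ S) (h3 : y * u ∈ S) (h4 : y * v ∈ S) : J ^ (i + j + 2) ≤ S :=
  hX.mul_le hW hS (by simpa using ⟨⟨h1, h2⟩, h3, h4⟩)

theorem trichotomy [IsAlgClosed k] [FiniteDimensional k A] {J : Submodule k A} (h3 : J ^ 3 ≤ J ^ 2)
    (hc : finrank k ↥(J ^ 2) ≤ finrank k ↥(J ^ 3) + 2) {x y : A} (h : Sp J 0 {x, y}) :
    ∃ x y, Sp J 0 {x, y} ∧ (x * y ∈ J ^ 3 ∨ (x * x ∈ J ^ 3 ∧
      (y * y ∈ J ^ 3 ∨ ∃ q : k, x * y - q • (y * x) ∈ J ^ 3))) := by
  obtain ⟨u, -, v, -, huv⟩ := exists_pair_sup h3 hc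
  have co : ∀ {a b}, a ∈ J → b ∈ J → ∃ c d : k, a * b - (c • u + d • v) ∈ J ^ 3 :=
    fun ha hb => mem_span_pair_sup.1 (huv (mul_mem_sq ha hb))
  have step : ∀ {x y}, Sp J 0 {x, y} → x * x ∈ J ^ 3 → ∃ x y, Sp J 0 {x, y} ∧ (x * y ∈ J ^ 3 ∨
      (x * x ∈ J ^ 3 ∧ (y * y ∈ J ^ 3 ∨ ∃ q : k, x * y - q • (y * x) ∈ J ^ 3))) := by
    intro x y h hx
    obtain ⟨a₁, a₂, ha⟩ := co h.left h.right
    obtain ⟨b₁, b₂, hb⟩ := co h.right h.left
    obtain ⟨c₁, c₂, hc⟩ := co h.right h.right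
    by_cases hd : a₁ * b₂ - b₁ * a₂ = 0
    · obtain ⟨γ, δ, h1, h2, h3⟩ := exists_ker_two hd
      have h4 : γ • (x * y) + δ • (y * x) ∈ J ^ 3 := by
        convert add_mem (smul_mem _ γ ha) (smul_mem _ δ hb) using 1
        linear_combination (norm := module) h2 • u + h3 • v
      by_cases h5 : γ = 0
      · exact ⟨y, x, h.swap, Or.inl ((smul_mem_iff _ (h1.resolve_left (not_not.2 h5))).1
          (by simpa [h5] using h4))⟩
      · refine ⟨x, y, h, Or.inr ⟨hx, Or.inr ⟨-δ / γ, (smul_mem_iff _ h5).1 ?_⟩⟩⟩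
        convert h4 using 1
        match_scalars <;> field_simp
    · obtain ⟨e, he⟩ := exists_mul_eq_one_of hd
      obtain ⟨β₁, β₂, h1, h2⟩ : ∃ β₁ β₂, a₁ * β₁ + b₁ * β₂ = c₁ ∧ a₂ * β₁ + b₂ * β₂ = c₂ :=
        ⟨(c₁ * b₂ - b₁ * c₂) * e, (a₁ * c₂ - c₁ * a₂) * e,
          by linear_combination c₁ * he, by linear_combination c₂ * he⟩
      have h4 : ((-β₁) • x + (1 : k) • y) * ((-β₂) • x + (1 : k) • y) ∈ J ^ 3 := by
        convert add_mem (sub_mem (sub_mem hc (smul_mem _ β₁ ha)) (smul_mem _ β₂ hb))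
          (smul_mem _ (β₁ * β₂) hx) using 1
        simp only [add_mul, mul_add, smul_mul_assoc, mul_smul_comm, ← h1, ← h2]
        module
      by_cases h5 : β₁ = β₂
      · subst h5
        refine ⟨_, _, h.change (a := 1) (b := 0) (c := -β₁) (d := 1) (by simp),
          Or.inr ⟨by simpa using hx, Or.inl h4⟩⟩
      · exact ⟨_, _, h.change (by simpa [sub_eq_zero, neg_add_eq_sub] using Ne.symm h5), Or.inl h4⟩
  obtain ⟨a₁, a₂, ha⟩ := co h.left h.left
  obtain ⟨b₁, b₂, hb⟩ := co h.left h.right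
  obtain ⟨c₁, c₂, hc⟩ := co h.right h.left
  obtain ⟨d₁, d₂, hd⟩ := co h.right h.right
  obtain ⟨α, β, h1, h2⟩ := exists_quad_root (a₁ * b₂ - b₁ * a₂)
    (a₁ * d₂ + c₁ * b₂ - b₁ * c₂ - d₁ * a₂) (c₁ * d₂ - d₁ * c₂)
  obtain ⟨γ, δ, h3, h4, h5⟩ := exists_ker_two (a := α * a₁ + β * c₁) (b := α * b₁ + β * d₁)
    (c := α * a₂ + β * c₂) (d := α * b₂ + β * d₂) (by linear_combination h2)
  have h6 : (α • x + β • y) * (γ • x + δ • y) ∈ J ^ 3 := by
    convert add_mem (add_mem (smul_mem _ (α * γ) ha) (smul_mem _ (α * δ) hb))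
      (add_mem (smul_mem _ (β * γ) hc) (smul_mem _ (β * δ) hd)) using 1
    simp only [add_mul, mul_add, smul_mul_assoc, mul_smul_comm]
    linear_combination (norm := module) h4 • u + h5 • v
  by_cases h7 : α * δ - β * γ = 0
  · obtain ⟨z, hz⟩ := h.complete h1
    refine step hz ?_
    rcases h3 with h3 | h3
    · refine (smul_mem_iff _ h3).1 ?_
      convert smul_mem _ α h6 using 1
      rw [← mul_smul_comm, ← mul_smul_comm]
      congr 1
      linear_combination (norm := module) -h7 • y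
    · refine (smul_mem_iff _ h3).1 ?_
      convert smul_mem _ β h6 using 1
      rw [← mul_smul_comm, ← mul_smul_comm]
      congr 1
      linear_combination (norm := module) h7 • x
  · exact ⟨_, _, h.change h7, Or.inl h6⟩

namespace SLA

variable {J : Submodule k A} {s : A →ₗ[k] k} (h : SLA J s)
include h

theorem exists_top {n : ℕ} (hn : J ^ (n + 1) ≠ ⊥) :
    ∃ m, J ^ (m + n + 1) ≠ ⊥ ∧ J ^ (m + n + 2) = ⊥ := by
  by_contra! h0
  have : ∀ m, J ^ (m + n + 1) ≠ ⊥ := fun m => by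
    induction m with
    | zero => simpa using hn
    | succ m ih => convert h0 m ih using 2; ring
  obtain ⟨N, hN⟩ := h.nil
  exact this N (le_bot_iff.1 ((h.pow_le (by omega)).trans hN.le))

theorem finrank_top_le [FiniteDimensional k A] {m : ℕ} (hm : J ^ (m + 2) = ⊥) :
    finrank k ↥(J ^ (m + 1)) ≤ 1 := by
  have := LinearMap.finrank_le_finrank_of_injective (f := s ∘ₗ (J ^ (m + 1)).subtype)
    (LinearMap.ker_eq_bot.1 (LinearMap.ker_eq_bot'.2 fun w hw => Subtype.ext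
      (h.eq_zero_of hw fun a ha => by rw [hm.le (mul_mem_pow_right w.2 ha), map_zero])))
  simpa using this

theorem sp_words {x y : A} (hX : Sp J 0 {x, y}) (hxy : x * y ∈ J ^ 3) (i : ℕ) :
    Sp J (i + 1) ({x ^ (i + 2), y ^ (i + 2)} ∪ {w | ∃ u ∈ J ^ i, w = y * u * x}) := by
  have hx := hX.left
  have hy := hX.right
  refine ⟨?_, ?_⟩
  · rintro _ ((rfl | rfl) | ⟨u, hu, rfl⟩)
    · exact pow_mem_pow J hx _
    · exact pow_mem_pow J hy _
    · exact mul_mem_pow_right (mul_mem_pow_left hy hu) hx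
  induction i with
  | zero =>
    exact hX.mul_pair hX le_sup_right (mem_sup_left (subset_span (by simp [sq])))
      (mem_sup_right hxy) (mem_sup_left (subset_span (Or.inr ⟨1, by simpa using pow_mem_pow J hx 0, by simp⟩)))
      (mem_sup_left (subset_span (by simp [sq])))
  | succ i ih =>
    have := hX.mul_le (W := {x ^ (i + 2), y ^ (i + 2)} ∪ {w | ∃ u ∈ J ^ i, w = y * u * x})
      (j := i + 1) ⟨by
        rintro _ ((rfl | rfl) | ⟨u, hu, rfl⟩)
        · exact pow_mem_pow J hx _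
        · exact pow_mem_pow J hy _
        · exact mul_mem_pow_right (mul_mem_pow_left hy hu) hx, ih⟩
      (S := span k ({x ^ (i + 1 + 2), y ^ (i + 1 + 2)} ∪ {w | ∃ u ∈ J ^ (i + 1), w = y * u * x}) ⊔
        J ^ (i + 1 + 1 + 2)) (by rw [zero_add]; exact le_sup_right) ?_
    · rwa [zero_add] at this
    rintro _ (rfl | rfl) _ ((rfl | rfl) | ⟨u, hu, rfl⟩)
    · exact mem_sup_left (subset_span (by simp [pow_succ']))
    · refine mem_sup_right ?_
      rw [pow_succ' y, ← mul_assoc]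
      exact mul_mem_pow_eq hxy (pow_mem_pow J hy (i + 1))
    · refine mem_sup_right ?_
      rw [← mul_assoc, ← mul_assoc]
      exact mul_mem_pow_right (mul_mem_pow_eq hxy hu) hx
    · exact mem_sup_left (subset_span (Or.inr ⟨_, pow_mem_pow J hx (i + 1), by
        rw [pow_succ, mul_assoc]⟩))
    · exact mem_sup_left (subset_span (by simp [pow_succ']))
    · exact mem_sup_left (subset_span (Or.inr ⟨_, mul_mem_pow_left hy hu, by simp [mul_assoc]⟩))

theorem case_one (hT : T3 J) {x y : A} (hX : Sp J 0 {x, y}) (hxy : x * y ∈ J ^ 3) : J ^ 4 = ⊥ := by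
  by_contra h4
  obtain ⟨m, h1, h2⟩ := h.exists_top (n := 3) h4
  have hx := hX.left
  have hy := hX.right
  have z : ∀ {w}, w ∈ J ^ (m + 3 + 2) → s w = 0 := fun hw => by rw [h2.le hw, map_zero]
  have hW : Sp J 1 {x * x, y * x, y * y} := ⟨by simp [mul_mem_sq, hx, hy],
    hX.mul_pair hX le_sup_right (mem_sup_left (subset_span (by simp))) (mem_sup_right hxy)
      (mem_sup_left (subset_span (by simp))) (mem_sup_left (subset_span (by simp)))⟩
  have key : ∀ t ∈ J, ∀ f : Dual k A, (∀ w, f w = s (t ^ (m + 1) * w)) →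
      (∀ w ∈ ({x * x, y * x, y * y} : Set A), f (x * w) = f (w * x) ∧ f (y * w) = f (w * y)) →
      s (t ^ (m + 2 + 2)) = 0 := fun t ht f hf h3 => by
    have := hT.le hX hW (S := LinearMap.ker f) (fun w hw => by
      rw [LinearMap.mem_ker, hf]
      exact z (mul_mem_pow_eq (pow_mem_pow J ht (m + 1)) hw)) (by
        rintro _ (rfl | rfl) w hw <;> simp [h3 w hw]) (pow_mem_pow J ht 3)
    rwa [LinearMap.mem_ker, hf, ← pow_add] at this
  have e1 : ∀ t ∈ J, ∀ w ∈ J ^ 4, s (t ^ (m + 1) * w) = 0 := fun t ht w hw =>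
    z (mul_mem_pow_eq (pow_mem_pow J ht (m + 1)) hw)
  have a1 := mul_mem_pow_left hx hxy
  have a2 := mul_mem_pow_left hy hxy
  have a3 := mul_mem_pow_right hxy hx
  have a4 := mul_mem_pow_right hxy hy
  obtain ⟨w, h3, h5⟩ := h.exists_s_ne h1
  refine h5 ((sup_le (span_le.2 ?_) fun w hw => z hw : _ ≤ LinearMap.ker s)
    ((h.sp_words hX hxy (m + 2)).le h3))
  rintro _ ((rfl | rfl) | ⟨u, hu, rfl⟩)
  · have e2 : ∀ v ∈ J ^ 2, s (x ^ (m + 1) * (y * v)) = 0 := fun v hv => z (by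
      rw [pow_succ x, mul_assoc, ← mul_assoc x]
      exact mul_mem_pow_eq (pow_mem_pow J hx m) (mul_mem_pow_add hxy hv))
    refine key x hx (s ∘ₗ LinearMap.mulLeft k _) (fun _ => rfl) ?_
    simp only [mul_assoc] at a1 a2 a3 a4
    simp [mul_assoc, e1 x hx _ a1, e1 x hx _ a2, e1 x hx _ a3, e1 x hx _ a4,
      e2 _ (mul_mem_sq hx hx), e2 _ (mul_mem_sq hy hx)]
  · have e2 : ∀ a ∈ J, ∀ b ∈ J, s (y ^ (m + 1) * (a * (b * x))) = 0 := fun a ha b hb => by
      rw [← mul_assoc a, ← mul_assoc _ (a * b), h.tr, pow_succ' y, ← mul_assoc x, ← mul_assoc x]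
      exact z (mul_mem_pow_eq (mul_mem_pow_add hxy (pow_mem_pow J hy m)) (mul_mem_sq ha hb))
    refine key y hy (s ∘ₗ LinearMap.mulLeft k _) (fun _ => rfl) ?_
    simp only [mul_assoc] at a1 a2 a3 a4
    simp [mul_assoc, e1 y hy _ a1, e1 y hy _ a2, e1 y hy _ a4, e2, hx, hy]
  · rw [SetLike.mem_coe, LinearMap.mem_ker, h.tr, ← mul_assoc]
    exact z (mul_mem_pow_eq hxy hu)

theorem case_q (hT : T3 J) {x y : A} (hX : Sp J 0 {x, y}) (hxx : x * x ∈ J ^ 3) {q : k}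
    (hq : x * y - q • (y * x) ∈ J ^ 3) : J ^ 4 = ⊥ := by
  have hx := hX.left
  have hy := hX.right
  have hW : Sp J 1 {y * x, y * y} := sp_pair.2 ⟨mul_mem_sq hy hx, mul_mem_sq hy hy,
    hX.mul_pair hX le_sup_right (mem_sup_right hxx) (mem_span_pair_sup.2 ⟨q, 0, by simpa using hq⟩)
      (mem_sup_fst _ _) (mem_sup_snd _ _)⟩
  have a1 := mul_mem_pow_left hy hxx
  have a2 := mul_mem_pow_left hy hq
  have a3 := mul_mem_pow_right hq hx
  have a4 := mul_mem_pow_right hq hy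
  have h3 : J ^ 3 ≤ span k {y * (y * x)} ⊔ J ^ 4 := hT.le hX hW le_sup_right (by
    rintro _ (rfl | rfl) _ (rfl | rfl)
    · refine mem_sup_right ?_
      convert add_mem a3 (smul_mem _ (q - 1) a1) using 1
      simp only [sub_mul, smul_mul_assoc, mul_assoc]; module
    · refine mem_span_sup.2 ⟨q ^ 2 - 1, ?_⟩
      convert add_mem a4 (smul_mem _ q a2) using 1
      simp only [sub_mul, mul_sub, smul_mul_assoc, mul_smul_comm, mul_assoc]; module
    · refine mem_span_sup.2 ⟨1 - q, ?_⟩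
      convert neg_mem a2 using 1
      simp only [mul_sub, mul_smul_comm, mul_assoc]; module
    · simp [mul_assoc])
  have hW3 : Sp J 2 {y * (y * x)} := ⟨by simpa using mul_mem_pow_left hy (mul_mem_sq hy hx), h3⟩
  obtain ⟨κ, hκ⟩ := mem_span_sup.1 (h3 (mul_mem_pow_left hy (mul_mem_sq hy hy)))
  have b1 := mul_mem_pow_left hy a1
  refine h.eq_bot_of_le (hW3.mul_le hX le_rfl ?_)
  rintro _ rfl _ (rfl | rfl)
  · simpa only [mul_assoc] using b1
  · convert add_mem (mul_mem_pow_left hy a2)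
      (smul_mem _ q (add_mem (mul_mem_pow_right hκ hx) (smul_mem _ κ b1))) using 1
    simp only [sub_mul, mul_sub, smul_mul_assoc, mul_smul_comm, mul_assoc]; module

theorem sp_dih_three {x y : A} (hX : Sp J 0 {x, y}) (hxx : x * x ∈ J ^ 3) (hyy : y * y ∈ J ^ 3) :
    Sp J 1 {x * y, y * x} ∧ Sp J 2 {x * (y * x), y * (x * y)} := by
  have hx := hX.left
  have hy := hX.right
  have hW : Sp J 1 {x * y, y * x} := sp_pair.2 ⟨mul_mem_sq hx hy, mul_mem_sq hy hx,
    hX.mul_pair hX le_sup_right (mem_sup_right hxx) (mem_sup_fst _ _) (mem_sup_snd _ _)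
      (mem_sup_right hyy)⟩
  exact ⟨hW, sp_pair.2 ⟨mul_mem_pow_left hx (mul_mem_sq hy hx),
    mul_mem_pow_left hy (mul_mem_sq hx hy), hX.mul_pair hW le_sup_right
      (mem_sup_right (mul_assoc x x y ▸ mul_mem_pow_right hxx hy)) (mem_sup_fst _ _)
      (mem_sup_snd _ _) (mem_sup_right (mul_assoc y y x ▸ mul_mem_pow_right hyy hx))⟩⟩

theorem dih_aux {x y : A} (hX : Sp J 0 {x, y}) (hxx : x * x ∈ J ^ 3) (hyy : y * y ∈ J ^ 3)
    (h5 : J ^ 5 ≠ ⊥) {α β : k} (hc : α • (x * (y * (x * y))) + β • (y * (x * (y * x))) ∈ J ^ 5) :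
    α = 0 := by
  have hx := hX.left
  have hy := hX.right
  obtain ⟨h2, h3⟩ := h.sp_dih_three hX hxx hyy
  by_contra hα
  have a1 : x * (y * (x * (y * x))) ∈ J ^ 6 := by
    refine mem_of_smul_add hα (y := β • (y * (x * (y * (x * x))))) ?_ (smul_mem _ _
      (mul_mem_pow_left hy (mul_mem_pow_left hx (mul_mem_pow_left hy hxx))))
    simpa [add_mul, mul_assoc] using mul_mem_pow_right hc hx
  have a2 : y * (x * (y * (x * y))) ∈ J ^ 6 := by
    refine mem_of_smul_add hα (y := β • (y * y * x * y * x)) ?_ (smul_mem _ _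
      (mul_mem_pow_right (mul_mem_pow_right (mul_mem_pow_right hyy hx) hy) hx))
    simpa [mul_add, mul_assoc] using mul_mem_pow_left hy hc
  refine h5 (h.eq_bot_of_le (h3.mul_pair h2 le_rfl ?_ (by simpa only [mul_assoc] using a1)
    (by simpa only [mul_assoc] using a2) ?_))
  · simpa only [mul_assoc] using
      mul_mem_pow_right (mul_mem_pow_left hx (mul_mem_pow_left hy hxx)) hy
  · simpa only [mul_assoc] using
      mul_mem_pow_right (mul_mem_pow_left hy (mul_mem_pow_left hx hyy)) hx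

theorem case_dih {x y : A} (hX : Sp J 0 {x, y}) (hxx : x * x ∈ J ^ 3) (hyy : y * y ∈ J ^ 3)
    (hc : x * y - y * x ∉ J ^ 3) (hK : J ^ 4 ≤ comK k A ⊔ J ^ 5) : J ^ 5 = ⊥ := by
  by_contra h5
  have hx := hX.left
  have hy := hX.right
  obtain ⟨h2, h3⟩ := h.sp_dih_three hX hxx hyy
  have ind : ∀ {α β : k}, α • (x * (y * (x * y))) + β • (y * (x * (y * x))) ∈ J ^ 5 →
      α = 0 ∧ β = 0 := fun hc =>
    ⟨h.dih_aux hX hxx hyy h5 hc, h.dih_aux hX.swap hyy hxx h5 (add_comm (G := A) _ _ ▸ hc)⟩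
  set S := span k {x * (y * (x * y)) - y * (x * (y * x))} ⊔ J ^ 5 with hS
  have xx : ∀ a ∈ J, ∀ b ∈ J, x * x * a * b ∈ J ^ 5 ∧ a * (b * (x * x)) ∈ J ^ 5 := fun a ha b hb =>
    ⟨mul_mem_pow_right (mul_mem_pow_right hxx ha) hb, mul_mem_pow_left ha (mul_mem_pow_left hb hxx)⟩
  have yy : ∀ a ∈ J, ∀ b ∈ J, y * y * a * b ∈ J ^ 5 ∧ a * (b * (y * y)) ∈ J ^ 5 := fun a ha b hb =>
    ⟨mul_mem_pow_right (mul_mem_pow_right hyy ha) hb, mul_mem_pow_left ha (mul_mem_pow_left hb hyy)⟩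
  have k4 : ∀ a ∈ J, ∀ w ∈ J ^ 3, a * w - w * a ∈ S := fun a ha w hw =>
    hX.comm_mem h3 (fun _ ha _ hw => mem_sup_right (comm_mem_pow ha hw))
      (fun _ ha _ hw => mem_sup_right (comm_mem_pow ha hw)) (by
        rintro _ (rfl | rfl) _ (rfl | rfl)
        · simpa only [mul_assoc] using mem_sup_right (sub_mem (xx _ hy _ hx).1 (xx _ hx _ hy).2)
        · simpa only [mul_assoc] using mem_sup_left (mem_span_singleton_self _)
        · exact mem_span_sup.2 ⟨-1, by simp [mul_assoc]⟩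
        · simpa only [mul_assoc] using mem_sup_right (sub_mem (yy _ hx _ hy).1 (yy _ hy _ hx).2))
      (by simpa using ha) hw
  have k22 : ∀ a ∈ J ^ 2, ∀ w ∈ J ^ 2, a * w - w * a ∈ S := fun a ha w hw =>
    (sq_le_iff (S := S.comap (LinearMap.mulRight k w - LinearMap.mulLeft k w))).2
      (fun u hu v hv => by
        simpa [mul_assoc] using
          add_mem (k4 u hu _ (mul_mem_pow_left hv hw)) (k4 v hv _ (mul_mem_pow_right hw hu))) ha
  have k3 : ∀ a ∈ J, ∀ w ∈ J ^ 2,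
      a * w - w * a ∈ span k {x * (x * y) - x * y * x, y * (y * x) - y * x * y} ⊔ S :=
    fun a ha w hw => hX.comm_mem h2 (fun a ha w hw => mem_sup_right (k4 a (by simpa using ha) w hw))
      (fun a ha w hw => mem_sup_right (k22 a ha w hw)) (by
        rintro _ (rfl | rfl) _ (rfl | rfl)
        · exact mem_sup_fst _ _
        · refine mem_span_pair_sup.2 ⟨-1, 0, ?_⟩
          convert neg_mem (k4 _ hy _ hxx) using 1
          simp only [mul_assoc]; module
        · refine mem_span_pair_sup.2 ⟨0, -1, ?_⟩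
          convert neg_mem (k4 _ hx _ hyy) using 1
          simp only [mul_assoc]; module
        · exact mem_sup_snd _ _) (by simpa using ha) hw
  have hJ : J ≤ span k {x} ⊔ (span k {y} ⊔ J ^ 2) := by
    simpa [span_insert, sup_assoc] using hX.le
  have hxy : x * (y * (x * y)) ∈ J ^ 4 := mul_mem_pow_left hx (sp_pair.1 h3).2.1
  have hyx : y * (x * (y * x)) ∈ J ^ 4 := mul_mem_pow_left hy (sp_pair.1 h3).1
  have h54 : J ^ 5 ≤ J ^ 4 := h.pow_succ_le 3
  have h43 : J ^ 4 ≤ J ^ 3 := h.pow_succ_le 2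
  have := (sup_le (h.comK_le_two hx hy hJ k3) (le_sup_of_le_right (le_sup_of_le_right le_sup_right)))
    (hK hxy)
  obtain ⟨c₁, e1⟩ := mem_span_sup.1 this
  obtain ⟨c₂, c₃, e2⟩ := mem_span_pair_sup.1 e1
  obtain ⟨c₄, e3⟩ := mem_span_sup.1 e2
  have e4 := sub_mem (sub_mem hxy (h54 e3)) (smul_mem _ c₄ (sub_mem hxy hyx))
  obtain rfl : c₁ = 0 := by
    by_contra h0
    refine hc (mem_of_smul_add h0 ?_ (add_mem
      (smul_mem _ c₂ (h.comm_mem_cube hx (mul_mem_sq hx hy)))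
      (smul_mem _ c₃ (h.comm_mem_cube hy (mul_mem_sq hy hx)))))
    convert h43 e4 using 1; abel
  have e5 : c₂ • (x * y * x) + c₃ • (y * x * y) ∈ J ^ 4 := by
    convert sub_mem (add_mem (smul_mem _ c₂ (mul_mem_pow_right hxx hy))
      (smul_mem _ c₃ (mul_mem_pow_right hyy hx))) e4 using 1
    simp only [mul_assoc]; module
  obtain rfl : c₂ = 0 := (ind (β := 0) (by
    convert sub_mem (mul_mem_pow_right e5 hy) (smul_mem _ c₃ (yy _ hy _ hx).2) using 1
    simp only [add_mul, smul_mul_assoc, mul_assoc]; module)).1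
  obtain rfl : c₃ = 0 := (ind (α := 0) (by
    simpa [mul_assoc] using mul_mem_pow_right e5 hx)).2
  obtain ⟨e6, e7⟩ := ind (α := 1 - c₄) (β := c₄) (by convert e3 using 1; module)
  simp [e7] at e6

theorem comm_of_c2 [IsAlgClosed k] {x y c : A} (hX : Sp J 0 {x, y}) (hc : c ∈ J ^ 2)
    (h2 : J ^ 2 ≤ span k {c} ⊔ J ^ 3) : comK k A = ⊥ := by
  by_contra hK
  have h3 : J ^ 3 ≠ ⊥ := fun e => hK (h.comm_of_cube e)
  have hK3 := h.comK_le_cube hc h2 h3
  have co : ∀ {a b}, a ∈ J → b ∈ J → ∃ t : k, a * b - t • c ∈ J ^ 3 :=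
    fun ha hb => mem_span_sup.1 (h2 (mul_mem_sq ha hb))
  obtain ⟨y, x, hX, hyy⟩ : ∃ y x, Sp J 0 {y, x} ∧ y * y ∈ J ^ 3 := by
    obtain ⟨a₁, h1⟩ := co hX.left hX.left
    obtain ⟨a₂, h2⟩ := co hX.left hX.right
    obtain ⟨a₃, h3⟩ := co hX.right hX.left
    obtain ⟨a₄, h4⟩ := co hX.right hX.right
    obtain ⟨α, β, h5, h6⟩ := exists_quad_root a₁ (a₂ + a₃) a₄
    obtain ⟨z, hz⟩ := hX.complete h5
    refine ⟨_, z, hz, ?_⟩
    convert add_mem (add_mem (smul_mem _ (α * α) h1) (smul_mem _ (α * β) h2))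
      (add_mem (smul_mem _ (β * α) h3) (smul_mem _ (β * β) h4)) using 1
    simp only [add_mul, mul_add, smul_mul_assoc, mul_smul_comm]
    linear_combination (norm := module) h6 • c
  have hy := hX.left
  have hx := hX.right
  have hxy : x * y ∈ J ^ 3 := by
    by_contra h0
    obtain ⟨t, h1⟩ := co hx hy
    have ht : t ≠ 0 := fun e => h0 (by simpa [e] using h1)
    obtain ⟨u, h4⟩ := co hx hx
    have hW : Sp J 1 {x * y} := ⟨by simpa using mul_mem_sq hx hy, h2.trans (sup_le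
      ((span_singleton_le_iff_mem _ _).2 ((smul_mem_iff _ ht).1 (mem_span_sup.2 ⟨1, by
        simpa using neg_mem h1⟩))) le_sup_right)⟩
    have h5 := mul_mem_pow_left hx hyy
    have h6 : x * y * x ∈ J ^ 4 := by
      refine (smul_mem_iff _ ht).1 ?_
      convert add_mem (add_mem (smul_mem _ t (add_mem (mul_mem_pow_right h4 hy)
        (mul_mem_pow_left hx (hK3 (comm_mem_comK y x))))) (smul_mem _ u h5))
        (smul_mem _ (-u) (mul_mem_pow_right h1 hy)) using 1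
      simp only [sub_mul, mul_sub, smul_mul_assoc, mul_assoc]; module
    refine h3 (h.eq_bot_of_le (hW.mul_le hX le_rfl ?_))
    rintro _ rfl _ (rfl | rfl)
    · simpa only [mul_assoc] using h5
    · exact h6
  have hyx : y * x ∈ J ^ 3 := by simpa using add_mem (hK3 (comm_mem_comK y x)) hxy
  have h4 : ∀ j, Sp J (j + 1) {x ^ (j + 2)} := fun j => ⟨by simpa using pow_mem_pow J hx (j + 2), by
    induction j with
    | zero =>
      exact hX.mul_pair hX le_sup_right (mem_sup_right hyy) (mem_sup_right hyx) (mem_sup_right hxy)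
        (mem_sup_left (subset_span (by simp [sq])))
    | succ j ih =>
      refine (Sp.mk (j := j + 1) (X := {x ^ (j + 2)}) (by simpa using pow_mem_pow J hx (j + 2))
        ih).mul_le hX le_sup_right ?_
      rintro _ rfl _ (rfl | rfl)
      · refine mem_sup_right ?_
        rw [pow_succ x (j + 1), mul_assoc]
        exact mul_mem_pow_eq (pow_mem_pow J hx (j + 1)) hxy
      · exact mem_sup_left (subset_span (by simp [pow_succ]))⟩
  have h5 : ∀ i, J ^ (i + 2) ≤ ((Subalgebra.toSubmodule (Subalgebra.centralizer k {x})) ⊓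
      J ^ (i + 1)).map (LinearMap.mulRight k x) := fun i => h.le_of_le_sup fun j hj => by
    obtain ⟨j, rfl⟩ := Nat.exists_eq_add_one_of_ne_zero (show j ≠ 0 by omega)
    exact (h4 j).le.trans (sup_le_sup_right ((span_singleton_le_iff_mem _ _).2 (mem_map.2 ⟨x ^ (j + 1),
      mem_inf.2 ⟨fun _ e => by obtain rfl := e; exact (Commute.self_pow _ _).eq, h.pow_le hj (pow_mem_pow J hx _)⟩,
      (pow_succ _ _).symm⟩)) _)
  obtain ⟨u, ⟨h6, h7⟩, h8⟩ := h5 1 hxy
  have h9 : x * (y - u) = 0 := by rw [mul_sub, h6 x rfl, ← h8, LinearMap.mulRight_apply, sub_self]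
  have hz := sub_mem hy (h.sq_le h7)
  have hJ : J ≤ span k {x} ⊔ (span k {y - u} ⊔ J ^ 2) := by
    have : J ≤ span k {y, x} ⊔ J ^ 2 := by simpa using hX.le
    refine this.trans (sup_le (span_le.2 ?_) (le_sup_of_le_right le_sup_right))
    rintro _ (rfl | rfl)
    · exact mem_sup_right (mem_span_sup.2 ⟨1, by simpa using h7⟩)
    · exact mem_sup_left (mem_span_singleton_self _)
  obtain ⟨g, ⟨e1, -⟩, e2⟩ := h5 0 (mul_mem_sq hz hx)
  rw [LinearMap.mulRight_apply] at e2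
  have e3 : (y - u) * x * x = 0 := by
    rw [← e2, ← e1 x rfl, mul_assoc, e2, ← mul_assoc, h9, zero_mul]
  refine hK (h.comm_of_gen hx hz ?_ hJ)
  rw [Commute, SemiconjBy, h9, eq_comm]
  refine h.eq_zero_of (by rw [h.tr, h9, map_zero]) fun a ha => ?_
  rw [show (y - u) * x * a = 0 from (sup_le ((span_singleton_le_iff_mem _ _).2 e3)
    (sup_le ((span_singleton_le_iff_mem _ _).2 (by simp [mul_assoc, h9])) fun w hw => ?_) :
      _ ≤ LinearMap.ker (LinearMap.mulLeft k ((y - u) * x))) (hJ ha), map_zero]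
  obtain ⟨v, ⟨e4, -⟩, rfl⟩ := h5 0 hw
  simp [← e4 x rfl, ← mul_assoc, e3]

theorem eight_of_two [IsAlgClosed k] [FiniteDimensional k A]
    (h5 : finrank k A ≤ finrank k (comK k A) + 5) (hJ : finrank k J = finrank k ↥(J ^ 2) + 2) :
    finrank k A ≤ 8 := by
  by_cases hK : comK k A = ⊥
  · rw [hK, finrank_bot] at h5; omega
  have h3 : J ^ 3 ≠ ⊥ := fun e => hK (h.comm_of_cube e)
  have : Nontrivial A := by
    by_contra! hA
    exact hK (Subsingleton.elim _ _)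
  have h1 := h.finrank_J_lt
  have h1' := h.finrank_le_J
  have sp : ∀ {x y}, Sp J 0 {x, y} → comK k A ≤ span k {x * y - y * x} ⊔ J ^ 3 := fun hX =>
    h.comK_le_two hX.left hX.right (by simpa [span_insert, sup_assoc] using hX.le)
      fun _ ha _ hw => h.comm_mem_cube ha hw
  obtain ⟨x, hx, y, hy, e⟩ := h.exists_two hJ
  have hX : Sp J 0 {x, y} := sp_pair.2 ⟨by simpa, by simpa, by
    simpa [span_insert, sup_assoc] using e.le⟩
  have a1 : finrank k (comK k A) < finrank k ↥(comK k A ⊔ J ^ 3) :=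
    finrank_lt_finrank_of_lt (h.comK_lt h3)
  have a2 := (finrank_mono (sup_le (sp hX) le_sup_right)).trans (finrank_span_sup_le _ _)
  have a3 : ¬ finrank k ↥(J ^ 2) ≤ finrank k ↥(J ^ 3) + 1 := fun e => by
    obtain ⟨c, hc, e⟩ := exists_span_sup h.cube_le e
    exact hK (h.comm_of_c2 hX hc e.le)
  by_cases h4 : J ^ 4 = ⊥
  · have : finrank k ↥(J ^ 3) ≤ 1 := h.finrank_top_le h4
    omega
  have a0 : finrank k ↥(comK k A ⊔ J ^ 3) ≤ finrank k (comK k A) + 1 := by omega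
  have a4 : ∀ n, J ^ (n + 3) ≠ ⊥ → J ^ 3 ≤ comK k A ⊔ J ^ (n + 3) := fun n hn =>
    le_sup_right.trans (eq_of_le_of_finrank_le (sup_le_sup_left (h.pow_le (by omega)) _)
      (a0.trans (finrank_lt_finrank_of_lt (h.comK_lt hn)))).ge
  have a5 : ∀ {x y}, Sp J 0 {x, y} → x * y - y * x ∉ J ^ 3 := fun hX hc => by
    have := finrank_mono (sup_le ((sp hX).trans (sup_le ((span_singleton_le_iff_mem _ _).2 hc) le_rfl))
      le_rfl)
    omega
  have hT : T3 J := fun S h1 h2 w hw => by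
    obtain ⟨c, hc⟩ := mem_span_sup.1 ((sup_le (h.comK_le_two hx hy e.le (S := S ⊓ J ^ 3)
      fun a ha w hw => ⟨h2 a ha w hw, h.comm_mem_cube ha hw⟩)
      (le_sup_of_le_right (le_inf h1 (h.pow_succ_le 2)))) (a4 1 h4 hw))
    obtain rfl : c = 0 := by
      by_contra h0
      exact a5 hX ((smul_mem_iff _ h0).1 (by simpa using sub_mem hw hc.2))
    simpa using hc.1
  obtain ⟨x, y, hX, h6 | ⟨h6, h7 | ⟨q, h7⟩⟩⟩ := trichotomy h.cube_le (by omega) hX
  · exact absurd (h.case_one hT hX h6) h4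
  · have h8 : J ^ 5 = ⊥ := by
      by_contra h8
      exact h8 (h.case_dih hX h6 h7 (a5 hX) ((h.pow_succ_le 2).trans (a4 2 h8)))
    have : finrank k ↥(J ^ 4) ≤ 1 := h.finrank_top_le h8
    have : finrank k ↥(J ^ 3) ≤ finrank k ↥(J ^ 4) + 2 :=
      finrank_le_of_pair (h.sp_dih_three hX h6 h7).2.le
    omega
  · exact absurd (h.case_q hT hX h6 h7) h4

end SLA

end Cfsg.Agent.H9
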