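import Mathlib
import Cfsg.Agent.H9.SL2

/-!
Linear algebra for three-generated symmetric local algebras: singular spaces of `3 × 3` matrices
and twisted three-dimensional algebras.
-/

set_option autoImplicit false
set_option linter.unusedSectionVars false

namespace Cfsg.Agent.H9

open Module Submodule

variable {k V W : Type*} [Field k] [AddCommGroup V] [Module k V] [AddCommGroup W] [Module k W]

theorem cubic_zero [Infinite k] {a b c d : k} (h : ∀ t, a + b * t + c * t ^ 2 + d * t ^ 3 = 0) :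
    a = 0 ∧ b = 0 ∧ c = 0 ∧ d = 0 := by
  have : (⟨d, c, b, a⟩ : Cubic k).toPoly = 0 := Polynomial.funext fun t => by
    simp only [Cubic.toPoly, Polynomial.eval_add, Polynomial.eval_mul, Polynomial.eval_C,
      Polynomial.eval_pow, Polynomial.eval_X, Polynomial.eval_zero]
    linear_combination h t
  rw [Cubic.toPoly_eq_zero_iff] at this
  exact ⟨congrArg Cubic.d this, congrArg Cubic.c this, congrArg Cubic.b this, congrArg Cubic.a this⟩

theorem dual_mul_three [Infinite k] {ρ τ π : Dual k V} (h : ∀ a, ρ a * τ a * π a = 0)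
    (h1 : ρ ≠ 0) (h2 : τ ≠ 0) : π = 0 := by
  by_contra h3
  obtain ⟨a, ha⟩ := Dual.exists_forall_ne_zero_of_forall_exists ![ρ, τ, π] fun i => by
    fin_cases i
    exacts [DFunLike.ne_iff.1 h1, DFunLike.ne_iff.1 h2, DFunLike.ne_iff.1 h3]
  exact mul_ne_zero (mul_ne_zero (ha 0) (ha 1)) (ha 2) (h a)

theorem dual_mul_two [Infinite k] {ρ π : Dual k V} (h : ∀ a, ρ a * π a = 0) (h1 : ρ ≠ 0) : π = 0 :=
  dual_mul_three (fun a => by rw [mul_assoc, h, mul_zero]) h1 h1

theorem exists_prop_pair {M : Type*} [AddCommGroup M] [Module k M] {u v : M} {α β : k}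
    (h0 : α ≠ 0 ∨ β ≠ 0) (h : β • u = α • v) : ∃ w, u = α • w ∧ v = β • w := by
  rcases h0 with h0 | h0
  · exact ⟨α⁻¹ • u, by simp [h0], by rw [smul_comm, h]; simp [h0]⟩
  · exact ⟨β⁻¹ • v, by rw [smul_comm, ← h]; simp [h0], by simp [h0]⟩

theorem exists_dual_sep {R S : Dual k V} (h : ∀ s t : k, s • R + t • S = 0 → s = 0) :
    ∃ u, R u = 1 ∧ S u = 0 := by
  by_contra! h0
  obtain ⟨c, hc⟩ := (mem_span_range_iff_exists_fun k).1
    (mem_span_of_iInf_ker_le_ker (L := ![S]) (K := R) fun u hu => by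
      by_contra h1
      exact h0 ((R u)⁻¹ • u) (by simpa using inv_mul_cancel₀ h1) (by simpa using Or.inr hu))
  exact one_ne_zero (h 1 (-c 0) (by ext; simp [← hc]))

theorem li_three {x y z : V} : LinearIndependent k ![x, y, z] ↔
    ∀ a b c : k, a • x + b • y + c • z = 0 → a = 0 ∧ b = 0 ∧ c = 0 := by
  rw [Fintype.linearIndependent_iff]
  refine ⟨fun h a b c e => ?_, fun h c e i => ?_⟩
  · have := h ![a, b, c] (by simpa [Fin.sum_univ_three] using e)
    exact ⟨this 0, this 1, this 2⟩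
  · obtain ⟨h0, h1, h2⟩ := h (c 0) (c 1) (c 2) (by simpa [Fin.sum_univ_three] using e)
    fin_cases i
    exacts [h0, h1, h2]

theorem atk_forms [Infinite k] [FiniteDimensional k V] (hV : finrank k V = 3)
    {P₀ P₁ P₂ Q₀ Q₁ Q₂ R₀ R₁ R₂ : Dual k V} {x : V} (p0 : P₀ x = 1) (p1 : P₁ x = 0) (p2 : P₂ x = 0)
    (q0 : Q₀ x = 0) (q1 : Q₁ x = 1) (q2 : Q₂ x = 0) (r0 : R₀ x = 0) (r1 : R₁ x = 0) (r2 : R₂ x = 0)
    (hd : ∀ a, R₀ a * (P₁ a * Q₂ a - P₂ a * Q₁ a) - R₁ a * (P₀ a * Q₂ a - P₂ a * Q₀ a) +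
      R₂ a * (P₀ a * Q₁ a - P₁ a * Q₀ a) = 0)
    (hP : ¬ (P₂ = 0 ∧ Q₂ = 0 ∧ R₂ = 0)) (hR : ¬ (R₀ = 0 ∧ R₁ = 0 ∧ R₂ = 0)) :
    R₂ = 0 ∧ ((∃ α β : k, (α ≠ 0 ∨ β ≠ 0) ∧ β • R₀ = α • R₁ ∧ α • P₂ + β • Q₂ = 0 ∧
      β • (α • P₀ + β • Q₀) = α • (α • P₁ + β • Q₁)) ∨ ∃ φ : Dual k V,
      (∀ a, R₀ a * P₀ a + R₁ a * Q₀ a = φ a * R₀ a ∧ R₀ a * P₁ a + R₁ a * Q₁ a = φ a * R₁ a ∧
        R₀ a * P₂ a + R₁ a * Q₂ a = 0) ∧ ∀ a, R₀ a = 0 → R₁ a = 0 → φ a = 0 → a = 0) := by
  have e2 : R₂ = 0 := LinearMap.ext fun a => (cubic_zero (a := 0) (b := R₂ a)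
    (c := R₂ a * (P₀ a + Q₁ a) - R₀ a * P₂ a - R₁ a * Q₂ a) (d := 0) fun t => by
      have := hd (x + t • a)
      simp only [map_add, map_smul, p0, p1, p2, q0, q1, q2, r0, r1, r2, smul_eq_mul] at this
      linear_combination this - t ^ 3 * hd a).2.1
  subst e2
  have e3 : ∀ a, R₀ a * P₂ a + R₁ a * Q₂ a = 0 := fun a => (cubic_zero (a := 0) (b := 0)
    (c := R₀ a * P₂ a + R₁ a * Q₂ a) (d := 0) fun t => by
      have := hd (x + t • a)
      have h2 := hd a
      simp only [map_add, map_smul, p0, p1, p2, q0, q1, q2, r0, r1, smul_eq_mul,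
        LinearMap.zero_apply] at this h2
      linear_combination t ^ 3 * h2 - this).2.2.1
  simp only [LinearMap.zero_apply, zero_mul, add_zero, and_true] at hd hP hR
  refine ⟨rfl, ?_⟩
  by_cases hi : ∀ s t : k, s • R₀ + t • R₁ = 0 → s = 0 ∧ t = 0
  · right
    obtain ⟨u, u0, u1⟩ := exists_dual_sep fun s t e => (hi s t e).1
    obtain ⟨v, v1, v0⟩ := exists_dual_sep fun s t e => (hi t s (add_comm (G := Dual k V) _ _ ▸ e)).2
    have hb : LinearIndependent k ![x, u, v] := li_three.2 fun a b c hc => by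
      have c1 : b = 0 := by simpa [r0, u0, v0] using congrArg R₀ hc
      have c2 : c = 0 := by simpa [r1, u1, v1] using congrArg R₁ hc
      exact ⟨by simpa [p0, c1, c2] using congrArg P₀ hc, c1, c2⟩
    let b := basisOfLinearIndependentOfCardEqFinrank hb (by simp [hV])
    have dec : ∀ a, ∃ ξ r s : k, a = ξ • x + r • u + s • v := fun a =>
      ⟨b.repr a 0, b.repr a 1, b.repr a 2, by simpa [b, Fin.sum_univ_three] using (b.sum_repr a).symm⟩
    have f1 : P₂ u = 0 := by simpa [u0, u1] using e3 u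
    have f2 : Q₂ v = 0 := by simpa [v0, v1] using e3 v
    have f3 : Q₂ u = -P₂ v := by
      have := e3 (u + v)
      simp only [map_add, u0, u1, v0, v1, f1, f2] at this
      linear_combination this
    have f4 : P₂ v ≠ 0 := fun e => hP ⟨LinearMap.ext fun a => by
      obtain ⟨ξ, r, s, rfl⟩ := dec a; simp [p2, f1, e], LinearMap.ext fun a => by
      obtain ⟨ξ, r, s, rfl⟩ := dec a; simp [q2, f2, f3, e]⟩
    obtain ⟨g0, g1, g2, g3⟩ := cubic_zero (a := P₁ u) (b := P₁ v + Q₁ u - P₀ u)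
      (c := Q₁ v - P₀ v - Q₀ u) (d := -Q₀ v) fun t => mul_left_cancel₀ f4 (by
        have := hd (u + t • v)
        simp only [map_add, map_smul, u0, u1, v0, v1, f1, f2, f3, smul_eq_mul] at this
        linear_combination -this)
    obtain ⟨φ, c0, c1, c2⟩ : ∃ φ : Dual k V, φ x = 1 ∧ φ u = P₀ u ∧ φ v = Q₁ v :=
      ⟨b.constr k ![1, P₀ u, Q₁ v], by simpa [b] using b.constr_basis k ![1, P₀ u, Q₁ v] 0,
        by simpa [b] using b.constr_basis k ![1, P₀ u, Q₁ v] 1,
        by simpa [b] using b.constr_basis k ![1, P₀ u, Q₁ v] 2⟩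
    refine ⟨φ, fun a => ⟨?_, ?_, e3 a⟩, fun a => ?_⟩ <;> obtain ⟨ξ, r, s, rfl⟩ := dec a <;>
      simp only [map_add, map_smul, p0, p1, q0, q1, r0, r1, u0, u1, v0, v1, c0, c1, c2, smul_eq_mul]
    · linear_combination -(r * s) * g2 - s ^ 2 * g3
    · linear_combination r ^ 2 * g0 + r * s * g1
    · intro h1 h2 h3
      simp only [mul_zero, mul_one, zero_add, add_zero] at h1 h2
      subst h1 h2
      rw [show ξ = 0 by simpa using h3]; simp
  · left
    obtain ⟨α, β, h0, h1⟩ : ∃ α β : k, (α ≠ 0 ∨ β ≠ 0) ∧ β • R₀ = α • R₁ := by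
      push Not at hi
      obtain ⟨s, t, h1, h2⟩ := hi
      exact ⟨-t, s, by rw [neg_ne_zero]; tauto, by linear_combination (norm := module) h1⟩
    obtain ⟨ρ, rfl, rfl⟩ := exists_prop_pair (M := Dual k V) (u := R₀) (v := R₁) h0 h1
    have hρ : ρ ≠ 0 := fun e => hR (by simp [e])
    have h2 : α • P₂ + β • Q₂ = 0 := dual_mul_two (fun a => by
      have := e3 a
      simp only [LinearMap.smul_apply, LinearMap.add_apply, smul_eq_mul] at this ⊢
      linear_combination this) hρ
    obtain ⟨τ, rfl, rfl⟩ := exists_prop_pair (u := P₂) (v := Q₂) (α := β) (β := -α)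
      (by rw [neg_ne_zero]; tauto) (by linear_combination (norm := module) -h2)
    have hτ : τ ≠ 0 := fun e => hP (by simp [e])
    refine ⟨α, β, h0, h1, h2, sub_eq_zero.1 (dual_mul_three (fun a => ?_) hρ hτ)⟩
    have := hd a
    simp only [LinearMap.smul_apply, LinearMap.add_apply, LinearMap.sub_apply, smul_eq_mul] at this ⊢
    linear_combination this

theorem mem_span_of_dual {w v : W} (h : ∀ ω : Dual k W, ω w = 0 → ω v = 0) : v ∈ span k {w} :=
  (span_singleton_le_iff_mem _ _).1 (le_of_dual fun f hf =>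
    span_le (p := LinearMap.ker f).2 (by simpa using h f (hf w (mem_span_singleton_self w))))

theorem atkinson [Infinite k] [FiniteDimensional k V] [FiniteDimensional k W] (hV : finrank k V = 3)
    (hW : finrank k W ≤ 3) (μ : V →ₗ[k] V →ₗ[k] W)
    (hs : ∀ ω : Dual k W, (∀ a b, ω (μ a b) = 0) → ω = 0) (hR : ∀ b, (∀ a, μ a b = 0) → b = 0) :
    (∃ x, Function.Surjective (μ x)) ∨ (∃ y z w, (∀ s t : k, s • y + t • z = 0 → s = 0 ∧ t = 0) ∧
      ∀ a, μ a y ∈ span k {w} ∧ μ a z ∈ span k {w}) ∨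
      ∃ θ : V →ₗ[k] V, Function.Surjective θ ∧ ∀ a, μ a (θ a) = 0 := by
  rw [or_iff_not_imp_left]
  intro hS
  push Not at hS
  by_cases h1 : ∀ a b c (ω ω' : Dual k W), ω (μ a b) * ω' (μ a c) = ω (μ a c) * ω' (μ a b)
  · left
    have : Nontrivial V := nontrivial_of_finrank_pos (R := k) (by omega)
    obtain ⟨b, hb⟩ := exists_ne (0 : V)
    obtain ⟨x, hx⟩ : ∃ x, μ x b ≠ 0 := by by_contra! h; exact hb (hR b h)
    obtain ⟨ω', h2⟩ := Projective.exists_dual_eq_one k hx
    have h3 : LinearMap.range (μ x) ≤ span k {μ x b} := by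
      rintro _ ⟨c, rfl⟩
      exact mem_span_of_dual fun ω hω => by simpa [hω, h2] using h1 x c b ω ω'
    have h4 := (finrank_mono h3).trans (finrank_span_singleton hx).le
    have h5 := (μ x).finrank_range_add_finrank_ker
    obtain ⟨v, hv⟩ := exists_linearIndependent_of_le_finrank (R := k) (M := LinearMap.ker (μ x))
      (n := 2) (by omega)
    have h6 : ∀ y ∈ LinearMap.ker (μ x), ∀ a, μ a y ∈ span k {μ x b} := fun y hy a =>
      mem_span_of_dual fun ω hω => by
        have := h1 (x + a) b y ω ω'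
        simp only [map_add, LinearMap.add_apply, LinearMap.mem_ker.1 hy, hω, h2, map_zero] at this
        linear_combination h1 a b y ω ω' - this
    refine ⟨v 0, v 1, μ x b, fun s t e => ?_, fun a => ⟨h6 _ (v 0).2 a, h6 _ (v 1).2 a⟩⟩
    have := Fintype.linearIndependent_iff.1 hv ![s, t] (Subtype.ext (by simpa using e))
    exact ⟨this 0, this 1⟩
  push Not at h1
  obtain ⟨x, a₁, a₂, ω, ω', h1⟩ := h1
  have h2 : ∀ s t : k, s • μ x a₁ + t • μ x a₂ = 0 → s = 0 ∧ t = 0 := fun s t e => by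
    have e1 := congrArg ω e
    have e2 := congrArg ω' e
    simp only [map_add, map_smul, map_zero, smul_eq_mul] at e1 e2
    exact ⟨mul_right_cancel₀ (sub_ne_zero.2 h1) (by linear_combination ω' (μ x a₂) * e1 - ω (μ x a₂) * e2),
      mul_right_cancel₀ (sub_ne_zero.2 h1) (by linear_combination ω (μ x a₁) * e2 - ω' (μ x a₁) * e1)⟩
  have h3 := LinearIndependent.pair_iff.2 h2
  have h4 : finrank k W = 3 := by
    by_contra h
    refine hS x (LinearMap.range_eq_top.1 (top_le_iff.1 ((h3.span_eq_top_of_card_eq_finrank' ?_).ge.trans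
      (span_le.2 ?_))))
    · have := h3.fintype_card_le_finrank
      simp only [Fintype.card_fin] at this ⊢
      omega
    · rintro _ ⟨i, rfl⟩
      fin_cases i <;> exact ⟨_, rfl⟩
  obtain ⟨w, hw⟩ := exists_linearIndependent_cons_of_lt_finrank h3 (by omega)
  let e := basisOfLinearIndependentOfCardEqFinrank hw (by simp [h4])
  have e0 : e 0 = w := by simp [e]
  have e1 : e 1 = μ x a₁ := by simp [e]
  have e2 : e 2 = μ x a₂ := by simp [e]
  clear_value e
  obtain ⟨y, hy, hy0⟩ : ∃ y, μ x y = 0 ∧ y ≠ 0 := by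
    by_contra! h
    exact hS x ((LinearMap.injective_iff_surjective_of_finrank_eq_finrank (hV.trans h4.symm)).1
      ((injective_iff_map_eq_zero _).2 h))
  have hb : ∀ a b c : k, a • y + b • a₁ + c • a₂ = 0 → a = 0 ∧ b = 0 ∧ c = 0 := fun a b c h => by
    obtain ⟨rfl, rfl⟩ := h2 b c (by simpa [hy] using congrArg (μ x) h)
    simpa [hy0] using h
  let b := basisOfLinearIndependentOfCardEqFinrank (li_three.2 hb) (by simp [hV])
  have dec : ∀ a, ∃ ξ r s : k, a = ξ • y + r • a₁ + s • a₂ := fun a =>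
    ⟨b.repr a 0, b.repr a 1, b.repr a 2, by simpa [b, Fin.sum_univ_three] using (b.sum_repr a).symm⟩
  obtain ⟨c, hc⟩ : ∃ c : Fin 3 → V → Dual k V, ∀ i v a, c i v a = e.repr (μ a v) i :=
    ⟨fun i v => e.coord i ∘ₗ μ.flip v, fun _ _ _ => rfl⟩
  have ex : ∀ a v, μ a v = c 0 v a • e 0 + c 1 v a • e 1 + c 2 v a • e 2 := fun a v => by
    rw [hc, hc, hc, ← Fin.sum_univ_three fun i => e.repr (μ a v) i • e i, e.sum_repr]
  obtain ⟨r0, h5⟩ := atk_forms hV (P₀ := c 1 a₁) (P₁ := c 2 a₁) (P₂ := c 0 a₁) (Q₀ := c 1 a₂)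
    (Q₁ := c 2 a₂) (Q₂ := c 0 a₂) (R₀ := c 1 y) (R₁ := c 2 y) (R₂ := c 0 y) (x := x)
    (by simp [hc, ← e1]) (by simp [hc, ← e1]) (by simp [hc, ← e1]) (by simp [hc, ← e2])
    (by simp [hc, ← e2]) (by simp [hc, ← e2]) (by simp [hc, hy]) (by simp [hc, hy]) (by simp [hc, hy])
    (fun a => by
      by_contra h
      have : IsUnit (e.det ![μ a y, μ a a₁, μ a a₂]) := by
        rw [isUnit_iff_ne_zero, Basis.det_apply, Matrix.det_fin_three]
        simp only [Basis.toMatrix_apply, Matrix.cons_val, ← hc]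
        exact fun h' => h (by linear_combination h')
      refine hS a (LinearMap.range_eq_top.1 (top_le_iff.1 ((e.is_basis_iff_det.2 this).2.ge.trans
        (span_le.2 ?_))))
      rintro _ ⟨i, rfl⟩
      fin_cases i <;> exact ⟨_, rfl⟩)
    (fun h => by
      have := hs (e.coord 0) fun a v => by
        obtain ⟨ξ, r, s, rfl⟩ := dec v
        simp [← hc, h.1, h.2.1, h.2.2]
      simpa using LinearMap.congr_fun this (e 0))
    (fun h => hy0 (hR y fun a => by rw [ex]; simp [h.1, h.2.1, h.2.2]))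
  rcases h5 with ⟨α, β, h5, h6, h7, h8⟩ | ⟨φ, h5, h6⟩
  · refine Or.inl ⟨y, α • a₁ + β • a₂, α • e 1 + β • e 2, fun s t h => ?_, fun a => ?_⟩
    · obtain ⟨h9, h10, h11⟩ := hb s (t * α) (t * β) (by linear_combination (norm := module) h)
      exact ⟨h9, by simp only [mul_eq_zero] at h10 h11; tauto⟩
    obtain ⟨ρ, f1, f2⟩ := exists_prop_pair (M := Dual k V) h5 h6
    obtain ⟨π, f3, f4⟩ := exists_prop_pair (M := Dual k V) h5 h8
    refine ⟨mem_span_singleton.2 ⟨ρ a, ?_⟩, mem_span_singleton.2 ⟨π a, ?_⟩⟩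
    · rw [ex a y, r0, f1, f2]
      simp only [LinearMap.zero_apply, LinearMap.smul_apply, smul_eq_mul]; module
    · have f5 := LinearMap.congr_fun f3 a
      have f6 := LinearMap.congr_fun f4 a
      have f7 := LinearMap.congr_fun h7 a
      simp only [LinearMap.zero_apply, LinearMap.smul_apply, smul_eq_mul, LinearMap.add_apply] at f5 f6 f7
      rw [map_add, map_smul, map_smul, ex a a₁, ex a a₂]
      linear_combination (norm := module) -f5 • e 1 - f6 • e 2 - f7 • e 0
  · refine Or.inr ⟨(c 1 y).smulRight a₁ + (c 2 y).smulRight a₂ - φ.smulRight y,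
      LinearMap.injective_iff_surjective.1 ((injective_iff_map_eq_zero _).2 fun a h => ?_), fun a => ?_⟩
    · obtain ⟨h7, h8, h9⟩ := hb (-φ a) (c 1 y a) (c 2 y a) (by
        simp only [LinearMap.sub_apply, LinearMap.add_apply, LinearMap.smulRight_apply] at h
        linear_combination (norm := module) h)
      exact h6 a h8 h9 (neg_eq_zero.1 h7)
    · obtain ⟨h7, h8, h9⟩ := h5 a
      simp only [LinearMap.sub_apply, LinearMap.add_apply, LinearMap.smulRight_apply, map_add, map_sub,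
        map_smul]
      rw [ex a a₁, ex a a₂, ex a y, r0, LinearMap.zero_apply]
      linear_combination (norm := module) h7 • e 1 + h8 • e 2 + h9 • e 0

theorem twist_three [IsAlgClosed k] [FiniteDimensional k V] (hV : finrank k V = 3)
    (m : V →ₗ[k] V →ₗ[k] V) (x : V) (σ : V ≃ₗ[k] V) (hσ : ∀ a, σ a = m a x) (hx : ∀ b, m x b = b)
    (ha : ∀ a b c, m (m a b) c = m (σ a) (m b c))
    (hc : ∀ ψ : Dual k V, (∀ a b, ψ (m a b) = ψ (m b a)) → ψ = 0) :
    (∀ a, σ (σ (σ a)) = a) ∧ ∀ a b, m a (σ b) = m b (σ a) := by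
  have sx : σ x = x := by rw [hσ, hx]
  have sm : ∀ a b, σ (m a b) = m (σ a) (σ b) := fun a b => by rw [hσ (m a b), ha, ← hσ]
  have : Nontrivial V := nontrivial_of_finrank_pos (R := k) (by omega)
  obtain ⟨v, hv, h1⟩ : ∃ v, v ≠ 0 ∧ ∀ a, ∃ c : k, c • v = m a v := by
    have key : ∀ I : Submodule k V, finrank k I = 1 → (∀ a, ∀ b ∈ I, m a b ∈ I) →
        ∃ v, v ≠ 0 ∧ ∀ a, ∃ c : k, c • v = m a v := fun I h1 h2 => by
      obtain ⟨v, hv, h3⟩ := finrank_eq_one_iff'.1 h1
      exact ⟨v, fun e => hv (Subtype.ext e), fun a => (h3 ⟨_, h2 a v v.2⟩).imp fun _ e =>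
        congrArg Subtype.val e⟩
    obtain ⟨y, hy⟩ : ∃ y, y ∉ span k {x} := by
      by_contra! h
      have := finrank_span_le_card (R := k) ({x} : Set V)
      rw [eq_top_iff'.2 h, finrank_top] at this
      simp [hV] at this
    obtain ⟨c, h1⟩ := End.exists_eigenvalue (σ.symm.toLinearMap ∘ₗ m.flip y)
    obtain ⟨u, hu⟩ := h1.exists_hasEigenvector
    have h2 : m u y = c • m u x := by
      rw [← hσ, ← map_smul, ← hu.apply_eq_smul]; simp
    have h3 := (m.flip (y - c • x)).finrank_range_add_finrank_ker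
    have h4 : finrank k (LinearMap.ker (m.flip (y - c • x))) ≠ 0 := fun e =>
      hu.2 ((finrank_eq_zero.1 e).le (show u ∈ LinearMap.ker _ by simp [h2]))
    have h5 : finrank k (LinearMap.range (m.flip (y - c • x))) ≠ 0 := fun e => hy
      (mem_span_singleton.2 ⟨c, (sub_eq_zero.1 ((finrank_eq_zero.1 e).le ⟨x, hx _⟩)).symm⟩)
    by_cases h6 : finrank k (LinearMap.ker (m.flip (y - c • x))) = 1
    · refine key _ h6 fun a b hb => ?_
      rw [LinearMap.mem_ker, LinearMap.flip_apply] at hb ⊢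
      rw [ha, hb, map_zero]
    · refine key (LinearMap.range (m.flip (y - c • x))) (by omega) ?_
      rintro a _ ⟨b, rfl⟩
      exact ⟨m (σ.symm a) b, by simp only [LinearMap.flip_apply, ha, σ.apply_symm_apply]⟩
  obtain ⟨φ, hφ⟩ := Projective.exists_dual_eq_one k hv
  obtain ⟨χ, h2⟩ : ∃ χ : Dual k V, ∀ a, m a v = χ a • v := ⟨φ ∘ₗ m.flip v, fun a => by
    obtain ⟨c, h⟩ := h1 a
    simp [← h, hφ]⟩
  obtain ⟨F, F0, Fs⟩ : ∃ F : ℕ → Dual k V, F 0 = χ ∧ ∀ i a, F (i + 1) a = F i (σ a) :=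
    ⟨fun i => χ ∘ₗ σ.toLinearMap ^ i, rfl, fun i a => by simp [pow_succ]⟩
  have Fx : ∀ i, F i x = 1 := fun i => by
    induction i with
    | zero => exact smul_left_injective k hv (by simp [F0, ← h2, hx])
    | succ i ih => rw [Fs, sx, ih]
  have Fm : ∀ i a b, F i (m a b) = F (i + 1) a * F i b := fun i => by
    induction i with
    | zero => exact fun a b => smul_left_injective k hv (by
        simp only [Fs, F0, ← h2, ha]; simp only [h2, map_smul, smul_smul, mul_comm])
    | succ i ih => exact fun a b => by rw [Fs, sm, ih, ← Fs, ← Fs]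
  have inj : ∀ i j, F (i + 1) = F (j + 1) → F i = F j := fun i j e => LinearMap.ext fun a => by
    rw [← σ.apply_symm_apply a, ← Fs, ← Fs, e]
  have n1 : F 1 ≠ F 0 := fun e => by
    have := hc (F 0) fun a b => by rw [Fm, Fm, e, mul_comm]
    simpa [this] using Fx 0
  have n2 : F 2 ≠ F 0 := fun e => by
    have := hc (F 0 + F 1) fun a b => by simp only [LinearMap.add_apply, Fm, e, zero_add]; ring
    refine n1 (LinearMap.ext fun a => ?_)
    have h3 := LinearMap.congr_fun this a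
    have h4 := LinearMap.congr_fun this x
    simp only [LinearMap.add_apply, LinearMap.zero_apply, Fx] at h3 h4
    linear_combination h3 - F 0 a * h4
  have li : ∀ n, (Function.Injective fun i : Fin n => F i) → LinearIndependent k fun i : Fin n => F i := by
    intro n hn
    letI : MulOneClass V := { mul a b := m (σ.symm a) b
                              one := x
                              one_mul a := by change m (σ.symm x) a = a; rw [← sx]; simp [hx]
                              mul_one a := by change m (σ.symm a) x = a; simp [← hσ] }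
    let G : Fin n → V →* k := fun i => ⟨⟨F i, Fx i⟩, fun a b => by
      change F i (m (σ.symm a) b) = _; simp [Fm, Fs]⟩
    have := (linearIndependent_monoidHom V k).comp G fun i j e => hn
      (LinearMap.ext fun a => DFunLike.congr_fun e a)
    rw [Fintype.linearIndependent_iff] at this ⊢
    exact fun c e => this c (funext fun a => by simpa [G] using LinearMap.congr_fun e a)
  have n3 := fun e => n1 (inj 1 0 e)
  have h3 : F 3 = F 0 := by
    by_contra n4
    have n5 := fun e => n2 (inj 2 0 e)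
    have n6 := fun e => n3 (inj 2 1 e)
    have := (li 4 fun i j e => by
      fin_cases i <;> fin_cases j <;> first | rfl | exact absurd e ‹_› | exact absurd e.symm ‹_›).fintype_card_le_finrank
    simp [hV] at this
  have h4 := (li 3 fun i j e => by
      fin_cases i <;> fin_cases j <;> first | rfl | exact absurd e ‹_› | exact absurd e.symm ‹_›
    ).span_eq_top_of_card_eq_finrank' (by simp [hV])
  have sep : ∀ a b, (∀ i : Fin 3, F i a = F i b) → a = b := fun a b h =>
    sub_eq_zero.1 ((forall_dual_apply_eq_zero_iff k _).1 fun ψ =>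
      (h4.ge.trans (span_le (p := LinearMap.ker (Dual.eval k V (a - b))).2 (by
        rintro _ ⟨i, rfl⟩; simp [h])) : _ ≤ _) mem_top)
  refine ⟨fun a => sep _ _ fun i => ?_, fun a b => sep _ _ fun i => by
    rw [Fm, Fm, ← Fs, ← Fs, mul_comm]⟩
  have h5 : ∀ i a, F (i + 3) a = F i a := fun i => by
    induction i with
    | zero => simp [h3]
    | succ i ih => exact fun a => by rw [add_right_comm, Fs, ih, Fs]
  rw [← Fs, ← Fs, ← Fs, h5]

end Cfsg.Agent.H9
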