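import Mathlib
import Cfsg.Agent.H9.SL3

/-!
Symmetric local algebras with five-dimensional centre have dimension at most eight.
-/

set_option autoImplicit false
set_option linter.unusedSectionVars false

namespace Cfsg.Agent.H9

open Module Submodule

variable {k A V : Type*} [Field k] [Ring A] [Algebra k A] [AddCommGroup V] [Module k V]

theorem exists_basis_three [FiniteDimensional k V] (hV : finrank k V = 3) {x y z : V}
    (h : LinearIndependent k ![x, y, z]) (a : V) : ∃ ξ r s : k, a = ξ • x + r • y + s • z :=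
  let b := basisOfLinearIndependentOfCardEqFinrank h (by simp [hV])
  ⟨b.repr a 0, b.repr a 1, b.repr a 2, by simpa [b, Fin.sum_univ_three] using (b.sum_repr a).symm⟩

theorem mem_span_three_sup {S : Submodule k V} {x y z a : V} :
    a ∈ span k {x, y, z} ⊔ S ↔ ∃ c d e : k, a - (c • x + d • y + e • z) ∈ S := by
  rw [span_insert, sup_assoc]
  simp only [mem_span_sup, mem_span_pair_sup, sub_sub, add_assoc]

theorem Sp.mul {J : Submodule k A} {i j : ℕ} {X W : Set A} (hX : Sp J i X) (hW : Sp J j W) :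
    Sp J (i + j + 1) (Set.image2 (· * ·) X W) :=
  ⟨by rintro _ ⟨a, ha, w, hw, rfl⟩; exact mul_mem_pow_eq (hX.mem a ha) (hW.mem w hw),
    hX.mul_le hW le_sup_right fun a ha w hw => mem_sup_left (subset_span ⟨a, ha, w, hw, rfl⟩)⟩

/-- A three-dimensional space of generators, `J ^ (m + 4)` the socle, `J ^ 2` spanned by
commutators and the socle. -/
structure Tri (J : Submodule k A) (s : A →ₗ[k] k) (ι : V →ₗ[k] A) (m : ℕ) : Prop extends SLA J s where
  dim : finrank k V = 3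
  mem : ∀ a, ι a ∈ J
  gen : ∀ w ∈ J, ∃ a, w - ι a ∈ J ^ 2
  ne : J ^ (m + 4) ≠ ⊥
  top : J ^ (m + 5) = ⊥
  com : J ^ 2 ≤ comK k A ⊔ J ^ 4

namespace Tri

variable {J : Submodule k A} {s : A →ₗ[k] k} {ι : V →ₗ[k] A} {m : ℕ} [FiniteDimensional k V]
  (h : Tri J s ι m)
include h

theorem z {w : A} (hw : w ∈ J ^ (m + 5)) : s w = 0 := by rw [h.top.le hw, map_zero]

theorem le_right {i : ℕ} {S : Submodule k A} (hS : J ^ (i + 2) ≤ S)
    (h1 : ∀ w ∈ J ^ i, ∀ a, w * ι a ∈ S) : J ^ (i + 1) ≤ S :=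
  pow_succ_le_right.2 fun w hw b hb => by
    obtain ⟨a, ha⟩ := h.gen b hb
    simpa [mul_sub] using add_mem (hS (mul_mem_pow_add hw ha)) (h1 w hw a)

theorem le_left {i : ℕ} {S : Submodule k A} (hS : J ^ (i + 2) ≤ S)
    (h1 : ∀ w ∈ J ^ i, ∀ a, ι a * w ∈ S) : J ^ (i + 1) ≤ S :=
  pow_succ_le_left.2 fun b hb w hw => by
    obtain ⟨a, ha⟩ := h.gen b hb
    simpa [sub_mul] using add_mem (hS (mul_mem_pow_eq ha hw)) (h1 w hw a)

theorem sp {x y z : V} (hb : ∀ a, ∃ ξ r s : k, a = ξ • x + r • y + s • z) :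
    Sp J 0 {ι x, ι y, ι z} :=
  ⟨by simp [h.mem], fun w hw => by
    obtain ⟨a, ha⟩ := h.gen w (by simpa using hw)
    obtain ⟨ξ, r, t, rfl⟩ := hb a
    exact mem_span_three_sup.2 ⟨ξ, r, t, by simpa using ha⟩⟩

theorem comK_le_three {x y z : V} (hb : ∀ a, ∃ ξ r s : k, a = ξ • x + r • y + s • z)
    {S : Submodule k A} (hS : ∀ a ∈ J, ∀ w ∈ J ^ 2, a * w - w * a ∈ S) : comK k A ≤
      span k {ι x * ι y - ι y * ι x, ι y * ι z - ι z * ι y, ι z * ι x - ι x * ι z} ⊔ S :=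
  h.comK_le_of fun a ha b hb' => (h.sp hb).comm_mem (h.sp hb)
    (fun a ha w hw => mem_sup_right (hS a (by simpa using ha) w hw))
    (fun a ha w hw => mem_sup_right (by simpa using neg_mem (hS w (by simpa using hw) a ha))) (by
      rintro _ (rfl | rfl | rfl) _ (rfl | rfl | rfl)
      exacts [by simp, mem_span_three_sup.2 ⟨1, 0, 0, by simp⟩,
        mem_span_three_sup.2 ⟨0, 0, -1, by simp⟩, mem_span_three_sup.2 ⟨-1, 0, 0, by simp⟩, by simp,
        mem_span_three_sup.2 ⟨0, 1, 0, by simp⟩, mem_span_three_sup.2 ⟨0, 0, 1, by simp⟩,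
        mem_span_three_sup.2 ⟨0, -1, 0, by simp⟩, by simp])
    (by simpa using ha) (by simpa using hb')

theorem not_vanish (h1 : ∀ w ∈ J ^ (m + 3), ∀ a, s (w * ι a) = 0) : False := by
  obtain ⟨w, hw, h2⟩ := h.exists_s_ne h.ne
  exact h2 (h.le_right (S := LinearMap.ker s) (fun _ => h.z) h1 hw)

theorem s_right {b : V} (h1 : ∀ w ∈ J ^ (m + 2), ∀ a, s (w * (ι a * ι b)) = 0) :
    ∀ w ∈ J ^ (m + 3), s (w * ι b) = 0 := fun _ hw =>
  h.le_right (S := LinearMap.ker (s ∘ₗ LinearMap.mulRight k (ι b)))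
    (fun _ hw => h.z (mul_mem_pow_right hw (h.mem b))) (fun w hw a => by
      simpa [mul_assoc] using h1 w hw a) hw

theorem rad {v : V} (hv : ∀ w ∈ J ^ (m + 3), s (w * ι v) = 0) : v = 0 := by
  by_contra h0
  obtain ⟨z, hz⟩ := exists_linearIndependent_cons_of_lt_finrank (R := k) (v := ![v])
    (by simpa using h0) (by rw [h.dim]; omega)
  obtain ⟨y, hy⟩ := exists_linearIndependent_cons_of_lt_finrank hz (by rw [h.dim]; omega)
  have hb := exists_basis_three h.dim hy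
  have h1 : ∀ w ∈ J ^ (m + 2), ∀ a, s (w * (ι a * ι v)) = 0 ∧ s (w * (ι v * ι a)) = 0 :=
    fun w hw a => ⟨by rw [← mul_assoc, hv _ (mul_mem_pow_right hw (h.mem a))], by
      rw [← mul_assoc, h.tr, ← mul_assoc, hv _ (mul_mem_pow_left (h.mem a) hw)]⟩
  have h2 : ∀ a b, ∃ γ : k, ∀ w ∈ J ^ (m + 2),
      s (w * (ι a * ι b)) = γ * s (w * (ι y * ι z - ι z * ι y)) := fun a b => by
    obtain ⟨c, d, e, h3⟩ := mem_span_three_sup.1 ((sup_le (h.comK_le_three hb (S := J ^ 3)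
      fun _ ha _ hw => h.comm_mem_cube ha hw) (le_sup_of_le_right (h.pow_succ_le 2)))
      (h.com (mul_mem_sq (h.mem a) (h.mem b))))
    refine ⟨c, fun w hw => ?_⟩
    have := h.z (mul_mem_pow_eq hw h3)
    simp only [mul_sub, mul_add, mul_smul_comm, map_sub, map_add, map_smul, h1 w hw] at this ⊢
    linear_combination this
  choose γ hγ using h2
  have h3 : ∀ w ∈ J ^ (m + 2), s (w * (ι y * ι z - ι z * ι y)) = 0 := fun w hw =>
    h.le_left (S := LinearMap.ker (s ∘ₗ LinearMap.mulRight k (ι y * ι z - ι z * ι y)))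
      (fun _ hw => h.z (mul_mem_pow_eq hw (h.comK_le_sq (comm_mem_comK _ _)))) (fun u hu c => by
        by_contra h4
        have := symm_of_shift (β := γ) (l := fun c => s (ι c * u * (ι y * ι z - ι z * ι y)))
          (r := fun a => s (u * ι a * (ι y * ι z - ι z * ι y))) (fun a b c => by
            rw [← hγ _ _ _ (mul_mem_pow_left (h.mem c) hu), ← hγ _ _ _ (mul_mem_pow_right hu (h.mem a)),
              mul_assoc, h.tr]
            simp only [mul_assoc]) h4 y z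
        refine h4 ?_
        change s (ι c * u * _) = 0
        rw [mul_sub, map_sub, hγ _ _ _ (mul_mem_pow_left (h.mem c) hu),
          hγ _ _ _ (mul_mem_pow_left (h.mem c) hu), this, sub_self]) hw
  exact h.not_vanish fun w hw b => h.s_right (fun w hw a => by rw [hγ _ _ _ hw, h3 w hw, mul_zero]) w hw

theorem case_B {y z : V} (hi : ∀ s t : k, s • y + t • z = 0 → s = 0 ∧ t = 0) {c : A} (hc : c ∈ J ^ 2)
    (h1 : ∀ a, (∃ γ : k, ι a * ι y - γ • c ∈ J ^ 3) ∧ ∃ γ : k, ι a * ι z - γ • c ∈ J ^ 3) : False := by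
  have h2 : ∀ a (p q : k), ∃ γ : k, ∀ w ∈ J ^ (m + 2),
      s (w * (ι a * ι (p • y + q • z))) = γ * s (w * c) := fun a p q => by
    obtain ⟨⟨γ, h2⟩, δ, h3⟩ := h1 a
    refine ⟨p * γ + q * δ, fun w hw => ?_⟩
    have h4 := h.z (mul_mem_pow_eq hw h2)
    have h5 := h.z (mul_mem_pow_eq hw h3)
    simp only [mul_sub, mul_add, mul_smul_comm, map_sub, map_add, map_smul, smul_eq_mul] at h4 h5 ⊢
    linear_combination p * h4 + q * h5
  obtain ⟨u₀, hu₀, a₀, h3⟩ : ∃ u ∈ J ^ (m + 1), ∃ a, s (u * ι a * c) ≠ 0 := by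
    by_contra! h3
    have h4 := h.le_right (S := LinearMap.ker (s ∘ₗ LinearMap.mulRight k c))
      (fun _ hw => h.z (mul_mem_pow_eq hw hc)) h3
    exact one_ne_zero (hi 1 0 (h.rad (h.s_right fun w hw a => by
      obtain ⟨γ, e⟩ := h2 a 1 0
      rw [e w hw, show s (w * c) = 0 from h4 hw, mul_zero]))).1
  have hw₀ := mul_mem_pow_right hu₀ (h.mem a₀)
  set w₀ := u₀ * ι a₀
  have h4 : ∀ a (p q : k), ∀ w ∈ J ^ (m + 2), s (w * (ι a * ι (p • y + q • z))) * s (w₀ * c) =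
      s (w₀ * (ι a * ι (p • y + q • z))) * s (w * c) := fun a p q w hw => by
    obtain ⟨γ, e⟩ := h2 a p q
    rw [e w hw, e w₀ hw₀]; ring
  have h5 : ∀ p q : k, p ≠ 0 ∨ q ≠ 0 → (∀ a, s (w₀ * (ι a * ι (p • y + q • z))) = 0) → False :=
    fun p q h5 h6 => by
      have := hi p q (h.rad (h.s_right fun w hw a => mul_right_cancel₀ h3 (by rw [h4 a p q w hw, h6]; simp)))
      tauto
  have h6 : ∀ u ∈ J ^ (m + 1), ∀ a (p q p' q' : k),
      s (w₀ * (ι a * ι (p • y + q • z))) * s (ι (p' • y + q' • z) * u * c) =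
      s (w₀ * (ι (p • y + q • z) * ι (p' • y + q' • z))) * s (u * ι a * c) := fun u hu a p q p' q' => by
    rw [← h4 _ _ _ _ (mul_mem_pow_left (h.mem _) hu), ← h4 _ _ _ _ (mul_mem_pow_right hu (h.mem _)),
      mul_assoc (ι _) u, h.tr (ι _)]
    simp only [mul_assoc]
  by_cases h7 : ∃ p' q' : k, s (ι (p' • y + q' • z) * u₀ * c) ≠ 0
  · obtain ⟨p', q', h7⟩ := h7
    obtain ⟨p, q, h8, h9, -⟩ := exists_ker_two (a := s (w₀ * (ι y * ι (p' • y + q' • z))))
      (b := s (w₀ * (ι z * ι (p' • y + q' • z)))) (c := 0) (d := 0) (by simp)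
    refine h5 p q h8 fun a => mul_right_cancel₀ h7 ?_
    rw [h6 u₀ hu₀, map_add ι (p • y), add_mul, mul_add, map_add, map_smul, map_smul]
    simp only [smul_mul_assoc, mul_smul_comm, map_smul, smul_eq_mul]
    linear_combination s (u₀ * ι a * c) * h9
  · push Not at h7
    obtain ⟨x, hx⟩ := exists_linearIndependent_cons_of_lt_finrank (LinearIndependent.pair_iff.2 hi)
      (by rw [h.dim]; omega)
    obtain ⟨p, q, h8, h9, -⟩ := exists_ker_two (a := s (w₀ * (ι x * ι y)))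
      (b := s (w₀ * (ι x * ι z))) (c := 0) (d := 0) (by simp)
    refine h5 p q h8 fun a => ?_
    obtain ⟨ξ, r, t, rfl⟩ := exists_basis_three h.dim hx a
    have h10 := h6 u₀ hu₀ a₀ r t p q
    rw [h7, mul_zero, eq_comm, mul_eq_zero, or_iff_left h3] at h10
    rw [add_assoc, map_add ι (ξ • x), add_mul, mul_add, map_add, h10]
    simp only [smul_mul_assoc, mul_smul_comm, map_smul, smul_eq_mul, map_add, mul_add]
    linear_combination ξ * h9

theorem case_C {θ : V →ₗ[k] V} (hθ : Function.Surjective θ) (h1 : ∀ a, ι a * ι (θ a) ∈ J ^ 3) :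
    False := by
  obtain ⟨g, hg⟩ : ∃ g : V → V → V → V → A, ∀ a b c d,
    g a b c d = ι a * ι (θ b) * ι (θ (θ c)) * ι (θ (θ (θ d))) := ⟨_, fun _ _ _ _ => rfl⟩
  have g12 : ∀ a c d, g a a c d ∈ J ^ 5 := fun a c d =>
    hg a a c d ▸ mul_mem_pow_right (mul_mem_pow_right (h1 a) (h.mem _)) (h.mem _)
  have g23 : ∀ a b d, g a b b d ∈ J ^ 5 := fun a b d => by
    rw [hg, mul_assoc (ι a)]
    exact mul_mem_pow_right (mul_mem_pow_left (h.mem _) (h1 _)) (h.mem _)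
  have g34 : ∀ a b c, g a b c c ∈ J ^ 5 := fun a b c => by
    rw [hg, mul_assoc]
    exact mul_mem_pow_add (mul_mem_sq (h.mem _) (h.mem _)) (h1 _)
  have s23 : ∀ a b c d, g a c b d ∈ J ^ 5 → g a b c d ∈ J ^ 5 := fun a b c d e => by
    convert sub_mem (sub_mem (sub_mem (g23 a (b + c) d) (g23 a b d)) (g23 a c d)) e using 1
    simp only [hg, map_add, mul_add, add_mul]; abel
  have s34 : ∀ a b c d, g a b d c ∈ J ^ 5 → g a b c d ∈ J ^ 5 := fun a b c d e => by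
    convert sub_mem (sub_mem (sub_mem (g34 a b (c + d)) (g34 a b c)) (g34 a b d)) e using 1
    simp only [hg, map_add, mul_add, add_mul]; abel
  let e := finBasisOfFinrankEq k V h.dim
  have sp : ∀ φ : V →ₗ[k] V, Function.Surjective φ → Sp J 0 (Set.range fun i => ι (φ (e i))) :=
    fun φ hφ => by
      convert h.sp (x := φ (e 0)) (y := φ (e 1)) (z := φ (e 2)) fun a => by
        obtain ⟨b, rfl⟩ := hφ a
        exact ⟨e.repr b 0, e.repr b 1, e.repr b 2, by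
          conv_lhs => rw [← e.sum_repr b, Fin.sum_univ_three]
          simp⟩
      ext; simp [Fin.exists_fin_succ, eq_comm]
  have := ((((sp .id Function.surjective_id).mul (sp θ hθ)).mul (sp (θ ∘ₗ θ) (hθ.comp hθ))).mul
    (sp (θ ∘ₗ θ ∘ₗ θ) (hθ.comp (hθ.comp hθ)))).le
  refine h.ne (le_bot_iff.1 ((h.pow_le (i := 3) (by omega)).trans (h.eq_bot_of_le
    (this.trans (sup_le (span_le.2 ?_) le_rfl))).le))
  rintro _ ⟨_, ⟨_, ⟨_, ⟨i, rfl⟩, _, ⟨j, rfl⟩, rfl⟩, _, ⟨l, rfl⟩, rfl⟩, _, ⟨n, rfl⟩, rfl⟩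
  suffices g (e i) (e j) (e l) (e n) ∈ J ^ 5 by rwa [hg] at this
  rcases (by omega : i = j ∨ j = l ∨ l = n ∨ i = l ∨ j = n ∨ i = n) with
    rfl | rfl | rfl | rfl | rfl | rfl
  exacts [g12 _ _ _, g23 _ _ _, g34 _ _ _, s23 _ _ _ _ (g12 _ _ _), s34 _ _ _ _ (g23 _ _ _),
    s34 _ _ _ _ (s23 _ _ _ _ (g12 _ _ _))]

theorem case_S [IsAlgClosed k] [FiniteDimensional k A] {x : V}
    (h1 : ∀ w ∈ J ^ 2, ∃ a, w - ι x * ι a ∈ J ^ 3) : False := by
  have hX : ∀ i, ι x ^ i ∈ J ^ i := pow_mem_pow J (h.mem x)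
  have s1 : ∀ i, ∀ w ∈ J ^ (i + 1), ∃ a, w - ι x ^ i * ι a ∈ J ^ (i + 2) := fun i => by
    induction i with
    | zero => simpa using h.gen
    | succ i ih =>
      intro w hw
      obtain ⟨_, ⟨a, rfl⟩, b, hb, rfl⟩ := mem_sup.1 (h.le_right (S := LinearMap.range
        (LinearMap.mulLeft k (ι x ^ (i + 1)) ∘ₗ ι) ⊔ J ^ (i + 3)) le_sup_right (fun w hw b => by
          obtain ⟨a, ha⟩ := ih w hw
          obtain ⟨c, hc⟩ := h1 _ (mul_mem_sq (h.mem a) (h.mem b))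
          refine mem_sup.2 ⟨_, ⟨c, rfl⟩, _, add_mem (mul_mem_pow_right ha (h.mem b))
            (mul_mem_pow_add (hX i) hc), ?_⟩
          simp only [LinearMap.comp_apply, LinearMap.mulLeft_apply, pow_succ]
          noncomm_ring) hw)
      exact ⟨a, by simpa using hb⟩
  have s2 : ∀ a, (∀ b, s (ι x ^ (m + 2) * ι a * ι b) = 0) → a = 0 := fun a ha => by
    let B : V →ₗ[k] Dual k V :=
      ((LinearMap.mul k A).compl₁₂ (LinearMap.mulLeft k (ι x ^ (m + 2)) ∘ₗ ι) ι).flip.compr₂ s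
    have hB : Function.Injective B := (injective_iff_map_eq_zero _).2 fun b hb => h.rad fun w hw => by
      obtain ⟨c, hc⟩ := s1 _ w hw
      have := h.z (mul_mem_pow_right hc (h.mem b))
      rwa [sub_mul, map_sub, show s (ι x ^ (m + 2) * ι c * ι b) = 0 from LinearMap.congr_fun hb c,
        sub_zero] at this
    refine (forall_dual_apply_eq_zero_iff k a).1 fun φ => ?_
    obtain ⟨b, rfl⟩ := (LinearMap.injective_iff_surjective_of_finrank_eq_finrank (by simp)).1 hB φ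
    exact ha b
  have s3 : ∀ j ≤ m + 2, ∀ a, ι x ^ j * ι a ∈ J ^ (j + 2) → a = 0 := fun j hj a ha => s2 a fun b => by
    obtain ⟨i, hi⟩ := Nat.exists_eq_add_of_le' hj
    rw [hi, pow_add, mul_assoc (ι x ^ i)]
    exact h.z (mul_mem_pow_eq (mul_mem_pow_add (hX i) ha) (show ι b ∈ J ^ 1 by simpa using h.mem b))
  obtain ⟨g, hg⟩ := ((J ^ 3).mkQ ∘ₗ LinearMap.mulLeft k (ι x) ∘ₗ ι).exists_leftInverse_of_injective
    (LinearMap.ker_eq_bot'.2 fun a ha => s3 1 (by omega) a (by simpa using ha))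
  obtain ⟨ρ, r1, r2⟩ : ∃ ρ : A →ₗ[k] V, (∀ a, ρ (ι x * ι a) = a) ∧ ∀ w ∈ J ^ 3, ρ w = 0 :=
    ⟨g ∘ₗ (J ^ 3).mkQ, fun a => LinearMap.congr_fun hg a, fun w hw => by
      simp [(Submodule.Quotient.mk_eq_zero _).2 hw]⟩
  have r3 : ∀ w ∈ J ^ 2, w - ι x * ι (ρ w) ∈ J ^ 3 := fun w hw => by
    obtain ⟨a, ha⟩ := h1 w hw
    rwa [show ρ w = a by simpa [r1, sub_eq_zero] using r2 _ ha]
  obtain ⟨μ, hμ⟩ : ∃ μ : V →ₗ[k] V →ₗ[k] V, ∀ a b, μ a b = ρ (ι a * ι b) :=
    ⟨((LinearMap.mul k A).compl₁₂ ι ι).compr₂ ρ, fun _ _ => rfl⟩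
  have m1 : ∀ a b, ι a * ι b - ι x * ι (μ a b) ∈ J ^ 3 := fun a b =>
    hμ a b ▸ r3 _ (mul_mem_sq (h.mem a) (h.mem b))
  have s4 : Function.Injective (μ.flip x) := (injective_iff_map_eq_zero _).2 fun a ha =>
    h.rad fun w hw => by
      obtain ⟨c, hc⟩ := s1 _ w hw
      have e1 := h.z (mul_mem_pow_right hc (h.mem a))
      have e2 := h.z (mul_mem_pow_right (mul_mem_pow_eq (n := m + 4) (m1 a x) (hX (m + 1))) (h.mem c))
      rw [show μ a x = 0 from ha, map_zero, mul_zero, sub_zero, mul_assoc, mul_assoc, h.tr,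
        ← mul_assoc, ← pow_succ'] at e2
      rwa [sub_mul, map_sub, e2, sub_zero] at e1
  obtain ⟨σ, hσ⟩ : ∃ σ : V ≃ₗ[k] V, ∀ a, σ a = μ a x :=
    ⟨LinearEquiv.ofInjectiveEndo _ s4, fun _ => rfl⟩
  have ha : ∀ a b c, μ (μ a b) c = μ (σ a) (μ b c) := fun a b c =>
    sub_eq_zero.1 (s3 2 (by omega) _ (by
      convert add_mem (add_mem (mul_mem_pow_left (h.mem a) (m1 b c)) (mul_mem_pow_right (m1 a x)
        (h.mem (μ b c)))) (sub_mem (sub_mem (mul_mem_pow_left (h.mem x) (m1 (σ a) (μ b c)))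
        (mul_mem_pow_left (h.mem x) (m1 (μ a b) c))) (mul_mem_pow_right (m1 a b) (h.mem c))) using 1
      simp only [hσ, map_sub]; noncomm_ring))
  let e := finBasisOfFinrankEq k V h.dim
  have hb : ∀ a, ∃ ξ r s : k, a = ξ • e 0 + r • e 1 + s • e 2 := fun a =>
    ⟨e.repr a 0, e.repr a 1, e.repr a 2, by rw [← Fin.sum_univ_three fun i => e.repr a i • e i, e.sum_repr]⟩
  obtain ⟨σ3, σc⟩ := twist_three h.dim μ x σ hσ (fun b => by rw [hμ, r1]) ha fun ψ hψ =>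
    LinearMap.ext fun a => by
      have := (sup_le ((h.comK_le_three hb (S := LinearMap.ker (ψ ∘ₗ ρ)) fun _ ha _ hw => by
        simp [r2 _ (h.comm_mem_cube ha hw)]).trans (sup_le (span_le.2 (by
          rintro _ (rfl | rfl | rfl) <;> simp [← hμ, hψ (e 0), hψ (e 1) (e 2)])) le_rfl))
        (fun w hw => by simp [r2 _ (h.pow_succ_le 2 hw)])) (h.com (mul_mem_sq (h.mem x) (h.mem a)))
      simpa [r1] using this
  have s8 : ∀ j a, ∃ b, ι a * ι x ^ j - ι x ^ j * ι b ∈ J ^ (j + 2) := fun j a =>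
    s1 j _ (mul_mem_pow_left (h.mem a) (hX j))
  have l1 : ∀ a b, s (ι x ^ (m + 2) * ι a * ι b) = s (ι x ^ (m + 3) * ι (μ a b)) := fun a b => by
    have := h.z (mul_mem_pow_eq (hX (m + 2)) (m1 a b))
    rwa [mul_sub, map_sub, sub_eq_zero, ← mul_assoc, ← mul_assoc, ← pow_succ] at this
  have l2 : ∀ a, s (ι x ^ (m + 3) * ι (σ a)) = s (ι x ^ (m + 3) * ι a) := fun a => by
    rw [hσ, ← l1, h.tr, ← mul_assoc, ← pow_succ']
  have sm : ∀ a b, σ (μ a b) = μ (σ a) (σ b) := fun a b => by rw [hσ (μ a b), ha, ← hσ]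
  have s9 : ∀ a, ι a * ι x ^ (m + 1) - ι x ^ (m + 1) * ι a ∈ J ^ (m + 3) := fun a => by
    obtain ⟨b, hb⟩ := s8 (m + 1) a
    suffices b = a by rwa [this] at hb
    refine σ.injective (sub_eq_zero.1 (s2 _ fun c => ?_))
    have e1 := h.z (mul_mem_pow_eq hb (mul_mem_sq (h.mem x) (h.mem c)))
    have e2 := h.z (mul_mem_pow_right (mul_mem_pow_eq (n := m + 4) (hX (m + 1)) (m1 b x)) (h.mem c))
    have e3 : s (ι a * ι x ^ (m + 1) * (ι x * ι c)) = s (ι x ^ (m + 2) * ι (σ a) * ι c) := by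
      rw [mul_assoc, h.tr, ← mul_assoc, ← pow_succ, l1, l1, ← σ3 a, ← σc, ← l2 (μ (σ (σ (σ (σ a)))) c),
        sm, σ3]
    simp only [sub_mul, mul_sub, map_sub, ← hσ, e3] at e1 e2 ⊢
    simp only [pow_succ _ (m + 1), mul_assoc] at e1 e2 ⊢
    linear_combination -e1 - e2
  have d1 : finrank k ↥(J ^ 3) + 3 ≤ finrank k ↥(J ^ 2) := by
    have e1 := (ρ.domRestrict (J ^ 2)).finrank_range_add_finrank_ker
    rw [LinearMap.range_eq_top.2 fun a => ⟨⟨_, mul_mem_sq (h.mem x) (h.mem a)⟩, r1 a⟩, finrank_top,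
      h.dim] at e1
    have e2 := finrank_mono (show comap (J ^ 2).subtype (J ^ 3) ≤ LinearMap.ker (ρ.domRestrict (J ^ 2))
      from fun w hw => r2 _ hw)
    rw [(comapSubtypeEquivOfLe h.cube_le).finrank_eq] at e2
    omega
  set S := LinearMap.ker (s ∘ₗ LinearMap.mulLeft k (ι x ^ (m + 1))) ⊓ J ^ 3
  have d2 := finrank_mono (h.com.trans (sup_le (h.comK_le_three hb (S := S) fun a ha w hw =>
    ⟨?_, h.comm_mem_cube ha hw⟩) (le_sup_of_le_right (le_inf (fun w hw =>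
      h.z (mul_mem_pow_eq (hX (m + 1)) hw)) (h.pow_succ_le 2)))))
  · rw [span_insert, span_insert, sup_assoc, sup_assoc] at d2
    have d3 := d2.trans ((finrank_span_sup_le _ _).trans (Nat.succ_le_succ
      ((finrank_span_sup_le _ _).trans (Nat.succ_le_succ (finrank_span_sup_le _ _)))))
    have d4 := (eq_of_le_of_finrank_le (S₁ := S) inf_le_right (by omega)).ge.trans inf_le_left
    refine h.not_vanish fun w hw a => ?_
    obtain ⟨c, hc⟩ := s1 _ w hw
    have e1 := h.z (mul_mem_pow_right hc (h.mem a))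
    have e2 : s (ι x ^ (m + 1) * _) = 0 :=
      d4 (mul_mem_pow_left (h.mem x) (mul_mem_sq (h.mem c) (h.mem a)))
    rwa [sub_mul, map_sub, pow_succ _ (m + 1), mul_assoc, mul_assoc, e2, sub_zero] at e1
  · obtain ⟨b, hb⟩ := h.gen a ha
    have e1 := h.z (mul_mem_pow_eq (hX (m + 1)) (comm_mem_pow (n := 4) hb hw))
    have e2 := h.z (mul_mem_pow_eq (s9 b) hw)
    change s (ι x ^ (m + 1) * _) = 0
    simp only [sub_mul, mul_sub, map_sub, mul_assoc] at e1 e2 ⊢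
    rw [h.tr (ι b), mul_assoc] at e2
    linear_combination e1 - e2

theorem elim [IsAlgClosed k] [FiniteDimensional k A]
    (hc : finrank k ↥(J ^ 2) ≤ finrank k ↥(J ^ 3) + 3) : False := by
  obtain ⟨π, hπ⟩ := (comap (J ^ 2).subtype (J ^ 3)).mkQ.exists_extend
  have p1 : ∀ w (hw : w ∈ J ^ 2), π w = Submodule.Quotient.mk ⟨w, hw⟩ := fun w hw =>
    LinearMap.congr_fun hπ ⟨w, hw⟩
  have p2 : ∀ w ∈ J ^ 2, π w = 0 ↔ w ∈ J ^ 3 := fun w hw => by
    rw [p1 w hw, Submodule.Quotient.mk_eq_zero]; rfl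
  have p3 := (comap (J ^ 2).subtype (J ^ 3)).finrank_quotient_add_finrank
  rw [(comapSubtypeEquivOfLe h.cube_le).finrank_eq] at p3
  have q := fun a b => mul_mem_sq (h.mem a) (h.mem b)
  rcases atkinson h.dim (by omega) (((LinearMap.mul k A).compl₁₂ ι ι).compr₂ π) (fun ω hω => by
      refine LinearMap.ext fun v => ?_
      obtain ⟨⟨w, hw⟩, rfl⟩ := Submodule.Quotient.mk_surjective _ v
      rw [← p1]
      refine h.le_right (S := LinearMap.ker (ω ∘ₗ π)) (fun w hw => by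
        simp [(p2 w (h.cube_le hw)).2 hw]) (fun w hw b => ?_) hw
      obtain ⟨a, ha⟩ := h.gen w (by simpa using hw)
      have := mul_mem_pow_right ha (h.mem b)
      have := (p2 _ (h.cube_le this)).2 this
      rw [sub_mul, map_sub, sub_eq_zero] at this
      exact (congrArg ω this).trans (hω a b))
    (fun b hb => h.rad (h.s_right fun w hw a => h.z (mul_mem_pow_eq hw ((p2 _ (q a b)).1 (hb a))))) with
    ⟨x, hx⟩ | ⟨y, z, w, h1, h2⟩ | ⟨θ, h1, h2⟩
  · refine h.case_S (x := x) fun w hw => ?_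
    obtain ⟨a, ha⟩ := hx (π w)
    exact ⟨a, (p2 _ (sub_mem hw (q x a))).1 (by rw [map_sub, ← ha]; exact sub_self _)⟩
  · obtain ⟨⟨c, hc⟩, rfl⟩ := Submodule.Quotient.mk_surjective _ w
    rw [← p1] at h2
    have : ∀ a b, π (ι a * ι b) ∈ span k {π c} → ∃ γ : k, ι a * ι b - γ • c ∈ J ^ 3 := fun a b e => by
      obtain ⟨γ, e⟩ := mem_span_singleton.1 e
      exact ⟨γ, (p2 _ (sub_mem (q a b) (smul_mem _ _ hc))).1 (by rw [map_sub, map_smul, e, sub_self])⟩
    exact h.case_B h1 hc fun a => ⟨this _ _ (h2 a).1, this _ _ (h2 a).2⟩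
  · exact h.case_C h1 fun a => (p2 _ (q _ _)).1 (h2 a)

end Tri

theorem SLA.le_eight [IsAlgClosed k] [FiniteDimensional k A] {J : Submodule k A} {s : A →ₗ[k] k}
    (h : SLA J s) (h5 : finrank k A ≤ finrank k (comK k A) + 5) : finrank k A ≤ 8 := by
  by_cases hK : comK k A = ⊥
  · rw [hK, finrank_bot] at h5; omega
  have h3 : J ^ 3 ≠ ⊥ := fun e => hK (h.comm_of_cube e)
  have : Nontrivial A := by
    by_contra! hA
    exact hK (Subsingleton.elim _ _)
  have h1 := h.finrank_J_lt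
  have h1' := h.finrank_le_J
  have a1 : ∀ n, J ^ (n + 2) ≠ ⊥ → finrank k (comK k A) < finrank k ↥(comK k A ⊔ J ^ (n + 2)) :=
    fun n hn => finrank_lt_finrank_of_lt (h.comK_lt hn)
  have a2 : ∀ n, comK k A ⊔ J ^ (n + 2) ≤ J ^ 2 := fun n => sup_le h.comK_le_sq (h.pow_le (by omega))
  have a3 := (a1 1 h3).trans_le (finrank_mono (a2 1))
  have a4 : ¬ finrank k J ≤ finrank k ↥(J ^ 2) + 1 := fun e => hK (h.comm_of_finrank e)
  by_cases hJ : finrank k J = finrank k ↥(J ^ 2) + 2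
  · exact h.eight_of_two h5 hJ
  have a5 : ∀ n, J ^ (n + 2) ≠ ⊥ → J ^ 2 ≤ comK k A ⊔ J ^ (n + 2) := fun n hn =>
    (eq_of_le_of_finrank_le (a2 n) (by have := a1 n hn; omega)).ge
  obtain ⟨x, hx, e1⟩ := exists_span_sup_le h.sq_le (n := 2) (by omega)
  obtain ⟨y, hy, z, hz, e2⟩ := exists_pair_sup (sup_le ((span_singleton_le_iff_mem _ _).2 hx) h.sq_le) e1.le
  let ι := Fintype.linearCombination k ![x, y, z]
  have i1 : ∀ a, ι a = a 0 • x + a 1 • y + a 2 • z := fun a => by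
    simp [ι, Fintype.linearCombination_apply, Fin.sum_univ_three]
  have i2 : ∀ a, ι a ∈ J := fun a =>
    i1 a ▸ add_mem (add_mem (smul_mem _ _ hx) (smul_mem _ _ hy)) (smul_mem _ _ hz)
  have i3 : ∀ w ∈ J, ∃ a, w - ι a ∈ J ^ 2 := fun w hw => by
    obtain ⟨c, d, e3⟩ := mem_span_pair_sup.1 (e2 hw)
    obtain ⟨b, e4⟩ := mem_span_sup.1 e3
    exact ⟨![b, c, d], by convert e4 using 1; simp only [i1, Matrix.cons_val]; abel⟩
  have hX : Sp J 0 {x, y, z} := ⟨by simp [hx, hy, hz], fun w hw => by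
    obtain ⟨a, ha⟩ := i3 w (by simpa using hw)
    exact mem_span_three_sup.2 ⟨_, _, _, i1 a ▸ ha⟩⟩
  have d2 := finrank_mono ((a5 1 h3).trans (sup_le (h.comK_le_of (S := span k {x * y - y * x,
    y * z - z * y, z * x - x * z} ⊔ J ^ 3) fun a ha b hb' => hX.comm_mem hX
    (fun a ha w hw => mem_sup_right (comm_mem_pow ha hw))
    (fun a ha w hw => mem_sup_right (comm_mem_pow ha hw)) (by
      rintro _ (rfl | rfl | rfl) _ (rfl | rfl | rfl)
      exacts [by simp, mem_span_three_sup.2 ⟨1, 0, 0, by simp⟩,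
        mem_span_three_sup.2 ⟨0, 0, -1, by simp⟩, mem_span_three_sup.2 ⟨-1, 0, 0, by simp⟩, by simp,
        mem_span_three_sup.2 ⟨0, 1, 0, by simp⟩, mem_span_three_sup.2 ⟨0, 0, 1, by simp⟩,
        mem_span_three_sup.2 ⟨0, -1, 0, by simp⟩, by simp])
    (by simpa using ha) (by simpa using hb')) le_sup_right))
  rw [span_insert, span_insert, sup_assoc, sup_assoc] at d2
  have d3 := d2.trans ((finrank_span_sup_le _ _).trans (Nat.succ_le_succ
    ((finrank_span_sup_le _ _).trans (Nat.succ_le_succ (finrank_span_sup_le _ _)))))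
  by_cases h4 : J ^ 4 = ⊥
  · have : finrank k ↥(J ^ 3) ≤ 1 := h.finrank_top_le h4
    omega
  obtain ⟨m, h6, h7⟩ := h.exists_top (n := 3) h4
  exact (Tri.elim (ι := ι) (m := m) ⟨h, by simp, i2, i3, h6, h7, a5 2 h4⟩ (by omega)).elim

end Cfsg.Agent.H9
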