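import Mathlib
import Cfsg.Agent.H9.SLA
import Cfsg.Agent.H9.KB

/-!
The basic algebra of a block with one simple module.
-/

set_option autoImplicit false
set_option linter.unusedSectionVars false

namespace Cfsg.Agent.H9

open Module MonoidAlgebra Cfsg
open Cfsg.Agent.H8 (resField eB Zen orbS)

local notation "𝐂" Q => Subgroup.centralizer (SetLike.coe (Q : Subgroup _))

universe v

section Corner

variable {k R : Type*} [Field k] [Ring R] [Algebra k R] {e : R} (he : IsIdempotentElem e)

theorem corner_left (a : he.Corner) : e * a.1 = a.1 := ((Subsemigroup.mem_corner_iff he).1 a.2).1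

theorem corner_right (a : he.Corner) : a.1 * e = a.1 := ((Subsemigroup.mem_corner_iff he).1 a.2).2

variable (k) in
/-- The structure map of a corner algebra. -/
def cornerMap : k →+* he.Corner where
  toFun c := ⟨c • e, (Subsemigroup.mem_corner_iff he).2 (by simp [he.eq])⟩
  map_one' := Subtype.ext (one_smul k e)
  map_mul' c d := Subtype.ext (by
    change (c * d) • e = c • e * d • e
    rw [smul_mul_smul_comm, he.eq])
  map_zero' := Subtype.ext (zero_smul k e)
  map_add' c d := Subtype.ext (add_smul c d e)

instance cornerAlgebra : Algebra k he.Corner :=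
  (cornerMap k he).toAlgebra' fun c a => Subtype.ext (by
    change c • e * a.1 = a.1 * c • e
    rw [smul_mul_assoc, mul_smul_comm, corner_left, corner_right])

variable (k) in
/-- The inclusion of a corner algebra. -/
def cornerVal : he.Corner →ₗ[k] R where
  toFun a := a.1
  map_add' _ _ := rfl
  map_smul' c a := by
    change c • e * a.1 = c • a.1
    rw [smul_mul_assoc, corner_left]

variable (k) in
/-- The projection onto a corner algebra. -/
def cornerProj : R →ₗ[k] he.Corner where
  toFun a := ⟨e * a * e, a, rfl⟩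
  map_add' a b := Subtype.ext (by
    change e * (a + b) * e = e * a * e + e * b * e
    rw [mul_add, add_mul])
  map_smul' c a := Subtype.ext (by
    change e * (c • a) * e = c • e * (e * a * e)
    simp only [smul_mul_assoc, mul_smul_comm, ← mul_assoc, he.eq])

theorem cornerProj_mul (a b : R) :
    cornerProj k he a * cornerProj k he b = cornerProj k he (a * e * b) := Subtype.ext (by
  change e * a * e * (e * b * e) = e * (a * e * b) * e
  simp only [← mul_assoc]
  rw [mul_assoc _ e e, he.eq])

theorem cornerVal_inj : Function.Injective (cornerVal k he) := Subtype.val_injective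

theorem cornerVal_mul (a b : he.Corner) :
    cornerVal k he (a * b) = cornerVal k he a * cornerVal k he b := rfl

theorem cornerVal_proj (a : R) : cornerVal k he (cornerProj k he a) = e * a * e := rfl

theorem cornerVal_left (a : he.Corner) : e * cornerVal k he a = cornerVal k he a := corner_left he a

theorem cornerVal_right (a : he.Corner) : cornerVal k he a * e = cornerVal k he a :=
  corner_right he a

theorem cornerProj_val (a : he.Corner) : cornerProj k he (cornerVal k he a) = a :=
  cornerVal_inj (k := k) he (by rw [cornerVal_proj, cornerVal_left, cornerVal_right])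

end Corner

variable {M : Ideal AlgInt} [hMm : M.IsMaximal] {p : ℕ} [hp : Fact p.Prime] [hM : PMod M p]
variable {G : Type v} [Group G] [Finite G] {B : Set (IrrCharacter G)}

theorem finrank_le_comK {k : Type*} [Field k] {b : k[G]} (hbc : ∀ a, b * a = a * b) {N : ℕ}
    (hU : ∀ (m : ℕ) (z : Fin m → k[G]), (∀ j, z j ∈ Zen k G) → (∀ j, z j * b = z j) →
      LinearIndependent k z → m ≤ N) {i : k[G]} {n : ℕ}
    {u v : Fin n → k[G]} (huv : ∑ r, u r * i * v r = b) {A : Type*} [Ring A]
    [Algebra k A] [FiniteDimensional k A]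
    (π : k[G] →ₗ[k] A) (hmul : ∀ a b, π a * π b = π (a * i * b))
    (hp : ∀ x, π (b * x) = π x) (hs : ∀ a, ∃ x, i * x = x ∧ π x = a) :
    finrank k A ≤ finrank k (comK k A) + N := by
  rw [← (comK k A).finrank_quotient_add_finrank, add_comm, add_le_add_iff_left]
  let T : k[G] →ₗ[k] A :=
    ∑ r, π ∘ₗ LinearMap.mulLeft _ (v r) ∘ₗ LinearMap.mulRight _ (u r)
  have hT : ∀ x, T x = ∑ r, π (v r * (x * u r)) := fun x => by simp [T]
  have hTb : ∀ x, T (b * x) = T x := fun x => by
    simp only [hT, mul_assoc, ← mul_assoc (v _) b, ← hbc, hp]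
  have hT2 : ∀ x y, T (x * y) = ∑ r, ∑ r', π (v r * x * u r') * π (v r' * y * u r) := fun x y => by
    rw [← hTb, ← mul_assoc, hbc, ← huv, hT]
    simp only [Finset.mul_sum, Finset.sum_mul, map_sum, hmul, mul_assoc]
  have htr : ∀ a b, (comK k A).mkQ (a * b) = (comK k A).mkQ (b * a) := fun a b =>
    (Submodule.Quotient.eq _).2 (comm_mem_comK a b)
  have htT : ∀ x y, (comK k A).mkQ (T (x * y)) = (comK k A).mkQ (T (y * x)) := fun x y => by
    rw [hT2, hT2, Finset.sum_comm]
    simp only [map_sum, htr (π (v _ * x * _))]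
  have hTx : ∀ x, i * x = x → (comK k A).mkQ (T x) = (comK k A).mkQ (π x) := fun x hx => by
    rw [hT, map_sum, Finset.sum_congr rfl (g := fun r =>
      (comK k A).mkQ (π (x * (u r * i * v r)))) fun r _ => by
        rw [← hx, ← mul_assoc, ← mul_assoc, mul_assoc _ x, ← hmul, htr, hmul, hx]
        simp only [mul_assoc], ← map_sum, ← map_sum, ← Finset.mul_sum, huv, ← hbc, hp]
  let β := finBasis k (A ⧸ comK k A)
  let z := fun j => zf (G := G) (β.coord j ∘ₗ (comK k A).mkQ ∘ₗ T) (1 : k[G])
  have hz : ∀ j a, (z j * a).coeff 1 = β.coord j ((comK k A).mkQ (T a)) := fun t a =>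
    (coeff_zf_mul _ 1 a).trans (by simp)
  have hz' : ∀ j a g, (z j * a).coeff g = β.coord j ((comK k A).mkQ (T (a * single g⁻¹ 1))) :=
    fun t a g => by rw [← coeff_single_inv_mul, coeff_one_comm, mul_assoc, hz]
  refine hU _ z (fun j => Subalgebra.mem_center_iff.2 fun a => ext_coeff fun g => ?_)
    (fun j => ext_coeff fun g => ?_) (Fintype.linearIndependent_iff.2 fun c hc j => ?_)
  · rw [hz', htT, ← hz, coeff_one_comm, mul_assoc, coeff_single_inv_mul]
  · rw [hz', hTb, ← one_mul (single g⁻¹ 1), ← hz', mul_one]
  · obtain ⟨a, ha⟩ := (comK k A).mkQ_surjective (β j)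
    obtain ⟨x, hx, rfl⟩ := hs a
    have := congrArg (fun y : k[G] => (y * x).coeff 1) hc
    simpa [Finset.sum_mul, hz, hTx x hx, ha, Finsupp.single_apply] using this

theorem exists_sla (hB : IsPBlock M B) (hl : blockRank p B = 1) :
    ∃ (A : Type v) (_ : Ring A) (_ : Algebra (resField M) A) (_ : FiniteDimensional (resField M) A)
      (J : Submodule (resField M) A) (s : A →ₗ[resField M] resField M), SLA J s ∧
      finrank (resField M) A = p ^ blockDefect p B ∧
      finrank (resField M) A ≤ finrank (resField M) (comK (resField M) A) + Nat.card B := by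
  obtain ⟨i, hii, hbi, ⟨n, u, v, huv⟩, hdim, -, I, hI, N, hN⟩ := exists_morita hB hl
  have he : IsIdempotentElem i := hii
  have hU := H8.isBlockUnion_of_block hB
  have hbc := H8.Zen_comm (H8.eB_mem_Zen (M := M) B)
  have hinj := cornerVal_inj (k := resField M) he
  have hfd := FiniteDimensional.of_injective _ hinj
  have hb : ∀ a, cornerVal (resField M) he a * eB M B = cornerVal (resField M) he a := fun a => by
    rw [← cornerVal_right he a, mul_assoc, ← hbc, hbi]
  let J : Submodule (resField M) he.Corner :=
    (I.asIdeal.restrictScalars (resField M)).comap (cornerVal (resField M) he)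
  have hJ : ∀ a, a ∈ J ↔ cornerVal (resField M) he a ∈ I := fun _ => Iff.rfl
  refine ⟨he.Corner, inferInstance, inferInstance, hfd, J,
    Finsupp.lapply 1 ∘ₗ (coeffLinearEquiv _).toLinearMap ∘ₗ cornerVal (resField M) he,
    ⟨fun a => ?_, fun a ha b _ => I.mul_mem_right _ _ ha, ⟨N, eq_bot_iff.2 ?_⟩,
      fun a b => coeff_one_comm (cornerVal (resField M) he a) (cornerVal (resField M) he b),
      fun w hw => hinj (ext_coeff fun g => ?_)⟩, ?_, ?_⟩
  · obtain ⟨c, hc⟩ := hI (cornerVal (resField M) he a)
    rw [cornerVal_left, cornerVal_right] at hc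
    exact ⟨c, hc⟩
  · have : ∀ m, J ^ (m + 1) ≤ (Submodule.span (resField M)
        {x | ∃ l : List (resField M)[G], (∀ a ∈ l, a ∈ I) ∧ m ≤ l.length ∧ l.prod = x}).comap
          (cornerVal (resField M) he) := fun m => by
      induction m with
      | zero => exact fun a ha => Submodule.subset_span ⟨[_], by simpa [hJ] using ha, by simp, by simp⟩
      | succ m ih =>
        refine pow_succ_le_left.2 fun a ha b hb => ?_
        rw [Submodule.mem_comap, cornerVal_mul]
        refine Submodule.span_induction (p := fun x _ => cornerVal (resField M) he a * x ∈ _) ?_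
          (by simp) (fun x y _ _ hx hy => by rw [mul_add]; exact add_mem hx hy)
          (fun c x _ hx => by rw [mul_smul_comm]; exact Submodule.smul_mem _ c hx) (ih hb)
        rintro _ ⟨l, h1, h2, rfl⟩
        exact Submodule.subset_span ⟨_ :: l, by simpa using ⟨ha, h1⟩, by simpa, by simp⟩
    intro a ha
    refine hinj ((hb a).symm.trans ?_)
    refine Submodule.span_induction (p := fun x _ => x * eB M B = _) ?_ (by simp)
      (fun x y _ _ hx hy => by rw [add_mul, hx, hy, ← map_add, add_zero])
      (fun c x _ hx => by rw [smul_mul_assoc, hx, ← map_smul, smul_zero]) (this N ha)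
    rintro _ ⟨l, h1, h2, rfl⟩
    exact hN l h1 h2
  · have := hw (cornerProj (resField M) he (single g⁻¹ 1))
    change (cornerVal (resField M) he (w * _)).coeff 1 = 0 at this
    rw [cornerVal_mul, cornerVal_proj, ← mul_assoc, coeff_one_comm, ← mul_assoc, ← mul_assoc,
      cornerVal_left, cornerVal_right, coeff_one_comm, coeff_single_inv_mul] at this
    exact this
  · rw [← hdim, ← LinearMap.finrank_range_of_inj hinj, show LinearMap.range (cornerVal (resField M) he) =
      LinearMap.range (sand (R := resField M) i i) from ?_]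
    ext a
    constructor
    · rintro ⟨b, rfl⟩
      exact ⟨cornerVal (resField M) he b, by rw [sand_apply, cornerVal_right, cornerVal_left]⟩
    · rintro ⟨b, rfl⟩
      exact ⟨cornerProj (resField M) he b, mul_assoc _ _ _⟩
  · exact finrank_le_comK hbc (fun m z h1 h2 h3 => by
      simpa using card_le_card_of_li hU h1 h2 h3) huv (cornerProj (resField M) he) (cornerProj_mul he)
      (fun x => hinj (by rw [cornerVal_proj, cornerVal_proj, ← mul_assoc, ← hbc, hbi]))
      fun a => ⟨_, cornerVal_left he a, cornerProj_val he a⟩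

theorem card_le_pow_of_rank_one (hB : IsPBlock M B) (hl : blockRank p B = 1) :
    Nat.card B ≤ p ^ blockDefect p B := by
  obtain ⟨-, d, -, h1, -, h2, -⟩ := exists_of_rank_one hB hl
  rw [← h1, ← card_bs]
  simpa using Finset.card_nsmul_le_sum (bs B) (fun χ => d χ ^ 2) 1 fun χ hχ =>
    Nat.one_le_pow _ _ (Nat.pos_of_ne_zero (h2 χ (mem_bs.1 hχ)))

theorem card_eq_pow_of_le_four (hB : IsPBlock M B) (hl : blockRank p B = 1)
    (h4 : Nat.card B ≤ 4) : Nat.card B = p ^ blockDefect p B := by
  obtain ⟨A, _, _, _, J, s, h, h1, h2⟩ := exists_sla hB hl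
  refine (card_le_pow_of_rank_one hB hl).antisymm ?_
  rwa [h.comm_of_le_four (by omega), finrank_bot, zero_add, h1] at h2

end Cfsg.Agent.H9
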