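import Mathlib
import Cfsg.Agent.H9.SL4
import Cfsg.Agent.H9.SLB
import Cfsg.Agent.H9.KB
import Cfsg.Agent.H9.PI

/-!
Parity of `l(B)` and `k(B)` for small abelian defect groups, blocks with `l(B) = 1`, `k(B) = 5`.
-/

set_option autoImplicit false
set_option linter.unusedSectionVars false

namespace Cfsg.Agent.H9

open MonoidAlgebra Cfsg
open Cfsg.Agent.H8 (resField)
open Subgroup (zpowers)

local notation "𝐂" Q => Subgroup.centralizer (SetLike.coe (Q : Subgroup _))
local notation "𝐙" x => Subgroup.centralizer (Singleton.singleton x : Set _)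

variable {M : Ideal AlgInt} [hMm : M.IsMaximal] {G : Type*} [Group G] [Finite G]
  {B : Set (IrrCharacter G)} {D : Subgroup G}

theorem le_centralizer_of_comm (h : IsMulCommutative D) : D ≤ 𝐂 D := fun x hx y hy =>
  congrArg Subtype.val (h.is_comm.comm (⟨y, hy⟩ : D) ⟨x, hx⟩)

theorem pow_defect_le_eight {p : ℕ} [Fact p.Prime] [PMod M p] (hB : IsPBlock M B)
    (hl : blockRank p B = 1) (h5 : Nat.card B ≤ 5) : p ^ blockDefect p B ≤ 8 := by
  obtain ⟨A, _, _, _, J, s, h, h1, h2⟩ := exists_sla hB hl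
  exact h1 ▸ h.le_eight (by omega)

variable [hM : PMod M 2]

/-- A `2`-block of defect at most two has `l(B)` equal to its inertial index, or defect zero. -/
theorem odd_rank_of_le_two (hB : IsPBlock M B) (hd : blockDefect 2 B ≤ 2) : Odd (blockRank 2 B) := by
  obtain ⟨D, hD⟩ := exists_isDefectGroup (p := 2) hB
  have h1 := H8.card_defectGroup hM.out hB hD
  by_cases h0 : D = ⊥
  · have := card_le_pow_of_le_two (p := 2) hB hd
    have := blockRank_le_card (p := 2) B
    have := blockRank_pos (p := 2) hB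
    rw [h0, Subgroup.card_bot] at h1
    exact ⟨0, by omega⟩
  by_cases hc : IsCyclic D
  · obtain ⟨e, h⟩ := exists_abD hB hD (le_centralizer_of_cyc hc)
    rw [h.rank_of_cyc hc h0]
    exact Nat.not_even_iff_odd.1 fun h2 => h.not_dvd h2.two_dvd
  have h4 : Nat.card D = 4 := by
    rw [h1]
    by_contra h4
    refine hc (isCyclic_of_card_dvd_prime (p := 2) ?_)
    rw [h1]
    exact (pow_dvd_pow 2 (show _ ≤ 1 by by_contra h; exact h4 (by rw [show blockDefect 2 B = 2 by omega]; rfl))).trans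
      (pow_one 2).dvd
  have hk : IsKleinFour D := ⟨h4, (not_isCyclic_iff_exponent_eq_prime Nat.prime_two h4).1 hc⟩
  obtain ⟨e, h⟩ := exists_abD hB hD (le_centralizer_of_comm
    (IsPGroup.isMulCommutative_of_card_eq_prime_sq (p := 2) h4))
  have h2 := h.frD_of_klein hk
  rw [le_antisymm (h2.rank_le h0) (h2.le_rank_of_card_four h4)]
  exact Nat.not_even_iff_odd.1 fun h2 => h.not_dvd h2.two_dvd

theorem Subs.odd_rank {x : G} {H : Subgroup G} {b : Set (IrrCharacter H)} (h : Subs M 2 x b B)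
    (hb : IsPBlock M b) (hd : 2 ^ blockDefect 2 b ≤ 4 * orderOf x) : Odd (blockRank 2 b) := by
  have := normal_zpowers_of_comm h.comm
  obtain ⟨Q, hQ⟩ := exists_isDefectGroup (p := 2) hb
  obtain ⟨A, hA, h1, h3, h2, -⟩ := exists_dom (QuotientGroup.mk'_surjective _)
    h.isP_ker (mem_centralizer_ker_mk h.comm) hb hQ
  rw [QuotientGroup.ker_mk', Nat.card_zpowers, Subgroup.orderOf_mk,
    H8.card_defectGroup hM.out hb hQ, H8.card_defectGroup hM.out hA h1] at h2
  rw [h3]
  refine odd_rank_of_le_two hA ((Nat.pow_le_pow_iff_right one_lt_two).1 ?_)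
  rw [← h2, mul_comm 4] at hd
  exact Nat.le_of_mul_le_mul_left hd (orderOf_pos x)

theorem AbD.odd_of_eight {e : (resField M)[G]} (h : AbD 2 B D e) (h8 : Nat.card D = 8) :
    Odd (Nat.card B + blockRank 2 B) := by
  classical
  have := Fintype.ofFinite D
  have h0 : ∀ u : D, ∃ n, iidx D e = (𝐙 (u : G)).relIndex (pstab ⊤ D e) * n := fun u =>
    Subgroup.relIndex_dvd_of_le_left _ (Subgroup.centralizer_le (by simp))
  choose n hn using h0
  have ho : Odd (iidx D e) := Nat.not_even_iff_odd.1 fun h2 => h.not_dvd h2.two_dvd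
  have h1 : Nat.card B * iidx D e = ∑ u : D, blockRank 2 (bu 2 D e u) * n u := by
    apply Nat.cast_injective (R := ℂ)
    push_cast
    rw [h.card_eq_sum, Finset.sum_mul]
    refine Finset.sum_congr rfl fun u _ => ?_
    have : ((𝐙 (u : G)).relIndex (pstab ⊤ D e) : ℂ) ≠ 0 := by
      rw [Nat.cast_ne_zero]; exact Subgroup.index_ne_zero_of_finite
    rw [hn u]; push_cast; field_simp
  have h2 : n 1 = iidx D e := by
    rw [hn 1, show (𝐙 ((1 : D) : G)) = ⊤ from eq_top_iff.2 fun x _ =>
      Subgroup.mem_centralizer_singleton_iff.2 (by simp), Subgroup.relIndex_top_left, one_mul]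
  rw [← Finset.add_sum_erase _ _ (Finset.mem_univ 1), h2, Subgroup.coe_one, h.blockRank_bu_one] at h1
  have h3 := congrArg (Nat.cast : ℕ → ZMod 2) h1
  push_cast at h3
  rw [Finset.sum_congr rfl (g := fun _ => 1) fun u hu => by
    rw [(ZMod.natCast_eq_one_iff_odd).2 ((h.subs u.2).odd_rank (h.blk_bu u.2) ?_),
      (ZMod.natCast_eq_one_iff_odd).2 (Nat.odd_mul.1 (hn u ▸ ho)).2, one_mul]
    rw [h.defect_bu u.2, ← h.card_D, h8]
    have : orderOf (u : G) ≠ 1 := by simpa using Finset.ne_of_mem_erase hu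
    have := orderOf_pos (u : G)
    omega, (ZMod.natCast_eq_one_iff_odd).2 ho] at h3
  rw [Finset.sum_const, Finset.card_erase_of_mem (Finset.mem_univ _), Finset.card_univ,
    ← Nat.card_eq_fintype_card, h8] at h3
  rw [← ZMod.natCast_eq_one_iff_odd]
  push_cast
  rw [mul_one, mul_one] at h3
  rw [h3]
  generalize (blockRank 2 B : ZMod 2) = a
  revert a; decide

end Cfsg.Agent.H9
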