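import Mathlib
import Cfsg.Agent.H9.KB
import Cfsg.Agent.H9.StAb

/-!
Transfer of subsections to subgroups and to quotients by central `p`-subgroups.
-/

set_option autoImplicit false
set_option linter.unusedSectionVars false

namespace Cfsg.Agent.H9

open MonoidAlgebra Cfsg
open Cfsg.Agent.H8 (locRing resField res rd eB IsBlockUnion sb sbk FC FRep sb_spec sb_eq sb_blk
  sbk_spec centralizer_zpowers)
open Cfsg.Agent.H7 (ip)
open Subgroup (zpowers)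
open scoped ComplexConjugate

local notation "𝐂" Q => Subgroup.centralizer (SetLike.coe (Q : Subgroup _))
local notation "𝐍" Q => Subgroup.normalizer (SetLike.coe (Q : Subgroup _))
local notation "𝐙" x => Subgroup.centralizer (Singleton.singleton x : Set _)

section Gen

variable {F : Type*} [Field F] {G : Type*} [Group G] [Finite G] {p : ℕ} [Fact p.Prime] [CharP F p]
  {b e f : F[G]} {P Q R L : Subgroup G}

theorem MaxPair.sub [IsAlgClosed F] (h : MaxPair p ⊤ b P e) (hle : SubLE p ⊤ Q f P e)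
    (hPQ : P ≤ 𝐍 Q) (h1 : (𝐂 Q) ≤ L) (h2 : L ≤ pstab ⊤ Q f) (hPL : P ≤ L) :
    MaxPair p L f P e := by
  have hf := hle.isPair_left h.pair.1
  have h1' : ⊤ ⊓ (𝐂 Q) ≤ L := by rwa [top_inf_eq]
  have hLN : L ≤ 𝐍 Q := fun x hx => (h2 hx).1.2
  have hC : (𝐂 P) ≤ L := (Subgroup.centralizer_le hle.le).trans h1
  refine ⟨(isBlk_iff_isPrim hf.isP (hle.le.trans hPL) hLN (inf_le_inf_right _ le_top) h1').2
    (hf.isPrim_loc h1' h2), ?_, ⟨hPL.trans Subgroup.le_normalizer, h.isP, ?_⟩,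
    (hle.nsub h.pair.1 hPQ).2.2.2.2.2⟩
  · have := (h.isDef_iff_card hle h1' h2).2 fun t _ _ => by
      rw [inf_eq_left.2 hPL]; exact Subgroup.card_le_of_le inf_le_left
    rwa [inf_eq_left.2 hPL] at this
  · have := h.pair.1.blk
    rwa [top_inf_eq, ← inf_eq_right.2 hC] at this

theorem loc_eq_loc (he : IsPair p ⊤ P e) (hQR : Q ≤ R) (hR : R ≤ P) (hC : (𝐂 Q) ≤ 𝐂 R)
    (hN : R ≤ 𝐍 Q) : loc p P e Q = loc p P e R := by
  have h1 := isPair_loc he hR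
  have hCC : (𝐂 Q) = 𝐂 R := le_antisymm hC (Subgroup.centralizer_le hQR)
  refine loc_eq he (NSub.subLE ⟨⟨le_normalizer_top, h1.isP.to_le hQR, hCC ▸ h1.blk⟩, h1, hQR, hN,
    fun x hx => h1.cj_self hx, ?_⟩ |>.trans (loc_spec he hR))
  rw [h1.br_self, h1.blk.idem]

theorem sb_eq_loc (he : IsPair p ⊤ P e) {u : G} (hu : u ∈ P) :
    sb p P e u = loc p P e (zpowers u) :=
  sb_eq he (loc_spec he (Subgroup.zpowers_le.2 hu))

theorem sb_mul_central (he : IsPair p ⊤ P e) {u k : G} (hu : u ∈ P) (hk : k ∈ P)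
    (hc : ∀ g, k * g = g * k) : sb p P e (u * k) = sb p P e u := by
  have key : ∀ v ∈ P, sb p P e v = loc p P e (zpowers v ⊔ zpowers k) := fun v hv => by
    rw [sb_eq_loc he hv]
    refine loc_eq_loc he le_sup_left (sup_le (Subgroup.zpowers_le.2 hv) (Subgroup.zpowers_le.2 hk))
      ?_ (sup_le Subgroup.le_normalizer ?_)
    · rw [centralizer_sup', centralizer_zpowers k]
      exact le_inf le_rfl fun x _ => Subgroup.mem_centralizer_singleton_iff.2 (hc x).symm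
    · refine (Subgroup.zpowers_le.2 ?_).trans (Subgroup.centralizer_le_normalizer _)
      exact fun x _ => (hc x).symm
  rw [key _ hu, key _ (mul_mem hu hk)]
  congr 1
  refine le_antisymm (sup_le (Subgroup.zpowers_le.2 (mul_mem ?_ ?_)) le_sup_right)
    (sup_le (Subgroup.zpowers_le.2 ?_) le_sup_right)
  · exact Subgroup.mem_sup_left (Subgroup.mem_zpowers _)
  · exact Subgroup.mem_sup_right (Subgroup.mem_zpowers _)
  · have := mul_mem (Subgroup.mem_sup_left (T := zpowers k) (Subgroup.mem_zpowers (u * k)))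
      (inv_mem (Subgroup.mem_sup_right (Subgroup.mem_zpowers k)))
    simpa using this

/-- Fusion inside a nilpotent local block. -/
theorem MaxPair.conj_of_nil [IsAlgClosed F] (he : IsPair p ⊤ P e) (hL : MaxPair p L f P e)
    (hn : IsNil p L f) {u v g : G} (hu : u ∈ P) (hv : v ∈ P) (h1 : (𝐙 u) ≤ L) (hg : g ∈ L)
    (h2 : g * u * g⁻¹ = v) (h3 : H9.cj g (sb p P e u) = sb p P e v) : ∃ s ∈ P, s * u * s⁻¹ = v := by
  have h1' : (𝐙 v) ≤ L := by
    rw [← h2, ← cg_centralizer_singleton, ← cg_eq_of_mem hg]; exact cg_mono g h1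
  have hc : ∀ w ∈ P, (𝐙 w) ≤ L → SubLE p L (zpowers w) (sb p P e w) P e := fun w hw h =>
    (sb_spec he hw).change (hL.le.trans Subgroup.le_normalizer)
      (by rw [centralizer_zpowers, top_inf_eq, inf_eq_right.2 h])
  obtain ⟨s, hs, h4⟩ := hL.isNil_iff.1 hn (zpowers u) g
    ⟨hg, _, hc u hu h1, by rw [cg_zpowers, h2, h3]; exact hc v hv h1'⟩
  rw [centralizer_zpowers, Subgroup.mem_centralizer_singleton_iff] at h4
  refine ⟨s, hs, ?_⟩
  rw [← h2]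
  calc s * u * s⁻¹ = s * (u * (s⁻¹ * g)) * g⁻¹ := by group
    _ = g * u * g⁻¹ := by rw [← h4]; group

theorem MaxPair.isDef_sb [IsAlgClosed F] (h : MaxPair p ⊤ b P e) {u : G} (hu : u ∈ P)
    (hc : ∀ v ∈ P, FC p P e u v →
      Nat.card (P ⊓ 𝐙 v : Subgroup G) ≤ Nat.card (P ⊓ 𝐙 u : Subgroup G)) :
    IsDef p (𝐙 u) (sb p P e u) (P ⊓ 𝐙 u) := by
  have hle := sb_spec h.pair.1 hu
  have h1 : ⊤ ⊓ (𝐂 (zpowers u)) ≤ 𝐙 u := by rw [centralizer_zpowers, top_inf_eq]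
  refine (h.isDef_iff_card hle h1 ?_).2 fun t _ ht => ?_
  · have := (hle.isPair_left h.pair.1).centralizer_le_pstab
    rwa [centralizer_zpowers, top_inf_eq] at this
  · rw [cg_zpowers] at ht
    rw [cg_centralizer_singleton]
    exact hc _ (ht.le (Subgroup.mem_zpowers _)) ⟨t, rfl, (sb_eq h.pair.1 ht).symm⟩

variable {H : Type*} [Group H] [Finite H]

variable (p) in
/-- A pair of `H` seen in the overgroup `G`. -/
structure Emb (φ : H →* G) (P' : Subgroup H) (e' : F[H]) (P : Subgroup G) (e : F[G]) : Prop where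
  inj : Function.Injective φ
  pair' : IsPair p ⊤ P' e'
  pair : IsPair p ⊤ P e
  map : P'.map φ = P
  em : em F φ e' = e

variable {φ : H →* G} {P' : Subgroup H} {e' : F[H]}

theorem Emb.mem (h : Emb p φ P' e' P e) {u : H} : φ u ∈ P ↔ u ∈ P' := by
  rw [← h.map]; exact Subgroup.mem_map_iff_mem h.inj

theorem Emb.sb_em (h : Emb p φ P' e' P e) {u : H} (hu : u ∈ P') (hC : (𝐙 (φ u)) ≤ φ.range) :
    H9.em F φ (sb p P' e' u) = sb p P e (φ u) := by
  obtain ⟨h1, h2, h3, rfl, rfl⟩ := h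
  rw [sb_eq_loc h2 hu, sb_eq_loc h3 (Subgroup.mem_map_of_mem φ hu), ← MonoidHom.map_zpowers]
  exact em_loc h1 h2 h3 (Subgroup.zpowers_le.2 hu)
    (by rwa [MonoidHom.map_zpowers, centralizer_zpowers])

theorem Emb.fc_iff (h : Emb p φ P' e' P e) {u v : H} (hu : u ∈ P') (hv : v ∈ P')
    (hC : (𝐙 (φ u)) ≤ φ.range) (hC' : (𝐙 (φ v)) ≤ φ.range)
    (hr : ∀ g, g * φ u * g⁻¹ = φ v → g ∈ φ.range) :
    FC p P' e' u v ↔ FC p P e (φ u) (φ v) := by
  constructor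
  · rintro ⟨g, h1, h2⟩
    exact ⟨φ g, by rw [← h1]; simp, by rw [← h.sb_em hu hC, ← h.sb_em hv hC', cj_em, h2]⟩
  · rintro ⟨g, h1, h2⟩
    obtain ⟨g, rfl⟩ := hr g h1
    refine ⟨g, h.inj (by simpa using h1), em_injective h.inj ?_⟩
    rwa [← cj_em, h.sb_em hu hC, h.sb_em hv hC']

theorem MaxPair.emb (he : IsPair p ⊤ P e) (hL : MaxPair p L f P e) {f' : F[L]}
    (hf : H9.em F L.subtype f' = f) :
    MaxPair p ⊤ f' (P.subgroupOf L) (H8.resSub F L e) ∧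
      Emb p L.subtype (P.subgroupOf L) (H8.resSub F L e) P e := by
  have h1 := map_subgroupOf_subtype hL.le
  have h2 := em_resSub (hL.pair.1.blk.supp.mono inf_le_left)
  have h3 : MaxPair p ⊤ f' (P.subgroupOf L) (H8.resSub F L e) :=
    (maxPair_em L.subtype_injective).1 (by rwa [map_top_subtype, h1, h2, hf])
  exact ⟨h3, L.subtype_injective, h3.pair.1, he, h1, h2⟩

end Gen

variable {M : Ideal AlgInt} [hMm : M.IsMaximal] {p : ℕ} [hp : Fact p.Prime] [hM : PMod M p]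
variable {G H : Type*} [Group G] [Finite G] [Group H] [Finite H]

section Sub

variable {φ : H →* G} {P' : Subgroup H} {e' : (resField M)[H]} {P : Subgroup G}
  {e : (resField M)[G]}

theorem Emb.sbk_em (h : Emb p φ P' e' P e) {u : H} (hu : u ∈ P') (hC : (𝐙 (φ u)) ≤ φ.range) :
    sbk M p P e (φ u) = irrEquiv (zEquiv h.inj hC) '' sbk M p P' e' u := by
  obtain ⟨h1, h2⟩ := sbk_spec (M := M) h.pair' hu
  obtain ⟨h3, h4⟩ := sbk_spec (M := M) h.pair (h.mem.2 hu)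
  rw [← eI_inj h3 (isPBlock_image _ h1), h4, ← h.sb_em hu hC, ← h2, eI, eI, eB_image, em_em, em_em]
  rfl

theorem Emb.contr_em (h : Emb p φ P' e' P e) {u : H} (hu : u ∈ P') (hC : (𝐙 (φ u)) ≤ φ.range)
    (θ ψ : G → ℂ) : contr p (φ u) (sbk M p P e (φ u)) θ ψ =
      contr p u (sbk M p P' e' u) (fun x => θ (φ x)) fun x => ψ (φ x) := by
  rw [h.sbk_em hu hC]
  exact contr_image _ _ (fun c => by simp) fun c => by simp

end Sub

section Quot

variable {φ : G →* H} {Q R P : Subgroup G} {f g e : (resField M)[G]} {f' g' e' : (resField M)[H]}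

variable (p) in
/-- A surjection whose kernel is a central `p`-subgroup. -/
structure CQ (φ : G →* H) : Prop where
  surj : Function.Surjective φ
  isP : IsPGroup p φ.ker
  cen : ∀ x : G, x ∈ 𝐂 φ.ker

/-- `f'` is the block of the centralizer of the image of `Q` lying over `f`. -/
def Dom (φ : G →* H) (Q : Subgroup G) (f : (resField M)[G]) (f' : (resField M)[H]) : Prop :=
  IsBlk (𝐂 (Q.map φ)) f' ∧ f' * em _ φ f = em _ φ f

omit hMm hp hM [Finite G] [Finite H] in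
theorem CQ.comm (h : CQ p φ) {k : G} (hk : φ k = 1) (x : G) : k * x = x * k := h.cen x k hk

omit hMm hp hM [Finite G] [Finite H] in
theorem CQ.exists_conj (h : CQ p φ) {t q : G} (ht : φ t * φ q = φ q * φ t) :
    ∃ k, φ k = 1 ∧ t * q * t⁻¹ = q * k :=
  ⟨q⁻¹ * (t * q * t⁻¹), by simp only [map_mul, map_inv, ht]; group, by group⟩

omit hMm hp hM [Finite G] [Finite H] in
theorem CQ.cg_C (h : CQ p φ) {t : G} (ht : φ t ∈ 𝐂 (Q.map φ)) : cg t (𝐂 Q) = 𝐂 Q := by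
  have key : ∀ t : G, φ t ∈ (𝐂 (Q.map φ)) → ∀ x ∈ 𝐂 Q, t⁻¹ * x * t ∈ 𝐂 Q := fun t ht x hx q hq => by
    obtain ⟨k, hk, h1⟩ := h.exists_conj (ht _ (Subgroup.mem_map_of_mem φ hq)).symm
    calc q * (t⁻¹ * x * t) = t⁻¹ * (t * q * t⁻¹ * x) * t := by group
      _ = t⁻¹ * (x * (t * q * t⁻¹)) * t := by
        rw [h1, mul_assoc q, h.comm hk x, ← mul_assoc q, hx q hq, mul_assoc x]
      _ = t⁻¹ * x * t * q := by group
  ext x
  rw [mem_cg]
  exact ⟨fun hx => by simpa [mul_assoc] using key t⁻¹ (by rw [map_inv]; exact inv_mem ht) _ hx,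
    key t ht x⟩

omit hMm hM [Finite H] in
theorem CQ.pow_mem (h : CQ p φ) :
    ∀ y ∈ 𝐂 (Q.map φ), ∃ k, y ^ p ^ k ∈ (𝐂 Q).map φ := fun y hy => by
  obtain ⟨t, rfl⟩ := h.surj y
  obtain ⟨n, hn⟩ := IsPGroup.iff_card.1 h.isP
  refine ⟨n, t ^ p ^ n, fun q hq => ?_, map_pow _ _ _⟩
  obtain ⟨k, hk, h1⟩ := h.exists_conj (hy _ (Subgroup.mem_map_of_mem φ hq)).symm
  have h2 : ∀ j : ℕ, t ^ j * q = q * k ^ j * t ^ j := fun j => by
    induction j with
    | zero => simp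
    | succ j ih =>
      have h3 : t * q = q * k * t := by rw [← h1]; group
      calc t ^ (j + 1) * q = t ^ j * (t * q) := by rw [pow_succ, mul_assoc]
        _ = t ^ j * q * (k * t) := by rw [h3]; group
        _ = q * k ^ j * (t ^ j * k) * t := by rw [ih]; group
        _ = q * k ^ (j + 1) * t ^ (j + 1) := by rw [← h.comm hk]; group
  have h3 : k ^ p ^ n = 1 := by
    rw [← hn]
    exact congrArg Subtype.val (pow_card_eq_one' (x := (⟨k, hk⟩ : φ.ker)))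
  rw [h2, h3, mul_one]

omit hMm hp hM [Finite G] [Finite H] in
theorem map_C_le (φ : G →* H) (Q : Subgroup G) : (𝐂 Q).map φ ≤ 𝐂 (Q.map φ) := by
  rintro _ ⟨x, hx, rfl⟩
  exact map_mem_centralizer_map φ hx

theorem CQ.blk_em (h : CQ p φ) (hf : IsBlk (𝐂 Q) f) : IsBlk ((𝐂 Q).map φ) (em _ φ f) :=
  hf.em_of_reg h.isP le_rfl Subgroup.le_normalizer fun x _ _ => h.cen x

theorem CQ.mul_eq (h : CQ p φ) (hf : IsBlk (𝐂 Q) f)
    (h1 : f' ∈ fix (𝐂 (Q.map φ)) (𝐂 (Q.map φ))) (h2 : f' * f' = f') (h3 : f' * em _ φ f ≠ 0) :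
    f' * em _ φ f = em _ φ f :=
  (h.blk_em hf).mul_eq_of_ne ⟨supp_of_idem_of_pow h.pow_mem h1 h2,
    fun t ht => h1.2 t (map_C_le φ Q ht)⟩ h2 h3

theorem CQ.exists_dom (h : CQ p φ) (hf : IsBlk (𝐂 Q) f) : ∃ f', Dom φ Q f f' := by
  obtain ⟨f', h1, h2⟩ := exists_prim_mul_ne_zero (N := 𝐂 (Q.map φ)) le_rfl (h.blk_em hf).ne_zero
  exact ⟨f', h1, h.mul_eq hf h1.mem h1.idem h2⟩

theorem CQ.dom_unique (h : CQ p φ) (hf : IsBlk (𝐂 Q) f) (h1 : Dom φ Q f f') (h2 : Dom φ Q f g') :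
    f' = g' :=
  h1.1.eq_of_mul_ne le_rfl h2.1 fun h0 => (h.blk_em hf).ne_zero (by
    rw [← h1.2, ← h2.2, ← mul_assoc, h0, zero_mul])

omit hp hM [Finite G] [Finite H] in
theorem Dom.cj (h : Dom φ Q f f') (x : G) : Dom φ (cg x Q) (H9.cj x f) (H9.cj (φ x) f') :=
  ⟨by rw [← cg_map, ← cg_centralizer]; exact h.1.cj _, by rw [← cj_em, ← map_mul, h.2]⟩

theorem CQ.br_mul (h : CQ p φ) (hR : IsPGroup p R) (hg : IsBlk (𝐂 R) g) (h2 : Dom φ R g g')
    (hf : ∀ x ∈ R, cj x f = f) (hf' : ∀ x ∈ R.map φ, cj x f' = f')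
    (hf2 : ∀ x ∈ 𝐂 (R.map φ), cj x f' = f') (hff : f' * f' = f')
    (h1 : f' * em _ φ f = em _ φ f) (hb : br R f * g = g) : br (R.map φ) f' * g' = g' := by
  have h3 : br (R.map φ) f' * em _ φ g = em _ φ g := by
    have h4 : ∀ x ∈ R.map φ, cj x (em _ φ f) = em _ φ f := by
      rintro _ ⟨x, hx, rfl⟩; rw [cj_em, hf x hx]
    rw [← hb, map_mul, em_br' φ hR hf, ← mul_assoc, ← H9.br_mul (hR.map φ) hf' h4, h1]
  refine h2.1.mul_eq_of_ne ⟨supp_trunc _ _, fun t ht => ?_⟩ (br_idem (hR.map φ) hf' hff)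
    fun h0 => (h.blk_em hg).ne_zero ?_
  · rw [cj_br, hf2 t ht, mem_normalizer_iff_cg.1 (Subgroup.centralizer_le_normalizer _ ht)]
  · rw [← h3, ← h2.2, ← mul_assoc, h0, zero_mul]

theorem CQ.nsub (h : CQ p φ) (hs : NSub p ⊤ Q f R g) (h1 : Dom φ Q f f') (h2 : Dom φ R g g') :
    NSub p ⊤ (Q.map φ) f' (R.map φ) g' := by
  obtain ⟨hf, hg, hQR, hN, hst, hb⟩ := hs
  have hf1 : IsBlk (𝐂 Q) f := by simpa using hf.blk
  have hst' : ∀ x ∈ R.map φ, cj x f' = f' := by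
    rintro _ ⟨x, hx, rfl⟩
    have := h1.cj x
    rw [mem_normalizer_iff_cg.1 (hN hx), hst x hx] at this
    exact h.dom_unique hf1 this h1
  refine ⟨⟨le_normalizer_top, hf.isP.map φ, by simpa using h1.1⟩,
    ⟨le_normalizer_top, hg.isP.map φ, by simpa using h2.1⟩, Subgroup.map_mono hQR, ?_, hst',
    h.br_mul hg.isP (by simpa using hg.blk) h2 hst hst' (fun x hx => h1.1.inv
      (Subgroup.centralizer_le (Subgroup.map_mono hQR) hx)) h1.1.idem h1.2 hb⟩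
  rintro _ ⟨x, hx, rfl⟩
  rw [mem_normalizer_iff_cg, cg_map, mem_normalizer_iff_cg.1 (hN hx)]

theorem CQ.subLE (h : CQ p φ) (he : IsPair p ⊤ P e) (hs : SubLE p ⊤ Q f P e) (h2 : Dom φ P e e')
    (h1 : Dom φ Q f f') : SubLE p ⊤ (Q.map φ) f' (P.map φ) e' := by
  refine hs.induction (motive := fun Q f => ∀ f', Dom φ Q f f' →
    SubLE p ⊤ (Q.map φ) f' (P.map φ) e') (fun f' h1 => ?_) (fun Q f R g h3 _ ih f' h1 => ?_) f' h1
  · rw [h.dom_unique (by simpa using he.blk) h1 h2]; exact SubLE.refl _ _ _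
  · obtain ⟨g', h4⟩ := h.exists_dom (Q := R) (f := g) (by simpa using h3.2.1.blk)
    exact (h.nsub h3 h1 h4).subLE.trans (ih g' h4)

omit hp hM [Finite G] [Finite H] in
theorem Dom.pair (h2 : Dom φ P e e') (he : IsPair p ⊤ P e) : IsPair p ⊤ (P.map φ) e' :=
  ⟨le_normalizer_top, he.isP.map φ, by simpa using h2.1⟩

theorem CQ.dom_sb (h : CQ p φ) (he : IsPair p ⊤ P e) (h2 : Dom φ P e e') {u : G} (hu : u ∈ P) :
    Dom φ (zpowers u) (sb p P e u) (sb p (P.map φ) e' (φ u)) := by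
  obtain ⟨f', h1⟩ := h.exists_dom (Q := zpowers u) (f := sb p P e u)
    (by rw [centralizer_zpowers]; exact sb_blk he hu)
  have := h.subLE he (sb_spec he hu) h2 h1
  rw [MonoidHom.map_zpowers] at this
  rwa [sb_eq (h2.pair he) this]

theorem CQ.exists_cj (h : CQ p φ) (hf : IsBlk (𝐂 Q) f) (hg : IsBlk (𝐂 Q) g) (h1 : Dom φ Q f f')
    (h2 : Dom φ Q g f') : ∃ t, φ t ∈ (𝐂 (Q.map φ)) ∧ cj t f = g := by
  have hN : (𝐂 (Q.map φ)) ≤ 𝐍 ((𝐂 Q).map φ) := fun y hy => by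
    obtain ⟨t, rfl⟩ := h.surj y
    rw [mem_normalizer_iff_cg, cg_map, h.cg_C hy]
  obtain ⟨y, hy, h3⟩ := ((isBlk_iff_isPrim_of_pow (map_C_le φ Q) h.pow_mem).1 h1.1).exists_cj_eq
    le_rfl (map_C_le φ Q) hN hN (h.blk_em hf) (h.blk_em hg)
    (by rw [h1.2]; exact (h.blk_em hf).ne_zero) (by rw [h2.2]; exact (h.blk_em hg).ne_zero)
  obtain ⟨t, rfl⟩ := h.surj y
  have h4 := hf.cj t
  rw [h.cg_C hy] at h4
  refine ⟨t, hy, h4.eq_of_mul_ne le_rfl hg fun h0 => (h.blk_em hg).ne_zero ?_⟩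
  rw [← (h.blk_em hg).idem]
  nth_rw 1 [← h3]
  rw [cj_em, ← map_mul, h0, map_zero]

theorem CQ.fc_iff (h : CQ p φ) (he : IsPair p ⊤ P e) (hk : φ.ker ≤ P) (h2 : Dom φ P e e')
    {u v : G} (hu : u ∈ P) (hv : v ∈ P) :
    FC p (P.map φ) e' (φ u) (φ v) ↔ ∃ k, φ k = 1 ∧ FC p P e u (v * k) := by
  have hb : ∀ w ∈ P, IsBlk (𝐂 (zpowers w)) (sb p P e w) := fun w hw => by
    rw [centralizer_zpowers]; exact sb_blk he hw
  constructor
  · rintro ⟨y, h3, h4⟩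
    obtain ⟨x, rfl⟩ := h.surj y
    have h5 : φ (v⁻¹ * (x * u * x⁻¹)) = 1 := by simp [h3]
    have h6 : x * u * x⁻¹ ∈ P := by simpa using mul_mem hv (hk h5)
    have h7 := (h.dom_sb he h2 hu).cj x
    have h8 := h.dom_sb he h2 h6
    have h9 := (hb u hu).cj x
    rw [cg_centralizer, cg_zpowers] at h9
    rw [cg_zpowers, h4] at h7
    rw [map_mul, map_mul, map_inv, h3] at h8
    obtain ⟨t, ht, h10⟩ := h.exists_cj h9 (hb _ h6) h7 h8
    obtain ⟨k, hk1, h11⟩ := h.exists_conj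
      (ht _ (Subgroup.mem_map_of_mem φ (Subgroup.mem_zpowers _))).symm
    have h12 : x * u * x⁻¹ * k = v * (v⁻¹ * (x * u * x⁻¹) * k) := by group
    refine ⟨v⁻¹ * (x * u * x⁻¹) * k, by rw [map_mul, h5, hk1, mul_one], t * x, ?_, ?_⟩
    · rw [← h12, ← h11]; group
    · rw [← h12, ← cj_cj, h10, sb_mul_central he h6 (hk hk1) (h.comm hk1)]
  · rintro ⟨k, hk1, x, h3, h4⟩
    have h5 := mul_mem hv (hk hk1)
    have h7 := (h.dom_sb he h2 hu).cj x
    have h8 := h.dom_sb he h2 h5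
    rw [cg_zpowers, h3, h4] at h7
    rw [map_mul, hk1, mul_one] at h8
    refine ⟨φ x, ?_, h.dom_unique (hb _ h5) h7 h8⟩
    rw [← map_inv, ← map_mul, ← map_mul, h3, map_mul, hk1, mul_one]

theorem CQ.exists_maxPair (h : CQ p φ) {B : Set (IrrCharacter G)} (hB : IsPBlock M B)
    (hm : MaxPair p ⊤ (eB M B) P e) : ∃ (A : Set (IrrCharacter H)) (e' : (resField M)[H]),
      IsPBlock M A ∧ MaxPair p ⊤ (eB M A) (P.map φ) e' ∧ Dom φ P e e' ∧
      (∀ ψ, H8.inflIrr φ h.surj ψ ∈ B ↔ ψ ∈ A) ∧ blockRank p B = blockRank p A := by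
  obtain ⟨A, hA, h1, h2, h3⟩ := exists_dominated h.surj h.isP h.cen hB
  have he : IsBlk (𝐂 P) e := by simpa using hm.pair.1.blk
  obtain ⟨e', h4⟩ := h.exists_dom he
  have h5 : IsPairOf p ⊤ (eB M A) (P.map φ) e' := ⟨h4.pair hm.pair.1,
    h.br_mul hm.isP he h4 (fun x _ => cj_eB B x) (fun x _ => cj_eB A x) (fun x _ => cj_eB A x)
      (isBlk_eB hA).idem (by rw [← h1, (isBlk_eB hA).idem]) hm.pair.2⟩
  obtain ⟨ψ, hψ⟩ := H8.block_nonempty hA
  exact ⟨A, e', hA, ⟨isBlk_eB hA, (isDefectGroup_iff hA).1 (isDefectGroup_of_br h.surj hA hB hψ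
    ((h2 ψ).2 hψ) ((isDefectGroup_iff hB).2 hm.isDef) h5.br_ne), h5⟩, h4, h2, h3⟩

end Quot

end Cfsg.Agent.H9
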