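import Mathlib
import Cfsg.Agent.H9.TB1
import Cfsg.Agent.H8.Star4

/-!
Columns of generalized decomposition numbers for subsections with one Brauer character.
-/

set_option autoImplicit false
set_option linter.unusedSectionVars false

namespace Cfsg.Agent.H9

open MonoidAlgebra Cfsg
open Cfsg.Agent.H8 (locRing resField res rd eB IsBlockUnion sb sbk FC FRep sb_spec sb_eq sb_blk
  sbk_spec centralizer_zpowers st FStab om ncl sbk_subs irr_isClassFunction)
open Cfsg.Agent.H7 (ip)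
open Subgroup (zpowers)
open scoped ComplexConjugate

local notation "𝐂" Q => Subgroup.centralizer (SetLike.coe (Q : Subgroup _))
local notation "𝐍" Q => Subgroup.normalizer (SetLike.coe (Q : Subgroup _))
local notation "𝐙" x => Subgroup.centralizer (Singleton.singleton x : Set _)

variable {M : Ideal AlgInt} [hMm : M.IsMaximal] {p : ℕ} [hp : Fact p.Prime] [hM : PMod M p]
variable {G : Type*} [Group G] [Finite G] {B : Set (IrrCharacter G)}

section Subs

variable {x : G} {H : Subgroup G} {b : Set (IrrCharacter H)}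

omit hM in
theorem Subs.centralChar_int (h : Subs M p x b B) (hx : x * x = 1) (ξ : IrrCharacter H) :
    ∃ m : ℤ, centralChar (ξ : H → ℂ) ⟨x, h.mem⟩ = m := by
  have := centralChar_pow_eq_one ξ h.comm (n := 2) (Subtype.ext (by simpa [pow_two]))
  rcases mul_self_eq_one_iff.1 (pow_two (M := ℂ) _ ▸ this) with h | h
  exacts [⟨1, by rw [h, Int.cast_one]⟩, ⟨-1, by rw [h]; simp⟩]

theorem Subs.exists_col (h : Subs M p x b B) (hb : IsPBlock M b) (hl : blockRank p b = 1) :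
    ∃ D : (G → ℂ) → ℂ, (∀ θ φ, IsClassFunction G θ → IsClassFunction G φ →
      (p : ℂ) ^ blockDefect p b * contr p x b θ φ = D θ * conj (D φ)) ∧
      (x * x = 1 → ∀ θ, IsGeneralizedCharacter G θ → ∃ n : ℤ, D θ = n) := by
  obtain ⟨-, d, -, -, -, -, h1⟩ := exists_of_rank_one hb hl
  refine ⟨fun θ => ∑ ξ ∈ bs b, ip (fun c : H => θ c) ξ * centralChar (ξ : H → ℂ) ⟨x, h.mem⟩ * d ξ,
    fun θ φ hθ hφ => ?_, fun hx θ hθ => ?_⟩
  · rw [contr_eq_sum (⟨x, h.mem⟩ : H) h.eq.le b hθ hφ, map_sum, Finset.sum_mul_sum, Finset.mul_sum]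
    refine Finset.sum_congr rfl fun ξ hξ => ?_
    rw [Finset.mul_sum]
    refine Finset.sum_congr rfl fun η hη => ?_
    have h2 := mZ_spec (p := p) (mem_bs.1 hξ) (H6.isGen_of_irr η.2)
    rw [h1 ξ (mem_bs.1 hξ) η (mem_bs.1 hη)] at h2
    push_cast at h2
    simp only [map_mul, map_natCast]
    linear_combination (-(ip (fun c : H => θ c) ξ * conj (ip (fun c : H => φ c) η) *
      (centralChar (ξ : H → ℂ) ⟨x, h.mem⟩ * conj (centralChar (η : H → ℂ) ⟨x, h.mem⟩)))) * h2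
  · obtain ⟨n, hn⟩ := exists_ip_int (H6.isGen_comp H.subtype hθ)
    choose m hm using h.centralChar_int hx
    exact ⟨∑ ξ ∈ bs b, n ξ * m ξ * d ξ, by
      push_cast
      exact Finset.sum_congr rfl fun ξ _ => by rw [hm, ← hn]; rfl⟩

theorem Subs.exists_int_col (h : Subs M p x b B) (hb : IsPBlock M b) (hl : blockRank p b = 1)
    (hx : x * x = 1) : ∃ D : IrrCharacter G → ℤ, ∀ χ ψ : IrrCharacter G,
      (p : ℂ) ^ blockDefect p b * contr p x b χ ψ = D χ * conj (D ψ : ℂ) := by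
  obtain ⟨D, h1, h2⟩ := h.exists_col hb hl
  choose n hn using fun χ : IrrCharacter G => h2 hx χ (H6.isGen_of_irr χ.2)
  exact ⟨n, fun χ ψ => by rw [h1 _ _ (irr_isClassFunction χ) (irr_isClassFunction ψ), hn, hn]⟩

theorem Subs.rank_one {M : Ideal AlgInt} [M.IsMaximal] [hM : PMod M 2] (h : Subs M 2 x b B)
    (hb : IsPBlock M b) (hd : 2 ^ blockDefect 2 b ≤ 2 * orderOf x) : blockRank 2 b = 1 := by
  have := normal_zpowers_of_comm h.comm
  obtain ⟨Q, hQ⟩ := exists_isDefectGroup (p := 2) hb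
  obtain ⟨A, hA, h1, h3, h2, -⟩ := exists_dom (QuotientGroup.mk'_surjective _)
    h.isP_ker (mem_centralizer_ker_mk h.comm) hb hQ
  rw [QuotientGroup.ker_mk', Nat.card_zpowers, Subgroup.orderOf_mk,
    H8.card_defectGroup hM.out hb hQ, H8.card_defectGroup hM.out hA h1] at h2
  rw [← h2, mul_comm 2] at hd
  have h4 : blockDefect 2 A ≤ 1 := (Nat.pow_le_pow_iff_right one_lt_two).1
    (Nat.le_of_mul_le_mul_left hd (orderOf_pos x))
  have h5 := card_le_pow_of_le_two (p := 2) hA (by omega)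
  have h6 := blockRank_le_card (p := 2) A
  have h7 := blockRank_pos (p := 2) hA
  rw [h3]
  by_cases h0 : blockDefect 2 A = 0
  · rw [h0] at h5; omega
  · have := blockRank_lt_card (p := 2) hA h0
    rw [show blockDefect 2 A = 1 by omega] at h5; omega

omit hM in
theorem Subs.isGen_sec (h : Subs M p x b B) (hx : x * x = 1) {θ : G → ℂ}
    (hθ : IsGeneralizedCharacter G θ) : BG b (sec x b θ) := by
  obtain ⟨n, hn⟩ := exists_ip_int (H6.isGen_comp H.subtype hθ)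
  choose m hm using h.centralChar_int hx
  rw [sec_eq_sum (⟨x, h.mem⟩ : H) h.eq.le b (H6.isClassFunction_of_isGen hθ)]
  refine BG.sum fun ξ hξ => ?_
  rw [hm, show ip (fun c : H => θ c) ξ = n ξ from hn ξ, ← Int.cast_mul]
  exact (BG.irr (mem_bs.1 hξ)).zsmul _

omit hMm hM in
theorem sum_mZ_eq {K : Type*} [Group K] [Finite K] {A : Set (IrrCharacter K)}
    (v w : IrrCharacter K → ℤ) : (p : ℂ) ^ blockDefect p A *
      rip p (∑ ξ ∈ bs A, (v ξ : ℂ) • (ξ : K → ℂ)) (∑ ξ ∈ bs A, (w ξ : ℂ) • (ξ : K → ℂ)) =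
      (∑ ξ ∈ bs A, v ξ * ∑ η ∈ bs A, mZ p A ξ η * w η : ℤ) := by
  rw [rip_sum_left, Finset.mul_sum]
  push_cast
  refine Finset.sum_congr rfl fun ξ hξ => ?_
  rw [rip_smul_left, rip_sum_right, Finset.mul_sum, Finset.mul_sum, Finset.mul_sum]
  refine Finset.sum_congr rfl fun η _ => ?_
  rw [rip_smul_right, mZ_spec (mem_bs.1 hξ) (H6.isGen_of_irr η.2), map_intCast]
  ring

/-- The contributions of an involution computed in a central quotient of its centralizer. -/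
theorem Subs.desc (h : Subs M p x b B) (hx : x * x = 1) {K : Type*} [Group K] [Finite K]
    {φ : H →* K} (hφ : CQ p φ) {A : Set (IrrCharacter K)} (hA : IsBlockUnion M A)
    (hAB : ∀ ψ, H8.inflIrr φ hφ.surj ψ ∈ b ↔ ψ ∈ A) :
    ∃ n : IrrCharacter G → IrrCharacter K → ℤ,
      (∀ χ ψ : IrrCharacter G, (p : ℂ) ^ blockDefect p A * (Nat.card φ.ker * contr p x b χ ψ) =
        (∑ ξ ∈ bs A, n χ ξ * ∑ η ∈ bs A, mZ p A ξ η * n ψ η : ℤ)) ∧
      ∀ v : IrrCharacter K → ℤ,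
        (∀ ξ ∈ A, ∑ η ∈ bs A, mZ p A ξ η * v η = p ^ blockDefect p A * v ξ) →
        ∑ χ ∈ bs B, (∑ ξ ∈ bs A, n χ ξ * v ξ) ^ 2 = Nat.card φ.ker * ∑ ξ ∈ bs A, v ξ ^ 2 := by
  have key : ∀ χ : IrrCharacter G, ∃ n : IrrCharacter K → ℤ, ∀ y, ¬ p ∣ orderOf y →
      (∑ ξ ∈ bs A, (n ξ : ℂ) • (ξ : K → ℂ)) (φ y) = sec x b χ y := fun χ => by
    have h1 := h.isGen_sec hx (H6.isGen_of_irr χ.2)
    obtain ⟨η, h3, h4⟩ := exists_gen_desc hφ.surj hφ.isP hφ.cen h1.gen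
    have h5 : blockPart A (pRegularPart p η) = pRegularPart p η := by
      rw [blockPart_eq_self_iff (cf_reg (H6.isClassFunction_of_isGen h3))]
      intro ψ hψ
      change rip p η ψ = 0
      rw [← rip_comp hφ.surj hφ.isP hφ.cen, rip_congr (φ := fun x => ψ.1 (φ x))
        (φ' := H8.inflIrr φ hφ.surj ψ) h4 fun _ _ => rfl, ← h1.bp, rip_blockPart_comm h.ub,
        H8.blockPart_of_notMem (mt (hAB ψ).1 hψ), rip_zero_right, mul_zero]
    obtain ⟨n, hn⟩ := (BG.blockPart (b := A) h3).eq_sum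
    refine ⟨n, fun y hy => ?_⟩
    rw [← hn, ← h4 y hy, ← reg_of_not (θ := η) (not_dvd_orderOf_map φ hy), ← h5, ← reg_blockPart hA,
      reg_of_not (not_dvd_orderOf_map φ hy)]
  choose n hn using key
  refine ⟨n, fun χ ψ => ?_, fun v hv => ?_⟩
  · rw [← sum_mZ_eq, ← rip_comp hφ.surj hφ.isP hφ.cen, rip_congr (hn χ) (hn ψ)]
    rfl
  set V : K → ℂ := ∑ ξ ∈ bs A, (v ξ : ℂ) • (ξ : K → ℂ) with hV
  have h0 : ∀ w : IrrCharacter K → ℤ, rip p (∑ ξ ∈ bs A, (w ξ : ℂ) • (ξ : K → ℂ)) V =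
      (∑ ξ ∈ bs A, w ξ * v ξ : ℤ) := fun w => by
    refine mul_left_cancel₀ (pow_ne_zero_C (p := p) (blockDefect p A)) ?_
    rw [hV, sum_mZ_eq, Finset.sum_congr rfl fun ξ hξ => by rw [hv ξ (mem_bs.1 hξ)]]
    push_cast
    rw [Finset.mul_sum]
    exact Finset.sum_congr rfl fun _ _ => by ring
  have h1 : blockPart b (fun y => V (φ y)) = fun y => V (φ y) := by
    have : (fun y => V (φ y)) = ∑ ξ ∈ bs A, (v ξ : ℂ) • (H8.inflIrr φ hφ.surj ξ : H → ℂ) := by
      funext y; simp only [hV, Finset.sum_apply]; rfl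
    rw [this]
    exact (BG.sum fun ξ hξ => (BG.irr ((hAB ξ).2 (mem_bs.1 hξ))).zsmul _).bp
  have h2 : ∀ χ : IrrCharacter G, Nat.card φ.ker * rip p (sec x b χ) (fun y => V (φ y)) =
      (∑ ξ ∈ bs A, n χ ξ * v ξ : ℤ) := fun χ => by
    rw [← h0, ← rip_comp hφ.surj hφ.isP hφ.cen, rip_congr (hn χ) fun _ _ => rfl]
  have h3 := h.sum_rip_sec h1 h1
  have h4 := rip_comp hφ.surj hφ.isP hφ.cen V V
  apply Int.cast_injective (α := ℂ)
  rw [Int.cast_mul, show ∑ ξ ∈ bs A, v ξ ^ 2 = ∑ ξ ∈ bs A, v ξ * v ξ from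
    Finset.sum_congr rfl fun _ _ => sq _, ← h0, ← hV, ← h4, ← h3, Finset.mul_sum, Finset.mul_sum,
    Int.cast_sum]
  refine Finset.sum_congr rfl fun χ _ => ?_
  have h5 := congrArg conj (h2 χ)
  rw [map_mul, map_natCast, map_intCast, rip_conj] at h5
  rw [Int.cast_pow, sq, Int.cast_natCast]
  nth_rw 1 [← h5]
  rw [← h2]; ring

end Subs

variable {P : Subgroup G} {e : (resField M)[G]}

variable (M p) in
/-- The contribution of the subsection of `u`. -/
noncomputable abbrev ct (P : Subgroup G) (e : (resField M)[G]) (u : G) (θ ψ : G → ℂ) : ℂ :=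
  contr p u (sbk M p P e u) θ ψ

variable (hB : IsPBlock M B) (hm : MaxPair p ⊤ (eB M B) P e)
include hB hm

theorem sum_ct_orth {u v : G} (hu : u ∈ P) (hv : v ∈ P) (h : ¬ FC p P e u v) {θ ψ : G → ℂ}
    (hθ : IsClassFunction G θ) (hψ : IsClassFunction G ψ) :
    ∑ χ ∈ bs B, ct M p P e u θ χ * ct M p P e v χ ψ = 0 := by
  classical
  obtain ⟨Y, hY, -⟩ := H8.exists_fRep (p := p) (P := P) (e := e) (fun _ => True)
    fun u => ⟨u, FC.refl _, trivial⟩
  set η : G → P → ℂ := fun w y => if FC p P e w y then 1 else 0 with hη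
  have h1 : ∀ w, FStab p P e (η w) := fun w y y' hy =>
    if_congr ⟨fun h => h.trans hy, fun h => h.trans hy.symm⟩ rfl rfl
  have h2 : ∀ w ∈ P, ∀ θ ψ, IsClassFunction G θ → IsClassFunction G ψ →
      ip (st M p P e (η w) θ) ψ = ct M p P e w θ ψ := fun w hw θ ψ hθ hψ => by
    obtain ⟨y, ⟨h3, h4⟩, h5⟩ := hY ⟨w, hw⟩
    rw [H8.ip_st_left hm hY (h1 w) hθ hψ, Finset.sum_eq_single_of_mem y h3
      fun y' h6 h7 => by rw [hη]; simp only; rw [if_neg fun h => h7 (h5 y' ⟨h6, h⟩), zero_mul]]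
    rw [hη]; simp only; rw [if_pos h4, one_mul]
    exact (H8.contr_fc hm.pair.1 hθ hψ hw y.2 h4).symm
  have h3 := H8.ip_st hB hm hY (h1 u) (h1 v) hθ hψ
  rw [Finset.sum_eq_zero fun y _ => by
    rw [hη]; simp only
    by_cases h4 : FC p P e u y
    · rw [if_neg (fun h5 : FC p P e v y => h (h4.trans h5.symm)), map_zero, mul_zero, zero_mul]
    · rw [if_neg h4, zero_mul, zero_mul], ← H8.blockPart_st hB hm (h1 u) hθ, ip_blockPart_left] at h3
  rw [← h3]
  refine Finset.sum_congr rfl fun χ _ => ?_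
  rw [h2 u hu _ _ hθ (irr_isClassFunction χ), ← H7.ip_conj_symm,
    h2 v hv _ _ hψ (irr_isClassFunction χ), contr_conj]

variable (M p B P e) in
omit hB hm in
/-- `D` is a column of generalized decomposition numbers at `u`. -/
def Col (u : G) (n : ℕ) (D : IrrCharacter G → ℂ) : Prop :=
  ∀ χ ∈ B, ∀ ψ ∈ B, n * ct M p P e u χ ψ = D χ * conj (D ψ)

theorem Col.orth {u v : G} (hu : u ∈ P) (hv : v ∈ P) (h : ¬ FC p P e u v) {n n' : ℕ}
    {D D' : IrrCharacter G → ℂ} (h1 : Col M p B P e u n D) (h2 : Col M p B P e v n' D') :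
    ∑ χ ∈ bs B, D' χ * conj (D χ) = 0 := by
  by_contra h0
  obtain ⟨χ, hχ, h3⟩ := Finset.exists_ne_zero_of_sum_ne_zero h0
  have h4 := sum_ct_orth hB hm hu hv h (irr_isClassFunction χ) (irr_isClassFunction χ)
  have h5 : D χ * conj (D' χ) * ∑ χ ∈ bs B, D' χ * conj (D χ) =
      n * n' * ∑ ψ ∈ bs B, ct M p P e u χ ψ * ct M p P e v ψ χ := by
    rw [Finset.mul_sum, Finset.mul_sum]
    refine Finset.sum_congr rfl fun ψ hψ => ?_
    have a1 := h1 χ (mem_bs.1 hχ) ψ (mem_bs.1 hψ)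
    have a2 := h2 ψ (mem_bs.1 hψ) χ (mem_bs.1 hχ)
    linear_combination (-D' ψ * conj (D' χ)) * a1 - (n * ct M p P e u χ ψ) * a2
  rw [h4, mul_zero, mul_eq_zero, mul_eq_zero, map_eq_zero] at h5
  rw [mul_ne_zero_iff, map_ne_zero] at h3
  tauto

theorem Col.norm {u : G} (hu : u ∈ P) {n : ℕ} {D : IrrCharacter G → ℂ} (h1 : Col M p B P e u n D)
    (hl : blockRank p (sbk M p P e u) = 1) : ∑ χ ∈ bs B, D χ * conj (D χ) = n := by
  rw [← Finset.sum_congr rfl fun χ hχ => h1 χ (mem_bs.1 hχ) χ (mem_bs.1 hχ), ← Finset.mul_sum,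
    (sbk_subs hB hm hu).sum_contr_self, hl, Nat.cast_one, mul_one]

omit hB in
theorem ncl_mul_of_nil (hn : IsNil p ⊤ (eB M B)) (u : P) :
    ncl p P e u * Nat.card (P ⊓ 𝐙 (u : G) : Subgroup G) = Nat.card P := by
  have h1 : ncl p P e u = (𝐙 (u : G)).relIndex P := by
    rw [← card_conjOrbit]
    refine Nat.card_congr ⟨fun v => ⟨v.1, (H8.fc_iff_of_nil hm hn u.2 v.1.2).1 v.2⟩, fun v =>
      ⟨⟨v.1, by obtain ⟨s, hs, h⟩ := v.2; exact h ▸ mul_mem (mul_mem hs u.2) (inv_mem hs)⟩,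
        (H8.fc_iff_of_nil hm hn u.2 (Subtype.prop _)).2 v.2⟩, fun _ => rfl, fun _ => rfl⟩
  rw [h1, mul_comm, ← Subgroup.inf_relIndex_left, Subgroup.relIndex,
    ← Nat.card_congr (Subgroup.subgroupOfEquivOfLe inf_le_left).toEquiv]
  exact Subgroup.card_mul_index _

theorem loc_of_nil {L : Subgroup G} {f : (resField M)[G]} (hL : MaxPair p L f P e)
    (hn : IsNil p L f) {u : G} (hu : u ∈ P) (hC : (𝐙 u) ≤ L) :
    blockRank p (sbk M p P e u) = 1 ∧
      Nat.card (P ⊓ 𝐙 u : Subgroup G) = p ^ blockDefect p (sbk M p P e u) := by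
  obtain ⟨h1, h2⟩ := sbk_spec (M := M) hm.pair.1 hu
  have h3 : L ⊓ (𝐂 (zpowers u)) = 𝐙 u := by rw [centralizer_zpowers, inf_eq_right.2 hC]
  have h4 : SubLE p L (zpowers u) (sb p P e u) P e :=
    (sb_spec hm.pair.1 hu).change (hL.le.trans Subgroup.le_normalizer)
      (by rw [h3, centralizer_zpowers, top_inf_eq])
  have h5 := hn.centralizer hL.blk.mem (h4.le.trans hL.le) (hL.pairOf h4)
  have h6 := hL.isDef_centralizer_of_nil hn h4
  rw [h3, ← h2] at h5 h6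
  rw [centralizer_zpowers] at h6
  exact ⟨H8.blockRank_of_isNil h1 ((isNil_em (𝐙 u).subtype_injective).1
    (by rwa [map_top_subtype])), card_isDef_eI h1 h6⟩

theorem exists_W_top (hn : IsNil p ⊤ (eB M B)) : ∃ W : (G → ℂ) → P → ℂ,
    (∀ θ, IsGeneralizedCharacter G θ → IsGeneralizedCharacter P (W θ)) ∧
    ∀ (u : P) θ ψ, IsClassFunction G θ → IsClassFunction G ψ →
      Nat.card (P ⊓ 𝐙 (u : G) : Subgroup G) * ct M p P e u θ ψ = W θ u * conj (W ψ u) := by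
  obtain ⟨ξ, h1, h2⟩ := H8.exists_height_zero (p := p) hB
  refine ⟨fun θ => om M p P e θ ξ, fun θ hθ => H8.isGen_om_of_nil hB hm hn hθ (H6.isGen_of_irr ξ.2),
    fun u θ ψ hθ hψ => ?_⟩
  have h3 : ∀ θ ψ, om M p P e θ ψ u =
      Nat.card (P ⊓ 𝐙 (u : G) : Subgroup G) * ct M p P e u θ ψ := fun θ ψ => by
    rw [om, ← ncl_mul_of_nil hm hn u, Nat.cast_mul,
      mul_div_cancel_left₀ _ (Nat.cast_ne_zero.2 (H8.ncl_ne_zero u))]
  obtain ⟨h4, h5⟩ := loc_of_nil hB hm hm hn u.2 le_top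
  obtain ⟨D, h6, -⟩ := (sbk_subs hB hm u.2).exists_col (sbk_spec hm.pair.1 u.2).1 h4
  have h7 := congrFun (H8.om_eq_one_of_nil hB hm hn h1 h2) u
  have h8 := irr_isClassFunction ξ
  simp only [h3, h5, Nat.cast_pow] at h7 ⊢
  rw [h6 _ _ h8 h8, Pi.one_apply] at h7
  rw [h6 _ _ hθ hψ, h6 _ _ hθ h8, h6 _ _ hψ h8, map_mul, Complex.conj_conj]
  linear_combination (-D θ * conj (D ψ)) * h7

/-- Generalized decomposition numbers inside a nilpotent local block. -/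
theorem exists_W {L : Subgroup G} {f : (resField M)[G]} (hL : MaxPair p L f P e)
    (hn : IsNil p L f) : ∃ W : IrrCharacter G → P → ℂ, (∀ χ, IsGeneralizedCharacter P (W χ)) ∧
      ∀ u : P, (𝐙 (u : G)) ≤ L →
        Col M p B P e u (Nat.card (P ⊓ 𝐙 (u : G) : Subgroup G)) fun χ => W χ u := by
  obtain ⟨c, hc, rfl⟩ := exists_eI hL.blk
  obtain ⟨h1, h2⟩ := hL.emb hm.pair.1 (f' := eB M c) rfl
  obtain ⟨W, h3, h4⟩ := exists_W_top hc h1
    ((isNil_em L.subtype_injective).1 (by rwa [map_top_subtype]))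
  let j := (Subgroup.subgroupOfEquivOfLe hL.le).symm
  refine ⟨fun χ u => W (fun x => χ.1 x) (j u), fun χ => H6.isGen_comp j.toMonoidHom
    (h3 _ (H6.isGen_comp L.subtype (H6.isGen_of_irr χ.2))), fun u hu χ _ ψ _ => ?_⟩
  have h5 : ∀ χ : IrrCharacter G, IsClassFunction L fun x => χ.1 x := fun χ =>
    H6.isClassFunction_of_isGen (H6.isGen_comp L.subtype (H6.isGen_of_irr χ.2))
  have h6 := h2.contr_em (M := M) (j u).2 (by rwa [Subgroup.range_subtype]) χ ψ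
  have h7 : Nat.card (P.subgroupOf L ⊓ 𝐙 ((j u : L)) : Subgroup L) =
      Nat.card (P ⊓ 𝐙 (u : G) : Subgroup G) := by
    rw [← Subgroup.card_map_of_injective (f := L.subtype) L.subtype_injective]
    congr 2
    ext x
    refine ⟨?_, fun hx => ⟨⟨x, hL.le hx.1⟩, ⟨hx.1, Subgroup.mem_centralizer_singleton_iff.2
      (Subtype.ext (Subgroup.mem_centralizer_singleton_iff.1 hx.2))⟩, rfl⟩⟩
    rintro ⟨y, hy, rfl⟩
    exact ⟨hy.1, Subgroup.mem_centralizer_singleton_iff.2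
      (congrArg Subtype.val (Subgroup.mem_centralizer_singleton_iff.1 hy.2))⟩
  rw [← h4 _ _ _ (h5 χ) (h5 ψ), h7]
  exact congrArg _ h6

end Cfsg.Agent.H9
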