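import Mathlib
import Cfsg.Agent.H9.TB2

/-!
Integer vectors of small norm, and Fourier coefficients on an abelian group.
-/

set_option autoImplicit false
set_option linter.unusedSectionVars false

namespace Cfsg.Agent.H9

open Cfsg Finset
open Cfsg.Agent.H8 (locRing resField rd lf cmp)
open Cfsg.Agent.H7 (ip)
open scoped ComplexConjugate

section Int

variable {ι : Type*} {s : Finset ι}

/-- The form `n ∑ c d - (∑ c) (∑ d)`. -/
def sF (s : Finset ι) (c d : ι → ℤ) : ℤ := s.card * ∑ i ∈ s, c i * d i - (∑ i ∈ s, c i) * ∑ i ∈ s, d i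

theorem sF_shift (c d : ι → ℤ) (k l : ℤ) : sF s (fun i => c i - k) (fun i => d i - l) = sF s c d := by
  simp only [sF, sub_mul, mul_sub, sum_sub_distrib, ← sum_mul, ← mul_sum, sum_const, nsmul_eq_mul]
  ring

theorem even_sq_sub (x : ℤ) : Even (x * x - x) := by
  rw [← mul_sub_one]; exact Int.even_mul_pred_self x

theorem even_sum_sq_sub (c : ι → ℤ) : Even (∑ i ∈ s, c i * c i - ∑ i ∈ s, c i) := by
  rw [← sum_sub_distrib]; exact Finset.even_sum _ fun i _ => even_sq_sub _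

theorem exists_shift (hs : s.card ≠ 0) (c : ι → ℤ) : ∃ k r : ℤ, 0 ≤ r ∧ 2 * r ≤ s.card ∧
    r ≤ ∑ i ∈ s, (c i - k) * (c i - k) ∧ Even (∑ i ∈ s, (c i - k) * (c i - k) - r) ∧
    Even (∑ i ∈ s, c i - s.card * k - r) ∧
    sF s c c = s.card * ∑ i ∈ s, (c i - k) * (c i - k) - r * r := by
  have h0 : (0 : ℤ) < 2 * s.card := by omega
  set k := (2 * ∑ i ∈ s, c i + s.card) / (2 * s.card) with hk
  have h1 := Int.mul_ediv_add_emod (2 * ∑ i ∈ s, c i + s.card) (2 * s.card)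
  have h2 := Int.emod_nonneg (2 * ∑ i ∈ s, c i + s.card) h0.ne'
  have h3 := Int.emod_lt_of_pos (2 * ∑ i ∈ s, c i + s.card) h0
  have h4 : ∑ i ∈ s, (c i - k) = ∑ i ∈ s, c i - s.card * k := by simp [sum_sub_distrib]
  have h5 := even_sum_sq_sub (s := s) fun i => c i - k
  have h6 : Even (∑ i ∈ s, (c i - k) - |∑ i ∈ s, (c i - k)|) := by
    rcases abs_cases (∑ i ∈ s, (c i - k)) with h | h <;> rw [h.1]
    exacts [by simp, ⟨_, sub_neg_eq_add _ _⟩]
  rw [← hk, mul_assoc] at h1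
  refine ⟨k, |∑ i ∈ s, (c i - k)|, abs_nonneg _, ?_, ?_, ?_, h4 ▸ h6, ?_⟩
  · rw [h4]; rcases abs_cases (∑ i ∈ s, c i - s.card * k) with h | h <;> omega
  · exact (abs_sum_le_sum_abs _ _).trans (sum_le_sum fun i _ => by
      rw [← abs_mul_abs_self]; nlinarith [abs_nonneg (c i - k), Int.le_self_sq |c i - k|])
  · simpa using h5.add h6
  · rw [← sF_shift c c k k, sF, abs_mul_abs_self]

theorem exists_of_sum_sq_eq_one [DecidableEq ι] {c : ι → ℤ} (h : ∑ i ∈ s, c i * c i = 1) :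
    ∃ i ∈ s, c i * c i = 1 ∧ ∀ j ∈ s, j ≠ i → c j = 0 := by
  obtain ⟨i, hi, h1⟩ := exists_ne_zero_of_sum_ne_zero (h.trans_ne one_ne_zero)
  rw [← add_sum_erase _ _ hi] at h
  have h2 : 0 ≤ ∑ j ∈ s.erase i, c j * c j := sum_nonneg fun j _ => mul_self_nonneg _
  have h3 := mul_self_nonneg (c i)
  refine ⟨i, hi, by omega, fun j hj hji => mul_self_eq_zero.1 ?_⟩
  exact (sum_eq_zero_iff_of_nonneg fun j _ => mul_self_nonneg (c j)).1 (by omega) j
    (mem_erase.2 ⟨hji, hj⟩)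

theorem sF_odd [DecidableEq ι] (h4 : 4 ∣ s.card) {c : ι → ℤ} (hc : Odd (∑ i ∈ s, c i)) :
    (sF s c c = s.card - 1 ∧ ∃ k, ∃ i ∈ s, (c i - k) * (c i - k) = 1 ∧ ∀ j ∈ s, j ≠ i → c j = k) ∨
      2 * (s.card : ℤ) ≤ sF s c c ∨ s.card = 8 ∧ sF s c c = 15 := by
  have hs : s.card ≠ 0 := fun h => by simp [card_eq_zero.1 h] at hc
  obtain ⟨k, r, h0, h1, h2, ⟨x, h3⟩, ⟨y, h5⟩, h6⟩ := exists_shift hs c
  obtain ⟨n, hn⟩ := h4
  obtain ⟨w, hw⟩ := hc
  rw [hn] at h1 h5 h6 ⊢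
  push_cast at h1 h5 h6 ⊢
  rw [mul_assoc] at h5
  by_cases hT : ∑ i ∈ s, (c i - k) * (c i - k) = 1
  · obtain ⟨i, hi, h7, h8⟩ := exists_of_sum_sq_eq_one hT
    refine .inl ⟨?_, k, i, hi, h7, fun j hj hji => sub_eq_zero.1 (h8 j hj hji)⟩
    rw [h6, hT, show r = 1 by omega]; ring
  generalize ∑ i ∈ s, (c i - k) * (c i - k) = T at *
  right
  by_cases h7 : T = 3
  · subst h7
    rcases show r = 1 ∨ r = 3 by omega with rfl | rfl <;> omega
  · left
    have : r ≤ 2 * (T - 2) := by omega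
    nlinarith

theorem sF_even (h2 : Even s.card) {c : ι → ℤ} (hc : Even (∑ i ∈ s, c i)) :
    sF s c c = 0 ∨ 2 * (s.card : ℤ) - 4 ≤ sF s c c := by
  by_cases hs : s.card = 0
  · simp [sF, card_eq_zero.1 hs]
  obtain ⟨k, r, h0, h1, h2', ⟨x, h3⟩, ⟨y, h5⟩, h6⟩ := exists_shift hs c
  obtain ⟨n, hn⟩ := h2
  obtain ⟨w, hw⟩ := hc
  rw [hn] at h1 h5 h6 ⊢
  push_cast at h1 h5 h6 ⊢
  rw [add_mul] at h5
  generalize ∑ i ∈ s, (c i - k) * (c i - k) = T at *
  by_cases h7 : T = 0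
  · left; rw [h6, h7, show r = 0 by omega]; ring
  right
  by_cases h8 : T = 2
  · subst h8; nlinarith
  · have : r ≤ 2 * (T - 2) := by omega
    nlinarith

theorem sF_nonneg (c : ι → ℤ) : 0 ≤ sF s c c := by
  have := sq_sum_le_card_mul_sum_sq (s := s) (f := c)
  simp only [sq] at this
  exact sub_nonneg.2 this

/-- A vector of norm four that is odd somewhere. -/
theorem of_norm_four {c : ι → ℤ} (h : ∑ i ∈ s, c i * c i = 4) {p : ι → Prop} [DecidablePred p]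
    (hp : ∀ i ∈ s, p i ↔ Odd (c i)) (h0 : ∃ i ∈ s, p i) : (s.filter p).card = 4 ∧
      ∀ i ∈ s, (p i → c i * c i = 1) ∧ (¬ p i → c i = 0) := by
  have h1 : ∀ i ∈ s, p i → 1 ≤ c i * c i ∧ 4 ∣ c i * c i - 1 := fun i hi h => by
    obtain ⟨x, hx⟩ := (hp i hi).1 h
    exact ⟨by rw [hx]; nlinarith [Int.le_self_sq (-x)], x * x + x, by rw [hx]; ring⟩
  have h2 : ∀ i ∈ s, ¬ p i → 4 ∣ c i * c i := fun i hi h => by
    obtain ⟨x, hx⟩ := Int.not_odd_iff_even.1 (mt (hp i hi).2 h)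
    exact ⟨x * x, by rw [hx]; ring⟩
  replace h : ∑ i ∈ s.filter p, c i * c i + ∑ i ∈ s.filter fun i => ¬ p i, c i * c i = 4 := by
    rw [sum_filter_add_sum_filter_not]; exact h
  have h3 : ∀ i ∈ s.filter p, 0 ≤ c i * c i - 1 := fun i hi =>
    sub_nonneg.2 (h1 i (mem_filter.1 hi).1 (mem_filter.1 hi).2).1
  have h4 := sum_nonneg h3
  have h5 : 4 ∣ ∑ i ∈ s.filter p, (c i * c i - 1) :=
    dvd_sum fun i hi => (h1 i (mem_filter.1 hi).1 (mem_filter.1 hi).2).2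
  have h6 : 4 ∣ ∑ i ∈ s.filter fun i => ¬ p i, c i * c i :=
    dvd_sum fun i hi => h2 i (mem_filter.1 hi).1 (mem_filter.1 hi).2
  have h7 : 0 ≤ ∑ i ∈ s.filter fun i => ¬ p i, c i * c i := sum_nonneg fun i _ => mul_self_nonneg _
  have h8 : ∑ i ∈ s.filter p, (c i * c i - 1) =
      ∑ i ∈ s.filter p, c i * c i - (s.filter p).card := by simp [sum_sub_distrib]
  have h9 : (s.filter p).card ≠ 0 := card_ne_zero.2 (filter_nonempty_iff.2 h0)
  refine ⟨by omega, fun i hi => ⟨fun h => sub_eq_zero.1 ((sum_eq_zero_iff_of_nonneg h3).1 (by omega) i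
    (mem_filter.2 ⟨hi, h⟩)), fun h => mul_self_eq_zero.1 ((sum_eq_zero_iff_of_nonneg
      fun j _ => mul_self_nonneg (c j)).1 (show ∑ i ∈ s.filter fun i => ¬ p i, _ = 0 by omega) i
      (mem_filter.2 ⟨hi, h⟩))⟩⟩

theorem hadamard [DecidableEq ι] (hs : s.card = 4) {u v w x : ι → ℤ} (hu : ∀ i ∈ s, u i * u i = 1)
    (hv : ∀ i ∈ s, v i * v i = 1) (hw : ∀ i ∈ s, w i * w i = 1) (hx : ∀ i ∈ s, x i * x i = 1)
    (h1 : ∑ i ∈ s, u i * v i = 0) (h2 : ∑ i ∈ s, u i * w i = 0) (h3 : ∑ i ∈ s, u i * x i = 0)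
    (h4 : ∑ i ∈ s, v i * w i = 0) (h5 : ∑ i ∈ s, v i * x i = 0) (h6 : ∑ i ∈ s, w i * x i = 0)
    {i j : ι} (hi : i ∈ s) (hj : j ∈ s) :
    u i * u j + v i * v j + (w i * w j + x i * x j) = if i = j then 4 else 0 := by
  split_ifs with h
  · subst h; rw [hu i hi, hv i hi, hw i hi, hx i hi]; rfl
  set K : ι → ℤ := fun j => u i * u j + v i * v j + (w i * w j + x i * x j) with hK
  have h7 : ∑ j ∈ s, K j * K j = 16 := by
    have : ∀ j ∈ s, K j * K j = 4 + 2 * (u i * v i * (u j * v j) + u i * w i * (u j * w j) +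
        u i * x i * (u j * x j) + v i * w i * (v j * w j) + v i * x i * (v j * x j) +
        w i * x i * (w j * x j)) := fun j hj => by
      simp only [hK]
      linear_combination (u j * u j) * hu i hi + hu j hj + (v j * v j) * hv i hi + hv j hj +
        (w j * w j) * hw i hi + hw j hj + (x j * x j) * hx i hi + hx j hj
    rw [sum_congr rfl this]
    simp only [sum_add_distrib, ← mul_sum, h1, h2, h3, h4, h5, h6, sum_const, hs]
    norm_num
  rw [← add_sum_erase _ _ hi, show K i = 4 by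
    simp only [hK]; rw [hu i hi, hv i hi, hw i hi, hx i hi]; rfl] at h7
  exact mul_self_eq_zero.1 ((sum_eq_zero_iff_of_nonneg fun j _ => mul_self_nonneg (K j)).1
    (show ∑ j ∈ s.erase i, K j * K j = 0 by omega) j (mem_erase.2 ⟨Ne.symm h, hj⟩))

theorem exists_third [DecidableEq ι] (hs : s.card = 4) {u v : ι → ℤ} (hu : ∀ i ∈ s, u i * u i = 1)
    (hv : ∀ i ∈ s, v i * v i = 1) (h1 : ∑ i ∈ s, u i * v i = 0) : ∃ w : ι → ℤ,
    (∀ i ∈ s, w i * w i = 1) ∧ ∑ i ∈ s, u i * w i = 0 ∧ ∑ i ∈ s, v i * w i = 0 := by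
  have h2 : ∀ i ∈ s, u i * v i = 1 ∨ u i * v i = -1 := fun i hi =>
    mul_self_eq_one_iff.1 (by linear_combination (v i * v i) * hu i hi + hv i hi)
  obtain ⟨i, hi, h3⟩ : ∃ i ∈ s, u i * v i = 1 := by
    by_contra! h
    rw [sum_congr rfl fun i hi => (h2 i hi).resolve_left (h i hi)] at h1
    simp [hs] at h1
  obtain ⟨j, hj, h4⟩ : ∃ i ∈ s, u i * v i = -1 := by
    by_contra! h
    rw [sum_congr rfl fun i hi => (h2 i hi).resolve_right (h i hi)] at h1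
    simp [hs] at h1
  have h5 : i ≠ j := by rintro rfl; omega
  have h6 : ∀ f : ι → ℤ, ∑ k ∈ s, f k * (u k * (2 * (if k = i then 1 else 0) +
      2 * (if k = j then 1 else 0) - 1)) = 2 * (u i * f i) + 2 * (u j * f j) - ∑ k ∈ s, u k * f k := by
    intro f
    rw [sum_congr rfl (g := fun k => 2 * (if k = i then u k * f k else 0) +
      2 * (if k = j then u k * f k else 0) - u k * f k) fun k _ => by split_ifs <;> ring]
    simp [sum_sub_distrib, sum_add_distrib, ← mul_sum, hi, hj]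
  refine ⟨fun k => u k * (2 * (if k = i then 1 else 0) + 2 * (if k = j then 1 else 0) - 1),
    fun k hk => ?_, ?_, ?_⟩
  · have := hu k hk
    beta_reduce
    split_ifs with a1 a2
    · exact absurd (a1.symm.trans a2) h5
    all_goals linear_combination this
  · rw [h6, hu i hi, hu j hj, sum_congr rfl hu]; simp [hs]
  · rw [h6, h3, h4, h1]; rfl

/-- Completion of orthogonal sign vectors of length four to a Hadamard matrix. -/
theorem exists_hadamard [DecidableEq ι] (hs : s.card = 4) {u v : ι → ℤ}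
    (hu : ∀ i ∈ s, u i * u i = 1) (hv : ∀ i ∈ s, v i * v i = 1) (h1 : ∑ i ∈ s, u i * v i = 0)
    {κ : Type*} {U : Finset κ} (hU : U.card ≤ 2) {D : κ → ι → ℤ}
    (h2 : ∀ y ∈ U, ∀ i ∈ s, D y i * D y i = 1) (h3 : ∀ y ∈ U, ∑ i ∈ s, u i * D y i = 0)
    (h4 : ∀ y ∈ U, ∑ i ∈ s, v i * D y i = 0)
    (h5 : ∀ y ∈ U, ∀ y' ∈ U, y ≠ y' → ∑ i ∈ s, D y i * D y' i = 0) :
    ∃ (J : Finset (Fin 2)) (β : Fin 2 → ι → ℤ), J.card + U.card = 2 ∧
      (∀ k, ∀ i ∈ s, β k i * β k i = 1) ∧ (∀ k, ∑ i ∈ s, u i * β k i = 0) ∧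
      ∑ i ∈ s, β 0 i * β 1 i = 0 ∧ ∀ i ∈ s, ∀ j ∈ s, u i * u j + v i * v j +
        (∑ y ∈ U, D y i * D y j + ∑ k ∈ J, β k i * β k j) = if i = j then 4 else 0 := by
  classical
  have key : ∀ w : ι → ℤ, (∀ i ∈ s, w i * w i = 1) → ∑ i ∈ s, u i * w i = 0 →
      ∑ i ∈ s, v i * w i = 0 → ∃ x : ι → ℤ, (∀ i ∈ s, x i * x i = 1) ∧ ∑ i ∈ s, u i * x i = 0 ∧
        ∑ i ∈ s, v i * x i = 0 ∧ ∑ i ∈ s, w i * x i = 0 := fun w a1 a2 a3 =>
    ⟨fun i => u i * v i * w i, fun i hi => by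
      linear_combination (v i * v i * w i * w i) * hu i hi + (w i * w i) * hv i hi + a1 i hi,
      a3 ▸ sum_congr rfl fun i hi => by linear_combination (v i * w i) * hu i hi,
      a2 ▸ sum_congr rfl fun i hi => by linear_combination (u i * w i) * hv i hi,
      h1 ▸ sum_congr rfl fun i hi => by linear_combination (u i * v i) * a1 i hi⟩
  rcases show U.card = 0 ∨ U.card = 1 ∨ U.card = 2 by omega with h | h | h
  · obtain ⟨w, a1, a2, a3⟩ := exists_third hs hu hv h1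
    obtain ⟨x, b1, b2, b3, b4⟩ := key w a1 a2 a3
    refine ⟨univ, ![w, x], by simp [h], Fin.forall_fin_two.2 ⟨a1, b1⟩, Fin.forall_fin_two.2 ⟨a2, b2⟩,
      b4, fun i hi j hj => ?_⟩
    rw [card_eq_zero.1 h, sum_empty, zero_add, Fin.sum_univ_two]
    exact hadamard hs hu hv a1 b1 h1 a2 b2 a3 b3 b4 hi hj
  · obtain ⟨y, rfl⟩ := card_eq_one.1 h
    have hy := mem_singleton_self y
    obtain ⟨x, b1, b2, b3, b4⟩ := key _ (h2 y hy) (h3 y hy) (h4 y hy)
    refine ⟨{1}, ![D y, x], by simp, Fin.forall_fin_two.2 ⟨h2 y hy, b1⟩,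
      Fin.forall_fin_two.2 ⟨h3 y hy, b2⟩, b4, fun i hi j hj => ?_⟩
    rw [sum_singleton, sum_singleton]
    exact hadamard hs hu hv (h2 y hy) b1 h1 (h3 y hy) b2 (h4 y hy) b3 b4 hi hj
  · obtain ⟨y, y', hne, rfl⟩ := card_eq_two.1 h
    have hy : y ∈ ({y, y'} : Finset κ) := by simp
    have hy' : y' ∈ ({y, y'} : Finset κ) := by simp
    refine ⟨∅, ![D y, D y'], by simp [h], Fin.forall_fin_two.2 ⟨h2 y hy, h2 y' hy'⟩,
      Fin.forall_fin_two.2 ⟨h3 y hy, h3 y' hy'⟩, h5 y hy y' hy' hne, fun i hi j hj => ?_⟩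
    rw [sum_empty, add_zero, sum_pair hne]
    exact hadamard hs hu hv (h2 y hy) (h2 y' hy') h1 (h3 y hy) (h3 y' hy') (h4 y hy) (h4 y' hy')
      (h5 y hy y' hy' hne) hi hj

theorem even_sum_of_invol {σ : ι → ι} (h1 : ∀ i ∈ s, σ i ∈ s) (h2 : ∀ i, σ (σ i) = i)
    (h3 : ∀ i ∈ s, σ i ≠ i) {c : ι → ℤ} (hc : ∀ i, c (σ i) = c i) : Even (∑ i ∈ s, c i) := by
  rw [← ZMod.intCast_eq_zero_iff_even, Int.cast_sum]
  exact sum_involution (fun i _ => σ i) (fun i _ => by rw [hc]; exact CharTwo.add_self_eq_zero _)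
    (fun i hi _ => h3 i hi) h1 fun i _ => h2 i

end Int

section Fourier

variable {Q : Type*} [Group Q] [Fintype Q] (hQ : ∀ a b : Q, a * b = b * a) [Fintype (Q →* ℂˣ)]
  {f g : Q → ℂ} {c d : (Q →* ℂˣ) → ℤ}

include hQ

theorem apply_eq_coef (hf : ∀ μ, ip f (lf μ) = c μ) (u : Q) : f u = ∑ μ, (c μ : ℂ) * μ u := by
  rw [H8.apply_eq_sum_lin hQ f u]; simp only [hf]

theorem parseval (hf : ∀ μ, ip f (lf μ) = c μ) (hg : ∀ μ, ip g (lf μ) = d μ) :
    ∑ u, f u * conj (g u) = (Nat.card Q * ∑ μ, c μ * d μ : ℤ) := by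
  have h1 : g = ∑ μ, (d μ : ℂ) • lf μ := funext fun u => by
    rw [apply_eq_coef hQ hg, Finset.sum_apply]; rfl
  have h2 : ip f g = ∑ μ, (c μ : ℂ) * d μ := by
    rw [h1, H7.ip_sum_right]
    exact sum_congr rfl fun μ _ => by rw [H7.ip_smul_right, hf, map_intCast, mul_comm]
  rw [H7.ip_def, inv_mul_eq_iff_eq_mul₀ (H7.card_ne_zero' Q)] at h2
  rw [h2]; push_cast; rfl

theorem card_univ_lin : (univ : Finset (Q →* ℂˣ)).card = Nat.card Q := by
  rw [card_univ, ← Nat.card_eq_fintype_card, H8.card_lin hQ]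

theorem sum_erase_one [DecidableEq Q] (hf : ∀ μ, ip f (lf μ) = c μ) (hg : ∀ μ, ip g (lf μ) = d μ) :
    ∑ u ∈ univ.erase 1, f u * conj (g u) = sF univ c d := by
  have h1 := parseval hQ hf hg
  rw [← add_sum_erase _ _ (mem_univ 1), apply_eq_coef hQ hf 1, apply_eq_coef hQ hg 1] at h1
  simp only [map_one, Units.val_one, mul_one, map_sum, map_intCast] at h1
  rw [sF, card_univ_lin hQ]
  push_cast at h1 ⊢
  linear_combination h1

variable {z : Q} (hz : z * z = 1) (hz1 : z ≠ 1)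
include hz

omit hQ in
theorem lin_z {μ : Q →* ℂˣ} (h : μ z ≠ 1) : (μ z : ℂ) = -1 :=
  (mul_self_eq_one_iff.1 (by rw [← Units.val_mul, ← map_mul, hz]; simp)).resolve_left
    fun h' => h (Units.ext h')

variable [DecidablePred fun μ : Q →* ℂˣ => μ z = 1]

theorem apply_z (hf : ∀ μ, ip f (lf μ) = c μ) :
    f z = (∑ μ with μ z = 1, c μ - ∑ μ with ¬ μ z = 1, c μ : ℤ) := by
  rw [apply_eq_coef hQ hf, ← sum_filter_add_sum_filter_not univ fun μ => μ z = 1]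
  push_cast
  rw [sub_eq_add_neg, ← sum_neg_distrib]
  congr 1
  · exact sum_congr rfl fun μ hμ => by rw [(mem_filter.1 hμ).2]; simp
  · exact sum_congr rfl fun μ hμ => by rw [lin_z hz (mem_filter.1 hμ).2]; simp

include hz1

theorem card_ev : 2 * (univ.filter fun μ : Q →* ℂˣ => μ z = 1).card = Nat.card Q ∧
    2 * (univ.filter fun μ : Q →* ℂˣ => ¬ μ z = 1).card = Nat.card Q := by
  have h1 := H8.sum_lin_eq_zero hQ hz1
  rw [← sum_filter_add_sum_filter_not univ fun μ => μ z = 1,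
    sum_congr rfl (g := fun _ => 1) fun μ hμ => by rw [(mem_filter.1 hμ).2]; simp,
    sum_congr rfl (g := fun _ => -1) fun μ hμ => lin_z hz (mem_filter.1 hμ).2] at h1
  simp only [sum_const, nsmul_eq_mul, mul_one, mul_neg, add_neg_eq_zero, Nat.cast_inj] at h1
  have h2 := card_filter_add_card_filter_not (s := univ) fun μ : Q →* ℂˣ => μ z = 1
  rw [card_univ_lin hQ] at h2
  replace h1 : _ = (univ.filter fun μ : Q →* ℂˣ => ¬ μ z = 1).card := h1
  omega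

theorem sum_erase_z [DecidableEq Q] (hf : ∀ μ, ip f (lf μ) = c μ) :
    ∑ u ∈ (univ.erase 1).erase z, f u * conj (f u) =
      (2 * sF (univ.filter fun μ => μ z = 1) c c + 2 * sF (univ.filter fun μ => ¬ μ z = 1) c c : ℤ) := by
  have h1 := sum_erase_one hQ hf hf
  rw [← add_sum_erase _ _ (mem_erase.2 ⟨hz1, mem_univ z⟩), apply_z hQ hz hf, map_intCast, sF,
    card_univ_lin hQ, ← sum_filter_add_sum_filter_not univ (fun μ => μ z = 1),
    ← sum_filter_add_sum_filter_not univ (fun μ => μ z = 1) c] at h1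
  obtain ⟨h2, h3⟩ := card_ev hQ hz hz1
  have h4 := congrArg (Nat.cast : ℕ → ℂ) h2
  have h5 := congrArg (Nat.cast : ℕ → ℂ) h3
  simp only [sF]
  push_cast at h1 h4 h5 ⊢
  linear_combination h1 - (∑ μ with μ z = 1, (c μ : ℂ) * c μ) * h4 -
    (∑ μ with ¬ μ z = 1, (c μ : ℂ) * c μ) * h5

omit hz hz1 in
theorem rd_mul_conj_ne_zero_iff {M : Ideal AlgInt} [M.IsMaximal] [hM : PMod M 2] {k : ℕ}
    (hk : Nat.card Q = 2 ^ k) (hf : ∀ μ, ip f (lf μ) = c μ) (u : Q) :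
    rd M (f u * conj (f u)) ≠ 0 ↔ Odd (∑ μ, c μ) := by
  have h1 : ∀ μ : Q →* ℂˣ, (μ u : ℂ) ^ 2 ^ k = 1 := fun μ => by
    rw [← Units.val_pow_eq_pow_val, ← map_pow, ← hk, pow_card_eq_one', map_one, Units.val_one]
  have key : ∀ w : (Q →* ℂˣ) → ℂ, (∀ μ, w μ ^ 2 ^ k = 1) → ∑ μ, c μ * w μ ∈ locRing M ∧
      rd M (∑ μ, c μ * w μ) = (∑ μ, c μ : ℤ) := fun w hw => by
    have h2 := fun μ => H8.rd_eq_one_of_pow_eq_one hM.out (hw μ)
    have h3 := fun μ => mul_mem (intCast_mem (locRing M) (c μ)) (h2 μ).1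
    refine ⟨sum_mem fun μ _ => h3 μ, ?_⟩
    rw [H8.rd_sum _ _ fun μ _ => h3 μ, Int.cast_sum]
    exact sum_congr rfl fun μ _ => by
      rw [H8.rd_mul (intCast_mem _ _) (h2 μ).1, (h2 μ).2, H8.rd_intCast, mul_one]
  obtain ⟨h2, h3⟩ := key _ h1
  obtain ⟨h4, h5⟩ := key (fun μ => conj (μ u : ℂ)) fun μ => by rw [← map_pow, h1, map_one]
  rw [apply_eq_coef hQ hf, map_sum]
  simp only [map_mul, map_intCast]
  rw [H8.rd_mul h2 h4, h3, h5, mul_self_ne_zero, Ne, intCast_res_eq_zero_iff (p := 2),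
    ← Int.not_even_iff_odd, even_iff_two_dvd]
  rfl

omit hQ hz hz1 [Fintype (Q →* ℂˣ)] in
/-- Inner products of the columns of Fourier coefficients. -/
theorem sum_ip_mul {ι : Type*} {s : Finset ι} {W : ι → Q → ℂ} {T : Q → Prop} {τ : Q → Q}
    [DecidableEq Q] (h : ∀ u v, ¬ T u → ¬ T v → ∑ i ∈ s, W i u * conj (W i v) =
      Nat.card Q * ((if v = u then 1 else 0) + if v = τ u then 1 else 0))
    {θ φ : Q → ℂ} (hθ : ∀ u, T u → θ u = 0) (hφ : ∀ u, T u → φ u = 0) :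
    ∑ i ∈ s, ip (W i) θ * conj (ip (W i) φ) = ip φ θ + ip (fun u => φ (τ u)) θ := by
  have h0 := H7.card_ne_zero' Q
  have h1 : ∀ u v, ∑ i ∈ s, W i u * conj (θ u) * (conj (W i v) * φ v) = conj (θ u) * φ v *
      (Nat.card Q * ((if v = u then 1 else 0) + if v = τ u then 1 else 0)) := fun u v => by
    by_cases hu : T u
    · simp [hθ u hu]
    by_cases hv : T v
    · simp [hφ v hv]
    rw [← h u v hu hv, mul_sum]
    exact sum_congr rfl fun i _ => by ring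
  simp only [H7.ip_def, map_mul, map_sum, map_inv₀, map_natCast, Complex.conj_conj]
  rw [sum_congr rfl fun i _ => by rw [mul_mul_mul_comm, sum_mul_sum], ← mul_sum, sum_comm,
    sum_congr rfl fun u _ => by rw [sum_comm, sum_congr rfl fun v _ => h1 u v]]
  simp only [mul_add, mul_ite, mul_one, mul_zero, sum_add_distrib,
    sum_ite_eq', mem_univ, if_true, ← sum_mul]
  field_simp
  simp only [mul_comm]

end Fourier

end Cfsg.Agent.H9
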