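import Mathlib
import Cfsg.Agent.H9.TB3
import Cfsg.Agent.H3.Two

/-!
Subsections of a `2`-block whose defect group has maximal class.
-/

set_option autoImplicit false
set_option linter.unusedSectionVars false

namespace Cfsg.Agent.H9

open MonoidAlgebra Cfsg Finset
open Cfsg.Agent.H8 (locRing resField res rd eB IsBlockUnion sb sbk FC FRep sb_spec sb_eq sb_blk
  sbk_spec centralizer_zpowers sbk_subs irr_isClassFunction lf fc_conj)
open Cfsg.Agent.H7 (ip)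
open Cfsg.Agent.H3 (MC MCD)
open Subgroup (zpowers)
open scoped ComplexConjugate

local notation "𝐂" Q => Subgroup.centralizer (SetLike.coe (Q : Subgroup _))
local notation "𝐍" Q => Subgroup.normalizer (SetLike.coe (Q : Subgroup _))
local notation "𝐙" x => Subgroup.centralizer (Singleton.singleton x : Set _)

variable {G : Type*} [Group G] [Finite G] {P : Subgroup G} {a b z t u v x : G} {m : ℕ}

/-- A cyclic subgroup of index two on which the outer elements fix only `1` and `z`. -/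
structure IX (P : Subgroup G) (a b z : G) : Prop where
  a_mem : a ∈ P
  b_mem : b ∈ P
  nmem : b ∉ zpowers a
  nrm : b ∈ 𝐍 (zpowers a)
  sq : b * b ∈ zpowers a
  cover : ∀ x ∈ P, x ∉ zpowers a → ∃ g ∈ P, g * b * g⁻¹ = x ∨ g * (a * b) * g⁻¹ = x
  z_mem : z ∈ zpowers a
  z_ne : z ≠ 1
  fix : ∀ u ∈ zpowers a, b * u * b⁻¹ = u ↔ u = 1 ∨ u = z

theorem ix_of_mc (h : MC P a b m) : IX P a b (a ^ 2 ^ (m - 1)) :=
  ⟨h.a_mem, h.b_mem, h.nmem, h.b_nrm, sq b ▸ h.sq_mem, fun _ hx h1 => (h.conj_or hx h1).elim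
    (fun ⟨g, hg, e⟩ => ⟨g, h.le hg, .inl e⟩) fun ⟨g, hg, e⟩ => ⟨g, h.le hg, .inr e⟩, h.z_mem, h.z_ne,
    fun _ hu => by rw [mul_inv_eq_iff_eq_mul, eq_comm, h.commute_iff hu, h.mem_z_iff]⟩

/-- Conjugation by `b` on `⟨a⟩`. -/
def tq (h : b ∈ 𝐍 (zpowers a)) : MulAut (zpowers a) := (zpowers a).normalizerMonoidHom ⟨b, h⟩

omit [Finite G] in
theorem coe_tq (h : b ∈ 𝐍 (zpowers a)) (u : zpowers a) : (tq h u : G) = b * u * b⁻¹ := rfl

theorem IX.tq_tq (h : IX P a b z) (u : zpowers a) : tq h.nrm (tq h.nrm u) = u :=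
  Subtype.ext (by
    rw [coe_tq, coe_tq, show b * (b * u * b⁻¹) * b⁻¹ = b * b * u * (b * b)⁻¹ by group,
      H3.comm_of_mem_zpowers h.sq u.2, mul_inv_cancel_right])

omit [Finite G] in
theorem IX.le (h : IX P a b z) : zpowers a ≤ P := Subgroup.zpowers_le.2 h.a_mem

omit [Finite G] in
theorem IX.ab_nmem (h : IX P a b z) : a * b ∉ zpowers a := fun h1 =>
  h.nmem ((Subgroup.mul_mem_cancel_left _ (Subgroup.mem_zpowers a)).1 h1)

section Us

variable {F : Type*} [Field F] {p : ℕ} {e : F[G]}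

variable (p P e a) in
/-- `y` is fused into `⟨a⟩`. -/
def Fz (y : G) : Prop := ∃ u ∈ zpowers a, FC p P e y u

open Classical in
variable (p P e a b) in
/-- Representatives of the fusion classes missing `⟨a⟩`. -/
noncomputable def Us : Finset G := (if Fz P a p e b then ∅ else {b}) ∪
  if Fz P a p e (a * b) ∨ FC p P e b (a * b) then ∅ else {a * b}

omit [Finite G] in
theorem mem_Us {y : G} : y ∈ Us P a b p e ↔ ¬ Fz P a p e b ∧ y = b ∨
    ¬ (Fz P a p e (a * b) ∨ FC p P e b (a * b)) ∧ y = a * b := by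
  classical
  rw [Us, mem_union]
  split_ifs <;> simp [*]

omit [Finite G] in
open Classical in
theorem IX.card_Us (h : IX P a b z) : (Us P a b p e).card = (if Fz P a p e b then 0 else 1) +
    if Fz P a p e (a * b) ∨ FC p P e b (a * b) then 0 else 1 := by
  have : b ≠ a * b := fun h1 => h.z_ne (by
    have := h.z_mem
    rwa [show a = 1 by simpa using h1, Subgroup.zpowers_one_eq_bot] at this)
  rw [Us]
  split_ifs <;> simp [*]

omit [Finite G] in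
theorem IX.card_Us_le (h : IX P a b z) : (Us P a b p e).card ≤ 2 := by
  rw [h.card_Us]; split_ifs <;> omega

omit [Finite G] in
theorem IX.of_mem_Us (h : IX P a b z) {y : G} (hy : y ∈ Us P a b p e) :
    y ∈ P ∧ y ∉ zpowers a ∧ ¬ Fz P a p e y := by
  rcases mem_Us.1 hy with ⟨h1, rfl⟩ | ⟨h1, rfl⟩
  exacts [⟨h.b_mem, h.nmem, h1⟩, ⟨mul_mem h.a_mem h.b_mem, h.ab_nmem, fun h2 => h1 (.inl h2)⟩]

omit [Finite G] in
theorem eq_of_mem_Us {y y' : G} (hy : y ∈ Us P a b p e) (hy' : y' ∈ Us P a b p e)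
    (h : FC p P e y y') : y = y' := by
  rcases mem_Us.1 hy with ⟨h1, rfl⟩ | ⟨h1, rfl⟩ <;> rcases mem_Us.1 hy' with ⟨h2, rfl⟩ | ⟨h2, rfl⟩
  exacts [rfl, absurd (.inr h) h2, absurd (.inr h.symm) h1, rfl]

variable [Fact p.Prime] [CharP F p]

theorem IX.exists_fc (h : IX P a b z) (he : IsPair p ⊤ P e) (hx : x ∈ P) :
    ∃ v ∈ P, FC p P e x v ∧ (v ∈ zpowers a ∨ v ∈ Us P a b p e) := by
  have h1 : ∀ y, FC p P e x y → Fz P a p e y → ∃ v ∈ P, FC p P e x v ∧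
      (v ∈ zpowers a ∨ v ∈ Us P a b p e) := fun y h1 ⟨v, h2, h3⟩ => ⟨v, h.le h2, h1.trans h3, .inl h2⟩
  have h2 : FC p P e x b → ∃ v ∈ P, FC p P e x v ∧ (v ∈ zpowers a ∨ v ∈ Us P a b p e) := fun h2 => by
    by_cases h3 : Fz P a p e b
    exacts [h1 b h2 h3, ⟨b, h.b_mem, h2, .inr (mem_Us.2 (.inl ⟨h3, rfl⟩))⟩]
  by_cases h0 : x ∈ zpowers a
  · exact ⟨x, hx, FC.refl x, .inl h0⟩
  have hab := mul_mem h.a_mem h.b_mem
  obtain ⟨g, hg, rfl | rfl⟩ := h.cover x hx h0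
  · exact h2 (fc_conj he hg h.b_mem).symm
  have h3 := (fc_conj he hg hab).symm
  by_cases h4 : Fz P a p e (a * b) ∨ FC p P e b (a * b)
  · exact h4.elim (h1 _ h3) fun h5 => h2 (h3.trans h5.symm)
  · exact ⟨_, hab, h3, .inr (mem_Us.2 (.inr ⟨h4, rfl⟩))⟩

theorem IX.sum_eq [Fintype (zpowers a)] (h : IX P a b z) (he : IsPair p ⊤ P e)
    (h1 : ∀ u ∈ zpowers a, ∀ v ∈ zpowers a, FC p P e u v → v = u ∨ v = b * u * b⁻¹)
    {R : Type*} [AddCommMonoid R] (c : G → R) (hc : ∀ u ∈ P, ∀ v ∈ P, FC p P e u v → c u = c v) :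
    ∃ Y : Finset P, FRep p P e Y ∧ 2 • ∑ y ∈ Y, c y =
      ∑ u : zpowers a, c u + (c 1 + c z) + 2 • ∑ y ∈ Us P a b p e, c y := by
  classical
  obtain ⟨Y, hY, h2⟩ := H8.exists_fRep (p := p) (P := P) (e := e)
    (fun v => (v : G) ∈ zpowers a ∨ (v : G) ∈ Us P a b p e) fun u => by
      obtain ⟨v, hv, h3⟩ := h.exists_fc he u.2
      exact ⟨⟨v, hv⟩, h3⟩
  refine ⟨Y, hY, ?_⟩
  choose r hr hr' using fun u : zpowers a => hY ⟨u, h.le u.2⟩
  have h3 : ∀ u, r u ∈ Y.filter fun y : P => (y : G) ∈ zpowers a := fun u => mem_filter.2 ⟨(hr u).1,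
    (h2 _ (hr u).1).resolve_right fun h3 => (h.of_mem_Us h3).2.2 ⟨u, u.2, (hr u).2.symm⟩⟩
  have h4 : ∑ y ∈ Y.filter (fun y : P => (y : G) ∉ zpowers a), c y = ∑ y ∈ Us P a b p e, c y := by
    refine sum_bij (fun (y : P) _ => (y : G)) (fun y hy => (h2 y (mem_filter.1 hy).1).resolve_left
      (mem_filter.1 hy).2) (fun _ _ _ _ => Subtype.ext) (fun y hy => ?_) fun _ _ => rfl
    obtain ⟨h4, h5, h6⟩ := h.of_mem_Us hy
    obtain ⟨y', ⟨h7, h8⟩, -⟩ := hY ⟨y, h4⟩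
    obtain rfl := eq_of_mem_Us hy ((h2 y' h7).resolve_left fun h9 => h6 ⟨y', h9, h8⟩) h8
    exact ⟨y', mem_filter.2 ⟨h7, h5⟩, rfl⟩
  have h5 : ∑ u : zpowers a, (if tq h.nrm u = u then c u else 0) = c 1 + c z := by
    rw [← sum_filter, show univ.filter (fun u => tq h.nrm u = u) = {1, ⟨z, h.z_mem⟩} by
      ext u
      simp only [mem_filter, mem_univ, true_and, mem_insert, mem_singleton]
      rw [Subtype.ext_iff, coe_tq, h.fix u u.2, Subtype.ext_iff, Subtype.ext_iff]; rfl,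
      sum_pair fun h5 => h.z_ne (congrArg Subtype.val h5).symm]
    rfl
  rw [← sum_filter_add_sum_filter_not Y fun y => (y : G) ∈ zpowers a, smul_add, h4, ← h5,
    ← sum_add_distrib, ← sum_fiberwise_of_maps_to fun u _ => h3 u, smul_sum]
  congr 1
  refine sum_congr rfl fun y hy => ?_
  obtain ⟨hy, hya⟩ := mem_filter.1 hy
  have h6 : FC p P e y (tq h.nrm ⟨y, hya⟩) := fc_conj he h.b_mem y.2
  have h7 := hc _ y.2 _ (h.le (tq h.nrm ⟨y, hya⟩).2) h6
  rw [show univ.filter (fun u => r u = y) = {⟨y, hya⟩, tq h.nrm ⟨y, hya⟩} by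
    ext u
    simp only [mem_filter, mem_univ, true_and, mem_insert, mem_singleton, Subtype.ext_iff (a1 := u)]
    refine ⟨fun h8 => h1 _ hya _ u.2 (h8 ▸ (hr u).2.symm), fun h8 => (hr' u y ⟨hy, ?_⟩).symm⟩
    rcases h8 with h8 | h8 <;> simp only [h8]
    exacts [FC.refl _, h6.symm]]
  by_cases h8 : tq h.nrm ⟨y, hya⟩ = ⟨y, hya⟩
  · rw [h8, pair_eq_singleton, sum_singleton, if_pos h8, two_nsmul]
  · rw [sum_pair (Ne.symm h8), if_neg h8, h.tq_tq, if_neg (Ne.symm h8), ← h7, two_nsmul]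
    simp

end Us

section Grp

theorem zpowers_eq_of_orderOf (h : MC P a b m) (hu : u ∈ zpowers a) (hv : v ∈ zpowers a)
    (huv : orderOf u = orderOf v) : zpowers u = zpowers v := by
  obtain ⟨j, -, hj⟩ := (Nat.dvd_prime_pow Nat.prime_two).1
    (h.ord ▸ orderOf_dvd_of_mem_zpowers hu)
  rw [(H3.eq_zpowers_pow_of_card Nat.prime_two h.ord (Subgroup.zpowers_le.2 hu)
    (by rw [Nat.card_zpowers, hj])).2, (H3.eq_zpowers_pow_of_card Nat.prime_two h.ord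
    (Subgroup.zpowers_le.2 hv) (by rw [Nat.card_zpowers, ← huv, hj])).2]

theorem orderOf_conj' (x u : G) : orderOf (x * u * x⁻¹) = orderOf u :=
  (MulAut.conj x).orderOf_eq u

theorem nrm_of_conj_mem (h : MC P a b m) (hu : u ∈ zpowers a) (hx : x * u * x⁻¹ ∈ zpowers a) :
    x ∈ 𝐍 (zpowers u) := by
  rw [mem_normalizer_iff_cg, cg_zpowers, zpowers_eq_of_orderOf h hx hu (orderOf_conj' x u)]

theorem conj_mem_of_nrm {Q : Subgroup G} (hx : x ∈ 𝐍 Q) (hu : u ∈ Q) : x * u * x⁻¹ ∈ Q :=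
  (Subgroup.mem_normalizer_iff.1 hx u).1 hu

theorem conj_eq_of_odd (h : MC P a b m) (ho : ¬ 2 ∣ orderOf x) (hu : u ∈ zpowers a)
    (hx : x * u * x⁻¹ ∈ zpowers a) : x * u = u * x := by
  by_cases h1 : u = 1
  · simp [h1]
  have h2 := nrm_of_conj_mem h hu hx
  have h3 := Subgroup.zpowers_le.2 hu
  have h4 := h.z_mem_of_ne h3 (by simpa using h1)
  have h5 := h.eq_z (h3 (conj_mem_of_nrm h2 h4)) (by rw [conj_pow, h.z_sq]; simp)
    (by simpa using h.z_ne)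
  exact (mem_centralizer_of_cyc (p := 2) (h.pGrp.isPGroup.to_le (h3.trans h.le)) inferInstance h2 ho
    (by rw [pow_orderOf_eq_one]; exact one_mem _) h4 h.z_ne (mul_inv_eq_iff_eq_mul.1 h5) u
    (Subgroup.mem_zpowers u)).symm

theorem cen_of_odd (h : MC P a b m) {Q : Subgroup G} (hQ : Q ≤ P) (ho : ¬ 2 ∣ orderOf x)
    (hx : x ∈ 𝐍 Q) (h1 : ∀ r ∈ Q, x * r * x⁻¹ ∈ zpowers a ↔ r ∈ zpowers a) : x ∈ 𝐂 Q := by
  intro y hy
  by_cases hya : y ∈ zpowers a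
  · exact (conj_eq_of_odd h ho hya ((h1 y hy).2 hya)).symm
  have h2 := conj_mem_of_nrm hx hy
  obtain ⟨c, hc, h3⟩ : ∃ c ∈ zpowers a, x * y * x⁻¹ = c * y :=
    ⟨_, h.mul_inv_mem (hQ h2) (hQ hy) (mt (h1 y hy).1 hya) hya, by group⟩
  have h4 : c ∈ Q := (Subgroup.mul_mem_cancel_right _ hy).1 (h3 ▸ h2)
  have h5 : Commute x c := conj_eq_of_odd h ho hc ((h1 c h4).2 hc)
  have h6 : ∀ k : ℕ, x ^ k * y = c ^ k * y * x ^ k := fun k => by
    induction k with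
    | zero => simp
    | succ k ih =>
      calc x ^ (k + 1) * y = x * (c ^ k * y * x ^ k) := by rw [pow_succ', mul_assoc, ih]
        _ = x * c ^ k * x⁻¹ * (x * y * x⁻¹) * x ^ (k + 1) := by group
        _ = _ := by rw [h3, (h5.pow_right k).eq]; group
  have h7 := h6 (orderOf x)
  rw [pow_orderOf_eq_one, one_mul, mul_one, right_eq_mul] at h7
  have h8 : c = 1 := by
    refine orderOf_eq_one_iff.1 (Nat.eq_one_of_dvd_coprimes ?_ (orderOf_dvd_of_pow_eq_one h7)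
      (h.ord ▸ orderOf_dvd_of_mem_zpowers hc))
    exact ((Nat.Prime.coprime_iff_not_dvd Nat.prime_two).2 ho).symm.pow_right m
  rw [h8, one_mul, mul_inv_eq_iff_eq_mul] at h3
  exact h3.symm

theorem card_inf_Z (h : MC P a b m) (u : zpowers a) [Decidable (tq h.b_nrm u = u)] :
    Nat.card (P ⊓ 𝐙 (u : G) : Subgroup G) = 2 ^ m * (1 + if tq h.b_nrm u = u then 1 else 0) := by
  have h1 : tq h.b_nrm u = u ↔ (u : G) ∈ zpowers (a ^ 2 ^ (m - 1)) := by
    rw [Subtype.ext_iff, coe_tq, (ix_of_mc h).fix u u.2, h.mem_z_iff]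
  split_ifs with h2
  · rw [inf_eq_left.2, h.card, pow_succ]
    intro x hx
    rw [Subgroup.mem_centralizer_singleton_iff]
    exact Subgroup.zpowers_le.2 h.z_cen (h1.1 h2) x hx
  · rw [h.cen1_of_mem u.2 (mt h1.2 h2), h.card_a, add_zero, mul_one]

theorem exists_nu (h : MC P a b m) : ∃ ν : zpowers a →* ℂˣ, ν ≠ 1 ∧
    ν ⟨_, h.z_mem⟩ = 1 ∧ ∀ μ, H8.cmp μ (tq h.b_nrm) = μ ↔ μ = 1 ∨ μ = ν := by
  set a' : zpowers a := ⟨a, Subgroup.mem_zpowers a⟩ with ha'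
  have h1 : ∀ x : zpowers a, x ∈ zpowers a' := fun x => by
    obtain ⟨x, k, rfl⟩ := x
    exact ⟨k, rfl⟩
  obtain ⟨k, rfl⟩ := Nat.exists_eq_add_of_le' h.two_le
  have h2 : orderOf a' = 2 ^ (k + 2) := by rw [← h.ord, ha', Subgroup.orderOf_mk]
  have h3 : orderOf (-1 : ℂˣ) ∣ orderOf a' := by
    rw [h2]; exact orderOf_dvd_of_pow_eq_one (Even.neg_one_pow (by simp [Nat.even_pow]))
  have h4 := monoidHomOfForallMemZpowers_apply_gen h1 h3
  have h5 : (⟨_, h.z_mem⟩ : zpowers a) = (a' ^ 2) ^ 2 ^ k := Subtype.ext (by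
    simp only [ha', SubmonoidClass.mk_pow, ← pow_mul, ← pow_succ']; rfl)
  refine ⟨monoidHomOfForallMemZpowers h1 h3, fun h6 => ?_, by rw [h5, map_pow, map_pow, h4]; simp,
    fun μ => ?_⟩
  · rw [h6] at h4
    have := congrArg Units.val h4
    norm_num at this
  simp only [MonoidHom.eq_iff_eq_on_generator h1, h4, H8.cmp_apply, MonoidHom.one_apply]
  rw [← Units.val_inj (b := 1), ← Units.val_inj (b := -1), Units.val_one, Units.val_neg,
    Units.val_one, ← mul_self_eq_one_iff, ← Units.val_mul, Units.val_eq_one, ← sq]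
  rcases h.conj with h6 | ⟨h7, h6⟩
  · rw [show tq h.b_nrm a' = a'⁻¹ from Subtype.ext h6, map_inv, inv_eq_iff_mul_eq_one, sq]
  · rw [show tq h.b_nrm a' = a'⁻¹ * ⟨_, h.z_mem⟩ from Subtype.ext h6, map_mul, map_inv, h5, map_pow,
      map_pow, inv_mul_eq_iff_eq_mul, ← sq]
    refine ⟨fun h8 => ?_, fun h8 => by rw [h8, one_pow]⟩
    obtain ⟨k, rfl⟩ := Nat.exists_eq_add_of_le' (show 1 ≤ k by omega)
    have h9 : (μ a' ^ 2) ^ 2 = 1 := by
      rw [← h8, ← pow_mul, ← pow_mul, ← map_pow, ← pow_succ, ← pow_succ', ← h2, pow_orderOf_eq_one,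
        map_one]
    rw [← h8, pow_succ' 2, pow_mul, h9, one_pow]

end Grp

end Cfsg.Agent.H9
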