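import Mathlib
import Cfsg.Agent.H9.TB4

/-!
Generalized decomposition numbers on the cyclic maximal subgroup of a defect group of maximal class.
-/

set_option autoImplicit false
set_option linter.unusedSectionVars false

namespace Cfsg.Agent.H9

open MonoidAlgebra Cfsg Finset
open Cfsg.Agent.H8 (locRing resField res rd eB IsBlockUnion sb sbk FC FRep sb_spec sb_eq sb_blk
  sbk_spec centralizer_zpowers sbk_subs irr_isClassFunction lf fc_conj)
open Cfsg.Agent.H7 (ip)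
open Cfsg.Agent.H3 (MC MCD)
open Subgroup (zpowers)
open scoped ComplexConjugate

local notation "𝐂" Q => Subgroup.centralizer (SetLike.coe (Q : Subgroup _))
local notation "𝐍" Q => Subgroup.normalizer (SetLike.coe (Q : Subgroup _))
local notation "𝐙" x => Subgroup.centralizer (Singleton.singleton x : Set _)

variable {M : Ideal AlgInt} [hMm : M.IsMaximal]
variable {G : Type*} [Group G] [Finite G] {P : Subgroup G} {a b z t u v x y : G} {m : ℕ}
  {B : Set (IrrCharacter G)} {e : (resField M)[G]}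

section Sum

variable {p : ℕ} [Fact p.Prime] [PMod M p] [Fintype (zpowers a)] (hB : IsPBlock M B)
  (hm : MaxPair p ⊤ (eB M B) P e) (h : IX P a b z)
  (h1 : ∀ u ∈ zpowers a, ∀ v ∈ zpowers a, FC p P e u v → v = u ∨ v = b * u * b⁻¹)
include hB hm

theorem rank_fc (hu : u ∈ P) (hv : v ∈ P) (h : FC p P e u v) :
    blockRank p (sbk M p P e u) = blockRank p (sbk M p P e v) := by
  apply Nat.cast_injective (R := ℂ)
  rw [← (sbk_subs hB hm hu).sum_contr_self, ← (sbk_subs hB hm hv).sum_contr_self]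
  exact sum_congr rfl fun χ _ =>
    H8.contr_fc hm.pair.1 (irr_isClassFunction χ) (irr_isClassFunction χ) hu hv h

include h h1

theorem IX.sum_rank : 2 * Nat.card B = ∑ u : zpowers a, blockRank p (sbk M p P e u) +
    (blockRank p B + blockRank p (sbk M p P e z)) +
    2 * ∑ y ∈ Us P a b p e, blockRank p (sbk M p P e y) := by
  obtain ⟨Y, hY, h2⟩ := h.sum_eq hm.pair.1 h1 (fun u => blockRank p (sbk M p P e u))
    fun u hu v hv => rank_fc hB hm hu hv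
  rw [← H8.card_eq_sum_sbk hB hm hY, H8.blockRank_sbk_one hB hm] at h2
  exact h2

theorem IX.sum_ct {χ : IrrCharacter G} (hχ : χ ∈ B) (ψ : IrrCharacter G) [Decidable (χ = ψ)] :
    2 * (if χ = ψ then 1 else 0) = ∑ u : zpowers a, ct M p P e u χ ψ +
      (ct M p P e 1 χ ψ + ct M p P e z χ ψ) + 2 * ∑ y ∈ Us P a b p e, ct M p P e y χ ψ := by
  obtain ⟨Y, hY, h2⟩ := h.sum_eq hm.pair.1 h1 (fun u => ct M p P e u χ ψ) fun u hu v hv =>
    H8.contr_fc hm.pair.1 (irr_isClassFunction χ) (irr_isClassFunction ψ) hu hv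
  rw [H8.sum_contr_irr hB hm hY hχ] at h2
  simpa only [nsmul_eq_mul, Nat.cast_ofNat] using h2

omit h h1 in
theorem pow_mul_ct_one {χ : IrrCharacter G} (hχ : χ ∈ B) (ψ : IrrCharacter G) :
    Nat.card P * ct M p P e 1 χ ψ = mZ p B χ ψ := by
  rw [ct, H8.contr_sbk_one hm hB (irr_isClassFunction χ), H8.blockPart_of_mem hχ,
    mZ_spec hχ (H6.isGen_of_irr ψ.2), card_isDef_eB hB hm.isDef, Nat.cast_pow]

end Sum

variable [hM : PMod M 2]

theorem Us_spec (hB : IsPBlock M B) (hm : MaxPair 2 ⊤ (eB M B) P e) (h : MC P a b m)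
    (hy : y ∈ Us P a b 2 e) :
    2 ^ blockDefect 2 (sbk M 2 P e y) = 4 ∧ blockRank 2 (sbk M 2 P e y) = 1 := by
  obtain ⟨h1, h2, h3⟩ := (ix_of_mc h).of_mem_Us hy
  obtain ⟨h4, h5⟩ := sbk_spec (M := M) hm.pair.1 h1
  have h6 := hm.isDef_sb h1 fun v hv h6 => by
    rw [(h.out h1 h2).card_cen1_b, (h.out hv fun h7 => h3 ⟨v, h7, h6⟩).card_cen1_b]
  rw [← h5] at h6
  have h7 := card_isDef_eI h4 h6
  rw [(h.out h1 h2).card_cen1_b] at h7
  refine ⟨h7.symm, (sbk_subs hB hm h1).rank_one h4 ?_⟩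
  have := orderOf_pos y
  have := mt orderOf_eq_one_iff.1 (h.out h1 h2).b_ne
  omega

variable (M B P e a b t m) in
/-- Generalized decomposition numbers on `⟨a⟩` as values of generalized characters. -/
structure TW (W : IrrCharacter G → zpowers a → ℂ) (c : IrrCharacter G → (zpowers a →* ℂˣ) → ℤ) :
    Prop where
  blk : IsPBlock M B
  max : MaxPair 2 ⊤ (eB M B) P e
  mc : MC P a b m
  coef : ∀ χ μ, ip (W χ) (lf μ) = c χ μ
  sym : ∀ χ u, W χ (tq mc.b_nrm u) = W χ u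
  col : ∀ u : zpowers a, t ∈ zpowers (u : G) →
    Col M 2 B P e u (Nat.card (P ⊓ 𝐙 (u : G) : Subgroup G)) fun χ => W χ u
  rank : ∀ u ∈ zpowers a, t ∈ zpowers u → blockRank 2 (sbk M 2 P e u) = 1 ∧
    Nat.card (P ⊓ 𝐙 u : Subgroup G) = 2 ^ blockDefect 2 (sbk M 2 P e u)
  fus : ∀ u ∈ zpowers a, ∀ v ∈ zpowers a, FC 2 P e u v → v = u ∨ v = b * u * b⁻¹
  gd : ∀ u ∈ zpowers a, u ∉ zpowers (a ^ 2 ^ (m - 1)) → t ∈ zpowers u

theorem exists_TW (hB : IsPBlock M B) (hm : MaxPair 2 ⊤ (eB M B) P e) (h : MC P a b m)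
    (ht : t ∈ zpowers a) (h1 : ∀ u ∈ zpowers a, u ∉ zpowers (a ^ 2 ^ (m - 1)) → t ∈ zpowers u)
    (h2 : ∀ x, x * t = t * x → ∀ r ∈ P, x * r * x⁻¹ ∈ P →
      (x * r * x⁻¹ ∈ zpowers a ↔ r ∈ zpowers a)) : ∃ W c, TW M P a b t m B e W c := by
  have he := hm.pair.1
  have hle := sb_spec he (h.le ht)
  have hN : P ≤ 𝐍 (zpowers t) := (h.nml_of_le (Subgroup.zpowers_le.2 ht)).2
  have hC : (𝐂 (zpowers t)) ≤ pstab ⊤ (zpowers t) (sb 2 P e t) := by
    simpa using (hle.isPair_left he).centralizer_le_pstab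
  have hL := hm.sub hle hN hC le_rfl
    ((le_inf le_rfl hN).trans (hle.inf_normalizer_le_pstab he le_top))
  have hn : IsNil 2 (pstab ⊤ (zpowers t) (sb 2 P e t)) (sb 2 P e t) :=
    hL.isNil_iff_subLE.2 fun Q f h3 x hx ho => cen_of_odd h h3.le ho hx.1.2 fun r hr =>
      h2 x (conj_eq_of_odd h ho ht (Subgroup.zpowers_le.2 ht
        (conj_mem_of_nrm hx.1.1.1.2 (Subgroup.mem_zpowers t)))) r (h3.le hr)
        (h3.le (conj_mem_of_nrm hx.1.2 hr))
  have hZ : ∀ u, t ∈ zpowers u → (𝐙 u) ≤ pstab ⊤ (zpowers t) (sb 2 P e t) := fun u hu =>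
    le_trans (centralizer_zpowers u ▸ Subgroup.centralizer_le (Subgroup.zpowers_le.2 hu)) hC
  obtain ⟨W, h3, h4⟩ := exists_W hB hm hL hn
  have h5 : ∀ χ, IsGeneralizedCharacter _ fun u : zpowers a => W χ (Subgroup.inclusion h.le u) :=
    fun χ => H6.isGen_comp _ (h3 χ)
  choose n hn' using fun χ => exists_ip_int (h5 χ)
  refine ⟨fun χ u => W χ (Subgroup.inclusion h.le u), fun χ μ => n χ ⟨lf μ, H7.irr_of_hom μ⟩,
    hB, hm, h, fun χ μ => hn' χ ⟨lf μ, H7.irr_of_hom μ⟩, fun χ u =>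
    H6.isClassFunction_of_isGen (h3 χ) (Subgroup.inclusion h.le u) ⟨b, h.b_mem⟩,
    fun u hu => h4 (Subgroup.inclusion h.le u) (hZ u hu), fun u hu h6 => loc_of_nil hB hm hL hn (h.le hu) (hZ u h6),
    fun u hu v hv ⟨g, h6, h7⟩ => ?_, h1⟩
  by_cases h8 : u ∈ zpowers (a ^ 2 ^ (m - 1))
  · rcases h.mem_z_iff.1 h8 with rfl | rfl
    · left; rw [← h6]; simp
    · exact .inl (h.eq_z hv (by rw [← h6, conj_pow, h.z_sq]; simp) (by simpa [← h6] using h.z_ne))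
  have h9 := h1 u hu h8
  have h10 : BMor 2 ⊤ P e (zpowers u) g := ⟨trivial, _, sb_spec he (h.le hu), by
    rw [cg_zpowers, h6, h7]; exact sb_spec he (h.le hv)⟩
  obtain ⟨s, hs, rfl⟩ := hL.conj_of_nil he hn (h.le hu) (h.le hv) (hZ u h9)
    ((h10.mono he (Subgroup.zpowers_le.2 h9)).mem_pstab he hle (mem_normalizer_iff_cg.1
      (nrm_of_conj_mem h ht (Subgroup.zpowers_le.2 hu
        (conj_mem_of_nrm (nrm_of_conj_mem h hu (h6 ▸ hv)) h9))))) h6 h7
  by_cases h11 : s ∈ zpowers a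
  · left; rw [H3.comm_of_mem_zpowers h11 hu, mul_inv_cancel_right]
  · exact .inr (h.conj_eq hs h11 hu)

theorem exists_TW_z (hB : IsPBlock M B) (hm : MaxPair 2 ⊤ (eB M B) P e) (h : MCD P a b m) :
    ∃ W c, TW M P a b (a ^ 2 ^ (m - 1)) m B e W c := by
  refine exists_TW hB hm h.toMC h.z_mem (fun u hu h1 => h.z_mem_of_ne (Subgroup.zpowers_le.2 hu)
    (by rintro h2; exact h1 (Subgroup.zpowers_eq_bot.1 h2 ▸ one_mem _))) fun x hx r hr hr' => ?_
  have key : ∀ r ∈ P, r ∈ zpowers a ↔ r ^ 2 ≠ 1 ∨ r = 1 ∨ r = a ^ 2 ^ (m - 1) := fun r hr =>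
    ⟨fun h1 => or_iff_not_imp_left.2 fun h2 => h.eq_one_or h1 (not_not.1 h2), by
      rintro (h1 | rfl | rfl)
      exacts [by_contra fun h2 => h1 (h.out hr h2).sq, one_mem _, h.z_mem]⟩
  rw [key r hr, key _ hr', conj_pow, Ne, conj_eq_one_iff, conj_eq_one_iff, mul_inv_eq_iff_eq_mul,
    ← hx, mul_right_inj]

theorem exists_TW_w (hB : IsPBlock M B) (hm : MaxPair 2 ⊤ (eB M B) P e) (h : MC P a b m) :
    ∃ W c, TW M P a b (a ^ 2 ^ (m - 2)) m B e W c := by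
  have h0 := h.two_le
  have h1 : a ^ 2 ^ (m - 2) ∉ zpowers (a ^ 2 ^ (m - 1)) := by
    rw [H3.pow_mem_zpowers_pow_iff (h.ord ▸ pow_dvd_pow 2 (by omega)),
      Nat.pow_dvd_pow_iff_le_right one_lt_two]
    omega
  refine exists_TW hB hm h (Subgroup.npow_mem_zpowers _ _) (fun u hu h2 => ?_) fun x hx r hr hr' => ?_
  · obtain ⟨k, -, hk⟩ := H3.exists_eq_zpowers_pow Nat.prime_two h.ord (Subgroup.zpowers_le.2 hu)
    by_cases h3 : k ≤ m - 2
    · exact hk ▸ H3.zpowers_pow_pow_le a 2 h3 (Subgroup.mem_zpowers _)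
    · exact absurd (H3.zpowers_pow_pow_le a 2 (by omega) (hk ▸ Subgroup.mem_zpowers u)) h2
  rw [← h.cen1_of_mem (Subgroup.npow_mem_zpowers _ _) h1]
  have h2 := Subgroup.mem_centralizer_singleton_iff.2 hx
  simp only [Subgroup.mem_inf, hr, hr', true_and]
  rw [Subgroup.mul_mem_cancel_right _ (inv_mem h2), Subgroup.mul_mem_cancel_left _ h2]

open Classical in
/-- Gram matrix of the columns. -/
noncomputable def gg {Q : Type*} [Group Q] (τ : MulAut Q) (α β : Q →* ℂˣ) : ℤ :=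
  (if α = β then 1 else 0) + if H8.cmp α τ = β then 1 else 0

namespace TW

variable {W : IrrCharacter G → zpowers a → ℂ} {c : IrrCharacter G → (zpowers a →* ℂˣ) → ℤ}
  (h : TW M P a b t m B e W c) {χ ψ : IrrCharacter G}
include h

theorem ix : IX P a b (a ^ 2 ^ (m - 1)) := ix_of_mc h.mc

omit h hMm hM in
theorem comm (x y : zpowers a) : x * y = y * x := Subtype.ext (H3.comm_of_mem_zpowers x.2 y.2)

theorem cmp_cmp (μ : zpowers a →* ℂˣ) : H8.cmp (H8.cmp μ (tq h.mc.b_nrm)) (tq h.mc.b_nrm) = μ :=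
  MonoidHom.ext fun u => by rw [H8.cmp_apply, H8.cmp_apply, h.ix.tq_tq]

theorem c_sym (χ : IrrCharacter G) (μ : zpowers a →* ℂˣ) :
    c χ (H8.cmp μ (tq h.mc.b_nrm)) = c χ μ := by
  have := Fintype.ofFinite (zpowers a)
  apply Int.cast_injective (α := ℂ)
  rw [← h.coef, ← h.coef, H7.ip_def, H7.ip_def, ← (tq h.mc.b_nrm).toEquiv.sum_comp
    fun u => W χ u * conj (lf μ u)]
  exact congrArg _ (sum_congr rfl fun u _ => by rw [← h.sym χ u]; rfl)

theorem orth [DecidableEq (zpowers a)] {u v : zpowers a} (hu : t ∈ zpowers (u : G))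
    (hv : t ∈ zpowers (v : G)) : ∑ χ ∈ bs B, W χ u * conj (W χ v) = Nat.card (zpowers a) *
      ((if v = u then 1 else 0) + if v = tq h.mc.b_nrm u then 1 else 0) := by
  have h1 := (h.col u hu).norm h.blk h.max (h.mc.le u.2) (h.rank u u.2 hu).1
  rw [card_inf_Z h.mc, ← h.mc.card_a] at h1
  push_cast at h1
  by_cases h2 : v = u
  · rw [h2, h1, if_pos rfl]; simp only [eq_comm]
  by_cases h3 : v = tq h.mc.b_nrm u
  · simp only [h3, h.sym, h1, if_true, add_comm]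
  rw [if_neg h2, if_neg h3, add_zero, mul_zero]
  exact (h.col v hv).orth h.blk h.max (h.mc.le v.2) (h.mc.le u.2) (fun h4 =>
    (h.fus _ u.2 _ v.2 h4.symm).elim (fun h5 => h2 (Subtype.ext h5)) fun h5 => h3 (Subtype.ext h5))
    (h.col u hu)

theorem sum_mul {α β γ δ : zpowers a →* ℂˣ} (h1 : ∀ u : zpowers a, t ∉ zpowers (u : G) → α u = β u)
    (h2 : ∀ u : zpowers a, t ∉ zpowers (u : G) → γ u = δ u) :
    ∑ χ ∈ bs B, (c χ α - c χ β) * (c χ γ - c χ δ) = gg (tq h.mc.b_nrm) γ α -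
      gg (tq h.mc.b_nrm) γ β - (gg (tq h.mc.b_nrm) δ α - gg (tq h.mc.b_nrm) δ β) := by
  classical
  have := Fintype.ofFinite (zpowers a)
  have h3 := sum_ip_mul (s := bs B) (W := W) (T := fun u => t ∉ zpowers (u : G))
    (τ := tq h.mc.b_nrm) (fun u v hu hv => h.orth (not_not.1 hu) (not_not.1 hv))
    (θ := lf α - lf β) (φ := lf γ - lf δ) (fun u hu => by simp [lf, h1 u hu])
    fun u hu => by simp [lf, h2 u hu]
  rw [show (fun u => (lf γ - lf δ) (tq h.mc.b_nrm u)) =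
    lf (H8.cmp γ (tq h.mc.b_nrm)) - lf (H8.cmp δ (tq h.mc.b_nrm)) from rfl] at h3
  simp only [H7.ip_sub_left, H7.ip_sub_right, h.coef, H8.ip_lf, map_sub, map_intCast] at h3
  apply Int.cast_injective (α := ℂ)
  simp only [gg]
  push_cast
  linear_combination h3

theorem sum_mul_col {α β : zpowers a →* ℂˣ} (h1 : ∀ u : zpowers a, t ∉ zpowers (u : G) → α u = β u)
    (hy : y ∈ P) (h2 : ¬ Fz P a 2 e y) {n : ℕ} {D : IrrCharacter G → ℤ}
    (hD : Col M 2 B P e y n fun χ => D χ) : ∑ χ ∈ bs B, (c χ α - c χ β) * D χ = 0 := by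
  have := Fintype.ofFinite (zpowers a)
  apply Int.cast_injective (α := ℂ)
  push_cast
  simp only [← h.coef, ← H7.ip_sub_right]
  simp only [H7.ip_def, mul_assoc, ← mul_sum, Finset.sum_mul]
  rw [sum_comm, sum_eq_zero fun u _ => ?_, mul_zero]
  by_cases hu : t ∈ zpowers (u : G)
  · have := hD.orth h.blk h.max hy (h.mc.le u.2) (fun h3 => h2 ⟨u, u.2, h3⟩) (h.col u hu)
    simp only [map_intCast] at this
    simp only [mul_left_comm (W _ u), ← mul_sum, this, mul_zero]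
  · simp [lf, h1 u hu]

theorem gd_a : t ∈ zpowers a :=
  h.gd a (Subgroup.mem_zpowers a) fun h1 => h.mc.a_not_mem_sq (h.mc.z_le_sq h1)

variable [Fintype (zpowers a →* ℂˣ)]

theorem ht_iff (hχ : χ ∈ B) : blockHeight 2 B (χ : G → ℂ) = 0 ↔ Odd (∑ μ, c χ μ) := by
  have := Fintype.ofFinite (zpowers a)
  have h1 := h.col ⟨a, Subgroup.mem_zpowers a⟩ h.gd_a χ hχ χ hχ
  rw [(h.rank a (Subgroup.mem_zpowers a) h.gd_a).2, Nat.cast_pow] at h1
  rw [← rd_mul_conj_ne_zero_iff (M := M) comm h.mc.card_a (h.coef χ) ⟨a, Subgroup.mem_zpowers a⟩,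
    ← h1, (sbk_subs h.blk h.max h.mc.a_mem).rd_contr_ne_zero_iff
      (sbk_spec h.max.pair.1 h.mc.a_mem).1 h.blk]
  simp [hχ]

variable {ν : zpowers a →* ℂˣ} (h1 : ν ≠ 1) (h2 : ν ⟨_, h.mc.z_mem⟩ = 1)
  (h3 : ∀ μ, H8.cmp μ (tq h.mc.b_nrm) = μ ↔ μ = 1 ∨ μ = ν)
include h1 h3

theorem ht_iff' (hχ : χ ∈ B) : blockHeight 2 B (χ : G → ℂ) = 0 ↔ Odd (c χ 1 - c χ ν) := by
  classical
  have h4 : Even (∑ μ ∈ univ \ {1, ν}, c χ μ) := even_sum_of_invol
    (σ := fun μ => H8.cmp μ (tq h.mc.b_nrm)) (fun μ hμ => by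
      simp only [mem_sdiff, mem_univ, mem_insert, mem_singleton, ← h3, h.cmp_cmp] at hμ ⊢
      rwa [eq_comm]) h.cmp_cmp (fun μ hμ => by simpa [← h3] using hμ)
    (h.c_sym χ)
  rw [h.ht_iff hχ, ← sum_sdiff (subset_univ {1, ν}), sum_pair h1.symm, Int.odd_add', Int.odd_add,
    Int.odd_sub]
  simp only [h4, iff_true]

include h2

omit h1 h3 in
theorem nu_eq (u : zpowers a) (hu : t ∉ zpowers (u : G)) : (1 : zpowers a →* ℂˣ) u = ν u := by
  rcases h.mc.mem_z_iff.1 (by_contra fun h4 => hu (h.gd u u.2 h4)) with h4 | h4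
  · rw [show u = 1 from Subtype.ext h4, map_one, map_one]
  · rw [show u = ⟨_, h.mc.z_mem⟩ from Subtype.ext h4, h2]; rfl

theorem four : ((bs B).filter fun χ : IrrCharacter G => blockHeight 2 B (χ : G → ℂ) = 0).card = 4 ∧
    ∀ χ ∈ bs B, (blockHeight 2 B (χ : G → ℂ) = 0 → (c χ 1 - c χ ν) * (c χ 1 - c χ ν) = 1) ∧
      (¬ blockHeight 2 B (χ : G → ℂ) = 0 → c χ 1 - c χ ν = 0) := by
  obtain ⟨χ, h4, h5⟩ := H8.exists_height_zero (p := 2) h.blk
  refine of_norm_four (c := fun χ => c χ 1 - c χ ν) ?_ (fun χ hχ => h.ht_iff' h1 h3 (mem_bs.1 hχ))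
    ⟨χ, mem_bs.2 h4, h5⟩
  rw [h.sum_mul (h.nu_eq h2) (h.nu_eq h2)]
  simp [gg, (h3 1).2 (.inl rfl), (h3 ν).2 (.inr rfl), h1, h1.symm]

end TW

end Cfsg.Agent.H9
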