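import Mathlib
import Cfsg.Agent.H9.TB5
import Cfsg.Agent.H9.SL5

/-!
Blocks with dihedral defect groups.
-/

set_option autoImplicit false
set_option linter.unusedSectionVars false

namespace Cfsg.Agent.H9

open MonoidAlgebra Cfsg Finset
open Cfsg.Agent.H8 (locRing resField res rd eB IsBlockUnion sb sbk FC FRep sb_spec sb_eq sb_blk
  sbk_spec centralizer_zpowers sbk_subs irr_isClassFunction lf fc_conj)
open Cfsg.Agent.H7 (ip)
open Cfsg.Agent.H3 (MC MCD)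
open Subgroup (zpowers)
open scoped ComplexConjugate

local notation "𝐙" x => Subgroup.centralizer (Singleton.singleton x : Set _)

variable {M : Ideal AlgInt} [hMm : M.IsMaximal] [hM : PMod M 2]
variable {G : Type*} [Group G] [Finite G] {P : Subgroup G} {a b t y : G} {m : ℕ}
  {B : Set (IrrCharacter G)} {e : (resField M)[G]} {χ ψ : IrrCharacter G}

theorem mZ_ge (hB : IsPBlock M B) (hχ : χ ∈ B) :
    1 ≤ mZ 2 B χ χ ∧ (blockHeight 2 B (χ : G → ℂ) ≠ 0 → 4 ≤ mZ 2 B χ χ) := by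
  have h1 : 1 ≤ mZ 2 B χ χ := (BG.irr hχ).mZ_pos fun h =>
    H8.irr_one_ne_zero χ (reg_eq_zero_iff.1 h 1 not_dvd_orderOf_one)
  refine ⟨h1, fun h => Int.le_of_dvd h1 (Dvd.dvd.trans ?_ ((pow_succ_dvd_mZ_iff hB hχ hχ).2 h))⟩
  exact pow_dvd_pow (2 : ℤ) (show 2 ≤ _ by omega)

theorem eq_zero_of_sum_mul_conj {ι : Type*} {s : Finset ι} {f : ι → ℂ}
    (h : ∑ i ∈ s, f i * conj (f i) = 0) {i : ι} (hi : i ∈ s) : f i = 0 := by
  simp only [Complex.mul_conj, ← Complex.ofReal_sum, Complex.ofReal_eq_zero] at h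
  exact Complex.normSq_eq_zero.1
    ((sum_eq_zero_iff_of_nonneg fun _ _ => Complex.normSq_nonneg _).1 h i hi)

omit hMm hM in
theorem card_sub_eq (B : Set (IrrCharacter G)) (q : IrrCharacter G → Prop) [DecidablePred q] :
    Nat.card {χ : IrrCharacter G // χ ∈ B ∧ q χ} = ((bs B).filter q).card :=
  Nat.subtype_card _ fun _ => by simp

theorem odd_of_mul_self {x : ℤ} (h : x * x = 1) : Odd x := by
  rcases mul_self_eq_one_iff.1 h with rfl | rfl <;> decide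

theorem exists_D (hB : IsPBlock M B) (hm : MaxPair 2 ⊤ (eB M B) P e) (h : MC P a b m)
    (hy : y ∈ Us P a b 2 e) (h2 : y * y = 1) : ∃ D : IrrCharacter G → ℤ,
      (Col M 2 B P e y 4 fun χ => D χ) ∧ ∀ χ ∈ bs B, (blockHeight 2 B (χ : G → ℂ) = 0 →
        D χ * D χ = 1) ∧ (¬ blockHeight 2 B (χ : G → ℂ) = 0 → D χ = 0) := by
  have h1 := ((ix_of_mc h).of_mem_Us hy).1
  obtain ⟨h3, h4⟩ := Us_spec hB hm h hy
  have h5 := sbk_subs hB hm h1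
  have h6 := (sbk_spec (M := M) hm.pair.1 h1).1
  obtain ⟨D, hD⟩ := h5.exists_int_col h6 h4 h2
  have h7 : Col M 2 B P e y 4 fun χ => D χ := fun χ _ ψ _ => by rw [← hD, ← h3, Nat.cast_pow]
  obtain ⟨χ, h8, h9⟩ := H8.exists_height_zero (p := 2) hB
  refine ⟨D, h7, (of_norm_four ?_ (fun χ hχ => ?_) ⟨χ, mem_bs.2 h8, h9⟩).2⟩
  · have := h7.norm hB hm h1 h4
    simp only [map_intCast] at this
    exact_mod_cast this
  · have := h5.rd_contr_ne_zero_iff h6 hB χ χ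
    rw [hD, map_intCast, ← Int.cast_mul, H8.rd_intCast, Ne, intCast_res_eq_zero_iff (p := 2),
      and_self_iff, and_iff_right (mem_bs.1 hχ)] at this
    rw [← this, ← Int.not_even_iff_odd, ← or_self_iff (a := Even _), ← Int.even_mul,
      even_iff_two_dvd]
    rfl

theorem sum_gg {Q : Type*} [Group Q] [Fintype (Q →* ℂˣ)] {τ : MulAut Q}
    (h : ∀ μ : Q →* ℂˣ, H8.cmp (H8.cmp μ τ) τ = μ) (μ : Q →* ℂˣ) (f : (Q →* ℂˣ) → ℤ) :
    ∑ ν, gg τ ν μ * f ν = f μ + f (H8.cmp μ τ) := by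
  classical
  have : ∀ ν, H8.cmp ν τ = μ ↔ ν = H8.cmp μ τ := fun ν =>
    ⟨fun h1 => by rw [← h1, h], fun h1 => by rw [h1, h]⟩
  simp [gg, add_mul, sum_add_distrib, this]

variable (B) in
/-- The contributions of the trivial subsection of a block with dihedral defect group. -/
structure Form (d : ℤ) (σ : IrrCharacter G → ℤ) (J : Finset (Fin 2))
    (β : Fin 2 → IrrCharacter G → ℤ) : Prop where
  eq : ∀ χ ∈ B, ∀ ψ ∈ B, mZ 2 B χ ψ = σ χ * σ ψ + d * ∑ k ∈ J, β k χ * β k ψ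
  ss : ∑ χ ∈ bs B, σ χ * σ χ = 4 * d
  sb : ∀ k, ∑ χ ∈ bs B, σ χ * β k χ = 0
  bb : ∀ k, ∑ χ ∈ bs B, β k χ * β k χ = 4
  b01 : ∑ χ ∈ bs B, β 0 χ * β 1 χ = 0
  par : ∀ k, ∀ χ ∈ B, Even (β k χ - σ χ)

namespace TW

variable {W : IrrCharacter G → zpowers a → ℂ} {c : IrrCharacter G → (zpowers a →* ℂˣ) → ℤ}

section Gen

variable (h : TW M P a b t m B e W c) [Fintype (zpowers a)] [DecidableEq (zpowers a)]
include h

theorem of_mem_erase {u : zpowers a} (hu : u ∈ (univ.erase 1).erase ⟨_, h.mc.z_mem⟩) :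
    t ∈ zpowers (u : G) ∧ u ≠ tq h.mc.b_nrm u ∧ Nat.card (P ⊓ 𝐙 (u : G) : Subgroup G) = 2 ^ m := by
  simp only [mem_erase, mem_univ, and_true, Ne, Subtype.ext_iff, Subgroup.coe_one] at hu
  have h1 : (u : G) ∉ zpowers (a ^ 2 ^ (m - 1)) := by rw [h.mc.mem_z_iff]; tauto
  refine ⟨h.gd u u.2 h1, fun h2 => h1 (h.mc.mem_z_iff.2 ((h.ix.fix u u.2).1 ?_)),
    by rw [h.mc.cen1_of_mem u.2 h1, h.mc.card_a]⟩
  exact (congrArg Subtype.val h2).symm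

theorem sum_split {R : Type*} [AddCommMonoid R] (f : zpowers a → R) : ∑ u, f u =
    f 1 + (f ⟨_, h.mc.z_mem⟩ + ∑ u ∈ (univ.erase 1).erase ⟨_, h.mc.z_mem⟩, f u) := by
  rw [add_sum_erase _ _ (mem_erase.2 ⟨fun h1 => h.mc.z_ne (congrArg Subtype.val h1), mem_univ _⟩),
    add_sum_erase _ _ (mem_univ _)]

theorem card_erase : ((univ.erase 1).erase (⟨_, h.mc.z_mem⟩ : zpowers a)).card + 2 = 2 ^ m := by
  have := h.sum_split fun _ => 1
  simp only [sum_const, smul_eq_mul, mul_one, card_univ, ← Nat.card_eq_fintype_card,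
    h.mc.card_a] at this
  omega

theorem sum_ct (hχ : χ ∈ B) (hψ : ψ ∈ B) [Decidable (χ = ψ)] :
    (2 * 2 ^ m * if χ = ψ then 1 else 0 : ℂ) = mZ 2 B χ ψ +
      2 * 2 ^ m * ct M 2 P e (a ^ 2 ^ (m - 1)) χ ψ +
      ∑ u ∈ (univ.erase 1).erase ⟨_, h.mc.z_mem⟩, W χ u * conj (W ψ u) +
      2 * 2 ^ m * ∑ y ∈ Us P a b 2 e, ct M 2 P e y χ ψ := by
  have h1 := h.ix.sum_ct h.blk h.max h.fus hχ ψ
  have h2 := pow_mul_ct_one h.blk h.max hχ ψ
  rw [h.sum_split] at h1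
  rw [h.mc.card] at h2
  rw [← sum_congr rfl fun u hu => h.col u (h.of_mem_erase hu).1 χ hχ ψ hψ,
    sum_congr rfl fun u hu => by rw [(h.of_mem_erase hu).2.2], ← mul_sum]
  push_cast at h1 h2 ⊢
  linear_combination 2 ^ m * h1 + h2

theorem trace : ∑ χ ∈ bs B, ∑ u ∈ (univ.erase 1).erase ⟨_, h.mc.z_mem⟩, W χ u * conj (W χ u) =
    2 ^ m * (2 ^ m - 2) := by
  rw [sum_comm, sum_congr rfl fun u hu => by
    rw [h.orth (h.of_mem_erase hu).1 (h.of_mem_erase hu).1, if_pos rfl,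
      if_neg (h.of_mem_erase hu).2.1, h.mc.card_a], sum_const, nsmul_eq_mul]
  have := congrArg (Nat.cast : ℕ → ℂ) h.card_erase
  push_cast at this ⊢
  linear_combination 2 ^ m * this

end Gen

theorem card_eq (h : TW M P a b t m B e W c) : Nat.card B + 1 = blockRank 2 B +
    blockRank 2 (sbk M 2 P e (a ^ 2 ^ (m - 1))) + 2 ^ (m - 1) + (Us P a b 2 e).card := by
  classical
  have := Fintype.ofFinite (zpowers a)
  have h1 := h.ix.sum_rank h.blk h.max h.fus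
  rw [h.sum_split, sum_congr rfl fun (u : zpowers a) hu => (h.rank u u.2 (h.of_mem_erase hu).1).1,
    sum_congr rfl fun y hy => (Us_spec h.blk h.max h.mc hy).2, Subgroup.coe_one,
    H8.blockRank_sbk_one h.blk h.max] at h1
  have h2 := h.card_erase
  have h3 : 2 ^ m = 2 * 2 ^ (m - 1) := by rw [← pow_succ', Nat.sub_add_cancel]; linarith [h.mc.two_le]
  simp only [sum_const, smul_eq_mul, mul_one] at h1
  omega

variable (h : TW M P a b (a ^ 2 ^ (m - 1)) m B e W c) [Fintype (zpowers a →* ℂˣ)]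
include h

omit [Fintype (zpowers a →* ℂˣ)] in
theorem eq_of_not (α β : zpowers a →* ℂˣ) (u : zpowers a)
    (hu : a ^ 2 ^ (m - 1) ∉ zpowers (u : G)) : α u = β u := by
  rw [show u = 1 from Subtype.ext (by_contra fun h1 => hu (h.mc.z_mem_of_ne
    (Subgroup.zpowers_le.2 u.2) (by simpa using h1))), map_one, map_one]

theorem col_z (hχ : χ ∈ B) (hψ : ψ ∈ B) : 2 * 2 ^ m * ct M 2 P e (a ^ 2 ^ (m - 1)) χ ψ =
    W χ ⟨_, h.mc.z_mem⟩ * conj (W ψ ⟨_, h.mc.z_mem⟩) := by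
  classical
  have := h.col ⟨_, h.mc.z_mem⟩ (Subgroup.mem_zpowers _) χ hχ ψ hψ
  rw [card_inf_Z h.mc, if_pos (Subtype.ext ((h.ix.fix _ h.mc.z_mem).2 (.inr rfl)))] at this
  push_cast at this
  linear_combination this

theorem sF_eq [Fintype (zpowers a)] [DecidableEq (zpowers a)] (χ ψ : IrrCharacter G) :
    (sF univ (c χ) (c ψ) : ℂ) = W χ ⟨_, h.mc.z_mem⟩ * conj (W ψ ⟨_, h.mc.z_mem⟩) +
      ∑ u ∈ (univ.erase 1).erase ⟨_, h.mc.z_mem⟩, W χ u * conj (W ψ u) := by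
  rw [← sum_erase_one comm (h.coef χ) (h.coef ψ), add_sum_erase _ (fun u => W χ u * conj (W ψ u))
    (mem_erase.2 ⟨fun h1 => h.mc.z_ne (congrArg Subtype.val h1), mem_univ _⟩)]

theorem sF_ne (hχ : χ ∈ B) : sF univ (c χ) (c χ) ≠ 0 := fun h0 => by
  classical
  have := Fintype.ofFinite (zpowers a)
  have h1 := sum_erase_one comm (h.coef χ) (h.coef χ)
  rw [h0, Int.cast_zero] at h1
  have h2 := h.col_z hχ hχ
  rw [eq_zero_of_sum_mul_conj h1 (mem_erase.2 ⟨fun h1 => h.mc.z_ne (congrArg Subtype.val h1),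
    mem_univ _⟩), zero_mul, mul_eq_zero] at h2
  exact H8.contr_ne_zero_of_center h.blk h.max (h.mc.le h.mc.z_mem) h.mc.z_cen hχ
    (h2.resolve_left (by simp))

theorem sum_sF : ∑ χ ∈ bs B, sF univ (c χ) (c χ) = 2 ^ m * 2 ^ m := by
  classical
  have := Fintype.ofFinite (zpowers a)
  apply Int.cast_injective (α := ℂ)
  have h1 : (⟨_, h.mc.z_mem⟩ : zpowers a) = tq h.mc.b_nrm ⟨_, h.mc.z_mem⟩ :=
    Subtype.ext ((h.ix.fix _ h.mc.z_mem).2 (.inr rfl)).symm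
  rw [Int.cast_sum, sum_congr rfl fun χ _ => h.sF_eq χ χ, sum_add_distrib, h.trace,
    h.orth (Subgroup.mem_zpowers _) (Subgroup.mem_zpowers _), if_pos rfl, if_pos h1, h.mc.card_a]
  push_cast; ring

theorem mZ_eq {D : G → IrrCharacter G → ℤ}
    (hD : ∀ y ∈ Us P a b 2 e, Col M 2 B P e y 4 fun χ => D y χ) (hχ : χ ∈ B) (hψ : ψ ∈ B)
    [Decidable (χ = ψ)] : mZ 2 B χ ψ + sF univ (c χ) (c ψ) +
      2 ^ (m - 1) * ∑ y ∈ Us P a b 2 e, D y χ * D y ψ = 2 ^ (m - 1) * if χ = ψ then 4 else 0 := by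
  classical
  have := Fintype.ofFinite (zpowers a)
  apply Int.cast_injective (α := ℂ)
  have h1 := h.sum_ct hχ hψ
  have h2 : 4 * ∑ y ∈ Us P a b 2 e, ct M 2 P e y χ ψ = ∑ y ∈ Us P a b 2 e, (D y χ : ℂ) * D y ψ := by
    rw [mul_sum]
    exact sum_congr rfl fun y hy => by simpa using hD y hy χ hχ ψ hψ
  have h3 : (2 : ℂ) ^ m = 2 * 2 ^ (m - 1) := by
    rw [← pow_succ', Nat.sub_add_cancel]; linarith [h.mc.two_le]
  rw [h.col_z hχ hψ, h3] at h1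
  push_cast
  rw [h.sF_eq]
  split_ifs at h1 ⊢ <;> linear_combination -h1 - 2 ^ (m - 1) * h2

theorem card_lin : (univ : Finset (zpowers a →* ℂˣ)).card = 2 * 2 ^ (m - 1) := by
  have := Fintype.ofFinite (zpowers a)
  rw [card_univ_lin comm, h.mc.card_a, ← pow_succ', Nat.sub_add_cancel]; linarith [h.mc.two_le]

variable {ν : zpowers a →* ℂˣ} (h1 : ν ≠ 1) (h2 : ν ⟨_, h.mc.z_mem⟩ = 1)
  (h3 : ∀ μ, H8.cmp μ (tq h.mc.b_nrm) = μ ↔ μ = 1 ∨ μ = ν) {D : G → IrrCharacter G → ℤ}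
  (hD : ∀ y ∈ Us P a b 2 e, Col M 2 B P e y 4 fun χ => D y χ)
include h1 h2 h3 hD

theorem rows : Nat.card B = 2 ^ (m - 1) + 3 ∧ ∀ χ ∈ B, ∃ k, (c χ 1 - k) * (c χ ν - k) = 0 ∧
    (blockHeight 2 B (χ : G → ℂ) = 0 → ∀ μ, μ ≠ 1 → μ ≠ ν → c χ μ = k) ∧
    (¬ blockHeight 2 B (χ : G → ℂ) = 0 → c χ 1 = k) := by
  classical
  obtain ⟨h4, h5⟩ := h.four h1 h2 h3
  have h6 := h.card_lin
  obtain ⟨n, hn⟩ : ∃ n, 2 ^ (m - 1) = 2 * n :=
    dvd_pow_self 2 (show m - 1 ≠ 0 by have := h.mc.two_le; omega)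
  have hn' : (2 : ℤ) ^ (m - 1) = 2 * n := by exact_mod_cast hn
  have hm : (2 : ℤ) ^ m = 4 * n := by
    rw [← Nat.sub_add_cancel (show 1 ≤ m by linarith [h.mc.two_le]), pow_succ, hn']; ring
  have hn0 : 0 < n := Nat.pos_of_ne_zero fun h0 => by simp [h0] at hn
  have h7 : ∀ χ ∈ B, mZ 2 B χ χ + sF univ (c χ) (c χ) ≤ 8 * n := fun χ hχ => by
    have h7 := h.mZ_eq hD hχ hχ
    have h8 : 0 ≤ ∑ y ∈ Us P a b 2 e, D y χ * D y χ := sum_nonneg fun _ _ => mul_self_nonneg _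
    rw [if_pos rfl, hn'] at h7
    nlinarith
  have h8 : ∀ χ ∈ (bs B).filter fun χ : IrrCharacter G => ¬ blockHeight 2 B (χ : G → ℂ) = 0,
      sF univ (c χ) (c χ) = 8 * n - 4 := fun χ hχ => by
    obtain ⟨hχ, h0⟩ := mem_filter.1 hχ
    rw [mem_bs] at hχ
    have a1 := (sF_even (s := univ) (by rw [h6]; exact even_two_mul _) (Int.not_odd_iff_even.1
      (mt (h.ht_iff hχ).2 h0))).resolve_left (h.sF_ne hχ)
    have a2 := (mZ_ge h.blk hχ).2 h0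
    have a3 := h7 χ hχ
    rw [h6, hn] at a1
    omega
  have h9 := fun χ hχ h0 => sF_odd (s := univ) (c := c χ) (by rw [h6, hn]; omega)
    ((h.ht_iff hχ).1 h0)
  rw [h6, hn] at h9
  have h10 := h.sum_sF
  rw [← sum_filter_add_sum_filter_not _ fun χ : IrrCharacter G => blockHeight 2 B (χ : G → ℂ) = 0,
    sum_congr rfl h8, sum_const, hm, nsmul_eq_mul] at h10
  have h11 := card_filter_add_card_filter_not (s := bs B)
    fun χ : IrrCharacter G => blockHeight 2 B (χ : G → ℂ) = 0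
  rw [h4, card_bs] at h11
  generalize ((bs B).filter fun χ : IrrCharacter G => ¬ blockHeight 2 B (χ : G → ℂ) = 0).card = j
    at h10 h11
  set H := (bs B).filter fun χ : IrrCharacter G => blockHeight 2 B (χ : G → ℂ) = 0 with hH
  have hH' : ∀ χ ∈ H, χ ∈ B ∧ blockHeight 2 B (χ : G → ℂ) = 0 := fun χ hχ =>
    ⟨mem_bs.1 (mem_filter.1 hχ).1, (mem_filter.1 hχ).2⟩
  have h12 : ∀ χ ∈ H, sF univ (c χ) (c χ) = 4 * n - 1 := by
    by_contra! h12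
    obtain ⟨χ, hχ, h12⟩ := h12
    have a1 : ∀ ψ ∈ H, sF univ (c ψ) (c ψ) = 4 * n - 1 ∨ n = 2 ∧ sF univ (c ψ) (c ψ) = 15 :=
      fun ψ hψ => by
        have := (mZ_ge h.blk (hH' ψ hψ).1).1
        have := h7 ψ (hH' ψ hψ).1
        rcases h9 ψ (hH' ψ hψ).1 (hH' ψ hψ).2 with h | h | h <;> omega
    obtain ⟨rfl, a2⟩ := (a1 χ hχ).resolve_left h12
    have a3 : ∀ ψ ∈ H, 0 ≤ sF univ (c ψ) (c ψ) - 7 ∧ 8 ∣ sF univ (c ψ) (c ψ) - 7 := fun ψ hψ => by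
      have := a1 ψ hψ; omega
    have a4 := single_le_sum (fun ψ hψ => (a3 ψ hψ).1) hχ
    have a5 := dvd_sum fun ψ hψ => (a3 ψ hψ).2
    rw [sum_sub_distrib, sum_const, h4] at a4 a5
    simp only [nsmul_eq_mul] at a4 a5
    have a6 := h.card_eq
    have a7 := blockRank_pos (p := 2) h.blk
    have a8 := (h.rank _ h.mc.z_mem (Subgroup.mem_zpowers _)).1
    have a9 := pow_defect_le_eight (p := 2) h.blk (by omega) (by omega)
    rw [← card_isDef_eB h.blk h.max.isDef, h.mc.card,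
      ← Nat.sub_add_cancel (show 1 ≤ m by linarith [h.mc.two_le]), pow_succ, pow_succ, hn] at a9
    omega
  rw [sum_congr rfl h12, sum_const, h4] at h10
  refine ⟨?_, fun χ hχ => ?_⟩
  · have : (j : ℤ) = 2 * n - 1 := by
      refine mul_right_cancel₀ (show (8 * n - 4 : ℤ) ≠ 0 by omega) ?_
      simp only [nsmul_eq_mul] at h10
      push_cast at h10
      linear_combination h10
    omega
  by_cases h0 : blockHeight 2 B (χ : G → ℂ) = 0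
  · have a1 := h12 χ (mem_filter.2 ⟨mem_bs.2 hχ, h0⟩)
    obtain ⟨-, k, i, -, -, a2⟩ := (h9 χ hχ h0).resolve_right (by omega)
    have a3 := (h5 χ (mem_bs.2 hχ)).1 h0
    have a4 : i = 1 ∨ i = ν := by
      by_contra! a4
      simp [a2 1 (mem_univ _) a4.1.symm, a2 ν (mem_univ _) a4.2.symm] at a3
    refine ⟨k, ?_, fun _ μ a5 a6 => a2 μ (mem_univ _) (by rcases a4 with rfl | rfl <;> assumption),
      fun h => absurd h0 h⟩
    rcases a4 with rfl | rfl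
    · rw [a2 ν (mem_univ _) h1, sub_self, mul_zero]
    · rw [a2 1 (mem_univ _) h1.symm, sub_self, zero_mul]
  · exact ⟨c χ 1, by simp, fun h => absurd h h0, fun _ => rfl⟩

theorem form (hD' : ∀ y ∈ Us P a b 2 e, ∀ χ ∈ bs B, (blockHeight 2 B (χ : G → ℂ) = 0 →
      D y χ * D y χ = 1) ∧ (¬ blockHeight 2 B (χ : G → ℂ) = 0 → D y χ = 0)) :
    (∀ χ ∈ B, blockHeight 2 B (χ : G → ℂ) ≤ 1) ∧
      ∃ σ J β, J.card + (Us P a b 2 e).card = 2 ∧ Form B (2 ^ (m - 1)) σ J β := by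
  classical
  obtain ⟨h4, h5⟩ := h.four h1 h2 h3
  obtain ⟨h6, h7⟩ := h.rows h1 h2 h3 hD
  choose! k hk0 hk1 hk2 using h7
  set H := (bs B).filter fun χ : IrrCharacter G => blockHeight 2 B (χ : G → ℂ) = 0 with hH
  set x : IrrCharacter G → (zpowers a →* ℂˣ) → ℤ := fun χ μ => c χ μ - k χ with hx
  have hsub : ∀ χ μ μ', c χ μ - c χ μ' = x χ μ - x χ μ' := fun χ μ μ' => by simp [hx]
  have hH' : ∀ χ ∈ H, χ ∈ B ∧ blockHeight 2 B (χ : G → ℂ) = 0 := fun χ hχ =>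
    ⟨mem_bs.1 (mem_filter.1 hχ).1, (mem_filter.1 hχ).2⟩
  have x0 : ∀ χ ∈ B, x χ 1 * x χ ν = 0 := hk0
  have x1 : ∀ χ ∈ B, blockHeight 2 B (χ : G → ℂ) = 0 → ∀ μ, μ ≠ 1 → μ ≠ ν → x χ μ = 0 :=
    fun χ hχ h0 μ a1 a2 => sub_eq_zero.2 (hk1 χ hχ h0 μ a1 a2)
  have x2 : ∀ χ ∈ B, ¬ blockHeight 2 B (χ : G → ℂ) = 0 → x χ 1 = 0 ∧ x χ ν = 0 := fun χ hχ h0 => by
    have a1 := (h5 χ (mem_bs.2 hχ)).2 h0
    have a2 : x χ 1 = 0 := sub_eq_zero.2 (hk2 χ hχ h0)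
    rw [hsub] at a1
    omega
  have x3 : ∀ χ ∈ B, ∀ μ, μ ≠ 1 → μ ≠ ν → x χ μ * x χ 1 = 0 ∧ x χ μ * x χ ν = 0 :=
    fun χ hχ μ a1 a2 => by
      by_cases h0 : blockHeight 2 B (χ : G → ℂ) = 0
      · simp [x1 χ hχ h0 μ a1 a2]
      · simp [x2 χ hχ h0]
  have g1 := (h3 1).2 (.inl rfl)
  have g2 := (h3 ν).2 (.inr rfl)
  obtain ⟨l, -, hl⟩ := exists_mem_notMem_of_card_lt_card (s := {1, ν}) (t := univ) (by
    have := Nat.pow_le_pow_right two_pos (show 1 ≤ m - 1 by have := h.mc.two_le; omega)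
    rw [h.card_lin, card_pair h1.symm]; omega)
  rw [mem_insert, mem_singleton, not_or] at hl
  have x4 : ∑ χ ∈ bs B, x χ 1 * x χ 1 = 2 := by
    have := h.sum_mul (h.eq_of_not 1 l) (h.eq_of_not 1 ν)
    rw [sum_congr rfl (g := fun χ => x χ 1 * x χ 1) fun χ hχ => by
      rw [hsub, hsub]
      linear_combination (-1) * x0 χ (mem_bs.1 hχ) - (x3 χ (mem_bs.1 hχ) l hl.1 hl.2).1 +
        (x3 χ (mem_bs.1 hχ) l hl.1 hl.2).2] at this
    simpa [gg, g1, g2, h1, Ne.symm hl.1, Ne.symm hl.2] using this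
  have x5 : ∀ μ, μ ≠ 1 → μ ≠ ν → ∀ μ', ∑ χ ∈ bs B, x χ μ * x χ μ' = gg (tq h.mc.b_nrm) μ' μ := by
    intro μ a1 a2 μ'
    by_cases a3 : μ' = 1
    · rw [a3, sum_eq_zero fun χ hχ => (x3 χ (mem_bs.1 hχ) μ a1 a2).1]; simp [gg, g1, a1.symm]
    by_cases a4 : μ' = ν
    · rw [a4, sum_eq_zero fun χ hχ => (x3 χ (mem_bs.1 hχ) μ a1 a2).2]; simp [gg, g2, a2.symm]
    have a5 : H8.cmp μ' (tq h.mc.b_nrm) ≠ 1 := fun a5 => a3 (by rw [← h.cmp_cmp μ', a5, g1])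
    have := h.sum_mul (h.eq_of_not 1 μ) (h.eq_of_not 1 μ')
    rw [sum_congr rfl (g := fun χ => x χ 1 * x χ 1 + x χ μ * x χ μ') fun χ hχ => by
      rw [hsub, hsub]
      linear_combination (-1) * (x3 χ (mem_bs.1 hχ) μ a1 a2).1 - (x3 χ (mem_bs.1 hχ) μ' a3 a4).1,
      sum_add_distrib, x4, show gg (tq h.mc.b_nrm) 1 1 = 2 by simp [gg, g1],
      show gg (tq h.mc.b_nrm) 1 μ = 0 by simp [gg, g1, a1.symm],
      show gg (tq h.mc.b_nrm) μ' 1 = 0 by simp [gg, a3, a5]] at this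
    omega
  have xs : ∀ χ μ, x χ (H8.cmp μ (tq h.mc.b_nrm)) = x χ μ := fun χ μ => by simp [hx, h.c_sym]
  have x6 : ∀ χ ∈ B, ¬ blockHeight 2 B (χ : G → ℂ) = 0 → ∃ ε, ε * ε = 1 ∧ ∑ μ, x χ μ = 2 * ε ∧
      ∀ ψ ∈ B, ∑ μ, x χ μ * x ψ μ = if χ = ψ then 2 else 0 := fun χ hχ h0 => by
    obtain ⟨μ, hμ⟩ : ∃ μ, x χ μ ≠ 0 := by
      by_contra! a1
      refine h.sF_ne hχ ?_
      rw [← sF_shift _ _ (k χ) (k χ)]
      simp [sF, show ∀ μ, c χ μ - k χ = 0 from a1]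
    have a1 : μ ≠ 1 := by rintro rfl; exact hμ (x2 χ hχ h0).1
    have a2 : μ ≠ ν := by rintro rfl; exact hμ (x2 χ hχ h0).2
    obtain ⟨i, -, a3, a4⟩ := exists_of_sum_sq_eq_one ((x5 μ a1 a2 μ).trans (by
      simp [gg, h3, a1, a2]))
    obtain rfl : χ = i := by_contra fun a5 => hμ (a4 χ (mem_bs.2 hχ) a5)
    have a5 : ∀ μ', x χ μ' = x χ μ * gg (tq h.mc.b_nrm) μ' μ := fun μ' => by
      rw [← x5 μ a1 a2, sum_eq_single_of_mem χ (mem_bs.2 hχ) fun ψ hψ a5 => by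
        rw [a4 ψ hψ a5, zero_mul], ← mul_assoc, a3, one_mul]
    have a6 : ∀ f : (zpowers a →* ℂˣ) → ℤ, ∑ μ', x χ μ' * f μ' =
        x χ μ * (f μ + f (H8.cmp μ (tq h.mc.b_nrm))) := fun f => by
      rw [← sum_gg h.cmp_cmp, mul_sum]
      exact sum_congr rfl fun μ' _ => by rw [a5 μ', mul_assoc]
    refine ⟨x χ μ, a3, by simpa [mul_comm] using a6 fun _ => 1, fun ψ hψ => ?_⟩
    rw [a6, xs]
    split_ifs with a7
    · rw [← a7, mul_add, a3]; rfl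
    · rw [a4 ψ (mem_bs.2 hψ) (Ne.symm a7)]; simp
  have x7 : ∀ χ ∈ H, ∀ f : (zpowers a →* ℂˣ) → ℤ,
      ∑ μ, x χ μ * f μ = x χ 1 * f 1 + x χ ν * f ν := fun χ hχ f => by
    rw [← sum_subset (subset_univ {1, ν}) fun μ _ a1 => by
      rw [mem_insert, mem_singleton, not_or] at a1
      rw [x1 χ (hH' χ hχ).1 (hH' χ hχ).2 μ a1.1 a1.2, zero_mul], sum_pair h1.symm]
  set σ : IrrCharacter G → ℤ := fun χ => ∑ μ, x χ μ with hσ
  have x8 : ∀ χ ∈ H, σ χ = x χ 1 + x χ ν := fun χ hχ => by simpa using x7 χ hχ fun _ => 1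
  have x9 : ∀ χ ∈ H, (x χ 1 - x χ ν) * (x χ 1 - x χ ν) = 1 := fun χ hχ =>
    hsub χ 1 ν ▸ (h5 χ (mem_filter.1 hχ).1).1 (hH' χ hχ).2
  have x10 : ∀ χ ∈ H, σ χ * σ χ = 1 := fun χ hχ => by
    rw [x8 χ hχ]; linear_combination x9 χ hχ + 4 * x0 χ (hH' χ hχ).1
  have hS : ∀ f : IrrCharacter G → ℤ, (∀ χ ∈ B, ¬ blockHeight 2 B (χ : G → ℂ) = 0 → f χ = 0) →
      ∑ χ ∈ H, f χ = ∑ χ ∈ bs B, f χ := fun f hf =>
    sum_filter_of_ne fun χ hχ a1 => by_contra fun a2 => a1 (hf χ (mem_bs.1 hχ) a2)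
  have d0 : ∀ y ∈ Us P a b 2 e, ∀ α β, ∑ χ ∈ H, (x χ α - x χ β) * D y χ = 0 := fun y hy α β => by
    rw [hS _ fun χ hχ h0 => by rw [(hD' y hy χ (mem_bs.2 hχ)).2 h0, mul_zero]]
    simpa only [hsub] using h.sum_mul_col (h.eq_of_not α β) (h.ix.of_mem_Us hy).1
      (h.ix.of_mem_Us hy).2.2 (hD y hy)
  obtain ⟨J, β, b1, b2, b3, b4, b5⟩ := exists_hadamard h4 x10 x9 (by
      rw [sum_congr rfl (g := fun χ => 2 * (x χ 1 * x χ 1) - 1) fun χ hχ => by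
        rw [x8 χ hχ]; linear_combination (-1) * x9 χ hχ - 2 * x0 χ (hH' χ hχ).1, sum_sub_distrib,
        ← mul_sum, hS _ fun χ hχ h0 => by rw [(x2 χ hχ h0).1, mul_zero], x4]
      simp [h4])
    h.ix.card_Us_le (fun y hy χ hχ => (hD' y hy χ (mem_filter.1 hχ).1).1 (hH' χ hχ).2)
    (fun y hy => by
      rw [sum_congr rfl (g := fun χ => (x χ 1 - x χ l) * D y χ + (x χ ν - x χ l) * D y χ)
        fun χ hχ => by rw [x8 χ hχ, x1 χ (hH' χ hχ).1 (hH' χ hχ).2 l hl.1 hl.2]; ring,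
        sum_add_distrib, d0 y hy, d0 y hy, add_zero]) (fun y hy => d0 y hy 1 ν)
    fun y hy y' hy' hne => by
      have := (hD y' hy').orth h.blk h.max (h.ix.of_mem_Us hy').1 (h.ix.of_mem_Us hy).1
        (fun a1 => hne (eq_of_mem_Us hy hy' a1.symm)) (hD y hy)
      simp only [map_intCast] at this
      rw [hS _ fun χ hχ h0 => by rw [(hD' y hy χ (mem_bs.2 hχ)).2 h0, zero_mul]]
      exact_mod_cast this
  have m0 : ∀ χ ∈ B, ∀ ψ ∈ B, mZ 2 B χ ψ = σ χ * σ ψ + 2 ^ (m - 1) * ((if χ = ψ then 4 else 0) -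
      2 * ∑ μ, x χ μ * x ψ μ - ∑ y ∈ Us P a b 2 e, D y χ * D y ψ) := fun χ hχ ψ hψ => by
    have := h.mZ_eq hD hχ hψ
    rw [← sF_shift _ _ (k χ) (k ψ), sF, h.card_lin] at this
    push_cast at this
    linear_combination this
  have m1 : ∀ χ ∈ B, ¬ blockHeight 2 B (χ : G → ℂ) = 0 → ∀ ψ ∈ B, mZ 2 B χ ψ = σ χ * σ ψ :=
    fun χ hχ h0 ψ hψ => by
      obtain ⟨-, -, -, a1⟩ := x6 χ hχ h0
      rw [m0 χ hχ ψ hψ, a1 ψ hψ, sum_eq_zero fun y hy => by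
        rw [(hD' y hy χ (mem_bs.2 hχ)).2 h0, zero_mul]]
      split_ifs <;> ring
  refine ⟨fun χ hχ => ?_, σ, J, fun i χ => if blockHeight 2 B (χ : G → ℂ) = 0 then β i χ else 0, b1,
    fun χ hχ ψ hψ => ?_, ?_, fun i => ?_, fun i => ?_, ?_, fun i χ hχ => ?_⟩
  · by_contra! a1
    obtain ⟨ε, a2, a3, -⟩ := x6 χ hχ (by omega)
    obtain ⟨ψ, hψ⟩ := card_pos.1 (h4 ▸ four_pos)
    have a4 := (pow_dvd_pow (2 : ℤ) (show 2 ≤ _ from a1)).trans
      (pow_dvd_mZ (p := 2) hχ (H6.isGen_of_irr ψ.2))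
    rw [m1 χ hχ (by omega) ψ (hH' ψ hψ).1, show σ χ = 2 * ε from a3, mul_assoc] at a4
    obtain ⟨w, hw⟩ := (odd_of_mul_self a2).mul (odd_of_mul_self (x10 ψ hψ))
    omega
  · by_cases a1 : blockHeight 2 B (χ : G → ℂ) = 0
    · by_cases a2 : blockHeight 2 B (ψ : G → ℂ) = 0
      · have a3 : χ ∈ H := mem_filter.2 ⟨mem_bs.2 hχ, a1⟩
        have a4 : ψ ∈ H := mem_filter.2 ⟨mem_bs.2 hψ, a2⟩
        simp only [if_pos a1, if_pos a2]
        rw [m0 χ hχ ψ hψ, ← b5 χ a3 ψ a4, x7 χ a3, x8 χ a3, x8 ψ a4]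
        ring
      · simp [mZ_comm B χ, m1 ψ hψ a2 χ hχ, a2, mul_comm]
    · simp [m1 χ hχ a1 ψ hψ, a1]
  · have a1 := card_filter_add_card_filter_not (s := bs B)
      fun χ : IrrCharacter G => blockHeight 2 B (χ : G → ℂ) = 0
    rw [h4, card_bs, h6] at a1
    rw [← sum_filter_add_sum_filter_not _ fun χ : IrrCharacter G => blockHeight 2 B (χ : G → ℂ) = 0,
      sum_congr rfl x10, sum_congr rfl (f := fun χ => σ χ * σ χ) (g := fun _ => 4) fun χ hχ => by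
        obtain ⟨ε, a2, a3, -⟩ := x6 χ (mem_bs.1 (mem_filter.1 hχ).1) (mem_filter.1 hχ).2
        rw [show σ χ = 2 * ε from a3]; linear_combination 4 * a2]
    have a2 := congrArg (Nat.cast : ℕ → ℤ) a1
    simp only [sum_const, h4, nsmul_eq_mul]
    push_cast at a2 ⊢
    linear_combination 4 * a2
  · rw [← hS _ fun χ _ h0 => by simp [h0], ← b3 i]
    exact sum_congr rfl fun χ hχ => by rw [if_pos (hH' χ hχ).2]
  · rw [← hS _ fun χ _ h0 => by simp [h0], sum_congr rfl (g := fun _ => 1) fun χ hχ => by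
      rw [if_pos (hH' χ hχ).2, b2 i χ hχ]]
    simp [h4]
  · rw [← hS _ fun χ _ h0 => by simp [h0], ← b4]
    exact sum_congr rfl fun χ hχ => by simp only [if_pos (hH' χ hχ).2]
  · split_ifs with a1
    · have a3 : χ ∈ H := mem_filter.2 ⟨mem_bs.2 hχ, a1⟩
      exact (odd_of_mul_self (b2 i χ a3)).sub_odd (odd_of_mul_self (x10 χ a3))
    · obtain ⟨ε, -, a3, -⟩ := x6 χ hχ a1
      rw [show σ χ = 2 * ε from a3]; simp

end TW

/-- Blocks with dihedral defect groups of order at least eight. -/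
theorem dihedral_main (hB : IsPBlock M B) (hm : MaxPair 2 ⊤ (eB M B) P e) (h : MCD P a b m) :
    Nat.card B = 2 ^ (m - 1) + 3 ∧ blockRank 2 B + (Us P a b 2 e).card = 3 ∧
    ((bs B).filter fun χ : IrrCharacter G => blockHeight 2 B (χ : G → ℂ) = 0).card = 4 ∧
    (∀ χ ∈ B, blockHeight 2 B (χ : G → ℂ) ≤ 1) ∧
    ∃ σ J β, J.card + (Us P a b 2 e).card = 2 ∧ Form B (2 ^ (m - 1)) σ J β := by
  obtain ⟨W, c, h0⟩ := exists_TW_z hB hm h
  have := H8.finite_lin (Q := zpowers a)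
  have := Fintype.ofFinite (zpowers a →* ℂˣ)
  obtain ⟨ν, h1, h2, h3⟩ := exists_nu h.toMC
  choose! D hD hD' using fun y (hy : y ∈ Us P a b 2 e) => exists_D hB hm h.toMC hy (by
    rw [← sq]; exact (h.out (h0.ix.of_mem_Us hy).1 (h0.ix.of_mem_Us hy).2.1).sq)
  have h4 := (h0.rows h1 h2 h3 hD).1
  have h5 := h0.card_eq
  have h6 := (h0.rank _ h.z_mem (Subgroup.mem_zpowers _)).1
  exact ⟨h4, by omega, (h0.four h1 h2 h3).1, h0.form h1 h2 h3 hD hD'⟩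

end Cfsg.Agent.H9
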