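import Mathlib
import Cfsg.Agent.H9.TB6

/-!
The numerical part of the analysis of blocks with quaternion or semidihedral defect groups.
-/

set_option autoImplicit false

namespace Cfsg.Agent.H9

open Finset

variable {ι : Type*} [DecidableEq ι] {s : Finset ι}

theorem eq_of_pow_dvd {h j : ℕ} {x : ℤ} (hx : Odd x) (h1 : 2 ^ h ∣ 2 ^ j * x)
    (h2 : ¬ 2 ^ (h + 1) ∣ 2 ^ j * x) : h = j := by
  refine le_antisymm (by_contra fun h3 => ?_) (by_contra fun h3 => h2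
    ((pow_dvd_pow 2 (by omega)).mul_right x))
  have := (pow_dvd_pow 2 (show j + 1 ≤ h by omega)).trans h1
  rw [pow_succ, mul_dvd_mul_iff_left (by positivity)] at this
  exact Int.not_even_iff_odd.2 hx (even_iff_two_dvd.2 this)

theorem of_norm_eight {c : ι → ℤ} (h : ∑ i ∈ s, c i * c i = 8) {p : ι → Prop} [DecidablePred p]
    (hp : ∀ i ∈ s, p i ↔ Odd (c i)) (h4 : (s.filter p).card = 4) : (∀ i ∈ s, p i → c i * c i = 1) ∧
      ∃ i ∈ s, ¬ p i ∧ c i * c i = 4 ∧ ∀ j ∈ s, ¬ p j → j ≠ i → c j = 0 := by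
  have h1 : ∀ i ∈ s.filter p, 0 ≤ c i * c i - 1 ∧ 8 ∣ c i * c i - 1 := fun i hi => by
    obtain ⟨x, hx⟩ := (hp i (mem_filter.1 hi).1).1 (mem_filter.1 hi).2
    obtain ⟨y, hy⟩ := Int.even_mul_succ_self x
    exact ⟨by rw [hx]; nlinarith [Int.le_self_sq (-x)], y, by rw [hx]; linear_combination 4 * hy⟩
  have h2 : ∀ i ∈ s.filter fun i => ¬ p i, c i = 2 * (c i / 2) := fun i hi => by
    obtain ⟨x, hx⟩ := Int.not_odd_iff_even.1 (mt (hp i (mem_filter.1 hi).1).2 (mem_filter.1 hi).2)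
    omega
  have h3 : ∑ i ∈ s.filter p, (c i * c i - 1) + 4 +
      4 * ∑ i ∈ s.filter fun i => ¬ p i, c i / 2 * (c i / 2) = 8 := by
    rw [← h, ← sum_filter_add_sum_filter_not s p, mul_sum, sum_sub_distrib, sum_const, h4]
    congr 1
    · simp
    · exact sum_congr rfl fun i hi => by linear_combination (-c i - 2 * (c i / 2)) * h2 i hi
  have h5 := sum_nonneg fun i hi => (h1 i hi).1
  have h6 := dvd_sum fun i hi => (h1 i hi).2
  have h7 : 0 ≤ ∑ i ∈ s.filter fun i => ¬ p i, c i / 2 * (c i / 2) :=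
    sum_nonneg fun i _ => mul_self_nonneg _
  obtain ⟨i, hi, h8, h9⟩ := exists_of_sum_sq_eq_one (s := s.filter fun i => ¬ p i)
    (c := fun i => c i / 2) (by omega)
  refine ⟨fun i hi h => sub_eq_zero.1 ((sum_eq_zero_iff_of_nonneg fun i hi => (h1 i hi).1).1
    (by omega) i (mem_filter.2 ⟨hi, h⟩)), i, (mem_filter.1 hi).1, (mem_filter.1 hi).2,
    by linear_combination (c i + 2 * (c i / 2)) * h2 i hi + 4 * h8, fun j hj h hji => ?_⟩
  rw [h2 j (mem_filter.2 ⟨hj, h⟩), h9 j (mem_filter.2 ⟨hj, h⟩) hji, mul_zero]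

theorem qsd_core {κ : Type*} {ht : ι → ℕ} {j : ℕ} {d : ℤ} (hd : d = 2 ^ (j + 1))
    {F mz r σ : ι → ℤ} {q : ι → ι → ℤ} {J : Finset κ} {β : κ → ι → ℤ}
    (h4 : (s.filter fun i => ht i = 0).card = 4)
    (hsum : ∀ i ∈ s, mz i + q i i + F i + r i = 8 * d)
    (hmz : ∀ i ∈ s, 1 ≤ mz i ∧ (ht i ≠ 0 → 4 ≤ mz i)) (hr : ∀ i ∈ s, 0 ≤ r i)
    (hJ : J.Nonempty ∨ ∀ i ∈ s, ht i = 0 → 0 < r i)
    (hq : ∀ i ∈ s, ∀ k ∈ s, 2 ^ ht i ∣ q i k ∧ (2 ^ (ht i + 1) ∣ q i k ↔ ht k ≠ 0))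
    (hq0 : ∀ i ∈ s, q i i ≠ 0)
    (hf : ∀ i ∈ s, ∀ k ∈ s, q i k = σ i * σ k + d * ∑ l ∈ J, β l i * β l k)
    (hss : ∑ i ∈ s, σ i * σ i = 8 * d) (hbb : ∀ l ∈ J, ∑ i ∈ s, β l i * β l i = 8)
    (hpar : ∀ l, ∀ i ∈ s, Even (β l i - σ i))
    (hF : ∀ i ∈ s, ∃ x y, F i = 2 * x + 2 * y ∧ (y = 0 ∨ 4 * d - 4 ≤ y) ∧
      (ht i = 0 → x = 2 * d - 1 ∨ 4 * d - 1 ≤ x) ∧ (ht i ≠ 0 → x = 0 ∨ 4 * d - 4 ≤ x))
    (htr : ∑ i ∈ s, F i = 4 * d * (4 * d - 2)) :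
    s.card = 2 ^ (j + 2) + 3 + J.card ∧ (s.filter fun i => ht i = 1).card + 1 = 2 ^ (j + 2) ∧
      ∀ i ∈ s, ht i = 0 ∨ ht i = 1 ∨ ht i = j + 2 := by
  classical
  obtain ⟨n, hn⟩ : ∃ n : ℤ, d = 2 * n ∧ 1 ≤ n := ⟨2 ^ j, by rw [hd, pow_succ'], one_le_pow₀ one_le_two⟩
  have hb0 : ∀ i, 0 ≤ ∑ l ∈ J, β l i * β l i := fun i => sum_nonneg fun _ _ => mul_self_nonneg _
  have hb1 : ∀ i, ∀ l ∈ J, β l i * β l i ≤ ∑ l ∈ J, β l i * β l i := fun i l hl =>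
    single_le_sum (f := fun l => β l i * β l i) (fun _ _ => mul_self_nonneg _) hl
  have a1 : ∀ i ∈ s, ht i = 0 ↔ Odd (σ i) := fun i hi => by
    have b1 := hq i hi i hi
    have b2 : Even (q i i) ↔ Even (σ i) := by
      rw [hf i hi i hi, hn.1, mul_assoc, Int.even_add, Int.even_mul]; simp
    rw [← Int.not_even_iff_odd, ← b2, even_iff_two_dvd]
    refine ⟨fun h h' => (b1.2.1 (by rwa [h])) h, fun h => by_contra fun h' => h
      ((dvd_pow_self 2 h').trans b1.1)⟩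
  have a2 := fun l hl => of_norm_eight (hbb l hl) (p := fun i => ht i = 0) (fun i hi => by
    rw [a1 i hi, ← Int.not_even_iff_odd, ← Int.not_even_iff_odd, Int.even_sub.1 (hpar l i hi)]) h4
  obtain ⟨k, hk⟩ := card_pos.1 (h4 ▸ four_pos)
  obtain ⟨hk, hk0⟩ := mem_filter.1 hk
  have : Nonempty ι := ⟨k⟩
  choose! a3 ex a4 a5 a6 a7 using a2
  have a8 : ∀ i ∈ s, ht i = 0 → 1 ≤ σ i * σ i := fun i hi h => by
    obtain ⟨x, hx⟩ := (a1 i hi).1 h
    rw [hx]; nlinarith [Int.le_self_sq (-x)]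
  have a9 : ∀ i ∈ s.filter fun i => ht i = 0, F i = 4 * d - 2 := fun i hi => by
    obtain ⟨hi, h⟩ := mem_filter.1 hi
    obtain ⟨x, y, b1, b2, b3, -⟩ := hF i hi
    have b4 : 2 ≤ q i i + r i := by
      have b4 := a8 i hi h
      have b5 := hr i hi
      have b6 := hb0 i
      rw [hf i hi i hi]
      rcases hJ with ⟨l, hl⟩ | b7
      · have := hb1 i l hl
        rw [a3 l hl i hi h] at this
        nlinarith
      · have := b7 i hi h
        nlinarith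
    have := hsum i hi
    have := (hmz i hi).1
    have := b3 h
    omega
  have a10 : ∀ i ∈ s, 0 < q i i := fun i hi => lt_of_le_of_ne (by
    rw [hf i hi i hi]; nlinarith [hb0 i, mul_self_nonneg (σ i)]) (hq0 i hi).symm
  have a11 : ∀ i ∈ s, ht i ≠ 0 → q i i ≤ 8 * d - 4 ∧ (F i ≠ 0 → F i = 8 * d - 8 ∧ q i i = 4) :=
    fun i hi h => by
      obtain ⟨x, y, b1, b2, -, b3⟩ := hF i hi
      have := Int.le_of_dvd (a10 i hi) ((pow_dvd_pow 2 (show 2 ≤ ht i + 1 by omega)).trans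
        ((hq i hi i hi).2.2 h))
      have := hsum i hi
      have := (hmz i hi).2 h
      have := b3 h
      have := hr i hi
      omega
  set s1 := (s.filter fun i => ¬ ht i = 0).filter fun i => F i ≠ 0 with hs1
  set s2 := (s.filter fun i => ¬ ht i = 0).filter fun i => ¬ F i ≠ 0 with hs2
  have m1 : ∀ i, i ∈ s1 ↔ i ∈ s ∧ ht i ≠ 0 ∧ F i ≠ 0 := fun i => by simp [hs1, and_assoc]
  have m2 : ∀ i, i ∈ s2 ↔ i ∈ s ∧ ht i ≠ 0 ∧ F i = 0 := fun i => by simp [hs2, and_assoc]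
  have hsplit : ∀ f : ι → ℤ, ∑ i ∈ s, f i =
      ∑ i ∈ s.filter fun i => ht i = 0, f i + (∑ i ∈ s1, f i + ∑ i ∈ s2, f i) := fun f => by
    rw [sum_filter_add_sum_filter_not, sum_filter_add_sum_filter_not]
  have c1 : (s1.card : ℤ) = 2 * d - 1 := by
    rw [hsplit, sum_congr rfl a9, sum_congr rfl fun i hi => ((a11 i ((m1 i).1 hi).1
      ((m1 i).1 hi).2.1).2 ((m1 i).1 hi).2.2).1, sum_eq_zero fun i hi => ((m2 i).1 hi).2.2] at htr
    simp only [sum_const, h4, nsmul_eq_mul] at htr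
    refine mul_right_cancel₀ (show 8 * d - 8 ≠ 0 by omega) ?_
    push_cast at htr
    linear_combination htr
  have c2 : ∀ i ∈ s1, (∀ l ∈ J, β l i = 0) ∧ σ i * σ i = 4 := fun i hi => by
    obtain ⟨hi, h, h'⟩ := (m1 i).1 hi
    have b1 := ((a11 i hi h).2 h').2
    have b2 : ∀ l ∈ J, β l i = 0 := fun l hl => a7 l hl i hi h fun b2 => by
      have := hb1 i l hl
      rw [hf i hi i hi] at b1
      rw [b2, a6 l hl, ← b2] at this
      nlinarith [mul_self_nonneg (σ i)]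
    rw [hf i hi i hi, sum_eq_zero fun l hl => by rw [b2 l hl, zero_mul]] at b1
    exact ⟨b2, by simpa using b1⟩
  have c3 : ∀ i ∈ s2, σ i = 0 := fun i hi => by
    rw [hsplit, sum_congr rfl fun i hi => (c2 i hi).2] at hss
    have b1 := card_nsmul_le_sum _ _ _ fun i (hi : i ∈ s.filter fun i => ht i = 0) =>
      a8 i (mem_filter.1 hi).1 (mem_filter.1 hi).2
    have b2 := single_le_sum (f := fun i => σ i * σ i) (fun _ _ => mul_self_nonneg _) hi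
    simp only [sum_const, h4, nsmul_eq_mul, c1] at hss b1
    exact mul_self_eq_zero.1 (le_antisymm (by omega) (mul_self_nonneg _))
  have c4 : ∀ l ∈ J, ∀ l' ∈ J, ex l = ex l' → l = l' := fun l hl l' hl' h => by
    by_contra hne
    have b1 := (a11 _ (a4 l hl) (a5 l hl)).1
    have b2 := add_le_sum (f := fun k => β k (ex l) * β k (ex l)) (fun _ _ => mul_self_nonneg _) hl
      hl' hne
    rw [hf _ (a4 l hl) _ (a4 l hl)] at b1
    simp only [a6 l hl] at b2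
    rw [h, a6 l' hl', ← h] at b2
    nlinarith [mul_self_nonneg (σ (ex l))]
  have c5 : ∀ i ∈ s2, ∃ l ∈ J, ex l = i := fun i hi => by
    by_contra! h
    obtain ⟨hi', h1, -⟩ := (m2 i).1 hi
    refine hq0 i hi' ?_
    rw [hf i hi' i hi', c3 i hi, sum_eq_zero fun l hl => by
      rw [a7 l hl i hi' h1 (h l hl).symm, zero_mul]]
    simp
  have c6 : J.card = s2.card := card_bij (fun l _ => ex l) (fun l hl => (m2 _).2 ⟨a4 l hl, a5 l hl,
    by_contra fun h => by simpa [(c2 _ ((m1 _).2 ⟨a4 l hl, a5 l hl, h⟩)).1 l hl] using a6 l hl⟩) c4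
    fun i hi => by obtain ⟨l, hl, h⟩ := c5 i hi; exact ⟨l, hl, h⟩
  have c7 : ∀ x : ℤ, x * x = 4 → ∃ y, Odd y ∧ x = 2 * y := fun x hx => by
    rcases mul_self_eq_mul_self_iff.1 (show x * x = 2 * 2 from hx) with rfl | rfl
    exacts [⟨1, by decide, rfl⟩, ⟨-1, by decide, rfl⟩]
  have c8 : ∀ i ∈ s, ∀ j x, Odd x → q i k = 2 ^ j * x → ht i = j := fun i hi j x hx h =>
    eq_of_pow_dvd hx (h ▸ (hq i hi k hk).1) fun h' => (hq i hi k hk).2.1 (h ▸ h') hk0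
  have c9 : ∀ i ∈ s1, ht i = 1 := fun i hi => by
    obtain ⟨y, b1, b2⟩ := c7 _ (c2 i hi).2
    refine c8 i ((m1 i).1 hi).1 1 _ (b1.mul ((a1 k hk).1 hk0)) ?_
    rw [hf i ((m1 i).1 hi).1 k hk, sum_eq_zero fun l hl => by rw [(c2 i hi).1 l hl, zero_mul], b2]
    ring
  have c10 : ∀ i ∈ s2, ht i = j + 2 := fun i hi => by
    obtain ⟨l, hl, rfl⟩ := c5 i hi
    obtain ⟨y, b1, b2⟩ := c7 _ (a6 l hl)
    refine c8 _ (a4 l hl) _ _ (b1.mul (odd_of_mul_self (a3 l hl k hk hk0))) ?_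
    rw [hf _ (a4 l hl) k hk, c3 _ hi, sum_eq_single_of_mem l hl fun l' hl' h => by
      rw [a7 l' hl' _ (a4 l hl) (a5 l hl) fun h' => h (c4 l hl l' hl' h').symm, zero_mul], b2, hd]
    ring
  have c11 : s1.card + 1 = 2 ^ (j + 2) := by
    apply Nat.cast_injective (R := ℤ)
    push_cast
    rw [c1, hd]; ring
  have c12 := hsplit fun _ => 1
  simp only [sum_const, h4, nsmul_eq_mul] at c12
  refine ⟨by omega, ?_, fun i hi => ?_⟩
  · rw [← c11]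
    congr 2
    ext i
    refine ⟨fun h => (m1 i).2 ⟨(mem_filter.1 h).1, by rw [(mem_filter.1 h).2]; omega, fun h' => ?_⟩,
      fun h => mem_filter.2 ⟨((m1 i).1 h).1, c9 i h⟩⟩
    have := c10 i ((m2 i).2 ⟨(mem_filter.1 h).1, by rw [(mem_filter.1 h).2]; omega, h'⟩)
    have := (mem_filter.1 h).2
    omega
  by_cases h0 : ht i = 0
  · exact .inl h0
  by_cases h1 : F i = 0
  exacts [.inr (.inr (c10 i ((m2 i).2 ⟨hi, h0, h1⟩))), .inr (.inl (c9 i ((m1 i).2 ⟨hi, h0, h1⟩)))]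

end Cfsg.Agent.H9
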