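import Mathlib
import Cfsg.Agent.H9.TB7

/-!
Blocks with quaternion or semidihedral defect groups.
-/

set_option autoImplicit false
set_option linter.unusedSectionVars false

namespace Cfsg.Agent.H9

open MonoidAlgebra Cfsg Finset
open Cfsg.Agent.H8 (locRing resField res rd eB IsBlockUnion sb sbk FC FRep sb_spec sb_eq sb_blk
  sbk_spec centralizer_zpowers sbk_subs irr_isClassFunction lf fc_conj)
open Cfsg.Agent.H7 (ip)
open Cfsg.Agent.H3 (MC MCD MCQ MCS)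
open Subgroup (zpowers)
open scoped ComplexConjugate

local notation "𝐙" x => Subgroup.centralizer (Singleton.singleton x : Set _)

universe u

variable {M : Ideal AlgInt} [hMm : M.IsMaximal] [hM : PMod M 2]
variable {G : Type u} [Group G] [Finite G] {P : Subgroup G} {a b t y : G} {m : ℕ}
  {B : Set (IrrCharacter G)} {e : (resField M)[G]} {χ ψ : IrrCharacter G}

section Quot

variable {z : G} {H : Type*} [Group H] [Finite H] {φ : (𝐙 z) →* H} {P' : Subgroup (𝐙 z)}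
  {e' : (resField M)[𝐙 z]} {e'' : (resField M)[H]}
  (h1 : Emb 2 (𝐙 z).subtype P' e' P e) (hφ : CQ 2 φ) (hker : ∀ x, φ x = 1 ↔ (x : G) ∈ zpowers z)
  (hd : Dom φ P' e' e'') (h : MC P a b m) (hz : z = a ^ 2 ^ (m - 1))

include h1 in
theorem fc_sub {u v : 𝐙 z} (hu : (u : G) ∈ P) (hv : (v : G) ∈ P) (h2 : (u : G) ^ 2 = z)
    (h3 : (v : G) ^ 2 = z) : FC 2 P' e' u v ↔ FC 2 P e u v := by
  have key : ∀ w : G, w ^ 2 = z → (𝐙 w) ≤ (𝐙 z).subtype.range := fun w hw x hx => by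
    rw [Subgroup.range_subtype, Subgroup.mem_centralizer_singleton_iff, ← hw]
    exact (Commute.pow_right (Subgroup.mem_centralizer_singleton_iff.1 hx) 2).eq
  refine h1.fc_iff (h1.mem.1 hu) (h1.mem.1 hv) (key _ h2) (key _ h3) fun g hg => ?_
  rw [Subgroup.range_subtype, Subgroup.mem_centralizer_singleton_iff, ← mul_inv_eq_iff_eq_mul]
  nth_rw 1 [← h2]
  rw [← conj_pow]
  exact (congrArg (· ^ 2) hg).trans h3

include h1 hφ hker hd h hz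

theorem fc_quot {u v : 𝐙 z} (hu : (u : G) ∈ P) (hv : (v : G) ∈ P) :
    FC 2 (P'.map φ) e'' (φ u) (φ v) ↔ ∃ k : 𝐙 z, (k : G) ∈ zpowers z ∧ FC 2 P' e' u (v * k) := by
  rw [hφ.fc_iff h1.pair' (fun x hx => h1.mem.1 (Subgroup.zpowers_le.2 (hz ▸ h.le h.z_mem)
    ((hker x).1 hx))) hd (h1.mem.1 hu) (h1.mem.1 hv)]
  simp only [hker]

omit h1 hφ hker hd h hz hM [Finite G] in
theorem sq_of_fc {u v : 𝐙 z} {p : ℕ} (h : FC p P' e' u v) :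
    ((u : G) ^ 2 = z ↔ (v : G) ^ 2 = z) ∧ ((u : G) ^ 2 = 1 ↔ (v : G) ^ 2 = 1) ∧
      ((u : G) = z ↔ (v : G) = z) ∧ ((u : G) = 1 ↔ (v : G) = 1) := by
  obtain ⟨g, rfl, -⟩ := h
  have h1 : ∀ w : G, g * w * (g : G)⁻¹ = z ↔ w = z := fun w => by
    rw [mul_inv_eq_iff_eq_mul, ← Subgroup.mem_centralizer_singleton_iff.1 g.2, mul_right_inj]
  simp only [Subgroup.coe_mul, Subgroup.coe_inv, conj_pow, h1, conj_eq_one_iff, and_self]

theorem fz_quot {a' u : 𝐙 z} (ha : (a' : G) = a) (hu : (u : G) ∈ P) (h2 : (u : G) ^ 2 = z) :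
    Fz (P'.map φ) (φ a') 2 e'' (φ u) ↔ Fz P a 2 e u := by
  have hza : zpowers z ≤ zpowers a := Subgroup.zpowers_le.2 (hz ▸ h.z_mem)
  constructor
  · rintro ⟨_, ⟨i, rfl⟩, h3⟩
    simp only [← map_zpow] at h3
    have h4 : ((a' ^ i : 𝐙 z) : G) ∈ zpowers a := ⟨i, by simp [ha]⟩
    obtain ⟨k, hk, h5⟩ := (fc_quot h1 hφ hker hd h hz hu (h.le h4)).1 h3
    have h6 := mul_mem h4 (hza hk)
    exact ⟨_, h6, (fc_sub h1 hu (h.le h6) h2 ((sq_of_fc h5).1.1 h2)).1 h5⟩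
  · rintro ⟨_, ⟨i, rfl⟩, h3⟩
    have h4 : ((a' ^ i : 𝐙 z) : G) = a ^ i := by simp [ha]
    have h5 : a ^ i ∈ zpowers a := ⟨i, rfl⟩
    refine ⟨φ (a' ^ i), ⟨i, (map_zpow _ _ _).symm⟩, (fc_quot h1 hφ hker hd h hz hu
      (h4 ▸ h.le h5)).2 ⟨1, one_mem _, ?_⟩⟩
    rw [mul_one, fc_sub h1 hu (h4 ▸ h.le h5) h2, h4]
    · exact h3
    obtain ⟨g, h6, -⟩ := h3
    simp only at h6
    rw [h4, hz]
    refine h.eq_z (pow_mem h5 2) ?_ ?_ <;> rw [← h6, conj_pow, h2, hz]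
    exacts [by rw [conj_pow, h.z_sq]; simp, by simpa using h.z_ne]

theorem fc_quot_out {u v : 𝐙 z} (hu : (u : G) ∈ P) (hv : (v : G) ∈ P) (h2 : (u : G) ^ 2 = z)
    (h3 : (v : G) ^ 2 = z) (h4 : (v : G) ∉ zpowers a) :
    FC 2 (P'.map φ) e'' (φ u) (φ v) ↔ FC 2 P e u v := by
  rw [fc_quot h1 hφ hker hd h hz hu hv]
  refine ⟨fun ⟨k, hk, h5⟩ => ?_, fun h5 => ⟨1, one_mem _, by rwa [mul_one, fc_sub h1 hu hv h2 h3]⟩⟩
  have h6 := h.z_le_sq ((congrArg zpowers hz).le hk)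
  obtain ⟨g, hg, h7⟩ := (h.out hv h4).exists_conj h6
  have h8 : ((v * k : 𝐙 z) : G) = g * v * g⁻¹ := by
    rw [h7, Subgroup.coe_mul]
    exact Subgroup.zpowers_le.2 h.z_cen ((congrArg zpowers hz).le hk) v hv
  rw [fc_sub h1 hu (h8 ▸ mul_mem (mul_mem (h.le hg) hv) (inv_mem (h.le hg))) h2
    ((sq_of_fc h5).1.1 h2), h8] at h5
  exact h5.trans (fc_conj h1.pair (h.le hg) hv).symm

theorem not_fz_quot {a' u : 𝐙 z} (ha : (a' : G) = a) (hu : (u : G) ∈ P) (h2 : (u : G) ^ 2 = 1)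
    (h3 : (u : G) ∉ zpowers a) : ¬ Fz (P'.map φ) (φ a') 2 e'' (φ u) := by
  rintro ⟨_, ⟨i, rfl⟩, h4⟩
  simp only [← map_zpow] at h4
  have h5 : ((a' ^ i : 𝐙 z) : G) ∈ zpowers a := ⟨i, by simp [ha]⟩
  obtain ⟨k, hk, h6⟩ := (fc_quot h1 hφ hker hd h hz hu (h.le h5)).1 h4
  obtain ⟨-, h7, h8, h9⟩ := sq_of_fc h6
  rcases h.eq_one_or (mul_mem h5 (Subgroup.zpowers_le.2 (hz ▸ h.z_mem) hk)) (h7.1 h2) with h10 | h10
  · exact h3 (h9.2 h10 ▸ one_mem _)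
  · exact h3 (by rw [(h8.2 (h10.trans hz.symm)).trans hz]; exact h.z_mem)

theorem not_fc_quot {u v : 𝐙 z} (hu : (u : G) ∈ P) (hv : (v : G) ∈ P) (h2 : (u : G) ^ 2 = 1)
    (h3 : (v : G) ^ 2 = z) : ¬ FC 2 (P'.map φ) e'' (φ u) (φ v) := fun h4 => by
  obtain ⟨k, hk, h6⟩ := (fc_quot h1 hφ hker hd h hz hu hv).1 h4
  have h7 := (sq_of_fc h6).2.1.1 h2
  have h8 : Commute (v : G) k := Subgroup.zpowers_le.2 h.z_cen ((congrArg zpowers hz).le hk) v hv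
  rw [Subgroup.coe_mul, h8.mul_pow, h3] at h7
  rcases h.mem_z_iff.1 ((congrArg zpowers hz).le hk) with h9 | h9 <;> rw [h9] at h7
  · exact h.z_ne (by simpa [hz] using h7)
  · exact h.z_ne (by rwa [h.z_sq, mul_one, hz] at h7)

end Quot

open Classical in
theorem exists_quot (hB : IsPBlock M B) (hm : MaxPair 2 ⊤ (eB M B) P e) (h : MC P a b m) :
    ∃ (H : Type u) (_ : Group H) (_ : Finite H) (A : Set (IrrCharacter H)) (Q : Subgroup H)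
      (f : (resField M)[H]) (α β : H), IsPBlock M A ∧ MaxPair 2 ⊤ (eB M A) Q f ∧
      blockRank 2 (sbk M 2 P e (a ^ 2 ^ (m - 1))) = blockRank 2 A ∧
      (orderOf α = 2 ^ (m - 1) ∧ β ∉ zpowers α ∧ β ^ 2 = 1 ∧ β * α * β⁻¹ = α⁻¹) ∧
      zpowers α ⊔ zpowers β = Q ∧ Nat.card Q = 2 ^ m ∧
      (b ^ 2 = a ^ 2 ^ (m - 1) → (Fz Q α 2 f β ↔ Fz P a 2 e b)) ∧
      ((a * b) ^ 2 = a ^ 2 ^ (m - 1) → (Fz Q α 2 f (α * β) ↔ Fz P a 2 e (a * b)) ∧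
        (b ^ 2 = a ^ 2 ^ (m - 1) → (FC 2 Q f β (α * β) ↔ FC 2 P e b (a * b))) ∧
        (b ^ 2 = 1 → ¬ Fz Q α 2 f β ∧ ¬ FC 2 Q f β (α * β))) ∧
      ∃ n : IrrCharacter G → IrrCharacter H → ℤ,
        (∀ χ ψ : IrrCharacter G, 2 * 2 ^ m * ct M 2 P e (a ^ 2 ^ (m - 1)) χ ψ =
          (∑ ξ ∈ bs A, n χ ξ * ∑ η ∈ bs A, mZ 2 A ξ η * n ψ η : ℤ)) ∧
        ∀ v : IrrCharacter H → ℤ, (∀ ξ ∈ A, ∑ η ∈ bs A, mZ 2 A ξ η * v η = 2 ^ m * v ξ) →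
          ∑ χ ∈ bs B, (∑ ξ ∈ bs A, n χ ξ * v ξ) ^ 2 = 2 * ∑ ξ ∈ bs A, v ξ ^ 2 := by
  obtain ⟨z, hz⟩ : ∃ z, z = a ^ 2 ^ (m - 1) := ⟨_, rfl⟩
  rw [← hz]
  have hzP : z ∈ P := hz ▸ h.le h.z_mem
  have hPZ : P ≤ 𝐙 z := fun x hx => Subgroup.mem_centralizer_singleton_iff.2 (hz ▸ h.z_cen x hx)
  have hle := sb_spec hm.pair.1 hzP
  have hs := sbk_subs hB hm hzP
  obtain ⟨h1, h2⟩ := sbk_spec (M := M) hm.pair.1 hzP
  have hL := hm.sub (L := 𝐙 z) hle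
    (hPZ.trans (centralizer_zpowers z ▸ Subgroup.centralizer_le_normalizer _))
    (centralizer_zpowers z).le
    (by simpa [centralizer_zpowers] using (hle.isPair_left hm.pair.1).centralizer_le_pstab) hPZ
  obtain ⟨h3, h4⟩ := hL.emb hm.pair.1 (f' := eB M (sbk M 2 P e z)) h2
  have := normal_zpowers_of_comm hs.comm
  set φ := QuotientGroup.mk' (zpowers (⟨z, hs.mem⟩ : 𝐙 z)) with hφ'
  have hφ : CQ 2 φ := ⟨QuotientGroup.mk'_surjective _, hs.isP_ker, mem_centralizer_ker_mk hs.comm⟩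
  have hker : ∀ x, φ x = 1 ↔ (x : G) ∈ zpowers z := fun x => by
    rw [← MonoidHom.mem_ker, QuotientGroup.ker_mk', ← Subgroup.mem_map_iff_mem (𝐙 z).subtype_injective,
      MonoidHom.map_zpowers]
    rfl
  obtain ⟨A, f, h5, h6, h7, h8, h9⟩ := hφ.exists_maxPair h1 h3
  have h10 : MC (P.subgroupOf (𝐙 z)) ⟨a, hPZ h.a_mem⟩ ⟨b, hPZ h.b_mem⟩ m :=
    MC.of_map (𝐙 z).subtype_injective (by rwa [h4.map])
  have h11 : Nat.card φ.ker = 2 := by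
    rw [QuotientGroup.ker_mk', Nat.card_zpowers, Subgroup.orderOf_mk, hz, h.ord_z]
  have h12 : Nat.card ((P.subgroupOf (𝐙 z)).map φ) = 2 ^ m := by
    have h12 : φ.ker ≤ P.subgroupOf (𝐙 z) := fun x hx => Subgroup.zpowers_le.2 hzP ((hker x).1 hx)
    have h13 := Subgroup.card_mul_index (φ.ker.subgroupOf (P.subgroupOf (𝐙 z)))
    rw [Nat.card_congr (Subgroup.subgroupOfEquivOfLe h12).toEquiv, h11, h10.card, pow_succ'] at h13
    rw [← Subgroup.relIndex_ker]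
    exact Nat.eq_of_mul_eq_mul_left two_pos h13
  have hab := mul_mem h.a_mem h.b_mem
  obtain ⟨n, h13, h14⟩ := hs.desc (by rw [hz, h.z_mul]) hφ (H8.isBlockUnion_of_block h5) h8
  have h15 := (card_isDef_eB h5 h6.isDef).symm.trans h12
  refine ⟨_, inferInstance, inferInstance, A, _, f, φ ⟨a, hPZ h.a_mem⟩, φ ⟨b, hPZ h.b_mem⟩, h5, h6,
    h9, h10.map_ker φ (by have := h.two_le; omega) fun x _ => ?_, ?_, h12, fun h0 =>
    fz_quot h4 hφ hker h7 h hz rfl h.b_mem h0, fun h0 => ⟨?_, fun h0' => ?_, fun h0' =>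
    ⟨not_fz_quot h4 hφ hker h7 h hz rfl h.b_mem h0' h.nmem, ?_⟩⟩, n, fun χ ψ => ?_, fun v hv => ?_⟩
  · rw [hker, ← Subgroup.mem_map_iff_mem (𝐙 z).subtype_injective, MonoidHom.map_zpowers]
    exact (congrArg (fun w => (x : G) ∈ zpowers w) hz).to_iff
  · rw [← h10.sup, Subgroup.map_sup, MonoidHom.map_zpowers, MonoidHom.map_zpowers]
  · rw [← map_mul]; exact fz_quot h4 hφ hker h7 h hz rfl hab h0
  · rw [← map_mul]
    exact fc_quot_out h4 hφ hker h7 h hz h.b_mem hab h0' h0 (ix_of_mc h).ab_nmem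
  · rw [← map_mul]; exact not_fc_quot h4 hφ hker h7 h hz h.b_mem hab h0' h0
  · rw [← h13, h11, ← Nat.cast_pow, h15]; push_cast; ring
  · rw [h14 v fun ξ hξ => by rw [hv ξ hξ, ← Nat.cast_pow, h15]; push_cast; rfl, h11]; rfl

section Form

variable {K : Type*} [Group K] [Finite K] {A : Set (IrrCharacter K)} {d : ℤ}
  {σ : IrrCharacter K → ℤ} {J : Finset (Fin 2)} {β : Fin 2 → IrrCharacter K → ℤ}
  (h : Form A d σ J β)
include h

theorem Form.sum_eq (v : IrrCharacter K → ℤ) {ξ : IrrCharacter K} (hξ : ξ ∈ A) :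
    ∑ η ∈ bs A, mZ 2 A ξ η * v η = σ ξ * ∑ η ∈ bs A, σ η * v η +
      d * ∑ k ∈ J, β k ξ * ∑ η ∈ bs A, β k η * v η := by
  rw [sum_congr rfl fun η hη => by rw [h.eq ξ hξ η (mem_bs.1 hη)]]
  simp only [add_mul, sum_add_distrib, mul_sum, sum_mul, mul_assoc]
  rw [sum_comm (s := J)]

theorem Form.eig_σ {ξ : IrrCharacter K} (hξ : ξ ∈ A) :
    ∑ η ∈ bs A, mZ 2 A ξ η * σ η = 4 * d * σ ξ := by
  rw [h.sum_eq σ hξ, h.ss, sum_eq_zero fun k _ => by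
    rw [sum_congr rfl fun η _ => mul_comm (β k η) (σ η), h.sb, mul_zero]]
  ring

theorem Form.eig_β {k : Fin 2} (hk : k ∈ J) {ξ : IrrCharacter K} (hξ : ξ ∈ A) :
    ∑ η ∈ bs A, mZ 2 A ξ η * β k η = 4 * d * β k ξ := by
  rw [h.sum_eq _ hξ, h.sb, sum_eq_single_of_mem k hk fun l _ hl => ?_, h.bb]
  · ring
  have h1 := h.b01
  have h2 : ∑ χ ∈ bs A, β 1 χ * β 0 χ = 0 := by simpa only [mul_comm] using h1
  fin_cases k <;> fin_cases l <;> simp_all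

theorem Form.quad (v w : IrrCharacter K → ℤ) :
    ∑ ξ ∈ bs A, v ξ * ∑ η ∈ bs A, mZ 2 A ξ η * w η =
      (∑ ξ ∈ bs A, v ξ * σ ξ) * ∑ ξ ∈ bs A, w ξ * σ ξ +
        d * ∑ k ∈ J, (∑ ξ ∈ bs A, v ξ * β k ξ) * ∑ ξ ∈ bs A, w ξ * β k ξ := by
  rw [sum_congr rfl fun ξ hξ => by rw [h.sum_eq w (mem_bs.1 hξ)]]
  simp only [mul_add, sum_add_distrib, mul_comm (σ _) (w _), mul_comm (β _ _) (w _)]
  generalize ∑ ξ ∈ bs A, w ξ * σ ξ = x
  simp only [mul_sum J, sum_mul]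
  congr 1
  · exact sum_congr rfl fun _ _ => by ring
  · rw [sum_comm]
    refine sum_congr rfl fun k _ => ?_
    rw [mul_sum]
    exact sum_congr rfl fun _ _ => by ring

end Form

theorem hq_center (hB : IsPBlock M B) (hm : MaxPair 2 ⊤ (eB M B) P e) {u : G} (hu : u ∈ P)
    (hc : u ∈ Subgroup.centralizer (P : Set G)) (hχ : χ ∈ B) (hψ : ψ ∈ B) {q : ℤ}
    (hq : Nat.card P * ct M 2 P e u χ ψ = q) : 2 ^ blockHeight 2 B (χ : G → ℂ) ∣ q ∧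
      (2 ^ (blockHeight 2 B (χ : G → ℂ) + 1) ∣ q ↔ blockHeight 2 B (ψ : G → ℂ) ≠ 0) := by
  have hs := sbk_subs hB hm hu
  rw [card_isDef_eB hB hm.isDef, Nat.cast_pow] at hq
  have h1 := hs.contr_div_mem hB hχ (H6.isGen_of_irr ψ.2)
  have h2 := hs.rd_contr_div_ne_zero_iff (sbk_spec hm.pair.1 hu).1 hB
    (H8.blockDefect_sbk hB hm hu hc) hχ hψ
  rw [hq] at h1 h2
  have h3 := (int_div_pow_mem_iff _ _).1 h1
  rw [Ne, rd_int_div_pow_eq_zero_iff h3] at h2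
  exact ⟨h3, by rw [Ne, ← h2, not_not]; rfl⟩

theorem TW.erase_eq {W : IrrCharacter G → zpowers a → ℂ}
    {c : IrrCharacter G → (zpowers a →* ℂˣ) → ℤ} {j : ℕ} (h : TW M P a b t (j + 3) B e W c)
    [Fintype (zpowers a)] [DecidableEq (zpowers a)] (hχ : χ ∈ B) : ∃ x y : ℤ,
      ∑ u ∈ (univ.erase 1).erase ⟨_, h.mc.z_mem⟩, W χ u * conj (W χ u) = (2 * x + 2 * y : ℤ) ∧
      (y = 0 ∨ 4 * 2 ^ (j + 1) - 4 ≤ y) ∧ (blockHeight 2 B (χ : G → ℂ) = 0 →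
        x = 2 * 2 ^ (j + 1) - 1 ∨ 4 * 2 ^ (j + 1) - 1 ≤ x) ∧
      (blockHeight 2 B (χ : G → ℂ) ≠ 0 → x = 0 ∨ 4 * 2 ^ (j + 1) - 4 ≤ x) := by
  classical
  have := H8.finite_lin (Q := zpowers a)
  have := Fintype.ofFinite (zpowers a →* ℂˣ)
  obtain ⟨ν, -, h2, h3⟩ := exists_nu h.mc
  set z : zpowers a := ⟨_, h.mc.z_mem⟩
  have hz : z * z = 1 := Subtype.ext h.mc.z_mul
  have hz1 : z ≠ 1 := fun h1 => h.mc.z_ne (congrArg Subtype.val h1)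
  obtain ⟨h4, h5⟩ := card_ev TW.comm hz hz1
  rw [h.mc.card_a, pow_succ' 2 (j + 2), Nat.mul_left_cancel_iff two_pos] at h4 h5
  have h6 : Even (∑ μ with ¬ μ z = 1, c χ μ) := by
    have h7 : tq h.mc.b_nrm z = z := Subtype.ext ((h.ix.fix _ z.2).2 (Or.inr rfl))
    refine even_sum_of_invol (fun μ hμ => ?_) h.cmp_cmp (fun μ hμ h8 => ?_) (h.c_sym χ)
    · rw [mem_filter] at hμ ⊢
      exact ⟨mem_univ _, fun h8 => hμ.2 (h7 ▸ h8)⟩
    · rcases (h3 μ).1 h8 with rfl | rfl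
      exacts [(mem_filter.1 hμ).2 rfl, (mem_filter.1 hμ).2 h2]
  have h7 := h.ht_iff hχ
  rw [← sum_filter_add_sum_filter_not _ fun μ => μ z = 1, Int.odd_add, iff_true_right h6] at h7
  have h8 : Even (2 ^ (j + 2)) := (Nat.even_pow' (by omega)).2 even_two
  have h11 : (2 : ℤ) ^ (j + 2) = 2 * 2 ^ (j + 1) := pow_succ' _ _
  generalize (2 : ℤ) ^ (j + 1) = d at h11 ⊢
  refine ⟨_, _, sum_erase_z TW.comm hz hz1 (h.coef χ), ?_, fun h9 => ?_, fun h9 => ?_⟩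
  · have := sF_even (h5 ▸ h8) h6
    rw [h5] at this
    push_cast at this
    generalize (2 : ℤ) ^ (j + 2) = d' at *
    omega
  · have := sF_odd (h4 ▸ pow_dvd_pow 2 (show 2 ≤ j + 2 by omega)) (h7.1 h9)
    have h10 : (2 ^ (j + 2) = 8) → (2 : ℤ) ^ (j + 2) = 8 := fun h => by exact_mod_cast h
    rw [h4] at this
    push_cast at this
    generalize (2 : ℤ) ^ (j + 2) = d' at *
    omega
  · have := sF_even (h4 ▸ h8) (Int.not_odd_iff_even.1 (mt h7.2 h9))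
    rw [h4] at this
    push_cast at this
    generalize (2 : ℤ) ^ (j + 2) = d' at *
    omega

theorem sum_ct_pos (hB : IsPBlock M B) (hm : MaxPair 2 ⊤ (eB M B) P e) {U : Finset G}
    (hU : ∀ y ∈ U, y ∈ P) (hχ : χ ∈ B) {r : ℤ} {n : ℕ} (hn : n ≠ 0)
    (hr : (r : ℂ) = n * ∑ y ∈ U, ct M 2 P e y χ χ) :
    0 ≤ r ∧ (U.Nonempty → blockHeight 2 B (χ : G → ℂ) = 0 → 0 < r) := by
  choose ρ h1 h2 using fun y => contr_self_nonneg (p := 2) y (sbk M 2 P e y) (χ : G → ℂ)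
  have h3 : (r : ℝ) = n * ∑ y ∈ U, ρ y := by
    simp only [ct, h2] at hr
    exact_mod_cast hr
  refine ⟨Int.cast_nonneg_iff.1 (h3 ▸ mul_nonneg n.cast_nonneg (sum_nonneg fun y _ => h1 y)),
    fun ⟨y, hy⟩ h0 => Int.cast_pos.1 (h3 ▸ mul_pos (by positivity) (sum_pos' (fun y _ => h1 y)
      ⟨y, hy, (h1 y).lt_of_ne' fun h4 => ?_⟩))⟩
  exact (sbk_subs hB hm (hU y hy)).contr_ne_zero_of_height (sbk_spec hm.pair.1 (hU y hy)).1 hB hχ
    hχ h0 h0 (by rw [h2, h4]; rfl)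

open Classical in
theorem card_Us_quot {H : Type*} [Group H] [Finite H] {Q : Subgroup H} {f : (resField M)[H]}
    {α β z z' : _} (h : IX P a b z) (h' : IX Q α β z')
    (h1 : b ^ 2 = z → (Fz Q α 2 f β ↔ Fz P a 2 e b)) (h2 : Fz Q α 2 f (α * β) ↔ Fz P a 2 e (a * b))
    (h3 : b ^ 2 = z → (FC 2 Q f β (α * β) ↔ FC 2 P e b (a * b)))
    (h4 : b ^ 2 = 1 → ¬ Fz Q α 2 f β ∧ ¬ FC 2 Q f β (α * β)) :
    (b ^ 2 = z → (Us Q α β 2 f).card = (Us P a b 2 e).card) ∧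
      (b ^ 2 = 1 → (Us Q α β 2 f).card = 1 + if Fz P a 2 e (a * b) then 0 else 1) ∧
      ((Us Q α β 2 f).card = 2 → (Us P a b 2 e).Nonempty) := by
  rw [← card_pos, h.card_Us, h'.card_Us]
  have h5 : FC 2 P e b (a * b) → Fz P a 2 e b → Fz P a 2 e (a * b) := fun h5 ⟨u, hu, h6⟩ =>
    ⟨u, hu, h5.symm.trans h6⟩
  refine ⟨fun h0 => by simp only [h1 h0, h2, h3 h0], fun h0 => by simp [h4 h0, h2], fun h6 => ?_⟩
  rw [h2] at h6
  by_cases h7 : Fz P a 2 e (a * b)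
  · simp only [h7, true_or, if_true] at h6
    split_ifs at h6 <;> omega
  · split_ifs with h8 h9 <;> first | tauto | omega

open Classical in
/-- Blocks with quaternion or semidihedral defect groups of order at least sixteen. -/
theorem qsd_main {j : ℕ} (hB : IsPBlock M B) (hm : MaxPair 2 ⊤ (eB M B) P e)
    (h : MC P a b (j + 3)) (hab : (a * b) ^ 2 = a ^ 2 ^ (j + 2)) :
    blockRank 2 B + (Us P a b 2 e).card = 3 ∧
    (b ^ 2 = a ^ 2 ^ (j + 2) → Nat.card B + (Us P a b 2 e).card = 2 ^ (j + 2) + 5) ∧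
    (b ^ 2 = 1 → Nat.card B + (if Fz P a 2 e (a * b) then 0 else 1) = 2 ^ (j + 2) + 4) ∧
    ((bs B).filter fun χ : IrrCharacter G => blockHeight 2 B (χ : G → ℂ) = 0).card = 4 ∧
    ((bs B).filter fun χ : IrrCharacter G => blockHeight 2 B (χ : G → ℂ) = 1).card + 1 =
      2 ^ (j + 2) ∧ ∀ χ ∈ B, blockHeight 2 B (χ : G → ℂ) = 0 ∨ blockHeight 2 B (χ : G → ℂ) = 1 ∨
        blockHeight 2 B (χ : G → ℂ) = j + 2 := by
  obtain ⟨H, _, _, A, Q, f, α, β, hA, hQ, q1, ⟨q2, q3, q4, q5⟩, q6, -, q7, q8, n, q9, q10⟩ :=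
    exists_quot hB hm h
  obtain ⟨q11, q12, q13⟩ := q8 hab
  have hD : MCD Q α β (j + 2) :=
    ⟨⟨by omega, q2, q3, q6, q4 ▸ one_mem _, Or.inl q5⟩, q5, q4⟩
  obtain ⟨-, d1, -, -, σ, J, γ, d2, d3⟩ := dihedral_main hA hQ hD
  obtain ⟨u1, u2, u3⟩ := card_Us_quot (ix_of_mc h) (ix_of_mc hD.toMC) q7 q11 q12 q13
  obtain ⟨W, c, h0⟩ := exists_TW_w hB hm h
  have := H8.finite_lin (Q := zpowers a)
  have := Fintype.ofFinite (zpowers a →* ℂˣ)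
  have := Fintype.ofFinite (zpowers a)
  obtain ⟨ν, h1, h2, h3⟩ := exists_nu h
  have h4 := (h0.four h1 h2 h3).1
  have h5 := h0.card_eq
  choose! x y e1 e2 e3 e4 using fun χ (hχ : χ ∈ B) => h0.erase_eq hχ
  set q : IrrCharacter G → IrrCharacter G → ℤ := fun χ ψ =>
    ∑ ξ ∈ bs A, n χ ξ * ∑ η ∈ bs A, mZ 2 A ξ η * n ψ η with hq
  have hP : ∀ χ ψ : IrrCharacter G, Nat.card P * ct M 2 P e (a ^ 2 ^ (j + 2)) χ ψ = q χ ψ :=
    fun χ ψ => by rw [h.card, pow_succ']; push_cast; exact q9 χ ψ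
  have hz := h.le h.z_mem
  have hr : ∀ χ ∈ bs B, _ := fun χ hχ => sum_ct_pos hB hm
    (fun y hy => (h0.ix.of_mem_Us hy).1) (mem_bs.1 hχ)
    (r := 8 * 2 ^ (j + 1) - mZ 2 B χ χ - q χ χ - (2 * x χ + 2 * y χ)) (n := 2 * 2 ^ (j + 3))
    (by positivity) (by
      have := h0.sum_ct (mem_bs.1 hχ) (mem_bs.1 hχ)
      rw [if_pos rfl, e1 χ (mem_bs.1 hχ), q9] at this
      simp only [hq]
      push_cast at this ⊢
      linear_combination this)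
  have h8 : (2 : ℤ) ^ (j + 3) = 4 * 2 ^ (j + 1) := by ring
  obtain ⟨k1, k2, k3⟩ := qsd_core (s := bs B) (ht := fun χ => blockHeight 2 B (χ : G → ℂ))
    (F := fun χ => 2 * x χ + 2 * y χ) (mz := fun χ => mZ 2 B χ χ) (q := q) (J := J)
    (σ := fun χ => ∑ ξ ∈ bs A, n χ ξ * σ ξ) (β := fun k χ => ∑ ξ ∈ bs A, n χ ξ * γ k ξ)
    (rfl : (2 : ℤ) ^ (j + 1) = _) h4 (fun χ _ => by ring) (fun χ hχ => mZ_ge hB (mem_bs.1 hχ))
    (fun χ hχ => (hr χ hχ).1) (J.eq_empty_or_nonempty.symm.imp_right fun hJ χ hχ =>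
      (hr χ hχ).2 (u3 (by simpa [hJ] using d2)))
    (fun χ hχ ψ hψ => hq_center hB hm hz h.z_cen (mem_bs.1 hχ) (mem_bs.1 hψ) (hP χ ψ))
    (fun χ hχ h6 => H8.contr_ne_zero_of_center hB hm hz h.z_cen (mem_bs.1 hχ) (by
      have := hP χ χ
      rw [h6, Int.cast_zero, mul_eq_zero] at this
      exact this.resolve_left (Nat.cast_ne_zero.2 Nat.card_pos.ne')))
    (fun χ _ ψ _ => d3.quad _ _)
    (by simp only [← sq]; rw [q10 σ fun ξ hξ => by rw [d3.eig_σ hξ, h8]; rfl]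
        simp only [sq]; rw [d3.ss, ← mul_assoc]; rfl)
    (fun k hk => by
      simp only [← sq]; rw [q10 _ fun ξ hξ => by rw [d3.eig_β hk hξ, h8]; rfl]
      simp only [sq]; rw [d3.bb]; rfl)
    (fun k χ _ => by
      rw [← sum_sub_distrib]
      exact even_sum _ fun ξ hξ => by rw [← mul_sub]; exact (d3.par k ξ (mem_bs.1 hξ)).mul_left _)
    (fun χ hχ => ⟨_, _, rfl, e2 χ (mem_bs.1 hχ), e3 χ (mem_bs.1 hχ), e4 χ (mem_bs.1 hχ)⟩)
    (by have := h0.trace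
        rw [sum_congr rfl fun χ hχ => e1 χ (mem_bs.1 hχ)] at this
        rw [← h8]
        exact_mod_cast this)
  rw [card_bs] at k1
  simp only [show j + 3 - 1 = j + 2 from rfl] at h5 q1 u1
  refine ⟨by omega, fun h6 => by have := u1 h6; omega, fun h6 => by have := u2 h6; omega, h4, k2,
    fun χ hχ => k3 χ (mem_bs.2 hχ)⟩

end Cfsg.Agent.H9
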