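import Mathlib
import Cfsg.Agent.H9.TB8

/-!
Blocks with quaternion defect groups of order eight.
-/

set_option autoImplicit false
set_option linter.unusedSectionVars false

namespace Cfsg.Agent.H9

open MonoidAlgebra Cfsg Finset
open Cfsg.Agent.H8 (resField eB sbk FC sbk_spec sbk_subs)
open Cfsg.Agent.H3 (MC MCD MCQ MCS)
open Subgroup (zpowers)

universe u

variable {M : Ideal AlgInt} [hMm : M.IsMaximal] [hM : PMod M 2]
variable {G : Type u} [Group G] [Finite G] {P : Subgroup G} {a b : G} {m : ℕ}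
  {B : Set (IrrCharacter G)} {e : (resField M)[G]}

theorem card_of_klein (hB : IsPBlock M B) (hD : IsDefectGroup 2 M B P) (hk : IsKleinFour P) :
    Nat.card B = 4 := by
  have h4 := hk.card_four
  obtain ⟨e, h⟩ := exists_abD hB hD (le_centralizer_of_comm
    (IsPGroup.isMulCommutative_of_card_eq_prime_sq (p := 2) h4))
  have h2 := h.frD_of_klein hk
  have h3 := h2.card_orb
  rw [h2.card_eq, le_antisymm (h2.rank_le fun h0 => by simp [h0] at h4) (h2.le_rank_of_card_four h4)]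
  rw [h4] at h3
  rcases (Nat.dvd_prime Nat.prime_three).1 ⟨_, (Nat.succ_injective h3).symm⟩ with h5 | h5 <;>
    rw [h5] at h3 ⊢ <;> omega

theorem klein_rank (hB : IsPBlock M B) (hm : MaxPair 2 ⊤ (eB M B) P e) (h1 : orderOf a = 2)
    (h2 : b ∉ zpowers a) (h3 : b ^ 2 = 1) (h4 : b * a * b⁻¹ = a⁻¹) (h5 : zpowers a ⊔ zpowers b = P)
    (h6 : Nat.card P = 4) : IX P a b a ∧ blockRank 2 B + (Us P a b 2 e).card = 3 := by
  classical
  have ha2 : a ^ 2 = 1 := h1 ▸ pow_orderOf_eq_one a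
  have ha1 : a ≠ 1 := fun h => by simp [h] at h1
  have hc := le_centralizer_of_comm (IsPGroup.isMulCommutative_of_card_eq_prime_sq (p := 2) h6)
  have ha : a ∈ P := h5 ▸ Subgroup.mem_sup_left (Subgroup.mem_zpowers a)
  have hb : b ∈ P := h5 ▸ Subgroup.mem_sup_right (Subgroup.mem_zpowers b)
  have hn := H3.mem_nrm_zpowers (h4 ▸ inv_mem (Subgroup.mem_zpowers a))
  have h7 : ∀ x ∈ P, x ∉ zpowers a → x = b ∨ x = a * b := fun x hx h => by
    have := H3.mul_mem_of_relIndex_two (h5 ▸ H3.relIndex_sup_zpowers Nat.prime_two hn h2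
      (h3 ▸ one_mem _)) hx (inv_mem hb) h (mt inv_mem_iff.1 h2)
    rwa [H3.mem_zpowers_two ha2, mul_inv_eq_one, mul_inv_eq_iff_eq_mul] at this
  have h : IX P a b a := ⟨ha, hb, h2, hn, sq b ▸ h3 ▸ one_mem _,
    fun x hx h => ⟨1, one_mem _, by simpa [eq_comm] using h7 x hx h⟩, Subgroup.mem_zpowers a, ha1,
    fun u hu => iff_of_true (by rw [← hc hb u (Subgroup.zpowers_le.2 ha hu), mul_inv_cancel_right])
      ((H3.mem_zpowers_two ha2).1 hu)⟩
  have h8 : ∀ x ∈ P, x ^ 2 = 1 := fun x hx => by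
    by_cases h9 : x ∈ zpowers a
    · rcases (H3.mem_zpowers_two ha2).1 h9 with rfl | rfl <;> simp [ha2]
    · rcases h7 x hx h9 with rfl | rfl
      exacts [h3, by rw [Commute.mul_pow (hc hb a ha), ha2, h3, one_mul]]
  have : Nontrivial P := Finite.one_lt_card_iff_nontrivial.1 (h6 ▸ by decide)
  have h9 := card_of_klein hB ((isDefectGroup_iff hB).2 hm.isDef) ⟨h6,
    (Monoid.exponent_eq_prime_iff Nat.prime_two).2 fun g =>
      orderOf_eq_prime (Subtype.ext (h8 g g.2))⟩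
  have h10 : ∀ y ∈ P, y ≠ 1 → blockRank 2 (sbk M 2 P e y) = 1 := fun y hy h0 =>
    (sbk_subs hB hm hy).rank_one (sbk_spec hm.pair.1 hy).1 (by
      rw [H8.blockDefect_sbk hB hm hy (hc hy), ← card_isDef_eB hB hm.isDef, h6,
        orderOf_eq_prime (h8 y hy) h0])
  have := Fintype.ofFinite (zpowers a)
  have h11 := IX.sum_rank hB hm h fun u hu v hv ⟨g, h11, _⟩ => Or.inl (by
    rcases (H3.mem_zpowers_two ha2).1 hu with rfl | rfl
    · simpa using h11.symm
    · exact ((H3.mem_zpowers_two ha2).1 hv).resolve_left fun h12 => ha1 (by simpa [h12] using h11))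
  have h12 : (univ : Finset (zpowers a)) = {1, ⟨a, Subgroup.mem_zpowers a⟩} := by
    ext u
    rw [mem_insert, mem_singleton, Subtype.ext_iff, Subtype.ext_iff]
    exact iff_of_true (mem_univ _) ((H3.mem_zpowers_two ha2).1 u.2)
  rw [h12, sum_pair fun h0 => ha1 (congrArg Subtype.val h0).symm, h10 a ha ha1, h9,
    Subgroup.coe_one, H8.blockRank_sbk_one hB hm, sum_congr rfl fun y hy => h10 y (h.of_mem_Us hy).1
      fun h0 => (h.of_mem_Us hy).2.1 (h0 ▸ one_mem _), sum_const, smul_eq_mul] at h11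
  exact ⟨h, by omega⟩

open Classical in
theorem q8_main (hB : IsPBlock M B) (hm : MaxPair 2 ⊤ (eB M B) P e) (h : MCQ P a b 2) :
    blockRank 2 B ≤ 3 ∧ Nat.card B = blockRank 2 B + 4 ∧
    ((bs B).filter fun χ : IrrCharacter G => blockHeight 2 B (χ : G → ℂ) = 0).card = 4 ∧
    ∀ χ ∈ B, blockHeight 2 B (χ : G → ℂ) ≤ 1 := by
  obtain ⟨H, _, _, A, Q, f, α, β, hA, hQ, q1, ⟨q2, q3, q4, q5⟩, q6, q0, q7, q8, -⟩ :=
    exists_quot hB hm h.toMC
  obtain ⟨q11, q12, q13⟩ := q8 (h.out (mul_mem h.a_mem h.b_mem) (ix_of_mc h.toMC).ab_nmem).sq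
  obtain ⟨d0, d1⟩ := klein_rank hA hQ q2 q3 q4 q5 q6 q0
  have u1 := (card_Us_quot (ix_of_mc h.toMC) d0 q7 q11 q12 q13).1 h.sq
  obtain ⟨W, c, h0⟩ := exists_TW_w hB hm h.toMC
  have := H8.finite_lin (Q := zpowers a)
  have := Fintype.ofFinite (zpowers a →* ℂˣ)
  obtain ⟨ν, h1, h2, h3⟩ := exists_nu h.toMC
  have h4 := (h0.four h1 h2 h3).1
  have h5 := h0.card_eq
  have h6 : blockDefect 2 B = 3 :=
    Nat.pow_right_injective le_rfl ((card_isDef_eB hB hm.isDef).symm.trans h.card)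
  have h7 := brauer_feit (p := 2) hB
  have h8 := card_filter_add_card_filter_not (s := bs B)
    fun χ : IrrCharacter G => blockHeight 2 B (χ : G → ℂ) = 0
  have h9 := card_nsmul_le_sum ((bs B).filter fun χ : IrrCharacter G =>
    ¬ blockHeight 2 B (χ : G → ℂ) = 0) (fun χ => 2 ^ (2 * blockHeight 2 B (χ : G → ℂ))) (2 ^ 2)
    fun χ hχ => Nat.pow_le_pow_right two_pos (by have := (mem_filter.1 hχ).2; omega)
  rw [h6, ← sum_filter_add_sum_filter_not _ fun χ : IrrCharacter G =>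
    blockHeight 2 B (χ : G → ℂ) = 0, sum_congr rfl (g := fun _ => 1) fun χ hχ => by
      rw [(mem_filter.1 hχ).2]; rfl, sum_const, h4] at h7
  rw [h4, card_bs] at h8
  simp only [smul_eq_mul] at h7 h9
  refine ⟨by omega, by omega, h4, fun χ hχ => ?_⟩
  by_contra h10
  have := height_add_two_le hB hχ (p := 2) (by omega)
  omega

end Cfsg.Agent.H9
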