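import Mathlib
import Cfsg.Agent.H9.TB9
import Cfsg.Agent.H7.PSB

/-!
Tame blocks with three simple modules.
-/

set_option autoImplicit false
set_option linter.unusedSectionVars false

namespace Cfsg.Agent.H9

open MonoidAlgebra Cfsg Finset
open Cfsg.Agent.H8 (resField eB FC)
open Cfsg.Agent.H7 (ind)
open Cfsg.Agent.H3 (MC MCD MCQ MCS)
open Subgroup (zpowers)
open scoped commutatorElement

universe u

variable {M : Ideal AlgInt} [hMm : M.IsMaximal] [hM : PMod M 2]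
variable {G : Type u} [Group G] [Finite G] {P : Subgroup G} {a b : G} {m : ℕ}
  {B : Set (IrrCharacter G)}

theorem tame_three (hB : IsPBlock M B) (hD : IsDefectGroup 2 M B P) (h : MC P a b m)
    (hb : b ^ 2 = 1) : blockRank 2 B ≤ 3 ∧ (blockRank 2 B = 3 → ∃ u ∈ P, ∃ v ∈ P,
      IsConj (a ^ 2 ^ (m - 1)) u ∧ IsConj (a ^ 2 ^ (m - 1)) v ∧ u * v ≠ v * u) := by
  classical
  obtain ⟨e, hm⟩ := H8.exists_maxPair_of_def hB hD
  have h1 := (ix_of_mc h).card_Us (p := 2) (e := e)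
  have h2 : ∀ y, y ∉ zpowers a → y ^ 2 = 1 → Fz P a 2 e y → IsConj (a ^ 2 ^ (m - 1)) y :=
    fun y h3 h4 ⟨u, hu, g, h5, _⟩ => (isConj_iff.2 ⟨g, h5.trans (h.eq_z hu (by
      rw [← h5, conj_pow, h4]; simp) fun h6 => h3 (by
        rw [h6, conj_eq_one_iff] at h5; exact h5 ▸ one_mem _))⟩).symm
  have hab := mul_mem h.a_mem h.b_mem
  rcases h.conj with h3 | ⟨h3, h4⟩
  · have hd : MCD P a b m := ⟨h, h3, hb⟩
    have h4 := (dihedral_main hB hm hd).2.1
    refine ⟨by omega, fun h5 => ?_⟩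
    have h6 : Fz P a 2 e b := by by_contra h6; simp [h6] at h1; omega
    have h7 : Fz P a 2 e (a * b) ∨ FC 2 P e b (a * b) := by by_contra h7; simp [h7] at h1; omega
    refine ⟨b, h.b_mem, _, hab, h2 b h.nmem hb h6, h7.elim (h2 _ (ix_of_mc h).ab_nmem
      (hd.out hab (ix_of_mc h).ab_nmem).sq) fun ⟨g, h8, _⟩ =>
        (h2 b h.nmem hb h6).trans (isConj_iff.2 ⟨g, h8⟩), fun h8 => h.not_comm ?_⟩
    rw [← mul_assoc] at h8
    exact (mul_right_cancel h8).symm
  · obtain ⟨j, rfl⟩ : ∃ j, m = j + 3 := ⟨m - 3, by omega⟩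
    have h5 := (qsd_main hB hm h (MCS.sq_ab ⟨h, h3, h4, hb⟩)).1
    refine ⟨by omega, fun h6 => ?_⟩
    have h7 : Fz P a 2 e b := by by_contra h7; simp [h7] at h1; omega
    refine ⟨b, h.b_mem, _, mul_mem hab (inv_mem h.a_mem), h2 b h.nmem hb h7,
      (h2 b h.nmem hb h7).trans (isConj_iff.2 ⟨a, rfl⟩), fun h8 => ?_⟩
    have h9 : ⁅a, b⁆ ∈ zpowers a := h.zpowers_comm.le.trans (H3.zpowers_pow_le a 2)
      (Subgroup.mem_zpowers _)
    have h10 := Subgroup.orderOf_dvd_natCard _ ((h.commute_iff h9).1 (by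
      rw [commutatorElement_def, inv_mul_cancel_right, eq_comm, ← mul_assoc, h8,
        mul_inv_cancel_right]))
    rw [h.ord_comm, h.card_z] at h10
    have := (Nat.pow_dvd_pow_iff_le_right one_lt_two).1 (h10.trans (pow_one 2).symm.dvd)
    omega

omit hMm hM in
theorem comm_of_psolv {p : ℕ} [hp : Fact p.Prime] (hG : IsPSolvable p G) (S : Sylow p G)
    {z u v : G} (hc : z ∈ Subgroup.centralizer ((S : Subgroup G) : Set G)) (hu : u ∈ (S : Subgroup G))
    (hv : v ∈ (S : Subgroup G))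
    (h1 : IsConj z u) (h2 : IsConj z v) : u * v = v * u := by
  have := H2.pPrimeCore_characteristic (p := p) (G := G)
  set σ := QuotientGroup.mk' (pPrimeCore p G)
  have hσ := QuotientGroup.mk'_surjective (pPrimeCore p G)
  set R := pCore p (G ⧸ pPrimeCore p G)
  have : R.Characteristic := H2.pCore_characteristic
  have hC : Subgroup.centralizer (R : Set _) ≤ R :=
    H5b.centralizer_pCore_le (H1.isPSolvable_quotient hp.out hG _) H2.pPrimeCore_quotient_self
  have hR : R ≤ (S : Subgroup G).map σ := H2.pCore_le_sylow (S.mapSurjective hσ)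
  have h3 : ∀ w, IsConj z w → σ w ∈ Subgroup.centralizer (R : Set _) := fun w hw => by
    obtain ⟨g, rfl⟩ := isConj_iff.1 hw
    rw [map_mul, map_mul, map_inv]
    refine Subgroup.Normal.conj_mem inferInstance _ (fun r hr => ?_) _
    obtain ⟨x, hx, rfl⟩ := hR hr
    rw [← map_mul, ← map_mul, hc x hx]
  have h4 : u * v * (v * u)⁻¹ ∈ (S : Subgroup G) ⊓ pPrimeCore p G :=
    Subgroup.mem_inf.2 ⟨mul_mem (mul_mem hu hv) (inv_mem (mul_mem hv hu)), (QuotientGroup.eq_one_iff _).1 (by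
      change σ _ = 1
      rw [map_mul, map_inv, map_mul, map_mul, h3 v h2 _ (hC (h3 u h1)), mul_inv_cancel])⟩
  obtain ⟨k, e⟩ := IsPGroup.iff_card.mp S.isPGroup'
  rwa [Subgroup.inf_eq_bot_of_coprime (e ▸ H2.pPrimeCore_coprime.symm.pow_left _), Subgroup.mem_bot,
    mul_inv_eq_one] at h4

omit hMm hM in
theorem reg_ind (p : ℕ) (T : Subgroup G) (θ : T → ℂ) :
    pRegularPart p (ind T.subtype θ) = ind T.subtype (pRegularPart p θ) := by
  classical
  have := Fintype.ofFinite G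
  have := Fintype.ofFinite T
  funext g
  have h : ∀ (x : G) (t : T), T.subtype t = x⁻¹ * g * x → (IsPRegular p t ↔ IsPRegular p g) :=
    fun x t ht => by
      have := orderOf_conj' x⁻¹ g
      rw [inv_inv, ← ht, Subgroup.subtype_apply, Subgroup.orderOf_coe] at this
      simp only [IsPRegular, this]
  simp only [pRegularPart, H7.ind_def]
  split_ifs with hg
  · exact congrArg _ (sum_congr rfl fun x _ => sum_congr rfl fun t _ =>
      if_ctx_congr Iff.rfl (fun ht => by rw [if_pos ((h x t ht).2 hg)]) fun _ => rfl)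
  · rw [sum_eq_zero fun x _ => sum_eq_zero fun t _ => ite_eq_right_iff.2 fun ht =>
      if_neg (mt (h x t ht).1 hg), mul_zero]

omit hMm hM in
theorem blockRank_le_of_ind (p : ℕ) {T : Subgroup G} {B' : Set (IrrCharacter T)}
    (h : ∀ χ ∈ B, ∃ ψ ∈ B', χ.1 = ind T.subtype ψ.1) : blockRank p B ≤ blockRank p B' := by
  let f : (T → ℂ) →ₗ[ℂ] G → ℂ := ⟨⟨ind T.subtype, H7.ind_add _⟩, H7.ind_smul _⟩
  refine (Submodule.finrank_mono ?_).trans (Submodule.finrank_map_le f _)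
  rw [Submodule.map_span]
  refine Submodule.span_mono ?_
  rintro _ ⟨χ, hχ, rfl⟩
  obtain ⟨ψ, hψ, h1⟩ := h χ hχ
  exact ⟨_, ⟨ψ, hψ, rfl⟩, ((congrArg _ h1).trans (reg_ind p T _)).symm⟩

theorem rank_le_two_of_psolv (hG : IsPSolvable 2 G) (hB : IsPBlock M B) : ∀ (P : Subgroup G) a b m,
    IsDefectGroup 2 M B P → MC P a b m → b ^ 2 = 1 → blockRank 2 B ≤ 2 := by
  refine H7.fong_induction hM.out (fun G _ _ B => ∀ (P : Subgroup G) a b m,
    IsDefectGroup 2 M B P → MC P a b m → b ^ 2 = 1 → blockRank 2 B ≤ 2) ?_ ?_ _ G B rfl hG hB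
  · intro G _ _ B _ θ hG hB _ _ _ a2 D a b m hD h hb
    obtain ⟨S, rfl⟩ := (a2 D).mp hD
    obtain ⟨h1, h2⟩ := tame_three hB hD h hb
    by_contra h3
    obtain ⟨u, hu, v, hv, h4, h5, h6⟩ := h2 (by omega)
    exact h6 (comm_of_psolv hG S h.z_cen hu hv h4 h5)
  · intro G _ _ B T B' _ hB hB' a1 a2 _ _ ih D a b m hD h hb
    obtain ⟨D', hD'⟩ := H8.exists_isDefectGroup (p := 2) hB'
    obtain ⟨x, hx⟩ := H8.isDefectGroup_exists_cg_eq hM.out hB (a2 D' hD') hD
    set φ := (D'.equivMapOfInjective _ T.subtype_injective).trans (cgEquiv hx)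
    have h1 := h.coe.map (f := D'.subtype.comp φ.symm.toMonoidHom)
      (D'.subtype_injective.comp φ.symm.injective)
    rw [H3.map_top_equiv] at h1
    exact (blockRank_le_of_ind 2 fun χ hχ => (a1 χ).1 hχ).trans (ih D' _ _ m hD' h1 (by
      rw [← map_pow, show (⟨b, h.b_mem⟩ : D) ^ 2 = 1 from Subtype.ext hb, map_one]))

theorem odd_center_of_three (hB : IsPBlock M B) (hD : IsDefectGroup 2 M B P) (h : MC P a b m)
    (hb : b ^ 2 = 1) (hl : blockRank 2 B = 3) : Odd (Nat.card (Subgroup.center G)) := by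
  obtain ⟨u, hu, v, hv, h4, h5, h6⟩ := (tame_three hB hD h hb).2 hl
  refine Nat.not_even_iff_odd.1 fun h1 => h6 ?_
  obtain ⟨x, hx⟩ := exists_prime_orderOf_dvd_card' 2 h1.two_dvd
  have h2 := Subgroup.mem_center_iff.1 x.2
  have := normal_zpowers_of_comm fun g => (h2 g).symm
  have h3 : (x : G) ∈ P := H8.pCore_le_defectGroup hM.out hB hD (P := zpowers (x : G))
    (IsPGroup.of_card (n := 1) (by rw [Nat.card_zpowers, Subgroup.orderOf_coe, hx]; rfl))
    (Subgroup.mem_zpowers _)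
  have h7 : (x : G) ∈ zpowers (a ^ 2 ^ (m - 1)) := h.center.le ⟨h3, fun g _ => h2 g⟩
  rw [h.mem_z_iff, or_iff_right fun h8 => by
    rw [← Subgroup.orderOf_coe, h8, orderOf_one] at hx; omega] at h7
  obtain ⟨g, rfl⟩ := isConj_iff.1 h4
  rw [← h7, h2 g, mul_inv_cancel_right, h2]

end Cfsg.Agent.H9
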