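import Mathlib
import Cfsg.Agent.H9.KL1
import Cfsg.Agent.H9.TB10
import Cfsg.Agent.H8.Prin2

/-!
Blocks with `k(B) - l(B) = 1`.
-/

set_option autoImplicit false
set_option linter.unusedSectionVars false

namespace Cfsg.Agent.H9

open MonoidAlgebra Cfsg Finset
open Cfsg.Agent.H8 (resField eB FC sbk sbk_spec)
open Cfsg.Agent.H7 (ind)

universe u

variable {M : Ideal AlgInt} [hMm : M.IsMaximal] {p : ℕ} [hp : Fact p.Prime] [hM : PMod M p]
variable {G : Type u} [Group G] [Finite G] {D : Subgroup G} {B : Set (IrrCharacter G)}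

theorem kl_one (hB : IsPBlock M B) (hD : IsDefectGroup p M B D)
    (hk : Nat.card B ≤ blockRank p B + 1) : (∀ u ∈ D, ∀ v ∈ D, u ≠ 1 → v ≠ 1 → IsConj u v) ∧
      ∀ u ∈ D, u ≠ 1 → ∃ y, IsConj u y ∧ ∃ b, IsInducedBlock M (Subgroup.centralizer {y}) b B ∧
        blockRank p b = 1 := by
  classical
  obtain ⟨e, hm⟩ := H8.exists_maxPair_of_def hB hD
  obtain ⟨Y, hY, -⟩ := H8.exists_fRep (p := p) (P := D) (e := e) (fun _ => True)
    fun u => ⟨u, FC.refl _, trivial⟩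
  rw [H8.card_eq_sum_sbk hB hm hY, ← add_sum_erase _ _ hY.one_mem, OneMemClass.coe_one,
    H8.blockRank_sbk_one hB hm, add_le_add_iff_left] at hk
  have h1 : ∀ y : D, 0 < blockRank p (sbk M p D e y) := fun y =>
    blockRank_pos (sbk_spec hm.pair.1 y.2).1
  have h2 : ∀ u ∈ D, u ≠ 1 → ∃ y ∈ Y.erase 1, IsConj u y := fun u hu u1 => by
    obtain ⟨y, ⟨h3, h4⟩, -⟩ := hY ⟨u, hu⟩
    exact ⟨y, mem_erase.2 ⟨fun h => u1 (FC.eq_one (h ▸ h4).symm), h3⟩, h4.isConj⟩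
  refine ⟨fun u hu v hv u1 v1 => ?_, fun u hu u1 => ?_⟩
  · obtain ⟨y, h3, h4⟩ := h2 u hu u1
    obtain ⟨z, h5, h6⟩ := h2 v hv v1
    rw [card_le_one.1 ((card_eq_sum_ones _).trans_le ((sum_le_sum fun y _ => h1 y).trans hk))
      y h3 z h5] at h4
    exact h4.trans h6.symm
  · obtain ⟨y, h3, h4⟩ := h2 u hu u1
    exact ⟨y, h4, _, H8.sbk_induced hB hm y.2, ((single_le_sum
      (f := fun y : D => blockRank p (sbk M p D e y)) (fun _ _ => Nat.zero_le _) h3).trans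
        hk).antisymm (h1 y)⟩

omit hMm hM in
theorem pow_eq_one_of_isConj (hD : IsPGroup p D)
    (h : ∀ u ∈ D, ∀ v ∈ D, u ≠ 1 → v ≠ 1 → IsConj u v) : ∀ u ∈ D, u ^ p = 1 := fun u hu => by
  by_contra h1
  obtain ⟨g, hg⟩ := isConj_iff.1 (h u hu _ (pow_mem hu p) (fun e => h1 (by rw [e, one_pow])) h1)
  obtain ⟨k, hk⟩ := IsPGroup.iff_orderOf.1 hD ⟨u, hu⟩
  rw [Subgroup.orderOf_mk] at hk
  have h2 := FT.orderOf_conj g u
  obtain _ | k := k
  · exact h1 (by rw [orderOf_eq_one_iff.1 hk, one_pow])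
  rw [hg, orderOf_pow_of_dvd hp.out.ne_zero (hk ▸ dvd_pow_self p k.succ_ne_zero)] at h2
  exact (Nat.div_lt_self (orderOf_pos u) hp.out.one_lt).ne h2

omit hMm hM in
theorem exists_center_ne_one (hD : IsPGroup p D) {u : G} (hu : u ∈ D) (u1 : u ≠ 1) :
    ∃ z ∈ D, z ∈ Subgroup.centralizer (D : Set G) ∧ z ≠ 1 := by
  obtain ⟨z, hz, z1⟩ := FT.exists_ne_one
    ((FT.pGrp_of_isPGroup hp.out hD).nil.center_ne_bot (FT.ne_bot_of_mem hu u1))
  exact ⟨z, hz.1, hz.2, z1⟩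

theorem comm_of_kl_psolv (hG : IsPSolvable p G) (hB : IsPBlock M B) :
    Nat.card B ≤ blockRank p B + 1 → ∀ D, IsDefectGroup p M B D → ∀ u ∈ D, ∀ v ∈ D, u * v = v * u := by
  refine H7.fong_induction hM.out (fun G _ _ B => Nat.card B ≤ blockRank p B + 1 →
    ∀ D, IsDefectGroup p M B D → ∀ u ∈ D, ∀ v ∈ D, u * v = v * u) ?_ ?_ _ G B rfl hG hB
  · intro G _ _ B _ θ hG hB _ _ _ a2 hk D hD u hu v hv
    obtain ⟨S, rfl⟩ := (a2 D).mp hD
    have h1 := (kl_one hB hD hk).1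
    by_cases u1 : u = 1
    · simp [u1]
    by_cases v1 : v = 1
    · simp [v1]
    obtain ⟨z, h2, h3, h4⟩ := exists_center_ne_one S.2 hu u1
    exact comm_of_psolv hG S h3 hu hv (h1 z h2 u hu h4 u1) (h1 z h2 v hv h4 v1)
  · intro G _ _ B T B' _ hB hB' a1 a2 a3 a4 ih hk D hD u hu v hv
    obtain ⟨D', hD'⟩ := H8.exists_isDefectGroup (p := p) hB'
    obtain ⟨x, hx⟩ := H8.isDefectGroup_exists_cg_eq hM.out hB (a2 D' hD') hD
    set φ := (D'.equivMapOfInjective _ T.subtype_injective).trans (cgEquiv hx)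
    have := H8.finite_irr (G := G)
    have h1 : Nat.card B' ≤ Nat.card B := Nat.card_le_card_of_injective
      (fun ψ => ⟨⟨_, (a3 ψ.1 ψ.2).1⟩, (a1 _).2 ⟨ψ.1, ψ.2, rfl⟩⟩) fun ψ ψ' e =>
        Subtype.ext (a4 _ ψ.2 _ ψ'.2 (congrArg (·.1.1) e))
    have h2 := ih (h1.trans (hk.trans (Nat.succ_le_succ
      (blockRank_le_of_ind p fun χ hχ => (a1 χ).1 hχ)))) D' hD' _ (φ.symm ⟨u, hu⟩).2 _
        (φ.symm ⟨v, hv⟩).2
    rw [← Subgroup.coe_mul, ← Subgroup.coe_mul, ← map_mul, ← map_mul, Subtype.coe_inj,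
      φ.symm.apply_eq_iff_eq] at h2
    exact congrArg Subtype.val h2

theorem exists_sylow_of_def (hD : IsDefectGroup p M (principalBlock M G) D) :
    ∃ S : Sylow p G, (S : Subgroup G) = D :=
  ⟨Sylow.ofCard D ((H8.card_defectGroup hM.out H8.isPBlock_principalBlock hD).trans
    (by rw [H8.blockDefect_principal])), rfl⟩

open FT in
theorem comm_of_kl_principal (hD : IsDefectGroup p M (principalBlock M G) D)
    (hk : Nat.card (principalBlock M G) ≤ blockRank p (principalBlock M G) + 1) :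
    ∀ u ∈ D, ∀ v ∈ D, u * v = v * u := by
  obtain ⟨h1, h2⟩ := kl_one H8.isPBlock_principalBlock hD hk
  obtain ⟨S, rfl⟩ := exists_sylow_of_def hD
  have h3 := pow_eq_one_of_isConj S.2 h1
  intro u hu v hv
  by_cases p2 : p = 2
  · subst p2
    have h4 : ∀ x ∈ (S : Subgroup G), x⁻¹ = x := fun x hx =>
      inv_eq_of_mul_eq_one_right (by rw [← pow_two, h3 x hx])
    rw [← h4 _ (mul_mem hu hv), mul_inv_rev, h4 u hu, h4 v hv]
  by_cases v1 : v = 1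
  · simp [v1]
  obtain ⟨z, h4, h5, h6⟩ := exists_center_ne_one S.2 hv v1
  obtain ⟨g, rfl⟩ := isConj_iff.1 (h1 z h4 v hv h6 v1)
  refine CN.center (fun w _ hw w1 => ?_) p2 S ⟨h4, h5⟩ hv u hu
  obtain ⟨a, -, ha⟩ := (syl_top hp.out S).syl_elt trivial hw
  obtain ⟨y, h7, b, h8, h9⟩ := h2 _ ha (conj_ne_one.2 w1)
  obtain ⟨c, rfl⟩ := isConj_iff.1 (h7.symm.trans (isConj_iff.2 ⟨a, rfl⟩).symm)
  rw [(H8.IsInducedBlock.principal_iff hM.out h8).1 rfl] at h9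
  refine ⟨?_, by simpa using h3 _ ha⟩
  rw [top_inf_eq, ← cj_cen1]
  exact ((npc_iff hp.out).2 (H8.hasNPC_of_rank_one h9)).cj c

theorem elem_of_kl (hB : IsPBlock M B) (hD : IsDefectGroup p M B D)
    (hk : Nat.card B = blockRank p B + 1) (h0 : B = principalBlock M G ∨ IsPSolvable p G) :
    IsElementaryAbelian p D := by
  obtain ⟨e, hm⟩ := H8.exists_maxPair_of_def hB hD
  refine ⟨⟨⟨fun a b => Subtype.ext ?_⟩⟩, pow_eq_one_of_isConj hm.isP (kl_one hB hD hk.le).1⟩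
  rcases h0 with rfl | h0
  · exact comm_of_kl_principal hD hk.le _ a.2 _ b.2
  · exact comm_of_kl_psolv h0 hB hk.le D hD _ a.2 _ b.2

end Cfsg.Agent.H9
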