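import Mathlib
import Cfsg.Agent.H9.KL2
import Cfsg.Agent.H9.StAb
import Cfsg.Agent.H9.Fong
import Cfsg.Agent.H8.PExt
import Cfsg.Agent.H7.OneBlock

/-!
Principal blocks: quotients, products, abelian Sylow subgroups.
-/

set_option autoImplicit false
set_option linter.unusedSectionVars false

namespace Cfsg.Agent.H9

open MonoidAlgebra Cfsg Finset
open Cfsg.Agent.H8 (resField eB IsBlockUnion inflIrr Sup cosS mem_principal_iff_rip)
open Cfsg.Agent.H7 (ind ip IsNE)
open Subgroup (zpowers)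

local notation "𝐂" Q => Subgroup.centralizer (SetLike.coe (Q : Subgroup _))
local notation "𝐍" Q => Subgroup.normalizer (SetLike.coe (Q : Subgroup _))
local notation "𝐙" x => Subgroup.centralizer (Singleton.singleton x : Set _)

variable {M : Ideal AlgInt} [hMm : M.IsMaximal] {p : ℕ} [hp : Fact p.Prime] [hM : PMod M p]
variable {G H : Type*} [Group G] [Finite G] [Group H] [Finite H] {φ : G →* H}

theorem blockRank_eq_of_lift (hφ : Function.Surjective φ) {A : Set (IrrCharacter H)}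
    {B : Set (IrrCharacter G)} (hb : IsBlockUnion M B) (h1 : ∀ ξ, inflIrr φ hφ ξ ∈ B ↔ ξ ∈ A)
    (h2 : ∀ χ ∈ B, ∀ x y, ¬ p ∣ orderOf x → ¬ p ∣ orderOf y → φ x = φ y → χ.1 x = χ.1 y) :
    blockRank p B = blockRank p A := by
  classical
  choose! σ hσ hσ' using fun y (hy : ¬ p ∣ orderOf y) => exists_reg_lift hφ hy
  let L : (H → ℂ) →ₗ[ℂ] G → ℂ := regL p ∘ₗ LinearMap.funLeft ℂ ℂ φ
  let L' : (G → ℂ) →ₗ[ℂ] H → ℂ := regL p ∘ₗ LinearMap.funLeft ℂ ℂ σ
  have hL : ∀ ξ : IrrCharacter H, L (pRegularPart p ξ) = pRegularPart p (inflIrr φ hφ ξ) := fun ξ =>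
    reg_eq_iff.2 fun x hx => reg_of_not (not_dvd_orderOf_map φ hx)
  refine le_antisymm ((Submodule.finrank_mono ?_).trans (Submodule.finrank_map_le L _))
    ((Submodule.finrank_mono ?_).trans (Submodule.finrank_map_le L' _))
  · rw [Submodule.span_le]
    rintro _ ⟨χ, hχ, rfl⟩
    have hσφ : ∀ x, ¬ p ∣ orderOf x → χ.1 (σ (φ x)) = χ.1 x := fun x hx =>
      h2 χ hχ _ _ (hσ _ (not_dvd_orderOf_map φ hx)) hx (hσ' _ (not_dvd_orderOf_map φ hx))
    have h3 : IsClassFunction H (L' χ) := fun y t => by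
      change pRegularPart p _ _ = pRegularPart p _ _
      obtain ⟨s, rfl⟩ := hφ t
      rw [reg_apply, reg_apply, H8.orderOf_conj']
      split_ifs with hy
      · rfl
      · obtain ⟨x, hx, rfl⟩ := exists_reg_lift hφ hy
        rw [LinearMap.funLeft_apply, LinearMap.funLeft_apply, ← map_inv, ← map_mul, ← map_mul, hσφ _ hx,
          hσφ _ (by rwa [H8.orderOf_conj']), H8.irr_conj]
    have h4 : pRegularPart p (χ : G → ℂ) = L (pRegularPart p (L' χ)) := reg_eq_iff.2 fun x hx => by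
      have := not_dvd_orderOf_map φ hx
      rw [LinearMap.funLeft_apply, reg_of_not this]
      change _ = pRegularPart p _ _
      rw [reg_of_not this, LinearMap.funLeft_apply, hσφ x hx]
    rw [← blockPart_univ h3, blockPart_eq_bs, ← regL_apply (∑ _ ∈ _, _), map_sum, map_sum] at h4
    change pRegularPart p (χ : G → ℂ) ∈ _
    rw [← H8.blockPart_of_mem hχ, reg_blockPart hb, h4, H8.blockPart_sum]
    refine sum_mem fun ξ _ => ?_
    rw [map_smul, map_smul, H8.blockPart_smul, regL_apply, hL, ← reg_blockPart hb]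
    refine Submodule.smul_mem _ _ ?_
    by_cases hξ : ξ ∈ A
    · rw [H8.blockPart_of_mem ((h1 ξ).2 hξ), ← hL]
      exact Submodule.mem_map_of_mem (Submodule.subset_span ⟨ξ, hξ, rfl⟩)
    · rw [H8.blockPart_of_notMem (mt (h1 ξ).1 hξ), ← regL_apply, map_zero]
      exact zero_mem _
  · rw [Submodule.span_le]
    rintro _ ⟨ξ, hξ, rfl⟩
    refine ⟨_, Submodule.subset_span ⟨_, (h1 ξ).2 hξ, rfl⟩, reg_eq_iff.2 fun y hy => ?_⟩
    rw [LinearMap.funLeft_apply]
    exact (reg_of_not (hσ y hy)).trans (by rw [H8.inflIrr_apply, hσ' y hy])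

theorem prin_coprime (hφ : Function.Surjective φ) (hk : (Nat.card φ.ker).Coprime p) :
    Nat.card (principalBlock M G) = Nat.card (principalBlock M H) ∧
      blockRank p (principalBlock M G) = blockRank p (principalBlock M H) := by
  have h1 := H8.inflIrr_mem_principal_of_coprime hM.out φ hφ hk
  have h2 : ∀ χ ∈ principalBlock M G, ∃ ψ, inflIrr φ hφ ψ = χ := fun χ hχ =>
    H8.exists_inflIrr_eq φ hφ (H8.le_charKer_of_principal hM.out hχ _ hk)
  refine ⟨(Nat.card_congr (Equiv.ofBijective (fun ψ : principalBlock M H =>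
    (⟨_, (h1 ψ.1).2 ψ.2⟩ : principalBlock M G)) ⟨fun a b e => Subtype.ext
      (H8.inflIrr_injective φ hφ (congrArg Subtype.val e)), fun χ => ?_⟩)).symm,
    blockRank_eq_of_lift hφ H8.ub_principal h1 fun χ hχ x y _ _ e => ?_⟩
  · obtain ⟨ψ, h⟩ := h2 χ.1 χ.2
    exact ⟨⟨ψ, (h1 ψ).1 (h ▸ χ.2)⟩, Subtype.ext h⟩
  · obtain ⟨ψ, rfl⟩ := h2 χ hχ
    exact congrArg ψ.1 e

omit hMm hM in
open FT in
theorem isConj_of_reg {P : Subgroup G} [P.Normal] (hP : IsPGroup p P) {x y : G}
    (hx : ¬ p ∣ orderOf x) (hy : ¬ p ∣ orderOf y) (h : x⁻¹ * y ∈ P) : IsConj x y := by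
  have h0 := pGrp_of_isPGroup hp.out hP
  have hn : ∀ z : G, ⟪z⟫ ≤ N(P) := fun z => Subgroup.le_normalizer_of_normal
  have h1 : ∀ z : G, ¬ p ∣ orderOf z → Cop P ⟪z⟫ := fun z hz =>
    h0.cop (PiElt.zpowers (p'nat_of_not_dvd hz))
  have e : P ⊔ ⟪y⟫ = P ⊔ ⟪x⟫ := le_antisymm (sup_le le_sup_left (Subgroup.zpowers_le.2 (by
      simpa using mul_mem (Subgroup.mem_sup_right (Subgroup.mem_zpowers x))
        (Subgroup.mem_sup_left (T := ⟪x⟫) h)))) (sup_le le_sup_left (Subgroup.zpowers_le.2 (by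
      simpa using mul_mem (Subgroup.mem_sup_right (Subgroup.mem_zpowers y))
        (Subgroup.mem_sup_left (T := ⟪y⟫) (inv_mem h)))))
  obtain ⟨k, hk, h2⟩ := SchurZassenhaus_trans (sd_sup (hn x) (h1 x hx).inf)
    (e ▸ sd_sup (hn y) (h1 y hy).inf) (h1 y hy) (.inl h0.sol)
  refine isConj_iff.2 ⟨k, inv_mul_eq_one.1 (eq_one_of_mem_inf (h1 y hy).inf ?_ (mul_mem (inv_mem
    (h2 ▸ conj_mem_cj.2 (Subgroup.mem_zpowers x))) (Subgroup.mem_zpowers y)))⟩
  have := mul_mem (mul_mem hk (conj_mem' (hn x (Subgroup.mem_zpowers x)) (inv_mem hk))) h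
  convert this using 1
  group

theorem rank_normal {P : Subgroup G} [P.Normal] (hP : IsPGroup p P) (hC : (𝐂 P) ≤ P)
    (hi : ¬ p ∣ P.index) : blockRank p (principalBlock M G) = Nat.card (IrrCharacter (G ⧸ P)) := by
  have h1 : ∀ χ, χ ∈ principalBlock M G := fun χ => by
    rw [H8.mem_principalBlock_iff, ← H8.sameBlock_iff]
    exact sameBlock_of_centralizer_le hP hC _ _
  have := H8.finite_irr (G := G ⧸ P)
  have := Fintype.ofFinite (IrrCharacter (G ⧸ P))
  rw [blockRank_eq_of_lift (A := Set.univ) (QuotientGroup.mk'_surjective P) H8.ub_principal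
    (fun ξ => iff_of_true (h1 _) trivial) fun χ _ x y hx hy e =>
      H7.cf_isConj (H8.irr_isClassFunction χ) (isConj_of_reg hP hx hy (QuotientGroup.eq.1 e)),
    blockRank, Set.image_univ, show (fun χ : IrrCharacter (G ⧸ P) => pRegularPart p χ.1) =
      fun χ => χ.1 from funext fun χ => funext fun g => reg_of_not fun h =>
        hi (h.trans (orderOf_dvd_natCard g)), finrank_span_eq_card H6.linearIndependent_irr,
    Nat.card_eq_fintype_card]

section Prod

variable {N Q : Type*} [Group N] [Finite N] [Group Q] [Finite Q] {f : N →* G} {π : G →* Q}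

omit hMm hM in
theorem good_rip_mul (hf : Function.Injective f) (hπ : Function.Surjective π)
    (hker : π.ker = f.range) {β : G → ℂ} (hβ : IsClassFunction G β) (h : H8.Good p f β) {α : Q → ℂ}
    (hα : IsClassFunction Q α) :
    rip p ((fun x => α (π x)) * β) 1 = rip p (fun n => β (f n)) 1 * rip p α 1 := by
  have h1 : ind π (pRegularPart p β) = rip p (fun n => β (f n)) 1 • pRegularPart p 1 := by
    funext q
    by_cases hq : p ∣ orderOf q
    · obtain ⟨g, rfl⟩ := hπ q
      rw [H8.ind_reg_apply hf hπ hker hβ, Pi.smul_apply, reg_of_dvd hq, smul_zero, cosS,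
        finsum_eq_zero_of_forall_eq_zero fun n => reg_of_dvd (hq.trans ?_), mul_zero]
      have := orderOf_map_dvd π (f n * g)
      rwa [map_mul, H7.apply_eq_one_of_ker_eq hker, one_mul] at this
    · obtain ⟨g, hg, rfl⟩ := exists_reg_lift hπ hq
      rw [H8.ind_reg_apply hf hπ hker hβ, h g hg, H8.cosS_one hf,
        inv_mul_cancel_left₀ (H7.card_ne_zero' N), Pi.smul_apply, reg_of_not hq, Pi.one_apply,
        smul_eq_mul, mul_one]
  have h2 := H7.ip_ind_left π (pRegularPart p β) (H7.cf_star hα)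
  rw [h1, H7.ip_smul_left, ← H7.ip_one_right_eq, star_star, ← H8.reg_mul, one_mul] at h2
  rw [rip, mul_comm, H8.reg_mul, H7.ip_mul_right, one_mul]
  exact h2.symm

theorem card_principal_mul (hf : IsNE f) (hπ : Function.Surjective π) (hker : π.ker = f.range)
    (hs : Sup p f) (h : ∀ θ ∈ principalBlock M N, ∃ ψ, IsCharacter G ψ ∧ ∀ n, ψ (f n) = θ.1 n) :
    Nat.card (principalBlock M G) =
      Nat.card (principalBlock M N) * Nat.card (principalBlock M Q) := by
  have h1 : ∀ θ : principalBlock M N, ∃ β, IsCharacter G β ∧ H8.Good p f β ∧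
      (fun n => β (f n)) = θ.1.1 := fun θ => by
    obtain ⟨ψ, h1, h2⟩ := h θ.1 θ.2
    obtain ⟨l, h3, h4⟩ := hs.exists_good hf θ.2 h1 h2
    exact ⟨_, H7.char_mul (H7.char_of_hom l) h1, h4, funext fun n => by
      simp [H7.linFun_apply, h3, h2]⟩
  choose β h1 h2 h3 using h1
  have h4 : ∀ θ, IsIrrCharacter N fun n => β θ (f n) := fun θ => h3 θ ▸ θ.1.2
  have h5 : ∀ θ (α : IrrCharacter Q), (⟨_, H7.gallagher_irr hπ hker (h1 θ) (h4 θ) α.2⟩ :
      IrrCharacter G) ∈ principalBlock M G ↔ α ∈ principalBlock M Q := fun θ α => by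
    rw [mem_principal_iff_rip p, mem_principal_iff_rip p, good_rip_mul hf.inj hπ hker
      (H7.char_cf (h1 θ)) (h2 θ) (H8.irr_isClassFunction α), h3, mul_ne_zero_iff,
      and_iff_right ((mem_principal_iff_rip p _).1 θ.2)]
  rw [← Nat.card_prod]
  refine (Nat.card_congr (Equiv.ofBijective (fun x : principalBlock M N × principalBlock M Q =>
    (⟨_, (h5 x.1 x.2.1).2 x.2.2⟩ : principalBlock M G)) ⟨?_, fun χ => ?_⟩)).symm
  · rintro ⟨θ, α⟩ ⟨θ', α'⟩ e
    have e1 : (fun x => α.1.1 (π x)) * β θ = (fun x => α'.1.1 (π x)) * β θ' :=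
      congrArg (·.1.1) e
    have e2 := H7.gallagher_res hker (β θ) α.1.1
    rw [e1, H7.gallagher_res hker, h3, h3] at e2
    obtain rfl : θ = θ' := Subtype.ext (Subtype.ext (H7.irr_eq_of_ip_ne_zero θ.1.2 θ'.1.2 fun h0 => by
      have := congrArg (ip · θ'.1.1) e2
      simp only [H7.ip_smul_left, h0, H7.ip_irr_self θ'.1.2, mul_one, mul_zero] at this
      exact H7.irr_one_ne_zero α'.1.2 this))
    rw [Subtype.ext (Subtype.ext (H7.gallagher_inj hπ hker (h1 θ) (h4 θ) α.1.2 α'.1.2 e1) :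
      α.1 = α'.1)]
  · obtain ⟨θ, h6, h7⟩ := H7.exists_irr_under f χ.1.2
    have h8 := H8.mem_principal_of_under hf χ.2 (θ := ⟨θ, h6⟩) h7
    obtain ⟨α, h9, h10⟩ := hf.gallagher_surj hπ hker (h1 ⟨_, h8⟩) (h4 _) χ.1.2 (by rwa [h3])
    have e : (⟨_, H7.gallagher_irr hπ hker (h1 ⟨_, h8⟩) (h4 _) h9⟩ : IrrCharacter G) = χ.1 :=
      Subtype.ext h10.symm
    exact ⟨⟨⟨_, h8⟩, ⟨⟨α, h9⟩, (h5 _ _).1 (e ▸ χ.2)⟩⟩, Subtype.ext e⟩

end Prod

theorem isDefectGroup_sylow (P : Sylow p G) : IsDefectGroup p M (principalBlock M G) P := by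
  rw [isDefectGroup_iff H8.isPBlock_principalBlock, eB_principal]
  exact (isDef_prin_iff Subgroup.le_normalizer).2 (H18.sylIn_top P)

theorem exists_abD_prin (P : Sylow p G) (hab : (P : Subgroup G) ≤ 𝐂 (P : Subgroup G)) :
    ∃ e : (resField M)[G], AbD p (principalBlock M G) P e ∧ pstab ⊤ (P : Subgroup G) e = (𝐍 (P : Subgroup G)) ∧
      ∀ u ∈ (P : Subgroup G), bu p P e u = principalBlock M (𝐙 u) := by
  obtain ⟨e, h⟩ := exists_abD H8.isPBlock_principalBlock (isDefectGroup_sylow (M := M) P) hab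
  refine ⟨e, h, le_antisymm AbD.T_le fun x hx => mem_pstab.2 ⟨trivial, hx, ?_⟩, fun u hu =>
    (H8.IsInducedBlock.principal_iff hM.out (h.induced_bu hu)).1 rfl⟩
  have h1 := h.max.pair
  rw [eB_principal] at h1
  rw [h1.eq_prin, top_inf_eq]
  exact cj_prin_of_mem (FT.cen_nml_nrm _ |>.nrm hx)

/-- A group with a split `BN`-pair of rank one of the shape of `SL(2, q)`. -/
theorem card_principal_borel (P : Sylow p G) (hab : (P : Subgroup G) ≤ 𝐂 (P : Subgroup G))
    (h1 : (P : Subgroup G) ≠ ⊥) (hC : ∀ t ∈ (P : Subgroup G), t ≠ 1 → (𝐙 t) ≤ P)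
    (hB : ⁅𝐍 (P : Subgroup G), 𝐍 (P : Subgroup G)⁆ ≤ P)
    (hi : (𝐍 (P : Subgroup G)).index = Nat.card P + 1) (hG : commutator G = ⊤)
    (hk : Nat.card P + 1 ≤ Nat.card (ConjClasses G)) :
    Nat.card (principalBlock M G) = Nat.card P := by
  classical
  obtain ⟨e, h, h2, -⟩ := exists_abD_prin (M := M) P hab
  obtain ⟨u, hu, u1⟩ := FT.exists_ne_one h1
  have h3 := h.card_le hu
  rw [(h.uni_bu hu (inf_le_left.trans ((hC u hu u1).trans hab))).rank, mul_one] at h3
  set B := 𝐍 (P : Subgroup G)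
  have hPB : (P : Subgroup G) ≤ B := Subgroup.le_normalizer
  have h4 : ∀ χ : IrrCharacter G, χ ∉ principalBlock M G → χ.1 = ind B.subtype 1 - 1 := by
    intro χ hχ
    have a1 : ∀ g, p ∣ orderOf g → χ.1 g = 0 := fun g => H7.vanish_of_not_principal hM.out
      (fun z hz => by
        obtain ⟨g, -, hg⟩ := (FT.syl_top hp.out P).syl_elt (x := z) trivial
          ((FT.piElt_of_orderOf_prime hp.out hz).2 rfl)
        have z1 := hC _ hg (FT.conj_ne_one.2 fun e => hp.out.one_lt.ne' (by simp [← hz, e]))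
        exact ⟨_, P, isConj_iff.2 ⟨g, rfl⟩, P.2, fun y hy => hab hg y hy, fun a ha y hy =>
          FT.conj_mem (hPB (z1 (FT.mem_cen1.2 ha))) hy, fun a ha _ => z1 (FT.mem_cen1.2 ha)⟩) hχ
    have := Fintype.ofFinite (P : Subgroup G)
    obtain ⟨θ, a2, a3, a4⟩ := H7.exists_irr_between B.subtype (Subgroup.inclusion hPB)
      (H7.irr_char χ.2) (θ := 1) (by
        rw [H7.ip_def, sum_eq_single 1 (fun x _ hx => by
          obtain ⟨k, hk⟩ := IsPGroup.iff_orderOf.1 P.2 x
          rw [a1, zero_mul]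
          rw [Subgroup.subtype_apply, Subgroup.coe_inclusion, Subgroup.orderOf_coe, hk]
          exact dvd_pow_self p fun e => hx (by simpa [e] using hk)) (by simp)]
        simpa using H7.irr_one_ne_zero χ.2)
    have : ((P : Subgroup G).subgroupOf B).Normal := Subgroup.normal_in_normalizer
    obtain ⟨β, a5, rfl⟩ := (H7.isNE_inclusion hPB fun t ht k hk => FT.conj_mem ht hk).exists_deflate
      (QuotientGroup.mk'_surjective ((P : Subgroup G).subgroupOf B))
      (by rw [QuotientGroup.ker_mk', Subgroup.inclusion_range]) a2 a4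
    have a6 : β 1 = 1 := H6.isIrr_degree_one_of_comm (fun a b => by
      obtain ⟨a, rfl⟩ := QuotientGroup.mk_surjective a
      obtain ⟨b, rfl⟩ := QuotientGroup.mk_surjective b
      refine QuotientGroup.eq.2 (hB ?_)
      simpa [commutatorElement_def, mul_assoc] using
        Subgroup.commutator_mem_commutator (inv_mem b.2) (inv_mem a.2)) a5
    have a7 := H7.char_ind B.subtype (H7.irr_char a2)
    rw [← H7.ip_ind_right _ _ (H7.irr_cf χ.2), H7.ip_ne_zero_comm] at a3
    have a8 := H7.char_sub_irr a7 χ.2 a3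
    have a9 := H7.ind_apply_one B.subtype_injective fun x =>
      β (QuotientGroup.mk' ((P : Subgroup G).subgroupOf B) x)
    rw [map_one, a6, mul_one, Subgroup.range_subtype, hi] at a9
    obtain ⟨n, hn⟩ := H7.char_one_nat a8
    obtain ⟨m, hm⟩ := H7.pow_dvd_deg_of_vanish (H7.irr_char χ.2) a1
    obtain ⟨d, d0, hd⟩ := H7.irr_one_pos χ.2
    rw [H7.charDegree_eq hd, ← P.card_eq_multiplicity] at hm
    rw [Pi.sub_apply, a9, hd, sub_eq_iff_eq_add] at hn
    have a10 : Nat.card P + 1 = n + d := by exact_mod_cast hn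
    have a11 : 1 < Nat.card P := FT.one_lt_card h1
    obtain rfl : n = 1 := by
      obtain _ | _ | m := m <;> nlinarith
    obtain ⟨μ, hμ⟩ := H7.exists_hom_of_char_one a8 (by
      rw [Pi.sub_apply, a9, hd, hn]; simp)
    obtain rfl : μ = 1 := MonoidHom.ext fun g => Abelianization.commutator_subset_ker μ
      (hG ▸ Subgroup.mem_top g)
    rw [sub_eq_iff_eq_add'] at hμ
    have a12 := H7.ip_ind_left B.subtype (fun x =>
      β (QuotientGroup.mk' ((P : Subgroup G).subgroupOf B) x)) (H7.cf_one (G := G))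
    have a13 : χ.1 ≠ 1 := fun e => hχ (by
      rw [show χ = H8.irrOne G from Subtype.ext e]; exact H8.irrOne_mem_principalBlock)
    rw [hμ, H7.ip_add_left, H7.ip_irr_ne χ.2 H7.irr_one a13, zero_add] at a12
    rw [← H7.irr_eq_of_ip_ne_zero a2 H7.irr_one (a12.symm.trans_ne (H7.ip_one_one.trans_ne
      one_ne_zero)), hμ]
    exact (add_sub_cancel_right _ _).symm
  have := H8.finite_irr (G := G)
  have h5 : Nat.card ((principalBlock M G)ᶜ : Set _) ≤ 1 := Finite.card_le_one_iff_subsingleton.2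
    ⟨fun a b => Subtype.ext (Subtype.ext ((h4 _ a.2).trans (h4 _ b.2).symm))⟩
  rw [← H6.card_irr_eq_card_conjClasses, ← Nat.card_congr (Equiv.Set.sumCompl (principalBlock M G)),
    Nat.card_sum] at hk
  omega

end Cfsg.Agent.H9
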