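import Mathlib
import Cfsg.Agent.H9.AS1
import Cfsg.Agent.H9.TB9
import Cfsg.Agent.H1.Coprime

/-!
Principal blocks with abelian Sylow subgroups: counting formulas.
-/

set_option autoImplicit false
set_option linter.unusedSectionVars false

namespace Cfsg.Agent.H9

open MonoidAlgebra Cfsg Finset
open Cfsg.Agent.H8 (resField eB IsBlockUnion)
open Subgroup (zpowers)

local notation "𝐂" Q => Subgroup.centralizer (SetLike.coe (Q : Subgroup _))
local notation "𝐍" Q => Subgroup.normalizer (SetLike.coe (Q : Subgroup _))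
local notation "𝐙" x => Subgroup.centralizer (Singleton.singleton x : Set _)

theorem card_class_psl (F : Type*) [Field F] [Finite F] [CharP F 2] :
    Nat.card F + 1 ≤ Nat.card (ConjClasses (Matrix.ProjectiveSpecialLinearGroup (Fin 2) F)) := by
  have h2 : (2 : F) = 0 := CharP.cast_eq_zero F 2
  let A : F → Matrix.SpecialLinearGroup (Fin 2) F := fun t =>
    ⟨!![t, 1; 1, 0], by rw [Matrix.det_fin_two_of]; linear_combination -h2⟩
  have hZ : ∀ z ∈ Subgroup.center (Matrix.SpecialLinearGroup (Fin 2) F), z = 1 := fun z hz => by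
    obtain ⟨r, h1, h3⟩ := Matrix.SpecialLinearGroup.mem_center_iff.1 hz
    have h4 : r = 1 := by
      have : (r - 1) ^ 2 = 0 := by
        rw [Fintype.card_fin] at h1
        linear_combination h1 - (r - 1) * h2
      exact sub_eq_zero.1 (pow_eq_zero_iff two_ne_zero |>.1 this)
    exact Subtype.ext (by rw [← h3, h4]; simp)
  have key : ∀ X Y : Matrix.SpecialLinearGroup (Fin 2) F,
      ConjClasses.mk (X : Matrix.ProjectiveSpecialLinearGroup (Fin 2) F) =
        ConjClasses.mk (Y : Matrix.ProjectiveSpecialLinearGroup (Fin 2) F) →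
      IsConj X Y := fun X Y h => by
    obtain ⟨g, hg⟩ := isConj_iff.1 (ConjClasses.mk_eq_mk_iff_isConj.1 h)
    obtain ⟨g, rfl⟩ := QuotientGroup.mk_surjective g
    exact isConj_iff.2 ⟨g, inv_mul_eq_one.1 (hZ _ (QuotientGroup.eq.1 hg))⟩
  have k1 : ∀ t, ¬ IsConj 1 (A t) := fun t h => by
    have := congrArg (fun X : Matrix.SpecialLinearGroup (Fin 2) F => X.1 0 1) (isConj_one_right.1 h)
    simp [A] at this
  rw [← Finite.card_option]
  refine Nat.card_le_card_of_injective (fun o : Option F => ConjClasses.mk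
    ((o.elim 1 A : Matrix.SpecialLinearGroup (Fin 2) F) :
      Matrix.ProjectiveSpecialLinearGroup (Fin 2) F)) ?_
  rintro (_ | s) (_ | t) h
  · rfl
  · exact absurd (key _ _ h) (k1 t)
  · exact absurd (key _ _ h).symm (k1 s)
  · obtain ⟨g, hg⟩ := isConj_iff.1 (key _ _ h)
    have h3 := congrArg (fun X : Matrix.SpecialLinearGroup (Fin 2) F => Matrix.trace X.1) hg
    simp only [Matrix.SpecialLinearGroup.coe_mul, Option.elim] at h3
    rw [Matrix.trace_mul_cycle, ← Matrix.SpecialLinearGroup.coe_mul, inv_mul_cancel] at h3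
    simpa [A, Matrix.trace_fin_two] using h3

theorem comm_of_card_15 {E : Type*} [Group E] (h : Nat.card E = 15) (a b : E) : a * b = b * a := by
  have : Finite E := Nat.finite_of_card_ne_zero (by omega)
  have : IsZGroup E := IsZGroup.of_squarefree (by rw [h]; decide +kernel)
  have : Group.IsNilpotent E := (Group.isNilpotent_of_finite_tfae.out 3 0).1 fun (p : ℕ) (hp : Fact p.Prime)
      (P : Sylow p E) => by
    by_cases h1 : p ∣ 15
    · have h2 := P.card_dvd_index
      have h3 := card_sylow_modEq_one p E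
      have h4 := P.not_dvd_index
      have h5 := h ▸ (P : Subgroup E).index_dvd_card
      have h6 := Nat.le_of_dvd (by norm_num) h5
      have h7 := Nat.le_of_dvd (by norm_num) h1
      have h8 := Nat.le_of_dvd (by norm_num) (h2.trans h5)
      have h9 := hp.out
      have : Subsingleton (Sylow p E) := Finite.card_le_one_iff_subsingleton.1 (by
        generalize Nat.card (Sylow p E) = n at *
        generalize (P : Subgroup E).index = m at *
        rw [Nat.ModEq] at h3
        interval_cases p <;> simp_all <;> interval_cases m <;> simp_all <;> interval_cases n <;> simp_all)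
      exact P.normal_of_subsingleton
    · rw [show (P : Subgroup E) = ⊥ from Subgroup.eq_bot_of_card_eq _ (by
        rw [P.card_eq_multiplicity, h, Nat.factorization_eq_zero_of_not_dvd h1, pow_zero])]
      infer_instance
  exact (IsCyclic.commutative (α := E)).is_comm.comm a b

section

variable {G : Type*} [Group G] [Finite G]

theorem comm_le_cen_of_card {P : Subgroup G} (h : ((𝐂 P).relIndex (𝐍 P)).Prime ∨
    (𝐂 P).relIndex (𝐍 P) = 9 ∨ (𝐂 P).relIndex (𝐍 P) = 15) : ⁅𝐍 P, 𝐍 P⁆ ≤ 𝐂 P := by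
  have := Subgroup.normal_subgroupOf_centralizer_normalizer (P : Set G)
  have key : ∀ a b : (𝐍 P) ⧸ (𝐂 P).subgroupOf (𝐍 P), a * b = b * a := fun a b => by
    obtain h | h | h := h
    · have := Fact.mk h
      exact (isCyclic_of_prime_card (p := (𝐂 P).relIndex (𝐍 P)) rfl).commutative.is_comm.comm a b
    · have := Fact.mk Nat.prime_three
      exact IsPGroup.commutative_of_card_eq_prime_sq (p := 3) h a b
    · exact comm_of_card_15 h a b
  refine Subgroup.commutator_le.2 fun a ha b hb => ?_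
  simpa [commutatorElement_def, mul_assoc, Subgroup.mem_subgroupOf] using QuotientGroup.eq.1
    (key (QuotientGroup.mk ⟨b⁻¹, inv_mem hb⟩) (QuotientGroup.mk ⟨a⁻¹, inv_mem ha⟩))

theorem nrm_map_sylow {H : Type*} [Group H] {φ : G →* H} (hφ : Function.Surjective φ) {p : ℕ}
    {P : Subgroup G} (hP : FT.Syl p P ⊤) : (𝐍 (P.map φ)) = (𝐍 P).map φ := by
  refine le_antisymm (fun x hx => ?_) (Subgroup.le_normalizer_map _)
  obtain ⟨g, rfl⟩ := hφ x
  have h1 : FT.cj g P ≤ P ⊔ φ.ker := fun y hy => by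
    rw [← Subgroup.comap_map_eq, Subgroup.mem_comap]
    have := FT.conj_mem hx (Subgroup.mem_map_of_mem φ (FT.mem_cj.1 hy))
    simpa [mul_assoc] using this
  obtain ⟨k, hk, e⟩ := (hP.subl le_sup_left le_top).syl_trans
    ((hP.cj_mem (Subgroup.mem_top g)).subl h1 le_top)
  obtain ⟨n, hn, y, hy, rfl⟩ := (Subgroup.normal_mul φ.ker P).subset (by rwa [sup_comm] at hk)
  refine ⟨n⁻¹ * g, FT.cj_eq_self.1 ?_, by simp [MonoidHom.mem_ker.1 hn]⟩
  rw [← FT.cj_cj, e, FT.cj_cj, inv_mul_cancel_left]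
  exact FT.cj_eq_self.2 (Subgroup.le_normalizer hy)

theorem orb_nine {D : Type*} [Group D] [Fintype D] (hD : Nat.card D = 16) (A : Subgroup (MulAut D))
    (hA : Nat.card A = 9) : ∑ u : D, Nat.card (MulAction.stabilizer A u) ≤ 48 ∧
      (univ.filter fun u : D => Nat.card (MulAction.stabilizer A u) = 9).card % 3 = 1 := by
  classical
  have := Fintype.ofFinite A
  have := Fact.mk Nat.prime_three
  have h3 : IsPGroup 3 A := IsPGroup.of_card (n := 2) hA
  refine ⟨?_, ?_⟩
  · have h1 : ∀ a : A, a ≠ 1 → (univ.filter fun u : D => a • u = u).card ≤ 4 := fun a ha => by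
      let K : Subgroup D := (a.1 : D →* D).eqLocus (MonoidHom.id D)
      have k1 : (univ.filter fun u : D => a • u = u).card = Nat.card K := by
        rw [← Fintype.card_subtype, ← Nat.card_eq_fintype_card]; rfl
      have k2 := (h3.to_subgroup (zpowers a)).card_modEq_card_fixedPoints D
      rw [show Nat.card (MulAction.fixedPoints (zpowers a) D) = Nat.card K from
        Nat.card_congr (Equiv.subtypeEquivRight fun u => ⟨fun h => h ⟨a, Subgroup.mem_zpowers a⟩,
          fun h b => (Subgroup.zpowers_le.2 (show a ∈ MulAction.stabilizer A u from h)) b.2⟩), hD] at k2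
      have k3 := hD ▸ K.card_subgroup_dvd_card
      have k4 : Nat.card K ≠ 16 := fun e => ha (Subtype.ext (MulEquiv.ext fun u =>
        ((K.card_eq_iff_eq_top.1 (e.trans hD.symm)).ge (Subgroup.mem_top u))))
      have k5 := Nat.le_of_dvd (by norm_num) k3
      rw [k1]
      rw [Nat.ModEq] at k2
      generalize Nat.card K = n at *
      interval_cases n <;> simp_all
    have h2 : ∀ u : D, Nat.card (MulAction.stabilizer A u) = ∑ a : A, if a • u = u then 1 else 0 :=
      fun u => by
        rw [← card_filter, ← Fintype.card_subtype, ← Nat.card_eq_fintype_card]; rfl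
    simp only [h2]
    rw [sum_comm, ← add_sum_erase _ _ (mem_univ 1)]
    simp only [← card_filter]
    have h4 := sum_le_card_nsmul (univ.erase (1 : A)) _ 4 fun a ha => h1 a (ne_of_mem_erase ha)
    have h5 := card_filter_le (univ : Finset D) fun u => (1 : A) • u = u
    rw [card_erase_of_mem (mem_univ _), card_univ, ← Nat.card_eq_fintype_card, hA] at h4
    rw [card_univ, ← Nat.card_eq_fintype_card, hD] at h5
    simp only [smul_eq_mul] at h4
    omega
  · have k2 := h3.card_modEq_card_fixedPoints D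
    rw [hD, show Nat.card (MulAction.fixedPoints A D) = Nat.card {u : D //
      Nat.card (MulAction.stabilizer A u) = 9} from Nat.card_congr (Equiv.subtypeEquivRight fun u => by
        rw [← hA, Subgroup.card_eq_iff_eq_top, Subgroup.eq_top_iff']; rfl),
      Nat.card_eq_fintype_card, Fintype.card_subtype] at k2
    exact k2.symm

theorem index_stab_autOf {P : Subgroup G} (u : P) :
    (MulAction.stabilizer (autOf P (𝐍 P)) u).index = (𝐙 (u : G)).relIndex (𝐍 P) := by
  rw [MulAction.index_stabilizer, ← card_conjOrbit, ← Nat.card_coe_set_eq]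
  refine Nat.card_congr (Equiv.ofBijective (fun v => ⟨v.1, ?_⟩) ⟨fun v w h =>
    Subtype.ext (Subtype.ext (Subtype.mk.inj h)), fun ⟨v, t, ht, e⟩ => ?_⟩)
  · obtain ⟨α, e⟩ := v.2
    obtain ⟨t, ht, -, h⟩ := mem_autOf.1 α.2
    exact ⟨t, ht, (h u).symm.trans (congrArg Subtype.val e)⟩
  · exact ⟨⟨_, ⟨P.normalizerMonoidHom ⟨t, ht⟩, mem_autOf.2 ⟨t, ht, ht, fun _ => rfl⟩⟩, rfl⟩,
      Subtype.ext e⟩

end

variable {M : Ideal AlgInt} [hMm : M.IsMaximal] {p : ℕ} [hp : Fact p.Prime] [hM : PMod M p]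
variable {G : Type*} [Group G] [Finite G] (P : Sylow p G)
  (hab : (P : Subgroup G) ≤ 𝐂 (P : Subgroup G))

include hab

theorem prin_sum [Fintype (P : Subgroup G)] : (Nat.card (principalBlock M G) : ℂ) =
    ∑ u : (P : Subgroup G), (blockRank p (principalBlock M (𝐙 (u : G))) : ℂ) /
      (𝐙 (u : G)).relIndex (𝐍 (P : Subgroup G)) := by
  obtain ⟨e, h, h1, h2⟩ := exists_abD_prin (M := M) P hab
  rw [h.card_eq_sum, h1]
  exact sum_congr rfl fun u _ => by rw [h2 u u.2]

theorem prin_fix {u : G} (hu : u ∈ (P : Subgroup G)) (hN : (𝐍 (P : Subgroup G)) ≤ 𝐙 u) :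
    blockRank p (principalBlock M (𝐙 u)) = blockRank p (principalBlock M G) := by
  obtain ⟨e, h, h1, h2⟩ := exists_abD_prin (M := M) P hab
  rw [← h2 u hu, h.rank_bu_eq hu (h1 ▸ hN)]

theorem prin_free {u : G} (hu : u ∈ (P : Subgroup G))
    (hN : (𝐙 u) ⊓ (𝐍 (P : Subgroup G)) ≤ 𝐂 (P : Subgroup G)) :
    blockRank p (principalBlock M (𝐙 u)) = 1 := by
  obtain ⟨e, h, h1, h2⟩ := exists_abD_prin (M := M) P hab
  rw [← h2 u hu, (h.uni_bu hu (h1 ▸ hN)).rank]

theorem prin_nil (hN : (𝐍 (P : Subgroup G)) ≤ 𝐂 (P : Subgroup G)) :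
    Nat.card (principalBlock M G) = Nat.card P := by
  obtain ⟨e, h, h1, h2⟩ := exists_abD_prin (M := M) P hab
  exact (rank_one_aux _ h (h1 ▸ hN) rfl).2

theorem prin_le {u : G} (hu : u ∈ (P : Subgroup G)) :
    Nat.card (principalBlock M G) ≤ Nat.card P * blockRank p (principalBlock M (𝐙 u)) := by
  obtain ⟨e, h, h1, h2⟩ := exists_abD_prin (M := M) P hab
  rw [← h2 u hu]
  exact h.card_le hu

theorem prin_lt (h1 : Nat.card P ≠ 1) :
    blockRank p (principalBlock M G) < Nat.card (principalBlock M G) := by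
  obtain ⟨e, h, -, -⟩ := exists_abD_prin (M := M) P hab
  exact blockRank_lt_card h.blk fun h0 => h1 (by rw [← pow_zero p, ← h0]; exact h.card_D)

omit hMm hp hM hab in
theorem relIndex_eq_of_free {P : Subgroup G} {u : G} (hu : u ∈ P) (hN : (𝐙 u) ⊓ (𝐍 P) ≤ 𝐂 P) :
    (𝐙 u).relIndex (𝐍 P) = (𝐂 P).relIndex (𝐍 P) := by
  rw [← Subgroup.inf_relIndex_right, le_antisymm hN
    (le_inf (FT.cen_le_cen1 hu) (Subgroup.centralizer_le_normalizer _))]

omit hMm hp hM hab in
theorem free_of_relIndex_eq {P : Subgroup G} {u : G} (hu : u ∈ P)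
    (h : (𝐙 u).relIndex (𝐍 P) = (𝐂 P).relIndex (𝐍 P)) : (𝐙 u) ⊓ (𝐍 P) ≤ 𝐂 P := by
  have h1 := Subgroup.relIndex_mul_relIndex (𝐂 P) ((𝐙 u) ⊓ 𝐍 P) (𝐍 P)
    (le_inf (FT.cen_le_cen1 hu) (Subgroup.centralizer_le_normalizer _)) inf_le_right
  rw [Subgroup.inf_relIndex_right, h] at h1
  exact Subgroup.relIndex_eq_one.1 ((Nat.mul_eq_right Subgroup.index_ne_zero_of_finite).1 h1)

/-- the counting formula for a prime inertial index -/
theorem prin_prime (he : ((𝐂 (P : Subgroup G)).relIndex (𝐍 (P : Subgroup G))).Prime) :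
    Nat.card (principalBlock M G) * (𝐂 (P : Subgroup G)).relIndex (𝐍 (P : Subgroup G)) +
      Nat.card ↥((P : Subgroup G) ⊓ 𝐂 (𝐍 (P : Subgroup G))) =
    Nat.card ↥((P : Subgroup G) ⊓ 𝐂 (𝐍 (P : Subgroup G))) * blockRank p (principalBlock M G) *
      (𝐂 (P : Subgroup G)).relIndex (𝐍 (P : Subgroup G)) + Nat.card P := by
  classical
  have := Fintype.ofFinite (P : Subgroup G)
  have h1 := prin_sum (M := M) P hab
  set e := (𝐂 (P : Subgroup G)).relIndex (𝐍 (P : Subgroup G)) with hee
  set l := blockRank p (principalBlock M G) with hl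
  have e0 : (e : ℂ) ≠ 0 := Nat.cast_ne_zero.2 he.ne_zero
  have h2 : ∀ u : (P : Subgroup G), (blockRank p (principalBlock M (𝐙 (u : G))) : ℂ) /
      (𝐙 (u : G)).relIndex (𝐍 (P : Subgroup G)) * e =
      1 + if (u : G) ∈ 𝐂 (𝐍 (P : Subgroup G)) then (l * e - 1 : ℂ) else 0 := fun u => by
    split_ifs with h
    · have h3 : (𝐍 (P : Subgroup G)) ≤ 𝐙 (u : G) := FT.le_cen1.2 h
      rw [prin_fix P hab u.2 h3, Subgroup.relIndex_eq_one.2 h3]
      simp [hl]
    · have h3 := (FT.eq_or_eq_of_prime_relIndex he (le_inf (FT.cen_le_cen1 u.2)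
        (Subgroup.centralizer_le_normalizer _)) inf_le_right).resolve_right fun h4 =>
          h (FT.le_cen1.1 (h4.ge.trans inf_le_left))
      rw [prin_free P hab u.2 h3.le, relIndex_eq_of_free u.2 h3.le, ← hee]
      simp [e0]
  have h4 : Nat.card ↥((P : Subgroup G) ⊓ 𝐂 (𝐍 (P : Subgroup G))) =
      (univ.filter fun u : (P : Subgroup G) => (u : G) ∈ 𝐂 (𝐍 (P : Subgroup G))).card := by
    rw [← Fintype.card_subtype, ← Nat.card_eq_fintype_card]
    exact Nat.card_congr ⟨fun x => ⟨⟨x, x.2.1⟩, x.2.2⟩, fun x => ⟨x.1, x.1.2, x.2⟩, fun _ => rfl,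
      fun _ => rfl⟩
  have h5 := congrArg (· * (e : ℂ)) h1
  simp only [sum_mul, h2, sum_add_distrib, ← sum_filter, sum_const, ← h4, card_univ,
    ← Nat.card_eq_fintype_card, nsmul_eq_mul] at h5
  have h6 : (Nat.card P : ℂ) = Nat.card (P : Subgroup G) := rfl
  rw [← Nat.cast_inj (R := ℂ)]
  push_cast
  linear_combination h5 - h6

theorem prin_nine (hc : Nat.card P = 16)
    (he : (𝐂 (P : Subgroup G)).relIndex (𝐍 (P : Subgroup G)) = 9)
    (h3 : ∀ u ∈ (P : Subgroup G), (𝐙 u).relIndex (𝐍 (P : Subgroup G)) = 3 →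
      blockRank p (principalBlock M (𝐙 u)) = 3) :
    Nat.card (principalBlock M G) = blockRank p (principalBlock M G) + 7 := by
  classical
  have := Fintype.ofFinite (P : Subgroup G)
  have h1 := prin_sum (M := M) P hab
  have hA := (card_autOf (le_refl (𝐍 (P : Subgroup G)))).trans he
  obtain ⟨a1, a2⟩ := orb_nine (D := (P : Subgroup G)) hc _ hA
  set c : ↥(P : Subgroup G) → ℕ := fun u =>
    Nat.card (MulAction.stabilizer (autOf (P : Subgroup G) (𝐍 (P : Subgroup G))) u) with hcc
  set l := blockRank p (principalBlock M G) with hl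
  have h2 : ∀ u : (P : Subgroup G), (c u = 9 ∨ c u = 3 ∨ c u = 1) ∧
      (blockRank p (principalBlock M (𝐙 (u : G))) : ℂ) /
      (𝐙 (u : G)).relIndex (𝐍 (P : Subgroup G)) * 9 =
      ((9 * l * (if c u = 9 then 1 else 0) + 9 * (if c u = 3 then 1 else 0) +
        if c u = 1 then 1 else 0 : ℕ) : ℂ) := fun u => by
    have k1 : c u * (𝐙 (u : G)).relIndex (𝐍 (P : Subgroup G)) = 9 := by
      rw [← index_stab_autOf, ← hA]; exact Subgroup.card_mul_index _
    have k2 : c u ∣ 9 := Dvd.intro _ k1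
    have k3 := Nat.le_of_dvd (by norm_num) k2
    have k4 : c u = 9 ∨ c u = 3 ∨ c u = 1 := by
      generalize c u = n at k2 k3 ⊢
      interval_cases n <;> simp at k2 ⊢
    refine ⟨k4, ?_⟩
    obtain k | k | k := k4
    · have k5 : (𝐙 (u : G)).relIndex (𝐍 (P : Subgroup G)) = 1 := by rw [k] at k1; omega
      rw [prin_fix P hab u.2 (Subgroup.relIndex_eq_one.1 k5), k5, k, ← hl]
      simp [mul_comm]
    · have k5 : (𝐙 (u : G)).relIndex (𝐍 (P : Subgroup G)) = 3 := by rw [k] at k1; omega
      rw [h3 u u.2 k5, k5, k]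
      simp
    · have k5 : (𝐙 (u : G)).relIndex (𝐍 (P : Subgroup G)) = 9 := by rw [k] at k1; omega
      rw [prin_free P hab u.2 (free_of_relIndex_eq u.2 (k5.trans he.symm)), k5, k]
      simp
  have h5 := congrArg (· * (9 : ℂ)) h1
  simp only [sum_mul, fun u => (h2 u).2] at h5
  rw [← Nat.cast_sum] at h5
  simp only [sum_add_distrib, ← mul_sum, ← card_filter] at h5
  have h6 : ∑ u, c u = ∑ u, (9 * (if c u = 9 then 1 else 0) + 3 * (if c u = 3 then 1 else 0) +
      if c u = 1 then 1 else 0) := sum_congr rfl fun u _ => by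
    obtain k | k | k := (h2 u).1 <;> simp [k]
  have h7 : ∑ u : (P : Subgroup G), 1 = ∑ u, ((if c u = 9 then 1 else 0) + (if c u = 3 then 1 else 0) +
      if c u = 1 then 1 else 0) := sum_congr rfl fun u _ => by
    obtain k | k | k := (h2 u).1 <;> simp [k]
  simp only [sum_add_distrib, ← mul_sum, ← card_filter] at h6 h7
  rw [sum_const, card_univ, ← Nat.card_eq_fintype_card, show Nat.card (P : Subgroup G) = 16 from hc] at h7
  have h8 := Nat.cast_injective (R := ℂ) ((Nat.cast_mul _ 9).trans h5)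
  change ∑ u, c u ≤ 48 at a1
  change (univ.filter fun u => c u = 9).card % 3 = 1 at a2
  rw [h6] at a1
  generalize (univ.filter fun u => c u = 9).card = x at *
  generalize (univ.filter fun u => c u = 3).card = y at *
  generalize (univ.filter fun u => c u = 1).card = z at *
  simp only [smul_eq_mul] at h7
  rw [mul_assoc] at h8
  obtain rfl : x = 1 := by
    generalize l * x = w at h8
    omega
  omega

omit hp hM hab in
theorem prin_four [PMod M 2] (P : Sylow 2 G) (hc : Nat.card P = 4) :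
    Nat.card (principalBlock M G) = 4 := by
  have := Fact.mk Nat.prime_two
  have hab : (P : Subgroup G) ≤ 𝐂 (P : Subgroup G) := fun x hx y hy => congrArg Subtype.val
    (IsPGroup.commutative_of_card_eq_prime_sq (p := 2) (G := (P : Subgroup G)) hc ⟨y, hy⟩ ⟨x, hx⟩)
  by_cases h : IsCyclic P
  · refine (prin_nil P hab (h.normalizer_le_centralizer ((Nat.minFac_eq_two_iff _).2 ?_))).trans hc
    exact (show 2 ∣ Nat.card P by rw [hc]; norm_num).trans (P : Subgroup G).card_subgroup_dvd_card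
  · have : Nontrivial (P : Subgroup G) := Finite.one_lt_card_iff_nontrivial.1 (by
      rw [show Nat.card (P : Subgroup G) = 4 from hc]; norm_num)
    exact card_of_klein H8.isPBlock_principalBlock (isDefectGroup_sylow P)
      ⟨hc, (not_isCyclic_iff_exponent_eq_prime Nat.prime_two hc).1 h⟩

omit hab in
/-- passage to the quotient by `O_{p'}(G)` -/
theorem prin_core : ∃ Q : Sylow p (G ⧸ pPrimeCore p G),
    Nonempty ((P : Subgroup G) ≃* (Q : Subgroup (G ⧸ pPrimeCore p G))) ∧
    (𝐂 (Q : Subgroup (G ⧸ pPrimeCore p G))).relIndex (𝐍 (Q : Subgroup (G ⧸ pPrimeCore p G))) =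
      (𝐂 (P : Subgroup G)).relIndex (𝐍 (P : Subgroup G)) ∧
    Nat.card (principalBlock M G) = Nat.card (principalBlock M (G ⧸ pPrimeCore p G)) ∧
      blockRank p (principalBlock M G) = blockRank p (principalBlock M (G ⧸ pPrimeCore p G)) := by
  have hφ := QuotientGroup.mk'_surjective (pPrimeCore p G)
  have hc : (Nat.card (P : Subgroup G)).Coprime (Nat.card (pPrimeCore p G)) := by
    obtain ⟨n, hn⟩ := IsPGroup.iff_card.1 P.2
    rw [hn]
    exact H2.pPrimeCore_coprime.symm.pow_left n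
  have hs : Group.IsSolvable (P : Subgroup G) := have := P.2.isNilpotent; inferInstance
  have hi : (P : Subgroup G) ⊓ pPrimeCore p G = ⊥ := Subgroup.inf_eq_bot_of_coprime hc
  refine ⟨P.mapSurjective hφ, ⟨MulEquiv.ofBijective (MonoidHom.subgroupMap _ _)
    ⟨(injective_iff_map_eq_one _).2 fun x hx => Subtype.ext (hi.le ⟨x.2,
      (QuotientGroup.eq_one_iff _).1 (congrArg Subtype.val hx)⟩), MonoidHom.subgroupMap_surjective _ _⟩⟩,
    ?_, prin_coprime hφ (by rw [QuotientGroup.ker_mk']; exact H2.pPrimeCore_coprime)⟩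
  rw [Sylow.coe_mapSurjective, H1.centralizer_map_mk _ _ hc (Or.inl hs),
    H1.normalizer_map_mk _ _ hc (Or.inl hs), ← Subgroup.relIndex_comap, Subgroup.comap_map_eq,
    QuotientGroup.ker_mk', ← Subgroup.inf_relIndex_right]
  congr 1
  refine le_antisymm (fun x hx => ?_) (le_inf le_sup_left (Subgroup.centralizer_le_normalizer _))
  obtain ⟨c, hc, n, hn, rfl⟩ := (Subgroup.mul_normal _ (pPrimeCore p G)).subset hx.1
  have h1 := (mul_mem_cancel_left (Subgroup.centralizer_le_normalizer _ hc)).1 hx.2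
  refine mul_mem hc fun y hy => ?_
  have h2 := hi.le ⟨(P : Subgroup G).mul_mem (FT.conj_mem h1 hy) ((P : Subgroup G).inv_mem hy), by
    simpa [mul_assoc] using mul_mem hn ((pPrimeCore_normal p G).conj_mem _ (inv_mem hn) y)⟩
  rw [Subgroup.mem_bot, mul_inv_eq_one, mul_inv_eq_iff_eq_mul] at h2
  exact h2.symm

end Cfsg.Agent.H9
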