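import Mathlib
import Cfsg.Agent.H9.AS2
import Cfsg.Agent.GO.App
import Cfsg.Agent.GO.Fs
import Cfsg.Agent.H8.GoCor

/-!
Principal `2`-blocks of simple groups with abelian Sylow `2`-subgroups and abelian automiser.
-/

set_option autoImplicit false
set_option linter.unusedSectionVars false
set_option linter.unusedVariables false

namespace Cfsg.Agent.H9

open Cfsg Subgroup Cfsg.Agent.FT Cfsg.Agent.GW Cfsg.Agent.GO
open scoped commutatorElement

universe u

variable {G : Type u} [Group G] [Finite G] {L R T V W : Subgroup G} {m v x : G}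

theorem reg_of_ab (hE : ⁅R, R⁆ ≤ C(V))
    (ht : ∀ v ∈ V, v ≠ 1 → ∀ w ∈ V, w ≠ 1 → ∃ r ∈ R, r * v * r⁻¹ = w) (hv : v ∈ V) (v1 : v ≠ 1)
    (hm : m ∈ R) (hc : m ∈ C[v]) : m ∈ C(V) := mem_cen.2 fun w hw => by
  by_cases w1 : w = 1
  · simp [w1]
  obtain ⟨r, hr, rfl⟩ := ht v hv v1 w hw w1
  have h1 := mem_cen.1 (hE (commutator_mem_commutator (inv_mem hr) hm)) v hv
  rw [commutatorElement_def] at h1
  calc r * v * r⁻¹ * m = r * (v * (r⁻¹ * m * r⁻¹⁻¹ * m⁻¹)) * m * r⁻¹ := by group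
    _ = m * r * m⁻¹ * (v * m) * r⁻¹ := by rw [h1]; group
    _ = _ := by rw [← mem_cen1.1 hc]; group

/-- a component of a group with an abelian Sylow `2`-subgroup -/
structure AC (T L : Subgroup G) : Prop where
  core : Od((⊤ : Subgroup G)) = ⊥
  syl : Syl 2 T ⊤
  ab : Ab T
  comp : Comp L ⊤

namespace AC

variable (h : AC T L)
include h

theorem sylV : Syl 2 (T ⊓ L) L := h.syl.inf_subn h.comp.subn

theorem abV : Ab (T ⊓ L) := h.ab.mono inf_le_left

theorem cen : L ⊓ C(L) = ⊥ := by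
  have h1 : Z(L) ≤ T := h.comp.center_le_fitting.trans
    ((fitting_eq_pcore h.core).le.trans (pcore_le_syl h.syl))
  have h2 := h.sylV.isHall.inf_der_center_ab h.abV
  rw [h.comp.perf] at h2
  exact eq_bot_of_le (le_inf (le_inf (le_inf h1 inf_le_left) inf_le_left) inf_le_right) h2

theorem simple : IsSimpleGroup L := h.comp.qs.isSimpleGroup h.cen

theorem nab : ¬ IsMulCommutative L := fun e => h.comp.qs.not_cents (ab_iff.1 e)

theorem nrm_of (hv : v ∈ L) (v1 : v ≠ 1) (hx : x * v * x⁻¹ ∈ L) : x ∈ N(L) :=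
  (h.comp.mem_nrm_iff (nrm_top.ge trivial)).2 fun e =>
    conj_ne_one.2 v1 (eq_one_of_mem_inf h.cen hx (e (conj_mem_cj.2 hv)))

theorem ne : T ⊓ L ≠ ⊥ := fun e => h.comp.qs.not_sol (sol_npc (npc_of_cyc h.sylV (e ▸ cyc_bot)))

theorem nrm : T ≤ N(L) := fun x hx => by
  obtain ⟨v, hv, v1⟩ := exists_ne_one h.ne
  exact h.nrm_of hv.2 v1 (by rw [h.ab.comm hx hv.1, mul_inv_cancel_right]; exact hv.2)

theorem dec (hx : x ∈ T) : ∃ v ∈ T ⊓ L, v⁻¹ * x ∈ T ⊓ C(L) := by
  have e := quoEquiv (norms_cent (le_nrm L)) ((inf_comm _ _).trans h.cen)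
  have := h.simple
  have h1 : T ≤ C(L) ⊔ T ⊓ L := (quo_le_quo (h.nrm.trans (norms_cent le_rfl))
    (inf_le_right.trans (norms_cent (le_nrm L)))).1 fun x hx => (kj_as h.cen).aut_ab
      e.symm.isSimpleGroup (kt_nab e h.nab) (h.sylV.quo (norms_cent (le_nrm L))) (h.abV.quo _)
      (quo_mono _ h.nrm hx) ((h.syl.pi.quo _).piElt hx) (quo_cents _ (h.ab.cents inf_le_left le_rfl) hx)
  obtain ⟨v, hv, c, hc, rfl⟩ := (mulEq_of_sup (inf_le_right.trans (norms_cent (le_nrm L))) rfl).symm.mul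
    x (h1 hx)
  exact ⟨v, hv, T.mul_mem (T.inv_mem hv.1) hx, by simpa using hc⟩

theorem conj_dec {r : G} (hr : r ∈ L ⊓ N(T ⊓ L)) (hx : x ∈ T) : r * x * r⁻¹ * x⁻¹ ∈ T ⊓ L := by
  obtain ⟨v, hv, hc⟩ := h.dec hx
  have e : r * x * r⁻¹ * x⁻¹ = r * v * r⁻¹ * v⁻¹ := by
    calc _ = r * v * (v⁻¹ * x * r⁻¹) * x⁻¹ := by group
      _ = r * v * r⁻¹ * (v⁻¹ * x * x⁻¹) := by rw [← mem_cen.1 hc.2 _ (inv_mem hr.1)]; group
      _ = _ := by group
  exact e ▸ mul_mem (conj_mem hr.2 hv) (inv_mem hv)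

theorem R_le : L ⊓ N(T ⊓ L) ≤ N(T) := fun r hr => mem_nrm.2 fun x hx => by
  simpa using mul_mem (h.conj_dec hr hx).1 hx

variable (hE : ⁅N(T), N(T)⁆ ≤ C(T)) (h4 : 4 ≤ #(T ⊓ L))
  (ht : ∀ v ∈ T ⊓ L, v ≠ 1 → ∀ w ∈ T ⊓ L, w ≠ 1 → ∃ r ∈ L ⊓ N(T ⊓ L), r * v * r⁻¹ = w)
include hE h4 ht

omit hE in
theorem exists_move (hv : v ∈ T ⊓ L) (v1 : v ≠ 1) : ∃ r ∈ L ⊓ N(T ⊓ L), r * v * r⁻¹ ≠ v := by
  by_contra! h0
  have h1 : T ⊓ L ≤ ⟪v⟫ := fun w hw => by
    by_cases w1 : w = 1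
    · exact w1 ▸ one_mem _
    obtain ⟨r, hr, rfl⟩ := ht v hv v1 w hw w1
    exact (h0 r hr).symm ▸ mem_zpowers v
  obtain ⟨u, hu, h2⟩ := exists_invo (h.sylV.pi.dvd h.ne)
  obtain ⟨r, hr, rfl⟩ := ht v hv v1 u hu h2.ne
  have := card_le_of_le h1
  rw [(invo_conj.1 h2).card] at this
  omega

theorem nrmT : N(T) ≤ N(L) := fun n hn => by
  obtain ⟨v, hv, v1⟩ := exists_ne_one h.ne
  obtain ⟨r, hr, h1⟩ := h.exists_move h4 ht hv v1
  refine h.nrm_of (h.conj_dec hr hv.1).2 (fun e => h1 (mul_inv_eq_one.1 e)) ?_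
  have h2 := conj_mem hn hv.1
  have h3 := mem_cen.1 (hE (commutator_mem_commutator (inv_mem (h.R_le hr)) hn)) _ h2
  have e : n * (r * v * r⁻¹ * v⁻¹) * n⁻¹ = r * (n * v * n⁻¹) * r⁻¹ * (n * v * n⁻¹)⁻¹ := by
    rw [commutatorElement_def] at h3
    calc _ = r * (r⁻¹ * n * r⁻¹⁻¹ * n⁻¹ * (n * v * n⁻¹)) * (r⁻¹ * n * r⁻¹⁻¹ * n⁻¹)⁻¹ * r⁻¹ *
          (n * v * n⁻¹)⁻¹ := by group
      _ = _ := by rw [← h3]; group
  exact e ▸ (h.conj_dec hr h2).2

theorem normal : L.Normal := normalizer_eq_top_iff.1 (eq_top_iff.2 fun g _ => by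
  have h1 : AC T (FT.cj g L) := ⟨h.core, h.syl, h.ab, h.comp.cj_of_mem trivial⟩
  obtain ⟨k, hk, e⟩ := ((h.syl.cj_mem (mem_top g)).subl (cj_norms.2 h.nrm) le_top).syl_trans
    (h.syl.subl h1.nrm le_top)
  rw [FT.cj_cj] at e
  have h2 := cj_of_mem_nrm (h.nrmT hE h4 ht (cj_eq_self.1 e.symm))
  rw [← FT.cj_cj, cj_of_mem_nrm hk] at h2
  exact cj_eq_self.1 h2)

theorem split {n : G} (hn : n ∈ N(T)) (hv : v ∈ T ⊓ L) (v1 : v ≠ 1) :
    ∃ r ∈ L ⊓ N(T ⊓ L), r⁻¹ * n ∈ C[v] := by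
  obtain ⟨r, hr, e⟩ := ht v hv v1 _ (conj_mem (normsI le_rfl (h.nrmT hE h4 ht) hn) hv)
    (conj_ne_one.2 v1)
  refine ⟨r, hr, mem_cen1.2 ?_⟩
  calc _ = r⁻¹ * (n * v * n⁻¹) * n := by group
    _ = _ := by rw [← e]; group

theorem sup_top (g : G) : g ∈ L ⊔ C(T ⊓ L) := by
  have := h.normal hE h4 ht
  have h1 : L ⊔ C(T ⊓ L) ⊴ ⊤ := by
    obtain ⟨P, e⟩ := h.sylV.exists_sylow Nat.prime_two
    have := Fact.mk Nat.prime_two
    exact e ▸ nml_top_iff.2 (H8.normal_sup_centralizer P)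
  obtain ⟨a, ha, n, hn, rfl⟩ := ((h.syl.subl ((h.ab.cents inf_le_left le_rfl).trans le_sup_right)
    le_top).frattini h1).mul g trivial
  obtain ⟨v, hv, v1⟩ := exists_ne_one h.ne
  obtain ⟨r, hr, h2⟩ := h.split hE h4 ht hn.2 hv v1
  refine mul_mem ha ((mul_mem_cancel_left (mem_sup_left (inv_mem hr.1))).1 (mem_sup_right ?_))
  exact reg_of_ab (hE.trans (cen_anti inf_le_left)) (fun v hv v1 w hw w1 =>
    let ⟨r, hr, e⟩ := ht v hv v1 w hw w1; ⟨r, h.R_le hr, e⟩) hv v1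
    (mul_mem (inv_mem (h.R_le hr)) hn.2) h2

theorem orb (hv : v ∈ T ⊓ L) (v1 : v ≠ 1) : C[v].relIndex N(T) + 1 = #(T ⊓ L) := by
  rw [← card_conjOrbit, ← Finite.card_option]
  refine Nat.card_congr (Equiv.ofBijective (fun o => o.elim 1 fun w => ⟨w.1, ?_⟩) ⟨?_, fun w => ?_⟩)
  · obtain ⟨n, hn, e⟩ := w.2
    exact e ▸ conj_mem (normsI le_rfl (h.nrmT hE h4 ht) hn) hv
  · rintro (_ | ⟨_, a, ha, rfl⟩) (_ | ⟨_, b, hb, rfl⟩) e
    · rfl
    · exact absurd (congrArg Subtype.val e).symm (conj_ne_one.2 v1)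
    · exact absurd (congrArg Subtype.val e) (conj_ne_one.2 v1)
    · exact congrArg some (Subtype.ext (Subtype.mk.inj e))
  · by_cases w1 : w = 1
    · exact ⟨none, w1.symm⟩
    obtain ⟨r, hr, e⟩ := ht v hv v1 w w.2 fun e => w1 (Subtype.ext e)
    exact ⟨some ⟨w, r, h.R_le hr, e⟩, rfl⟩

end AC

variable {M : Ideal AlgInt} [hMm : M.IsMaximal] [hM : PMod M 2]

theorem simple_case [IsSimpleGroup G] (nab : ¬ IsMulCommutative G) (P : Sylow 2 G)
    (hA : Ab (P : Subgroup G)) (hE : ⁅N((P : Subgroup G)), N((P : Subgroup G))⁆ ≤ C((P : Subgroup G))) :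
    Nat.card (principalBlock M G) = #(P : Subgroup G) ∧ 4 ≤ #(P : Subgroup G) ∧
      ∀ v ∈ (P : Subgroup G), v ≠ 1 → ∀ w ∈ (P : Subgroup G), w ≠ 1 →
        ∃ r ∈ N((P : Subgroup G)), r * v * r⁻¹ = w := by
  have := Fact.mk Nat.prime_two
  have hT := syl_top Nat.prime_two P
  have ty := gs_ab GO.fs nab hT hA
  have tr (el : ∀ v ∈ (P : Subgroup G), v * v = 1) : ∀ v ∈ (P : Subgroup G), v ≠ 1 →
      ∀ w ∈ (P : Subgroup G), w ≠ 1 → ∃ r ∈ N((P : Subgroup G)), r * v * r⁻¹ = w :=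
    fun v hv v1 w hw w1 => by
      obtain ⟨g, -, rfl⟩ := H8.tyG_cl ty v trivial w trivial (invo_iff.2 ⟨el v hv, v1⟩)
        (invo_iff.2 ⟨el w hw, w1⟩)
      obtain ⟨r, hr, e⟩ := abelian_Sylow_fusion hT hA hv trivial hw
      exact ⟨r, hr.2, e⟩
  have h1 := syl_ne nab hT
  obtain ⟨t, ht, t1⟩ := exists_ne_one h1
  obtain h | h | h := ty
  · obtain ⟨Z, K, s, b⟩ := KB.exists_bi h.top hT
    obtain rfl := b.cases.resolve_right fun c => c.1 hA
    refine ⟨?_, b.four, tr fun v hv => ((b.mem v).1 hv).2⟩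
    obtain ⟨h3, F, _, _, ⟨n, n2, hn⟩, ⟨e⟩⟩ := psl_of_se_ab (nsol_top h.nab) hT hA
      (H20.SEc.se_nrm_syl hT h1 (H20.SEc.nrm_ne_top h.nab h1 hT.pi.sol) fun g x hx h4 h5 => by
        simpa using inv_mem (b.ti g⁻¹ trivial x h4 (Invo.ne hx) (by simpa using mem_cj.1 h5)))
    have hC : C((P : Subgroup G)) = P := le_antisymm ((cen_le_cen1 ht).trans (h.cen_ab hT hA ht t1))
      hA.le_cen
    have h4 := H10.card_PSL2 (F := F)
    rw [← Nat.card_congr e.toEquiv, Nat.card_eq_fintype_card (α := F), hn] at h4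
    have h5 : 2 ∣ 2 ^ n := dvd_pow_self 2 (by omega)
    have h6 : 0 < 2 ^ n := by positivity
    have h7 : Nat.Coprime 2 (2 ^ n - 1) := Nat.coprime_two_left.2 (Nat.odd_iff.2 (by omega))
    rw [h7.gcd_eq_one, one_mul] at h4
    have h8 : #(P : Subgroup G) = 2 ^ n := by
      rw [show #(P : Subgroup G) = _ from P.card_eq_multiplicity, h4, mul_assoc,
        Nat.factorization_mul h6.ne' (mul_ne_zero (by omega) (by omega)), Nat.Prime.factorization_pow
        Nat.prime_two, Finsupp.add_apply, Finsupp.single_eq_same, Nat.factorization_eq_zero_of_not_dvd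
        (Nat.prime_two.not_dvd_mul (by omega) (by omega)), add_zero]
    have : CharP F 2 := by
      obtain ⟨q, hq⟩ := CharP.exists F
      obtain ⟨k, h9, h10⟩ := FiniteField.card F q
      rwa [← (Nat.prime_dvd_prime_iff_eq h9 Nat.prime_two).1 (h9.dvd_of_dvd_pow (n := n)
        (hn ▸ h10 ▸ dvd_pow_self q k.ne_zero))]
    refine card_principal_borel P hA.le_cen h1 (fun t ht t1 => h.cen_ab hT hA ht t1) (hE.trans hC.le) ?_
      ((IsSimpleGroup.eq_bot_or_eq_top_of_normal _ inferInstance).resolve_left fun e => nab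
        (by simpa using ab_top.1 (ab_iff_der.2 e))) ?_
    · have h9 := N((P : Subgroup G)).card_mul_index
      have h10 := ((P : Subgroup G).subgroupOf N((P : Subgroup G))).card_mul_index
      rw [card_so (le_nrm _), show ((P : Subgroup G).subgroupOf N((P : Subgroup G))).index = _ from
        hC ▸ h3, h8] at h10
      rw [← h10, h4] at h9
      rw [show Nat.card P = 2 ^ n from h8]
      exact Nat.eq_of_mul_eq_mul_left (Nat.mul_pos h6 (by omega)) h9
    · rw [show Nat.card P = 2 ^ n from h8, ← hn, ← Nat.card_eq_fintype_card,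
        ← H6.card_irr_eq_card_conjClasses, Nat.card_congr (irrEquiv e), H6.card_irr_eq_card_conjClasses]
      exact card_class_psl F
  · have h4 := h.top.card hT
    exact ⟨(prin_four P h4).trans h4.symm, h4.ge, tr fun v hv => sq v ▸ (h.top.el hT).pow hv⟩
  · have el := (h.top.el hT).1
    obtain ⟨-, L, h2, h3, -⟩ := h.loc t (kl_invo el ht t1)
    exact absurd ((sol_npc (Burnside_normal_complement (hT.subl (hA.le_cen1 ht) le_top) fun m hm =>
      reg_of_ab hE (tr fun v hv => sq v ▸ el.pow hv) ht t1 hm.2 hm.1)).mono h2.le)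
      (kl_not_sol (h3.elim TB.simple TL.simple) (h3.elim TB.nab TL.nab))

theorem AC.simple_case (h : AC T L) (hE : ⁅N(T), N(T)⁆ ≤ C(T)) :
    Nat.card (principalBlock M L) = #(T ⊓ L) ∧ 4 ≤ #(T ⊓ L) ∧
      ∀ v ∈ T ⊓ L, v ≠ 1 → ∀ w ∈ T ⊓ L, w ≠ 1 → ∃ r ∈ L ⊓ N(T ⊓ L), r * v * r⁻¹ = w := by
  have := h.simple
  obtain ⟨Q, e⟩ := (syl_top_iff Nat.prime_two).1 ((hall_so_top h.sylV.le).2 h.sylV)
  have h1 := so_nrm h.sylV.le
  obtain ⟨h2, h3, h4⟩ := H9.simple_case (M := M) h.nab Q (e ▸ h.abV.so h.sylV.le) (by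
    rw [e, ← h1, ← so_cen h.sylV.le]
    exact commutator_le.2 fun a ha b hb => cen_anti inf_le_left
      (hE (commutator_mem_commutator (h.R_le ⟨a.2, ha⟩) (h.R_le ⟨b.2, hb⟩))))
  rw [e, card_so h.sylV.le] at h2 h3
  rw [e, ← h1] at h4
  refine ⟨h2, h3, fun v hv v1 w hw w1 => ?_⟩
  obtain ⟨r, hr, k⟩ := h4 ⟨v, hv.2⟩ hv (fun k => v1 (congrArg Subtype.val k)) ⟨w, hw.2⟩ hw
    fun k => w1 (congrArg Subtype.val k)
  exact ⟨r, ⟨r.2, hr⟩, congrArg Subtype.val k⟩

theorem AC.card_mul [L.Normal] (h : AC T L) (hE : ⁅N(T), N(T)⁆ ≤ C(T)) :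
    Nat.card (principalBlock M G) = #(T ⊓ L) * Nat.card (principalBlock M (G ⧸ L)) := by
  have := Fact.mk Nat.prime_two
  obtain ⟨h1, h4, ht⟩ := h.simple_case (M := M) hE
  obtain ⟨Q, e⟩ := h.sylV.exists_sylow Nat.prime_two
  have h2 := h.sup_top hE h4 ht
  have hs : H8.Sup 2 L.subtype := H8.sup_subtype Q.2 Q.not_dvd_index fun g _ => e ▸ h2 g
  rw [← h1]
  refine card_principal_mul (H7.isNE_subtype L) (QuotientGroup.mk'_surjective L)
    (by rw [QuotientGroup.ker_mk', range_subtype]) hs fun θ hθ => ?_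
  have hπ := QuotientGroup.mk'_surjective C(L)
  have hf : H7.IsNE ((QuotientGroup.mk' C(L)).comp L.subtype) := ⟨(injective_iff_map_eq_one _).2
    fun x hx => Subtype.ext (eq_one_of_mem_inf h.cen x.2 ((QuotientGroup.eq_one_iff _).1 hx)), by
      rw [MonoidHom.range_comp, range_subtype]; exact Normal.map inferInstance _ hπ⟩
  have h5 : ¬ 2 ∣ ((QuotientGroup.mk' C(L)).comp L.subtype).range.index := fun h5 => by
    rw [MonoidHom.range_comp, range_subtype, ← index_comap_of_surjective _ hπ, comap_map_eq,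
      QuotientGroup.ker_mk'] at h5
    refine h.syl.not_dvd Nat.prime_two (relIndex_top_right T ▸ h5.trans (index_dvd_of_le fun x hx => ?_))
    obtain ⟨v, hv, hc⟩ := h.dec hx
    simpa using mul_mem (mem_sup_left hv.2) (mem_sup_right hc.2)
  obtain ⟨χ, -, h3, -⟩ := H8.Sup.exists_unique_ext hf ⟨Q, Q.2, Q.not_dvd_index, fun g _ => by
    obtain ⟨g, rfl⟩ := hπ g
    obtain ⟨n, hn, c, hc, rfl⟩ := (normal_mul L _).subset (h2 g)
    refine ⟨⟨n, hn⟩⁻¹, ?_⟩
    rw [← map_map, e]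
    simpa using map_cents (QuotientGroup.mk' C(L)) le_rfl (mem_map_of_mem _ hc)⟩ h5 hθ
  exact ⟨fun g => χ.1 (QuotientGroup.mk' _ g), H7.char_comp _ (H7.irr_char χ.2), h3⟩

/-- the numerical content of the structure theorem; `k`, `l` the block invariants, `n` the order of a Sylow
subgroup, `e` the inertial index -/
def SS (s : Prop) (k l n e : ℕ) : Prop :=
  (s ∧ l = e) ∨ (¬ s ∧ ∃ q w, 4 ≤ q ∧ n = q * w ∧ q - 1 ∣ e ∧ (w = 4 ∨ w = 1 → k = n) ∧
    (e.Prime → k = n ∧ l = e))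

theorem ss_core (P : Sylow 2 G) (hO : Od((⊤ : Subgroup G)) = ⊥) (hA : Ab (P : Subgroup G))
    (hE : ⁅N((P : Subgroup G)), N((P : Subgroup G))⁆ ≤ C((P : Subgroup G))) :
    SS (Group.IsSolvable G) (Nat.card (principalBlock M G)) (blockRank 2 (principalBlock M G))
      #(P : Subgroup G) (C((P : Subgroup G)).relIndex N((P : Subgroup G))) := by
  have := Fact.mk Nat.prime_two
  have hT := syl_top Nat.prime_two P
  by_cases hL : ∃ L, Comp L (⊤ : Subgroup G)
  swap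
  · have h1 := cent_gfit (⊤ : Subgroup G)
    rw [gfit_eq_fitting (lay_eq_bot_iff.2 fun K hK => hL ⟨K, hK⟩), fitting_eq_pcore hO] at h1
    have h2 := pcore_le_syl hT
    have h3 : O[{2}]((⊤ : Subgroup G)) = P :=
      h2.antisymm ((le_inf le_top (hA.cents h2 le_rfl)).trans h1)
    rw [h3, top_inf_eq] at h1
    have hn : (P : Subgroup G).Normal := nml_top_iff.1 (h3 ▸ pcore_nml _ _)
    rw [normalizer_eq_top, le_antisymm h1 hA.le_cen] at hE ⊢
    refine Or.inl ⟨sol_top.1 (sol_of_der (hA.sol.mono hE)), ?_⟩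
    rw [rank_normal P.2 h1 P.not_dvd_index, relIndex_top_right, H6.card_irr_of_comm fun a b => ?_]
    · rfl
    obtain ⟨a, rfl⟩ := QuotientGroup.mk_surjective a
    obtain ⟨b, rfl⟩ := QuotientGroup.mk_surjective b
    refine QuotientGroup.eq.2 (hE ?_)
    simpa [commutatorElement_def, mul_assoc] using
      commutator_mem_commutator (mem_top b⁻¹) (mem_top a⁻¹)
  obtain ⟨L, hL⟩ := hL
  have h : AC (P : Subgroup G) L := ⟨hO, hT, hA, hL⟩
  obtain ⟨-, h4, ht⟩ := h.simple_case (M := M) hE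
  have := h.normal hE h4 ht
  have hk := h.card_mul (M := M) hE
  have hπ := QuotientGroup.mk'_surjective L
  obtain ⟨v, hv, v1⟩ := exists_ne_one h.ne
  have ho := h.orb hE h4 ht hv v1
  have h1 : #(P : Subgroup G) = #((P : Subgroup G) ⊓ L) * Nat.card (P.mapSurjective hπ) := by
    rw [← (L.subgroupOf P).card_mul_index, card_so', inf_comm]
    congr 1
    exact (congrArg (relIndex · _) (QuotientGroup.ker_mk' L)).symm.trans (relIndex_ker _ _)
  have hab : (P.mapSurjective hπ : Subgroup (G ⧸ L)) ≤ C((P.mapSurjective hπ : Subgroup (G ⧸ L))) :=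
    (hA.map _).le_cen
  have h2 : #((P : Subgroup G) ⊓ L) - 1 ∣ C((P : Subgroup G)).relIndex N((P : Subgroup G)) := by
    rw [← ho, Nat.add_sub_cancel]
    exact relIndex_dvd_of_le_left _ (cen_le_cen1 hv.1)
  refine Or.inr ⟨fun hs => hL.qs.not_sol ((sol_top.2 hs).mono le_top), _, _, h4, h1, h2, ?_, fun he => ?_⟩
  · rintro (h3 | h3)
    · rw [hk, h1, h3, prin_four _ h3]
    · rw [hk, h1, prin_nil _ hab]
      rw [eq_bot_of_card_eq _ h3, cen_bot]
      exact le_top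
  have h3 := ((Nat.dvd_prime he).1 h2).resolve_left (by omega)
  have h5 := free_of_relIndex_eq hv.1 (show _ = _ by omega)
  have h6 : ∀ n ∈ N((P : Subgroup G)), ∃ r ∈ L, r⁻¹ * n ∈ C((P : Subgroup G)) := fun n hn =>
    let ⟨r, hr, e⟩ := h.split hE h4 ht hn hv v1
    ⟨r, hr.1, h5 (mem_inf.2 ⟨e, mul_mem (inv_mem (h.R_le hr)) hn⟩)⟩
  have h7 : Nat.card (principalBlock M G) = #(P : Subgroup G) := by
    rw [hk, h1, prin_nil _ hab]
    rw [Sylow.coe_mapSurjective, nrm_map_sylow hπ hT]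
    rintro _ ⟨n, hn, rfl⟩
    obtain ⟨r, hr, e⟩ := h6 n hn
    simpa [(QuotientGroup.eq_one_iff r).2 hr] using
      map_cents (QuotientGroup.mk' L) le_rfl (mem_map_of_mem _ e)
  have h8 : (P : Subgroup G) ⊓ C(L) ≤ C(N((P : Subgroup G))) := fun w hw => mem_cen.2 fun n hn => by
    obtain ⟨r, hr, e⟩ := h6 n hn
    calc n * w = r * (r⁻¹ * n * w) := by group
      _ = r * w * (r⁻¹ * n) := by rw [← mem_cen.1 e w hw.1]; group
      _ = _ := by rw [mem_cen.1 hw.2 r hr]; group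
  have h9 : (P : Subgroup G) ⊓ C(N((P : Subgroup G))) = (P : Subgroup G) ⊓ C(L) := by
    refine le_antisymm (fun z hz => ?_) (le_inf inf_le_left h8)
    obtain ⟨u, hu, hc⟩ := h.dec hz.1
    by_cases u1 : u = 1
    · simpa [u1] using hc
    obtain ⟨r, hr, e⟩ := h.exists_move h4 ht hu u1
    have := mul_mem (mem_inf.1 hz).2 (inv_mem (h8 hc))
    rw [mul_inv_rev, inv_inv, mul_inv_cancel_left] at this
    exact absurd (by rw [mem_cen.1 this r (h.R_le hr), mul_inv_cancel_right]) e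
  have h10 := (⟨inf_le_left, inf_le_left, fun x hx => let ⟨u, hu, hc⟩ := h.dec hx
    ⟨u, hu, _, hc, (mul_inv_cancel_left _ _).symm⟩⟩ :
    MulEq ((P : Subgroup G) ⊓ L) ((P : Subgroup G) ⊓ C(L)) P).card
  rw [eq_bot_of_le (inf_le_inf inf_le_right inf_le_right) h.cen, card_bot, mul_one] at h10
  have h11 := prin_prime (M := M) P hA.le_cen he
  rw [h7, h9, h10, show #((P : Subgroup G) ⊓ L) =
    C((P : Subgroup G)).relIndex N((P : Subgroup G)) + 1 by omega] at h11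
  have h12 : 0 < #((P : Subgroup G) ⊓ C(L)) * C((P : Subgroup G)).relIndex N((P : Subgroup G)) :=
    Nat.mul_pos Nat.card_pos he.pos
  exact ⟨h7, Nat.eq_of_mul_eq_mul_left h12 (by linarith)⟩

theorem ss {G : Type*} [Group G] [Finite G] (P : Sylow 2 G) (hA : Ab (P : Subgroup G))
    (he : (C((P : Subgroup G)).relIndex N((P : Subgroup G))).Prime ∨
      C((P : Subgroup G)).relIndex N((P : Subgroup G)) = 9 ∨
      C((P : Subgroup G)).relIndex N((P : Subgroup G)) = 15) :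
    SS (Group.IsSolvable G) (Nat.card (principalBlock M G)) (blockRank 2 (principalBlock M G))
      #(P : Subgroup G) (C((P : Subgroup G)).relIndex N((P : Subgroup G))) := by
  have := Fact.mk Nat.prime_two
  obtain ⟨Q, ⟨e⟩, h1, h2, h3⟩ := prin_core (M := M) P
  rw [← h1] at he
  have h4 : Group.IsSolvable G ↔ Group.IsSolvable (G ⧸ pPrimeCore 2 G) := ⟨fun _ => inferInstance, fun _ =>
    have := odd_order_solvable (Nat.coprime_two_right.1 (H2.pPrimeCore_coprime (p := 2) (G := G)))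
    solvable_of_ker_le_range (pPrimeCore 2 G).subtype (QuotientGroup.mk' _)
      (by rw [QuotientGroup.ker_mk', range_subtype])⟩
  rw [← h1, h2, h3, h4, Nat.card_congr e.toEquiv]
  refine ss_core Q ?_ (hA.of_equiv e) (comm_le_cen_of_card he)
  rw [pcore_top, piCore_compl_singleton Nat.prime_two, H2.pPrimeCore_quotient_self]

section

variable {G : Type*} [Group G] [Finite G]

theorem prin_e_prime (P : Sylow 2 G) (hA : Ab (P : Subgroup G))
    (he : (C((P : Subgroup G)).relIndex N((P : Subgroup G))).Prime) :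
    blockRank 2 (principalBlock M G) = C((P : Subgroup G)).relIndex N((P : Subgroup G)) ∧
      (¬ Group.IsSolvable G → Nat.card (principalBlock M G) = Nat.card P) := by
  obtain ⟨h1, h2⟩ | ⟨h1, q, w, -, -, -, -, h2⟩ := ss (M := M) P hA (Or.inl he)
  · exact ⟨h2, fun h => absurd h1 h⟩
  · exact ⟨(h2 he).2, fun _ => (h2 he).1⟩

theorem prin_e_nine (P : Sylow 2 G) (hA : Ab (P : Subgroup G)) (hc : Nat.card P = 16)
    (he : C((P : Subgroup G)).relIndex N((P : Subgroup G)) = 9) :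
    Nat.card (principalBlock M G) = 16 ∧ blockRank 2 (principalBlock M G) = 9 := by
  have := Fact.mk Nat.prime_two
  have h0 := prin_nine (M := M) P hA.le_cen hc he fun u hu h3 => by
    have h1 := hA.le_cen1 hu
    have h2 : C(((P.subtype h1 : Sylow 2 C[u]) : Subgroup C[u])).relIndex
        N(((P.subtype h1 : Sylow 2 C[u]) : Subgroup C[u])) = 3 := by
      have h4 := relIndex_mul_relIndex C((P : Subgroup G)) (C[u] ⊓ N((P : Subgroup G)))
        N((P : Subgroup G)) (le_inf (cen_le_cen1 hu) (cen_le_nrm _)) inf_le_right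
      rw [inf_relIndex_right, h3, he] at h4
      rw [Sylow.coe_subtype, ← so_cen h1, ← so_nrm h1, ← inf_subgroupOf_left N((P : Subgroup G)),
        relIndex_subgroupOf inf_le_left]
      omega
    exact (prin_e_prime (P.subtype h1) (hA.so h1) (h2 ▸ Nat.prime_three)).1.trans h2
  obtain ⟨-, h2⟩ | ⟨-, q, w, h1, h2, h3, h4, -⟩ := ss (M := M) P hA (Or.inr (Or.inl he))
  · omega
  · rw [show #(P : Subgroup G) = 16 from hc] at h2 h4
    rw [he] at h3
    have h5 : q ≤ 16 := Nat.le_of_dvd (by norm_num) (Dvd.intro _ h2.symm)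
    have h6 : w = 4 := by interval_cases q <;> omega
    omega

theorem prin_e_15 (P : Sylow 2 G) (hA : Ab (P : Subgroup G)) (hc : Nat.card P = 16)
    (he : C((P : Subgroup G)).relIndex N((P : Subgroup G)) = 15)
    (hk : Nat.card (principalBlock M G) ≤ 16) : Nat.card (principalBlock M G) = 16 := by
  have := Fact.mk Nat.prime_two
  have h0 := prin_lt (M := M) P hA.le_cen (by omega)
  obtain ⟨-, h2⟩ | ⟨-, q, w, h1, h2, h3, h4, -⟩ := ss (M := M) P hA (Or.inr (Or.inr he))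
  · omega
  · rw [show #(P : Subgroup G) = 16 from hc] at h2 h4
    rw [he] at h3
    have h5 : q ≤ 16 := Nat.le_of_dvd (by norm_num) (Dvd.intro _ h2.symm)
    have h6 : w = 4 ∨ w = 1 := by interval_cases q <;> omega
    omega

omit hMm hM in
theorem orb_le {R V : Subgroup G} {v : G} (v1 : v ≠ 1) (h : ∀ n ∈ R, n * v * n⁻¹ ∈ V) :
    C[v].relIndex R + 1 ≤ #V := by
  rw [← card_conjOrbit, ← Finite.card_option]
  refine Nat.card_le_card_of_injective (fun o => o.elim 1 fun w => ⟨w.1, ?_⟩) ?_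
  · obtain ⟨n, hn, e⟩ := w.2
    exact e ▸ h n hn
  · rintro (_ | ⟨_, a, ha, rfl⟩) (_ | ⟨_, b, hb, rfl⟩) e
    · rfl
    · exact absurd (congrArg Subtype.val e).symm (conj_ne_one.2 v1)
    · exact absurd (congrArg Subtype.val e) (conj_ne_one.2 v1)
    · exact congrArg some (Subtype.ext (Subtype.mk.inj e))

theorem prin_small (P : Sylow 2 G) (hA : Ab (P : Subgroup G)) {x : G} (hx : x ∈ (P : Subgroup G))
    (x1 : x ≠ 1) (hl : blockRank 2 (principalBlock M C[x]) = 1) :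
    (Nat.card P = 8 → Nat.card (principalBlock M G) = 8) ∧
      (Nat.card P = 16 → Nat.card (principalBlock M G) = 8 ∨ Nat.card (principalBlock M G) = 16) := by
  have := Fact.mk Nat.prime_two
  have hT := syl_top Nat.prime_two P
  have h1 := hA.le_cen1 hx
  have h2 := ((npc_iff Nat.prime_two).2 (H8.hasNPC_of_rank_one hl)).syl_inf_der (hT.subl h1 le_top)
  rw [ab_iff_der.1 hA] at h2
  have h3 : C[x] ⊓ N((P : Subgroup G)) ≤ C((P : Subgroup G)) := comm_eq_bot.1 (eq_bot_of_le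
    (le_inf (comm_le_right inf_le_right) (commutator_mono inf_le_left h1)) h2)
  have h4 := orb_le (R := N((P : Subgroup G))) x1 fun n hn => conj_mem hn hx
  rw [relIndex_eq_of_free hx h3] at h4
  have h5 : ¬ 2 ∣ C((P : Subgroup G)).relIndex N((P : Subgroup G)) := fun e =>
    (hT.subl (le_nrm _) le_top).not_dvd Nat.prime_two (e.trans (relIndex_dvd_of_le_left _ hA.le_cen))
  have h6 := prin_le (M := M) P hA.le_cen hx
  rw [hl, mul_one] at h6
  have k1 := fun e => prin_nil (M := M) P hA.le_cen (relIndex_eq_one.1 e)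
  have k2 := fun e => (prin_e_prime (M := M) P hA e).1 ▸ prin_prime (M := M) P hA.le_cen e
  have k3 := fun a b => (prin_e_nine (M := M) P hA a b).1
  have k4 := prin_e_15 (M := M) P hA
  change _ ≤ Nat.card P at h4
  generalize #((P : Subgroup G) ⊓ C(N((P : Subgroup G)))) = z at k2
  generalize C((P : Subgroup G)).relIndex N((P : Subgroup G)) = e at *
  generalize Nat.card (principalBlock M G) = k at *
  generalize Nat.card P = n at *
  refine ⟨?_, ?_⟩ <;> rintro rfl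
  · have h7 : e ≤ 7 := by omega
    interval_cases e <;> first | omega | (have := k2 (by norm_num); omega)
  · have h7 : e ≤ 15 := by omega
    interval_cases e <;> first | omega | (have := k2 (by norm_num); omega)

end

end Cfsg.Agent.H9
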