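import Mathlib
import Cfsg.Agent.H9.Bl1
import Cfsg.Agent.S3669
import Cfsg.Agent.H4.Dbl
import Cfsg.Agent.GW.Dh

/-!
Perfect groups with a quotient of order sixty and a self-centralising element of order at most four.
-/

set_option autoImplicit false
set_option linter.unusedSectionVars false
set_option linter.unusedVariables false

namespace Cfsg.Agent.H9.Bl

open Cfsg Subgroup Cfsg.Agent.FT Cfsg.Agent.GW
open scoped MatrixGroups

variable {G : Type*} [Group G] [Finite G] {K P : Subgroup G} {u x y z : G}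

theorem equiv_A5 (hp : commutator G = ⊤) (h : Nat.card G = 60) : Nonempty (G ≃* alternatingGroup (Fin 5)) := by
  refine H10.NoCycNormal.equiv_A5 (fun N _ hc => by_contra fun h1 => ?_) h
  have h2 := one_lt_card h1
  have h3 : N.index * #N = 60 := h ▸ N.index_mul_card
  have := S3669.sol60 (G ⧸ N) (show N.index < 60 by nlinarith)
  have := hc.commutative
  have := solvable_of_ker_le_range N.subtype (QuotientGroup.mk' N) (by rw [QuotientGroup.ker_mk', range_subtype])
  have : Nontrivial G := Finite.one_lt_card_iff_nontrivial.1 (by omega)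
  exact (IsSolvable.commutator_lt_top_of_nontrivial G).ne hp

theorem card_invol_A5 : Nat.card {q : alternatingGroup (Fin 5) // q * q = 1 ∧ q ≠ 1} = 15 := by
  rw [Nat.card_eq_fintype_card]; decide +kernel

theorem sq_A5 : ∀ q : alternatingGroup (Fin 5), q * q * (q * q) = 1 → q * q = 1 := by decide +kernel

section

variable {Q : Type*} [Group Q] [Finite Q] [IsSimpleGroup Q] (c60 : Nat.card Q = 60)
  (c15 : Nat.card {q : Q // q * q = 1 ∧ q ≠ 1} = 15) (hsq : ∀ q : Q, q * q * (q * q) = 1 → q * q = 1)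

include c60 c15 in
theorem camina {f : G →* Q} (hf : Function.Surjective f) (h1 : f u ≠ 1)
    (h2 : f (u * u) = 1) (h4 : #C[u] = 4) (hx : f x ≠ 1) (hx' : f (x * x) = 1) : IsConj u x := by
  classical
  have := Fintype.ofFinite G
  have := Fintype.ofFinite Q
  have h3 : {x | IsConj u x} = f ⁻¹' {q | q * q = 1 ∧ q ≠ 1} := by
    refine Set.eq_of_subset_of_ncard_le (fun x hx => ?_) (le_of_eq ?_)
    · obtain ⟨g, rfl⟩ := isConj_iff.1 hx
      simpa [conj_mul] using ⟨by simpa using h2, h1⟩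
    · have k1 := card_eq_card_quotient_mul_card_subgroup f.ker
      have k2 := C[u].card_mul_index
      have k3 := H6.sum_comp_of_surjective f hf fun q => if q * q = 1 ∧ q ≠ 1 then 1 else 0
      rw [Nat.card_congr (QuotientGroup.quotientKerEquivOfSurjective f hf).toEquiv, c60] at k1
      rw [Nat.card_eq_fintype_card, Fintype.card_subtype] at c15
      rw [← Finset.card_filter, ← Finset.card_filter, c15, ← Fintype.card_subtype, ← Nat.card_eq_fintype_card,
        smul_eq_mul] at k3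
      rw [← Nat.card_coe_set_eq, ← Nat.card_coe_set_eq]
      rw [h4] at k2
      exact k3.trans (Eq.trans (by omega) (H6.card_isConj_eq_index u).symm)
  exact h3.ge ⟨by simpa using hx', hx⟩

theorem inv_of_sq (h : ∀ a ∈ K, x * a * (x * a) = x * x) : Inverts x K := fun a ha => by
  have := h _ (inv_mem ha)
  calc x * a * x⁻¹ = a⁻¹ * (a * (x⁻¹ * (x * x)) * a * x⁻¹) := by group
    _ = _ := by rw [← this]; group

theorem sq_of_three (h1 : Inverts x K) (h2 : Inverts y K) (h3 : Inverts (x * y) K) (hz : z ∈ K) :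
    z * z = 1 ∧ z ∈ C[x] := by
  have h4 := h3.sq_of_comm hz (mem_cen.1 (h1.mul_mem_cen h2) z hz).symm
  refine ⟨h4, mem_cen1.2 ?_⟩
  rw [← mul_inv_eq_iff_eq_mul.1 ((h1 z hz).trans (inv_eq_of_mul_eq_one_left h4))]

theorem sq_cases (hx : orderOf x = 4) (hz : z ∈ ⟪x⟫) (h : z * z = 1) : z = 1 ∨ z = x * x := by
  classical
  have h1 : ∀ k, x ^ k = 1 → 4 ∣ k := fun k e => hx ▸ orderOf_dvd_of_pow_eq_one e
  rw [mem_zpowers_iff_mem_range_orderOf, hx] at hz
  obtain ⟨k, hk, rfl⟩ := Finset.mem_image.1 hz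
  have := h1 _ ((pow_add _ _ _).trans h)
  have := Finset.mem_range.1 hk
  obtain rfl | rfl : k = 0 ∨ k = 2 := by omega
  exacts [Or.inl (pow_zero x), Or.inr (sq x)]

include c60 c15 hsq in
theorem struct {f : G →* Q} (hf : Function.Surjective f) (h1 : f u ≠ 1)
    (h2 : f (u * u) = 1) (h4 : #C[u] = 4) : Ab Od((⊤ : Subgroup G)) ∧
      ((Od((⊤ : Subgroup G)) = f.ker ∧ orderOf u = 2) ∨ (orderOf u = 4 ∧ ∃ z, z ∉ Od((⊤ : Subgroup G)) ∧
        ∀ x, f x = 1 ↔ x ∈ Od((⊤ : Subgroup G)) ∨ x⁻¹ * z ∈ Od((⊤ : Subgroup G)))) := by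
  have := Fact.mk Nat.prime_two
  have hO : Od((⊤ : Subgroup G)) ≤ f.ker := by
    have := nml_top_iff.1 (pcore_nml {2}ᶜ (⊤ : Subgroup G))
    refine (Subgroup.map_eq_bot_iff _).1 ((this.map f hf).eq_bot_or_eq_top.resolve_right fun e => ?_)
    have := (odd_core _).of_dvd_nat (card_map_dvd' (f := f) Od((⊤ : Subgroup G)))
    rw [e, card_top, c60] at this
    exact absurd this (by decide)
  have u4 : u ^ 2 ^ 2 = 1 := orderOf_dvd_iff_pow_eq_one.1 (h4 ▸ orderOf_dvd_card' (self_mem_cen1 u) :)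
  obtain ⟨P, hP, h3⟩ := ((pGrp_of_card (n := 2) Nat.prime_two h4).mono
    (zpowers_le.2 (self_mem_cen1 u))).exists_syl le_top
  have hu := h3 (mem_zpowers u)
  have h5 : #(P.map f) = 4 := by
    rw [(hP.map (f := f)).card_syl Nat.prime_two, map_top_of_surjective f hf, card_top, c60]
    decide +kernel
  have h6 : ∀ x ∈ P, f (x * x) = 1 := fun x hx => (map_mul f x x).trans (hsq _ (by
    rw [← orderOf_dvd_iff_pow_eq_one.1 (h5 ▸ orderOf_dvd_card' (mem_map_of_mem f hx))]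
    simp [pow_succ, mul_assoc]))
  obtain ⟨_, ⟨y, hy, rfl⟩, h7⟩ := SetLike.not_le_iff_exists.1 fun e : P.map f ≤ ⟪f u⟫ => by
    have := card_le_of_le e
    rw [h5, (invo_of (by simpa using h2) h1).card] at this
    omega
  have y1 : f y ≠ 1 := fun e => h7 (e ▸ one_mem _)
  have y2 : f (u * y) ≠ 1 := fun e => h7 (by
    rw [eq_inv_of_mul_eq_one_right ((map_mul f u y).symm.trans e)]; exact inv_mem (mem_zpowers _))
  have h8 : ∀ x ∈ P, f x ≠ 1 → ∀ a ∈ f.ker, IsConj u (x * a) := fun x hx e a ha =>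
    camina c60 c15 hf h1 h2 h4 (by simpa [MonoidHom.mem_ker.1 ha] using e)
      (by simpa [MonoidHom.mem_ker.1 ha] using h6 x hx)
  have h9 : ∀ A, (∀ x ∈ P, f x ≠ 1 → ∀ a ∈ A, x * a * (x * a) = x * x) → ∀ a ∈ A, a * a = 1 ∧ a ∈ C[u] :=
    fun A h a => sq_of_three (inv_of_sq (h u hu h1)) (inv_of_sq (h y hy y1))
      (inv_of_sq (h _ (mul_mem hu hy) y2))
  have h10 : ∀ x, IsConj u x → orderOf x = orderOf u := fun x e => by
    obtain ⟨g, rfl⟩ := isConj_iff.1 e
    exact (MulAut.conj g).orderOf_eq u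
  by_cases c : u * u = 1
  · have o2 := invo_of c fun e => h1 (by simp [e])
    have k1 : ∀ x ∈ P, f x ≠ 1 → ∀ a ∈ f.ker, x * a * (x * a) = 1 := fun x hx e a ha =>
      Invo.sq ((h10 _ (h8 x hx e a ha)).trans o2)
    have k2 : ∀ x ∈ P, f x ≠ 1 → x * x = 1 := fun x hx e => by simpa using k1 x hx e 1 (one_mem _)
    have k3 : f.ker ≤ C[u] := fun a ha => (h9 _ (fun x hx e a ha => (k1 x hx e a ha).trans
      (k2 x hx e).symm) a ha).2
    have k4 : P ≤ C[u] := fun x hx => by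
      by_cases a : f x = 1
      · exact k3 a
      by_cases b : f (u * x) = 1
      · exact (mul_mem_cancel_left (self_mem_cen1 u)).1 (k3 b)
      refine mem_cen1.2 ?_
      rw [eq_inv_of_mul_eq_one_left (k2 _ (mul_mem hu hx) b), mul_inv_rev, inv_eq_of_mul_eq_one_left c,
        inv_eq_of_mul_eq_one_left (k2 x hx a)]
    have k5 := card_le_of_le (map_mono (f := f) k4)
    have k6 := card_mul_relIndex k3
    rw [h5, card_map_eq] at k5
    have k7 : f.ker = ⊥ := eq_bot_of_card_le _ (by nlinarith)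
    rw [eq_bot_of_le hO k7, k7]
    exact ⟨ab_bot, Or.inl ⟨rfl, o2⟩⟩
  have o4 : orderOf u = 4 := orderOf_eq_prime_pow (n := 1) (by simpa [sq] using c) u4
  have k1 : ∀ x, IsConj u x → C[x] = ⟪x⟫ := fun x e => (eq_of_le_of_card_ge (zpowers_le.2 (self_mem_cen1 x))
    (by rw [Nat.card_zpowers, h10 x e, o4, ← H6.card_centralizer_of_isConj e, h4])).symm
  obtain ⟨z, hz, z2⟩ := exists_invo ((hP.pi.mono inf_le_left).dvd (hP.pi.center_ne_bot
    (ne_bot_of_mem hu fun e => h1 (by simp [e]))))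
  have k2 : ∀ x ∈ P, f x ≠ 1 → x * x = z := fun x hx e => by
    have := h8 x hx e 1 (one_mem _)
    rw [mul_one] at this
    exact ((sq_cases ((h10 x this).trans o4) (k1 x this ▸ cen_le_cen1 hx hz.2) z2.sq).resolve_left z2.ne).symm
  have k3 : ∀ a ∈ P ⊓ f.ker, a = 1 ∨ a = z := fun a ha => by
    obtain ⟨a1, a2⟩ := h9 (P ⊓ f.ker) (fun x hx e a ha => (k2 _ (mul_mem hx ha.1)
      (by simpa [MonoidHom.mem_ker.1 ha.2] using e)).trans (k2 x hx e).symm) a ha
    exact k2 u hu h1 ▸ sq_cases o4 (k1 u (IsConj.refl u) ▸ a2) a1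
  have hK : f.ker ⊴ ⊤ := nml_top_iff.2 inferInstance
  have k4 := (npc_of_cyc (hP.inf_nml hK) ((cyc_zpowers z).mono fun a ha => (k3 a ha).elim
    (· ▸ one_mem _) (· ▸ mem_zpowers _))).sd (hP.inf_nml hK)
  rw [← pcore_inf_nml _ hK, inf_eq_left.2 hO] at k4
  have k5 : Od((⊤ : Subgroup G)) ⊓ C[z] = ⊥ := eq_bot_iff.2 fun w hw =>
    eq_one_of_sq_odd (odd_core _) hw.1 (h9 _ (fun x hx e a ha => by
      have a0 : C[z] ≤ N(Od((⊤ : Subgroup G)) ⊓ C[z]) := normsI (le_top.trans (pcore_nrm _ _)) (le_nrm _)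
      have a1 := mul_mem (conj_mem' (a0 (cen1_comm.1 (cen_le_cen1 hx hz.2))) ha) ha
      have a2 : x * a * (x * a) = z * (x⁻¹ * a * x * a) := by rw [← k2 x hx e]; group
      have a3 := pow_orderOf_eq_one (x * a)
      rw [h10 _ (h8 x hx e a (hO ha.1)), o4, show (x * a) ^ 4 = x * a * (x * a) * (x * a * (x * a)) by
        simp [pow_succ, mul_assoc], a2, mul_assoc, ← mul_assoc _ z, mem_cen1.1 a1.2, mul_assoc, ← mul_assoc,
        z2.sq, one_mul] at a3
      rw [a2, eq_one_of_sq_odd (odd_core _) a1.1 a3, mul_one, k2 x hx e]) w hw).1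
  refine ⟨(GW.inverts_of_fpf z2.sq (pcore_nrm _ _ (mem_top z)) k5).ab, Or.inr ⟨o4, z, fun e =>
    z2.ne (eq_one_of_sq_odd (odd_core _) e z2.sq), fun x => ⟨fun hx => ?_, fun hx => ?_⟩⟩⟩
  · obtain ⟨o, ho, a, ha, rfl⟩ := k4.mulEq.mul x hx
    obtain rfl | rfl := k3 a ha
    · exact Or.inl (by simpa using ho)
    · exact Or.inr (by simpa using conj_mem' (pcore_nrm _ _ (mem_top a)) (inv_mem ho))
  · obtain hx | hx := hx
    · exact hO hx
    · simpa [show f z = 1 from k2 u hu h1 ▸ h2] using hO hx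

end

theorem Hy.final (h : Hy u) : IsMulCommutative (oddCore G) ∧
    ((Nonempty (G ⧸ oddCore G ≃* PSL(2, ZMod 5)) ∧ orderOf u = 2) ∨
      (Nonempty (G ⧸ oddCore G ≃* SL(2, ZMod 5)) ∧ orderOf u = 4)) := by
  have := Fact.mk Nat.prime_five
  obtain ⟨K, _, h1, h2, h3, h4⟩ := h.main
  have hp : ∀ (N : Subgroup G) [N.Normal], commutator (G ⧸ N) = ⊤ := fun N _ => by
    rw [commutator_def, ← map_top_of_surjective _ (QuotientGroup.mk'_surjective N), ← map_commutator,
      ← commutator_def, h.perf]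
  obtain ⟨e⟩ := equiv_A5 (hp K) h1
  obtain ⟨e'⟩ := H10.PSL2_five_equiv (F := ZMod 5) (Nat.card_zmod 5)
  have hf := QuotientGroup.mk'_surjective K
  have := e.isSimpleGroup
  have hsq : ∀ q : G ⧸ K, q * q * (q * q) = 1 → q * q = 1 := fun q hq => e.injective (by
    simpa using sq_A5 (e q) (by simpa using congrArg e hq))
  have := struct h1 ((Nat.card_congr (e.toEquiv.subtypeEquiv fun q => by
    simp [← map_mul])).trans card_invol_A5) hsq hf (mt (QuotientGroup.eq_one_iff u).1 h2)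
    ((QuotientGroup.eq_one_iff _).2 h3) h4
  rw [pcore_top, piCore_compl_singleton Nat.prime_two, QuotientGroup.ker_mk'] at this
  refine ⟨this.1, this.2.imp (fun k => ⟨⟨((QuotientGroup.quotientMulEquivOfEq k.1).trans e).trans e'.symm⟩,
    k.2⟩) fun ⟨k1, z, k2, k3⟩ => ⟨?_, k1⟩⟩
  obtain ⟨S, hS⟩ := exists_syl 2 (⊤ : Subgroup (G ⧸ K))
  have h5 : #S = 4 := by
    rw [hS.card_syl Nat.prime_two, card_top, show Nat.card (G ⧸ K) = 60 from h1]
    decide +kernel
  obtain ⟨t, ht, t1⟩ := exists_ne_one (H := S) fun c => by simp [c] at h5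
  have h6 : oddCore G ≤ K := fun x hx => (QuotientGroup.eq_one_iff x).1 ((k3 x).2 (Or.inl hx))
  refine Cor.sl2_of_cover (dh_of_four h5 (fun x hx => hsq x ?_) ht t1) hS
    (QuotientGroup.map _ K (MonoidHom.id G) h6) (fun q => ?_) (z := z)
    (mt (QuotientGroup.eq_one_iff z).1 k2) (fun x => ?_) (hp _) (by decide) (by decide) (e.trans e'.symm)
  · rw [← orderOf_dvd_iff_pow_eq_one.1 (h5 ▸ orderOf_dvd_card' hx)]
    simp [pow_succ, mul_assoc]
  · obtain ⟨g, rfl⟩ := hf q
    exact ⟨g, rfl⟩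
  · obtain ⟨g, rfl⟩ := QuotientGroup.mk_surjective x
    rw [QuotientGroup.eq_one_iff, QuotientGroup.eq]
    exact k3 g

end Cfsg.Agent.H9.Bl
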