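import Mathlib
import Cfsg.Agent.FT.BG01
import Cfsg.Agent.H28.Cls

/-! Primitive groups with a unique class of derangements. -/

set_option autoImplicit false
set_option linter.unusedSectionVars false
set_option linter.style.haveILetI false

namespace Cfsg.Agent.H9.Der

open Cfsg Subgroup Cfsg.Agent.FT MulAction
open scoped commutatorElement

variable {G : Type*} [Group G] [Finite G] {Ω : Type*} [MulAction G Ω] [FaithfulSMul G Ω] {N T U : Subgroup G}

theorem jordan_sub (hU : U ≤ T) (h : ∀ x ∈ T, ∃ g ∈ T, g * x * g⁻¹ ∈ U) : T ≤ U := by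
  have := H28.jordan_cover (H := U.subgroupOf T) fun x => by
    obtain ⟨g, hg, e⟩ := h x x.2
    exact ⟨⟨g, hg⟩, e⟩
  exact subgroupOf_eq_top.1 this

theorem trans_of_nml [IsPreprimitive G Ω] (hN : ⊤ ≤ N(N)) (h1 : N ≠ ⊥) (a b : Ω) : ∃ n ∈ N, n • a = b := by
  haveI : N.Normal := nml_top_iff.1 ⟨le_top, hN⟩
  have : IsPretransitive N Ω := IsQuasiPreprimitive.isPretransitive_of_normal (fun e => h1 (by
    rw [eq_bot_iff]
    intro x hx
    exact eq_of_smul_eq_smul (α := Ω) fun w => by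
      rw [one_smul]; exact (e.ge (Set.mem_univ w) : w ∈ fixedPoints N Ω) ⟨x, hx⟩))
  obtain ⟨n, hn⟩ := exists_smul_eq N a b
  exact ⟨n, n.2, hn⟩

theorem eq_one_of_cen (ht : ∀ a b : Ω, ∃ n ∈ N, n • a = b) {x : G} (hx : x ∈ C(N)) {a : Ω} (h : x • a = a) :
    x = 1 := eq_of_smul_eq_smul (α := Ω) fun w => by
  obtain ⟨n, hn, rfl⟩ := ht a w
  rw [one_smul, ← mul_smul, ← mem_cen.1 hx n hn, mul_smul, h]

theorem simple_of_minNml (h : MinNml N N) : IsSimpleGroup N := by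
  haveI : Nontrivial N := (nontrivial_iff_ne_bot N).2 h.ne
  refine ⟨fun K hK => ?_⟩
  rcases h.eq_bot_or_eq (map_subtype_le K) (nml_map_subtype K).nrm with e | e
  · exact Or.inl ((map_eq_bot_iff_of_injective _ N.subtype_injective).1 e)
  · refine Or.inr (map_injective N.subtype_injective ?_)
    rw [e, ← MonoidHom.range_eq_map, range_subtype]

theorem ab_of_one_class [IsPreprimitive G Ω] [Nonempty Ω]
    (hnas : ¬ ∃ T : Subgroup G, T.Normal ∧ IsSimpleGroup T ∧ ¬ IsMulCommutative T ∧ centralizer (T : Set G) = ⊥)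
    (h : ∀ x y : G, (∀ w : Ω, x • w ≠ w) → (∀ w : Ω, y • w ≠ w) → ∃ g, y = g * x * g⁻¹) (hN : MinNml N ⊤) :
    Ab N := by
  by_contra hna
  have ht := trans_of_nml (Ω := Ω) hN.nrm hN.ne
  have hF : F(N) = ⊥ := (hN.eq_bot_or_eq (fitting_le N) (norms_fitting hN.nrm)).resolve_right fun e =>
    hna (hN.ab (e ▸ fitting_nil N).sol)
  obtain ⟨T, hTN, hT⟩ := exists_minNml hN.ne (le_nrm N)
  have hTn : T ⊴ N := ⟨hTN, hT.nrm⟩
  obtain ⟨α⟩ := ‹Nonempty Ω›
  by_cases hA : T ⊓ stabilizer G α = ⊥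
  · have hd : ∀ x ∈ T, x ≠ 1 → ∀ w : Ω, x • w ≠ w := fun x hx h1 w e => by
      obtain ⟨n, hn, rfl⟩ := ht α w
      refine h1 ?_
      have := eq_one_of_mem_inf hA (conj_mem' (hT.nrm hn) hx) (by
        rw [mem_stabilizer_iff, mul_smul, mul_smul, e, inv_smul_smul])
      simpa [mul_assoc, inv_mul_eq_one, mul_eq_left, eq_comm] using this
    obtain ⟨p, hp, hd'⟩ := exists_prime_dvd_card hT.ne
    obtain ⟨x, hx, ho⟩ := exists_elt_of_prime_dvd hp hd'
    have hx1 : x ≠ 1 := by rintro rfl; exact hp.one_lt.ne (by simpa using ho)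
    have hP : PGrp p T := piGrp_iff_forall.2 fun y hy => by
      by_cases h1 : y = 1
      · exact h1 ▸ piElt_one _
      obtain ⟨g, rfl⟩ := h x y (hd x hx hx1) (hd y hy h1)
      exact ((piElt_of_orderOf_prime (π := {p}) hp ho).2 rfl).conj g
    exact hT.ne (eq_bot_of_le (hP.le_fitting hTn) hF)
  by_cases hTe : T = N
  · subst hTe
    have hC : C(T) ≠ ⊥ := fun e => hnas ⟨T, nml_top_iff.1 ⟨le_top, hN.nrm⟩, simple_of_minNml hT, hna, e⟩
    obtain ⟨x, hx, hx1⟩ := exists_ne_one hA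
    exact hx1 (eq_one_of_cen (trans_of_nml (norms_cent hN.nrm) hC) (le_cen_cen T hx.1) hx.2)
  have hT' : N ⊓ C(T) ⊴ N := subcent_nml hT.nrm
  have hcj : ∀ g : G, cj g T = T ∨ cj g T ≤ N ⊓ C(T) := fun g => by
    have h1 : MinNml (cj g T) N := cj_of_mem_nrm (hN.nrm (mem_top g)) ▸ hT.cj g
    have h2 : cj g T ≤ N := cj_le_of_nrm (hN.nrm (mem_top g)) hTN
    rcases h1.inf_eq_bot_or_le hT.nrm with e | e
    · exact Or.inr (le_inf h2 (cents_of_norms_of_inf (hTN.trans h1.nrm) (h2.trans hT.nrm) e))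
    · exact Or.inl (eq_of_card_eq e (card_cj g T))
  have hsup : N ≤ T ⊔ N ⊓ C(T) := by
    have h1 : (⨆ g : G, cj g T) ≤ N := iSup_le fun g => cj_le_of_nrm (hN.nrm (mem_top g)) hTN
    have h2 : ⊤ ≤ N(⨆ g : G, cj g T) := fun x _ => mem_nrm_of_cj_le (cj_le_iff.2 (iSup_le fun g =>
      cj_le_iff.1 (by rw [cj_cj]; exact le_iSup (fun g => cj g T) _)))
    have h3 := (hN.eq_bot_or_eq h1 h2).resolve_left 
      (ne_bot_of_le ((cj_one T).ge.trans (le_iSup (fun g => cj g T) 1)) hT.ne)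
    rw [← h3]
    conv_rhs => rw [h3]
    exact iSup_le fun g => (hcj g).elim (fun e => e.le.trans le_sup_left) fun e => e.trans le_sup_right
  have hi : T ⊓ (N ⊓ C(T)) = ⊥ := (hT.inf_eq_bot_or_le hT'.nrm).resolve_right fun e =>
    hT.ne (eq_bot_of_le ((ab_iff.2 (e.trans inf_le_right)).le_fitting hTn) hF)
  have hne : ¬ T ≤ T ⊓ (N ⊓ C(T) ⊔ N ⊓ stabilizer G α) := fun e => by
    have h1 : N ≤ N(T ⊓ stabilizer G α) :=
      hsup.trans (sup_le (e.trans inf_le_right) le_sup_left) |>.trans (sup_le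
        (cents_norm (inf_le_right.trans (cen_anti inf_le_left)))
        (normsI (inf_le_left.trans hT.nrm) (norms_of_le inf_le_right)))
    have h2 := (hT.eq_bot_or_eq inf_le_left h1).resolve_left hA
    refine hT.ne (eq_bot_iff.2 fun x hx => eq_of_smul_eq_smul (α := Ω) fun w => ?_)
    obtain ⟨n, hn, rfl⟩ := ht α w
    have : (n⁻¹ * x * n) • α = α := (h2.ge (conj_mem' (hT.nrm hn) hx)).2
    rw [mul_smul, mul_smul, inv_smul_eq_iff] at this
    rw [one_smul, this]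
  obtain ⟨t, htT, ht'⟩ : ∃ t ∈ T, ∀ g ∈ T, g * t * g⁻¹ ∉ T ⊓ (N ⊓ C(T) ⊔ N ⊓ stabilizer G α) := by
    by_contra hc
    push Not at hc
    exact hne (jordan_sub inf_le_left hc)
  have hd : ∀ s ∈ N ⊓ C(T), ∀ w : Ω, (t * s) • w ≠ w := fun s hs w e => by
    obtain ⟨n, hn, rfl⟩ := ht α w
    obtain ⟨a, ha, b, hb, rfl⟩ := (mem_sup_norm (inf_le_left.trans hT.nrm)).1 (hsup hn)
    have h1 : a⁻¹ * t * a⁻¹⁻¹ ∈ T := mul_mem (mul_mem (inv_mem ha) htT) (inv_mem (inv_mem ha))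
    refine ht' a⁻¹ (inv_mem ha) ⟨h1, ?_⟩
    have h2 : a⁻¹ * t * a⁻¹⁻¹ = (a * b)⁻¹ * (t * s) * (a * b) * ((a * b)⁻¹ * s * (a * b))⁻¹ := by
      have := mem_cen.1 hb.2 _ h1
      calc a⁻¹ * t * a⁻¹⁻¹ = b⁻¹ * (b * (a⁻¹ * t * a⁻¹⁻¹)) := by group
        _ = _ := by rw [← this]; group
    rw [h2]
    refine mul_mem (mem_sup_right ⟨conj_mem' (le_nrm N hn) (mul_mem (hTN htT) hs.1), ?_⟩)
      (mem_sup_left (inv_mem (conj_mem' (hT'.nrm hn) hs)))
    change _ • α = α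
    rw [mul_smul, mul_smul, e, inv_smul_smul]
  obtain ⟨s, hs, hs1⟩ := exists_ne_one (fun e => hTe (hTN.antisymm (by simpa [e] using hsup)) : N ⊓ C(T) ≠ ⊥)
  obtain ⟨g, e⟩ := h t (t * s) (by simpa using hd 1 (one_mem _)) (hd s hs)
  have h3 : t * s ∈ cj g T := e ▸ conj_mem_cj.2 htT
  rcases hcj g with e' | e'
  · exact hs1 (eq_one_of_mem_inf hi ((mul_mem_cancel_left htT).1 (e' ▸ h3)) hs)
  · have : t = 1 := eq_one_of_mem_inf hi htT ((mul_mem_cancel_right hs).1 (e' h3))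
    exact ht' 1 (one_mem _) (by simp [this])

theorem sharp_of_one_class [IsPreprimitive G Ω] [Nontrivial Ω]
    (hnas : ¬ ∃ T : Subgroup G, T.Normal ∧ IsSimpleGroup T ∧ ¬ IsMulCommutative T ∧ centralizer (T : Set G) = ⊥)
    (h : ∀ x y : G, (∀ w : Ω, x • w ≠ w) → (∀ w : Ω, y • w ≠ w) → ∃ g, y = g * x * g⁻¹) :
    IsMultiplyPretransitive G Ω 2 ∧ ∀ g : G, g ≠ 1 → ∀ a b : Ω, a ≠ b → g • a = a → g • b ≠ b := by
  have h1 : (⊤ : Subgroup G) ≠ ⊥ := by
    obtain ⟨a, b, hab⟩ := exists_pair_ne Ω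
    obtain ⟨g, hg⟩ := exists_smul_eq G a b
    exact ne_bot_of_mem (mem_top g) fun e => hab (by rw [← hg, e, one_smul])
  obtain ⟨N, -, hN⟩ := exists_minNml h1 (le_nrm ⊤)
  have hab := ab_of_one_class hnas h hN
  have ht := trans_of_nml (Ω := Ω) hN.nrm hN.ne
  have hd : ∀ x ∈ N, x ≠ 1 → ∀ w : Ω, x • w ≠ w := fun x hx h1 w e => h1 (eq_one_of_cen ht (hab.le_cen hx) e)
  have hinj : ∀ x ∈ N, ∀ y ∈ N, ∀ a : Ω, x • a = y • a → x = y := fun x hx y hy a e =>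
    (inv_mul_eq_one.1 (eq_one_of_cen ht (hab.le_cen (mul_mem (inv_mem hy) hx)) (a := a)
      (by rw [mul_smul, e, inv_smul_smul]))).symm
  constructor
  · refine is_two_pretransitive_iff.2 fun {a b c d} h1 h2 => ?_
    obtain ⟨x, hx, rfl⟩ := ht a b
    obtain ⟨y, hy, rfl⟩ := ht c d
    obtain ⟨g, e⟩ := h x y (hd x hx fun e => h1 (by simp [e])) (hd y hy fun e => h2 (by simp [e]))
    obtain ⟨m, hm, rfl⟩ := ht (g • a) c
    refine ⟨m * g, mul_smul _ _ _, ?_⟩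
    rw [← mul_smul y, ← hab.comm hm hy, e]
    simp only [smul_smul]; congr 1; group
  · intro g hg a b hne ha hb
    obtain ⟨v, hv, rfl⟩ := ht a b
    have hc : ∀ x ∈ N, g * x * g⁻¹ ∈ N := fun x hx => conj_mem (hN.nrm (mem_top g)) hx
    have hga : g⁻¹ • a = a := by rw [inv_smul_eq_iff, ha]
    have hv' : g * v * g⁻¹ = v := hinj _ (hc v hv) _ hv a (by rw [mul_smul, mul_smul, hga, hb])
    let φ : N → N := fun x => ⟨x * (g * x * g⁻¹)⁻¹, mul_mem x.2 (inv_mem (hc x x.2))⟩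
    have hφ : ¬ Function.Surjective φ := fun hs => by
      have := Finite.injective_iff_surjective.2 hs (a₁ := ⟨v, hv⟩) (a₂ := 1) (Subtype.ext (by simp [φ, hv']))
      exact hne (by rw [show v = 1 from congrArg Subtype.val this, one_smul])
    obtain ⟨w, hw⟩ := not_forall.1 hφ
    have hw' : ∀ u : Ω, ((w : G) * g) • u ≠ u := fun u e => by
      obtain ⟨x, hx, rfl⟩ := ht a u
      refine hw ⟨⟨x, hx⟩, Subtype.ext ?_⟩
      have := hinj _ (mul_mem w.2 (hc x hx)) _ hx a (by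
        rw [← e]; simp only [mul_smul, hga])
      exact mul_inv_eq_iff_eq_mul.2 this.symm
    obtain ⟨k, e⟩ := h v _ (hd v hv fun e => hne (by simp [e])) hw'
    have : (w : G) * g ∈ N := e ▸ conj_mem (hN.nrm (mem_top k)) hv
    exact hd g ((mul_mem_cancel_left w.2).1 this) hg a ha

theorem one_class_of_sharp [Finite Ω] [Nonempty Ω] (h2 : IsMultiplyPretransitive G Ω 2)
    (hs : ∀ g : G, g ≠ 1 → ∀ a b : Ω, a ≠ b → g • a = a → g • b ≠ b) (x y : G) (hx : ∀ w : Ω, x • w ≠ w)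
    (hy : ∀ w : Ω, y • w ≠ w) : ∃ g, y = g * x * g⁻¹ := by
  classical
  obtain ⟨a⟩ := ‹Nonempty Ω›
  have ht : ∀ {a b c d : Ω}, a ≠ b → c ≠ d → ∃ g : G, g • a = c ∧ g • b = d := is_two_pretransitive_iff.1 h2
  obtain ⟨g, e1, e2⟩ := ht (hx a).symm (hy a).symm
  refine ⟨g, by_contra fun hne => ?_⟩
  have hd : ∀ w : Ω, (g * x * g⁻¹) • w ≠ w := fun w e => hx (g⁻¹ • w) (by
    rw [mul_smul, mul_smul] at e; exact eq_inv_smul_iff.2 e)
  have hda : (g * x * g⁻¹) • a = y • a := by rw [mul_smul, mul_smul, inv_smul_eq_iff.2 e1.symm, e2]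
  generalize g * x * g⁻¹ = d at hne hd hda
  set b := y • a with hb
  have hab : a ≠ b := (hy a).symm
  have : ∀ c : Ω, ∃ f : G, f • a = b ∧ (c = a → f = y) ∧ (c = b → f = d) ∧ (c ≠ a → c ≠ b → f • c = c) := fun c => by
    by_cases h1 : c = a
    · exact ⟨y, rfl, fun _ => rfl, fun h => absurd (h1.symm.trans h) hab, fun h => absurd h1 h⟩
    by_cases h2 : c = b
    · exact ⟨d, hda, fun h => absurd h h1, fun _ => rfl, fun _ h => absurd h2 h⟩
    obtain ⟨f, f1, f2⟩ := ht (Ne.symm h1) (Ne.symm h2)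
    exact ⟨f, f1, fun h => absurd h h1, fun h => absurd h h2, fun _ _ => f2⟩
  choose f f1 f2 f3 f4 using this
  have hder : ∀ c, c = a ∨ c = b → ∀ w : Ω, f c • w ≠ w := fun c hc => hc.elim (fun h => f2 c h ▸ hy)
    fun h => f3 c h ▸ hd
  have hinj : Function.Injective fun c => f c • b := fun c c' e => by
    have e' : f c = f c' := (inv_mul_eq_one.1 (by_contra fun h => hs _ h a b hab
      (by rw [mul_smul, f1, inv_smul_eq_iff, f1]) (by rw [mul_smul, inv_smul_eq_iff]; exact e))).symm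
    by_contra hcc
    by_cases hc : c = a ∨ c = b
    · by_cases hc' : c' = a ∨ c' = b
      · rcases hc with rfl | rfl <;> rcases hc' with h | h
        · exact hcc h.symm
        · exact hne ((f2 _ rfl).symm.trans (e'.trans (f3 _ h)))
        · exact hne ((f2 _ h).symm.trans (e'.symm.trans (f3 _ rfl)))
        · exact hcc h.symm
      · push Not at hc'
        exact hder c hc c' (e' ▸ f4 c' hc'.1 hc'.2)
    · push Not at hc
      by_cases hc' : c' = a ∨ c' = b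
      · exact hder c' hc' c (e' ▸ f4 c hc.1 hc.2)
      · push Not at hc'
        exact hs (f c) (fun h => hab (by rw [← f1 c, h, one_smul])) c c' hcc (f4 c hc.1 hc.2)
          (e' ▸ f4 c' hc'.1 hc'.2)
  obtain ⟨c, hc⟩ := Finite.injective_iff_surjective.1 hinj b
  exact hab (smul_left_cancel (f c) ((f1 c).trans hc.symm))

theorem main [Finite Ω] [Nontrivial Ω] [IsPreprimitive G Ω]
    (hnas : ¬ ∃ T : Subgroup G, T.Normal ∧ IsSimpleGroup T ∧ ¬ IsMulCommutative T ∧ centralizer (T : Set G) = ⊥) :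
    Nat.card {c : ConjClasses G // ∃ g : G, ConjClasses.mk g = c ∧ ∀ ω : Ω, g • ω ≠ ω} = 1 ↔
      (IsMultiplyPretransitive G Ω 2 ∧ ∀ g : G, g ≠ 1 → ∀ a b : Ω, a ≠ b → g • a = a → g • b ≠ b) := by
  rw [Nat.card_eq_one_iff_unique]
  constructor
  · rintro ⟨h, -⟩
    refine sharp_of_one_class hnas fun x y hx hy => ?_
    have := congrArg Subtype.val (h.elim ⟨_, x, rfl, hx⟩ ⟨_, y, rfl, hy⟩)
    obtain ⟨g, hg⟩ := isConj_iff.1 (ConjClasses.mk_eq_mk_iff_isConj.1 this)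
    exact ⟨g, hg.symm⟩
  · rintro ⟨h2, hs⟩
    refine ⟨⟨?_⟩, ?_⟩
    · rintro ⟨_, x, rfl, hx⟩ ⟨_, y, rfl, hy⟩
      obtain ⟨g, hg⟩ := one_class_of_sharp h2 hs x y hx hy
      exact Subtype.ext (ConjClasses.mk_eq_mk_iff_isConj.2 (isConj_iff.2 ⟨g, hg.symm⟩))
    · obtain ⟨x, hx⟩ := H16.exists_derangement (G := G) (α := Ω)
      exact ⟨⟨_, x, rfl, hx⟩⟩

end Cfsg.Agent.H9.Der
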