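import Mathlib
import Cfsg.Agent.FT.BG01

/-! Solvable groups whose `p`-subgroups of equal order are conjugate. -/

set_option autoImplicit false
set_option linter.unusedSectionVars false
set_option linter.style.haveILetI false

namespace Cfsg.Agent.H9.EqC

open Cfsg Subgroup Cfsg.Agent.FT
open scoped commutatorElement

universe u

variable {G : Type u} [Group G] [Finite G] {p q n : ℕ} {π : Set ℕ} {M N F H K A B P : Subgroup G}

/-- subgroups of `M` of equal order are conjugate in `M` -/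
def CC (M : Subgroup G) : Prop := ∀ A B : Subgroup G, A ≤ M → B ≤ M → #A = #B → ∃ g ∈ M, B = cj g A
/-- `p`-subgroups of `M` of equal order are conjugate in `M` -/
def DC (p : ℕ) (M : Subgroup G) : Prop :=
  ∀ A B : Subgroup G, A ≤ M → B ≤ M → PGrp p A → PGrp p B → #A = #B → ∃ g ∈ M, B = cj g A
/-- subgroups of `M` of order `n` are conjugate in `M` -/
def OC (n : ℕ) (M : Subgroup G) : Prop :=
  ∀ A B : Subgroup G, A ≤ M → B ≤ M → #A = n → #B = n → ∃ g ∈ M, B = cj g A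

theorem DC.oc (h : DC p M) (hp : p.Prime) (k : ℕ) : OC (p ^ k) M := fun A B hA hB e1 e2 =>
  h A B hA hB (pGrp_of_card hp e1) (pGrp_of_card hp e2) (e1.trans e2.symm)

theorem OC.le (h : OC n M) (hN : M ≤ N(N)) (hA : A ≤ N) (hAM : A ≤ M) (eA : #A = n) (hB : B ≤ M) (eB : #B = n) :
    B ≤ N := by
  obtain ⟨g, hg, rfl⟩ := h A B hAM hB eA eB
  exact cj_le_of_nrm (hN hg) hA

theorem OC.le' (h : OC (p ^ n) M) (hp : p.Prime) (hN : N ⊴ M) (hd : p ^ n ∣ #N) (hB : B ≤ M) (eB : #B = p ^ n) :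
    B ≤ N := by
  obtain ⟨A, hA, eA⟩ := exists_card_pow_le hp hd
  exact h.le hN.nrm hA (hA.trans hN.le) eA hB eB

/-- a normal elementary abelian subgroup of order at least `p ^ 2` is Sylow -/
theorem OC.syl (h : OC (p ^ 2) M) (hp : p.Prime) (hN : N ⊴ M) (hE : Abelem p N) (hd : p ^ 2 ∣ #N) : Syl p N M := by
  refine syl_of_max (hE.pGrp hp) hN.le fun Q hQ h1 h2 => ?_
  by_contra hne
  have hlt : N < Q := lt_of_le_of_ne h1 (Ne.symm hne)
  obtain ⟨k, hk⟩ := hE.card hp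
  obtain ⟨R, hR1, hR2, hR⟩ := hQ.exists_between (n := k + 1) hp h1
    (hk ▸ Nat.pow_le_pow_right hp.pos (by omega)) (by rw [pow_succ', ← hk]; exact hQ.mul_card_le hlt)
  have hlt' : N < R := lt_of_card_lt hR1 (by rw [hk, hR]; exact Nat.pow_lt_pow_right hp.one_lt (by omega))
  obtain ⟨x, hx, hx'⟩ := SetLike.exists_of_lt hlt'
  have hi : N.relIndex R = p := by
    have := card_mul_relIndex hR1
    rw [hk, hR, pow_succ] at this
    exact Nat.eq_of_mul_eq_mul_left (pow_pos hp.pos k) this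
  have hxp : x ^ p ∈ N := hi ▸ pow_relIndex_mem ((hR2.trans h2).trans hN.nrm) hx
  have ho : orderOf x ∣ p ^ 2 := orderOf_dvd_of_pow_eq_one (by rw [pow_two, pow_mul]; exact hE.pow hxp)
  obtain ⟨T, hT1, hT2, hT⟩ := hQ.exists_between (n := 2) hp (zpowers_le.2 (hR2 hx))
    (by rw [card_zpowers']; exact Nat.le_of_dvd (pow_pos hp.pos 2) ho)
    ((Nat.le_of_dvd (card_pos N) hd).trans (card_le h1))
  exact hx' (h.le' hp hN hd (hT2.trans h2) hT (hT1 (mem_zpowers x)))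

theorem dc_of_cyc (h : ∀ P, Syl p P M → Cyc P) : DC p M := fun A B hA hB hpA hpB e => by
  obtain ⟨P, hP, hBP⟩ := hpB.exists_syl hB
  obtain ⟨g, hg, hAP⟩ := hP.syl_Jsub hpA hA
  exact ⟨g, hg, (h P hP).eq_of_card_eq hBP hAP (by rw [card_cj, e])⟩

/-- lifting a conjugacy from the quotient -/
theorem exists_cj_sup (hN : N ⊴ M) (hH : H ≤ M) (hK : K ≤ M) (h : ∃ u ∈ M /ₛ N, K /ₛ N = cj u (H /ₛ N)) :
    ∃ g ∈ M, N ⊔ K = N ⊔ cj g H := by
  obtain ⟨u, hu, e⟩ := h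
  obtain ⟨g, hg, hgN, rfl⟩ := mem_quo.1 hu
  refine ⟨g, hg, ?_⟩
  rw [← quo_cj hgN] at e
  rw [← qpre_quo (hK.trans hN.nrm), e, qpre_quo ((cj_le_of_mem hg hH).trans hN.nrm)]

/-- a subgroup of the quotient lifts to a Hall subgroup of its preimage -/
theorem exists_lift (hN : N ⊴ M) (hπ : PiGrp π N) {U : Subgroup (Quo N)} (hU : U ≤ M /ₛ N) (hU' : PiGrp πᶜ U) :
    ∃ A, A ≤ M ∧ A /ₛ N = U ∧ #A = #U ∧ N ⊓ A = ⊥ := by
  have h1 : Hall π N qpre(N, U) := hall_of_quo_pi' (nml_qpre U) hπ (by rwa [quo_qpre])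
  obtain ⟨A, -, hA⟩ := h1.exists_compl (qpre_le U)
  refine ⟨A, hA.right.trans (qpre_le_of_le_quo hN.le hU), by rw [← hA.quo_eq, quo_qpre], ?_, hA.inf⟩
  rw [← hA.card_quo, quo_qpre]

theorem DC.quo (h : DC q M) (hN : N ⊴ M) (hp : PGrp p N) : DC q (M /ₛ N) := fun U V hU hV hqU hqV e => by
  by_cases hpq : q = p
  · subst hpq
    obtain ⟨g, hg, e'⟩ := h _ _ (qpre_le_of_le_quo hN.le hU) (qpre_le_of_le_quo hN.le hV) (hqU.qpre hp)
      (hqV.qpre hp) (by rw [card_qpre, card_qpre, e])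
    exact ⟨_, mem_quo_of_mem (hN.nrm hg) hg, qpre_inj.1 (by rw [e', qpre_cj (hN.nrm hg)])⟩
  · obtain ⟨A, hA, rfl, eA, -⟩ := exists_lift hN hp hU (hqU.p' hpq)
    obtain ⟨B, hB, rfl, eB, -⟩ := exists_lift hN hp hV (hqV.p' hpq)
    obtain ⟨g, hg, rfl⟩ := h A B hA hB (by unfold PGrp PiGrp; rw [eA]; exact hqU)
      (by unfold PGrp PiGrp; rw [eB]; exact hqV) (by rw [eA, eB, e])
    exact ⟨_, mem_quo_of_mem (hN.nrm hg) hg, quo_cj (hN.nrm hg) A⟩

theorem cyc_syl_quo (h : ∀ P, Syl p P M → Cyc P) (hN : M ≤ N(N)) : ∀ P, Syl p P (M /ₛ N) → Cyc P := fun U hU => by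
  obtain ⟨P, hP⟩ := exists_syl p M
  obtain ⟨g, -, rfl⟩ := (hP.quo hN).syl_trans hU
  exact ((h P hP).quo N).cj g

/-- the case of a normal subgroup of prime order -/
theorem cc_of_prime (hs : Sol M) (hp : p.Prime) (hN : N ⊴ M) (hc : #N = p) (ho : OC p M) (h : CC (M /ₛ N)) :
    CC M := fun H K hH hK e => by
  have hpN := pGrp_of_card_prime hp hc
  by_cases hd : p ∣ #H
  · have hle : ∀ H : Subgroup G, H ≤ M → p ∣ #H → N ≤ H := fun H hH hd => by
      obtain ⟨X, hX, eX⟩ := exists_card_prime_le hp hd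
      have := ho.le hN.nrm le_rfl hN.le hc (hX.trans hH) eX
      exact (eq_of_card_eq this (eX.trans hc.symm)) ▸ hX
    have h1 := hle H hH hd
    have h2 := hle K hK (e ▸ hd)
    obtain ⟨g, hg, e'⟩ := exists_cj_sup hN hH hK (h _ _ (quo_mono N hH) (quo_mono N hK) (by
      apply Nat.eq_of_mul_eq_mul_left (card_pos N)
      rw [card_quo_mul (hN.mono h1 hH), card_quo_mul (hN.mono h2 hK), e]))
    refine ⟨g, hg, ?_⟩
    rw [sup_eq_right.2 h2, sup_eq_right.2] at e'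
    · exact e'
    · exact (cj_of_mem_nrm (hN.nrm hg)).symm.le.trans (cj_mono g h1)
  · have h1 : PiGrp {p}ᶜ H := p'grp_of_not_dvd hd
    have h2 : PiGrp {p}ᶜ K := p'grp_of_not_dvd (e ▸ hd)
    obtain ⟨g, hg, e'⟩ := exists_cj_sup hN hH hK (h _ _ (quo_mono N hH) (quo_mono N hK) (by
      rw [card_quo_of_cop (hH.trans hN.nrm) (hpN.cop h1), card_quo_of_cop (hK.trans hN.nrm) (hpN.cop h2), e]))
    have s1 : SD N (cj g H) (N ⊔ K) :=
      e' ▸ sd_sup ((cj_le_of_mem hg hH).trans hN.nrm) (hpN.inf_eq_bot (h1.cj g))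
    obtain ⟨k, hk, rfl⟩ := SchurZassenhaus_trans s1 (sd_sup (hK.trans hN.nrm) (hpN.inf_eq_bot h2)) (hpN.cop h2)
      (Or.inl hpN.sol)
    exact ⟨k * g, mul_mem (hN.le hk) hg, cj_cj _ _ _⟩

/-- conjugation of subgroups of an abelian normal subgroup is induced by a supplement -/
theorem exists_cj_of_mulEq {X U : Subgroup G} {g : G} (h : MulEq F X M) (hF : Ab F) (hn : X ≤ N(F)) (hU : U ≤ F)
    (hg : g ∈ M) : ∃ x ∈ X, cj g U = cj x U := by
  obtain ⟨f, hf, x, hx, rfl⟩ := h.mul g hg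
  refine ⟨x, hx, ?_⟩
  rw [← cj_cj, cj_of_mem_nrm (hF.norms (cj_le_of_nrm (hn hx) hU) hf)]

/-- the case of an abelian normal Hall subgroup -/
theorem cc_of_hall (hs : Sol M) (hF : Hall π F M) (hn : M ≤ N(F)) (hab : Ab F)
    (hU : ∀ U V, U ≤ F → V ≤ F → #U = #V → ∃ g ∈ M, V = cj g U)
    (hL : ∀ X V, Hall πᶜ X M → V ≤ F → CC (X ⊓ N(V))) : CC M := fun H K hH hK e => by
  have dec : ∀ H : Subgroup G, H ≤ M → ∃ X, Hall πᶜ X H ∧ SD (F ⊓ H) X H := fun H hH =>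
    (hF.inf_of_nml hn hH).exists_compl (normsI (hH.trans hn) (le_nrm H))
  obtain ⟨Y, hY, sY⟩ := dec K hK
  obtain ⟨X, hX, hYX⟩ := Hall_superset hs (hY.le.trans hK) hY.pi
  obtain ⟨X0, hX0, sX0⟩ := dec H hH
  obtain ⟨a, ha, haX⟩ := Hall_Jsub hs hX (hX0.le.trans hH) hX0.pi
  have e1 : #(F ⊓ H) = #(F ⊓ K) := by rw [(hF.inf_of_nml hn hH).card, (hF.inf_of_nml hn hK).card, e]
  have e2 : #X0 = #Y := by rw [hX0.card, hY.card, e]
  have hle : cj a (F ⊓ H) ≤ F := cj_le_of_nrm (hn ha) inf_le_left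
  obtain ⟨g, hg, e3⟩ := hU _ _ hle inf_le_left ((card_cj a _).trans e1)
  obtain ⟨x, hx, e4⟩ := exists_cj_of_mulEq (hF.mulEq hX) hab (hX.le.trans hn) hle hg
  rw [e4] at e3
  obtain ⟨c, hc, e5⟩ := hL X (F ⊓ K) hX inf_le_left (cj x (cj a X0)) Y
    (le_inf (cj_le_of_mem hx haX) (by rw [e3, cj_norms, cj_norms]; exact sX0.nrm)) (le_inf hYX sY.nrm)
    (by rw [card_cj, card_cj, e2])
  refine ⟨c * (x * a), mul_mem (hX.le hc.1) (mul_mem (hX.le hx) ha), ?_⟩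
  rw [← cj_cj, ← cj_cj]
  conv_rhs => rw [← sX0.sup, cj_sup, cj_sup, cj_sup, ← e3, ← e5, cj_of_mem_nrm hc.2]
  exact sY.sup.symm

theorem cc_bot : CC (⊥ : Subgroup G) := fun A B hA hB _ =>
  ⟨1, one_mem _, by rw [le_bot_iff.1 hA, le_bot_iff.1 hB, cj_bot]⟩

theorem cc_of_dc (n : ℕ) : ∀ {G : Type u} [Group G] [Finite G] (M : Subgroup G) (r : ℕ), #M = n → Sol M →
    (∀ p, p.Prime → DC p M) → (∀ p, p.Prime → p ≠ r → ∀ P, Syl p P M → Cyc P) → CC M := by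
  induction n using Nat.strong_induction_on with
  | _ n ih =>
  intro G _ _ M r hn hs hD hc
  by_cases h1 : M = ⊥
  · exact h1 ▸ cc_bot
  obtain ⟨N, hNM, hN⟩ := exists_minNml h1 (le_nrm M)
  have hNn : N ⊴ M := ⟨hNM, hN.nrm⟩
  obtain ⟨p, hp, hE⟩ := hN.abelem (hs.mono hNM)
  by_cases hcy : Cyc N
  · refine cc_of_prime hs hp hNn (hE.card_of_cyc hp hcy hN.ne) (by simpa using (hD p hp).oc hp 1) ?_
    exact ih _ (hn ▸ card_quo_lt hNn hN.ne) _ r rfl (hs.quo N) (fun q hq => (hD q hq).quo hNn (hE.pGrp hp))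
      fun q hq hr => cyc_syl_quo (hc q hq hr) hN.nrm
  · have hS : Syl p N M := ((hD p hp).oc hp 2).syl hp hNn hE (hE.sq_dvd_card hp hcy)
    have hr : p = r := by_contra fun h => hcy (hc p hp h N hS)
    subst hr
    refine cc_of_hall hs hS hN.nrm hE.ab (fun U V hU hV e => hD p hp U V (hU.trans hNM) (hV.trans hNM)
      (hS.pi.mono hU) (hS.pi.mono hV) e) fun X V hX _ => ?_
    have hz : ∀ q, q.Prime → ∀ P, Syl q P (X ⊓ N(V)) → Cyc P := fun q hq P hP => by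
      by_cases hqp : q = p
      · subst hqp
        rw [hP.pi.eq_bot (hX.pi.mono (hP.le.trans inf_le_left))]; exact cyc_bot
      · obtain ⟨Q, hQ, hPQ⟩ := hP.pi.exists_syl (hP.le.trans (inf_le_left.trans hX.le))
        exact (hc q hq hqp Q hQ).mono hPQ
    refine ih _ ?_ _ p rfl (hs.mono (inf_le_left.trans hX.le)) (fun q hq => dc_of_cyc (hz q hq))
      fun q hq _ => hz q hq
    refine hn ▸ card_lt (lt_of_le_of_ne (inf_le_left.trans hX.le) fun e => hN.ne ?_)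
    exact hS.pi.eq_bot (hX.pi.mono (hNM.trans (e.ge.trans inf_le_left)))

theorem s4022 [hs : Group.IsSolvable G] (hD : ∀ p : ℕ, p.Prime → ∀ H K : Subgroup G, IsPGroup p H → IsPGroup p K →
      Nat.card H = Nat.card K → ∃ g : G, K = H.map (MulAut.conj g).toMonoidHom) (r : ℕ)
    (hcyc : ∀ p : ℕ, p.Prime → p ≠ r → ∀ P : Sylow p G, IsCyclic P) (H K : Subgroup G)
    (e : Nat.card H = Nat.card K) : ∃ g : G, K = H.map (MulAut.conj g).toMonoidHom := by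
  have := cc_of_dc _ (⊤ : Subgroup G) r rfl inferInstance (fun p hp A B _ _ hA hB e => by
    obtain ⟨g, hg⟩ := hD p hp A B hA.isPGroup hB.isPGroup e
    exact ⟨g, mem_top g, hg⟩) (fun p hp hr P hP => by
      obtain ⟨T, rfl⟩ := (syl_top_iff hp).1 hP
      exact hcyc p hp hr T)
  obtain ⟨g, -, hg⟩ := this H K le_top le_top e
  exact ⟨g, hg⟩

end Cfsg.Agent.H9.EqC
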