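import Mathlib
import Cfsg.Agent.H7.Deg2
import Cfsg.Agent.FT.Elem

/-!
Dade: solvable groups embed in `M`-groups.
-/

set_option autoImplicit false
set_option linter.unusedSectionVars false
set_option linter.unusedVariables false

namespace Cfsg.Agent.H9.Ez

open Cfsg Subgroup Cfsg.Agent.H7
open scoped ComplexConjugate

universe u

section pi
variable {ι : Type*} [Fintype ι] [DecidableEq ι] {H : ι → Type*} [∀ i, Group (H i)] [∀ i, Finite (H i)]

theorem ip_pi (φ ψ : ∀ i, H i → ℂ) :
    ip (fun x : ∀ i, H i => ∏ i, φ i (x i)) (fun x => ∏ i, ψ i (x i)) = ∏ i, ip (φ i) (ψ i) := by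
  letI : ∀ i, Fintype (H i) := fun i => Fintype.ofFinite _
  simp only [ip_def, Finset.prod_mul_distrib, Nat.card_pi, map_prod, ← Finset.prod_mul_distrib]
  rw [Finset.prod_mul_distrib, Finset.prod_univ_sum, Fintype.piFinset_univ]
  simp

theorem char_pi {φ : ∀ i, H i → ℂ} (h : ∀ i, IsCharacter (H i) (φ i)) :
    IsCharacter (∀ i, H i) fun x => ∏ i, φ i (x i) := by
  have : (fun x : ∀ i, H i => ∏ i, φ i (x i)) = ∏ i, fun x : ∀ i, H i => φ i (x i) := by
    funext x; simp
  rw [this]
  exact Finset.prod_induction _ _ (fun _ _ => char_mul) char_one fun i _ => char_comp (Pi.evalMonoidHom H i) (h i)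

theorem irr_pi {φ : ∀ i, H i → ℂ} (h : ∀ i, IsIrrCharacter (H i) (φ i)) :
    IsIrrCharacter (∀ i, H i) fun x => ∏ i, φ i (x i) :=
  irr_of_ip_one (char_pi fun i => irr_char (h i)) (by simp [ip_pi, fun i => ip_irr_self (h i)])

theorem exists_pi {Θ : (∀ i, H i) → ℂ} (hΘ : IsIrrCharacter _ Θ) :
    ∃ φ : ∀ i, H i → ℂ, (∀ i, IsIrrCharacter (H i) (φ i)) ∧ Θ = fun x => ∏ i, φ i (x i) := by
  classical
  letI : ∀ i, Fintype (H i) := fun i => Fintype.ofFinite _
  by_contra! h
  have h1 : (fun g : ∀ i, H i => if g = 1 then (Nat.card (∀ i, H i) : ℂ) else 0) =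
      ∑ φ ∈ Fintype.piFinset fun i => irrSet (H i), (∏ i, φ i 1) • fun x => ∏ i, φ i (x i) := by
    funext x
    simp only [Finset.sum_apply, Pi.smul_apply, smul_eq_mul, ← Finset.prod_mul_distrib]
    rw [← Finset.prod_univ_sum (fun i => irrSet (H i)) fun i φ => φ 1 * φ (x i)]
    have := fun i => congrFun (reg_expand (H i)) (x i)
    simp only [Finset.sum_apply, Pi.smul_apply, smul_eq_mul] at this
    simp only [← this, Finset.prod_ite_zero, Finset.mem_univ, true_imp_iff, Nat.card_pi, Nat.cast_prod, funext_iff,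
      Pi.one_apply]
  have h2 := congrArg (ip · Θ) h1
  simp only [ip_sum_left, ip_smul_left] at h2
  rw [Finset.sum_eq_zero fun φ hφ => mul_eq_zero_of_right _ (ip_irr_ne
    (irr_pi fun i => mem_irrSet.1 (Fintype.mem_piFinset.1 hφ i)) hΘ
    (h φ fun i => mem_irrSet.1 (Fintype.mem_piFinset.1 hφ i)).symm), ip_def] at h2
  simp only [ite_mul, zero_mul, Finset.sum_ite_eq', Finset.mem_univ, if_true,
    inv_mul_cancel_left₀ (card_ne_zero' _), map_eq_zero] at h2
  exact irr_one_ne_zero hΘ h2

/-- the product of inclusions -/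
def piInc (U : ∀ i, Subgroup (H i)) : (∀ i, U i) →* ∀ i, H i :=
  Pi.monoidHom fun i => (U i).subtype.comp (Pi.evalMonoidHom _ i)

theorem piInc_inj (U : ∀ i, Subgroup (H i)) : Function.Injective (piInc U) := fun a b e =>
  funext fun i => Subtype.ext (congrFun e i)

theorem piInc_index (U : ∀ i, Subgroup (H i)) : (piInc U).range.index = ∏ i, (U i).index := by
  have := card_mul_index_range (piInc_inj U)
  rw [Nat.card_pi, Nat.card_pi, ← Finset.prod_congr rfl fun i _ => (U i).card_mul_index, Finset.prod_mul_distrib,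
    mul_right_inj' (Finset.prod_ne_zero_iff.2 fun i _ => Nat.card_pos.ne')] at this
  exact this

theorem ind_pi (U : ∀ i, Subgroup (H i)) {l : ∀ i, U i → ℂ} (hl : ∀ i, IsCharacter _ (l i))
    (h : ∀ i, IsIrrCharacter _ (ind (U i).subtype (l i))) :
    ind (piInc U) (fun x => ∏ i, l i (x i)) = fun x => ∏ i, ind (U i).subtype (l i) (x i) := by
  refine eq_irr_of_degree_eq (char_ind _ (char_pi hl)) (irr_pi h) ?_ ?_
  · rw [ip_ind_left _ _ (irr_cf (irr_pi h))]
    refine (ip_pi l fun i x => ind (U i).subtype (l i) ((U i).subtype x)).trans_ne (Finset.prod_ne_zero_iff.2 fun i _ => ?_)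
    rw [← ip_ind_left _ _ (irr_cf (h i)), ip_irr_self (h i)]
    exact one_ne_zero
  · simp [ind_apply_one (piInc_inj U), ind_apply_one (subtype_injective _), piInc_index, Finset.prod_mul_distrib]

end pi

section wr
variable {H K Q : Type u} [Group H] [Group K] [Group Q] [Finite H] [Finite K] [Finite Q]

/-- the base group -/
def wBase (H Q : Type u) [Group H] [Group Q] : (Q → H) →* H ≀ᵣ Q where
  toFun f := ⟨f, 1⟩
  map_one' := rfl
  map_mul' a b := by ext <;> simp

theorem ker_right : (RegularWreathProduct.rightHom : H ≀ᵣ Q →* Q).ker = (wBase H Q).range := by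
  ext ⟨a, b⟩
  exact ⟨fun h => ⟨a, by rw [show b = 1 from h]; rfl⟩, fun ⟨c, h⟩ => (congrArg RegularWreathProduct.right h).symm⟩

theorem right_surj : Function.Surjective (RegularWreathProduct.rightHom : H ≀ᵣ Q →* Q) := fun q => ⟨⟨1, q⟩, rfl⟩

theorem isNE_wBase : IsNE (wBase H Q) :=
  ⟨fun a b e => congrArg RegularWreathProduct.left e, ker_right (H := H) (Q := Q) ▸ inferInstance⟩

/-- functoriality -/
def wMap (f : K →* H) (Q : Type u) [Group Q] : K ≀ᵣ Q →* H ≀ᵣ Q where
  toFun w := ⟨fun q => f (w.left q), w.right⟩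
  map_one' := by ext <;> simp
  map_mul' a b := by ext <;> simp

theorem wMap_inj {f : K →* H} (hf : Function.Injective f) : Function.Injective (wMap f Q) := fun a b e =>
  RegularWreathProduct.ext (funext fun q => hf (congrFun (congrArg RegularWreathProduct.left e) q))
    (congrArg RegularWreathProduct.right e :)

/-- extension of a power of a linear character -/
noncomputable def wLin [Fintype Q] (l : K →* ℂˣ) : K ≀ᵣ Q →* ℂˣ where
  toFun w := ∏ q, l (w.left q)
  map_one' := by simp
  map_mul' a b := by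
    simp only [RegularWreathProduct.mul_left, Pi.mul_apply, map_mul, Finset.prod_mul_distrib]
    congr 1
    exact Equiv.prod_comp (Equiv.mulLeft a.right⁻¹) fun q => l (b.left q)

theorem wr_monomial (hQ : (Nat.card Q).Prime) (hH : ∀ χ, IsIrrCharacter H χ → IsMonomial χ)
    {χ : H ≀ᵣ Q → ℂ} (hχ : IsIrrCharacter _ χ) : IsMonomial χ := by
  classical
  letI : Fintype Q := Fintype.ofFinite _
  have hf := isNE_wBase (H := H) (Q := Q)
  obtain ⟨Θ, hΘ, h1⟩ := exists_irr_under (wBase H Q) hχ
  obtain ⟨θ, hθ, e⟩ := exists_pi hΘ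
  by_cases hi : hf.inertia Θ = ⊤
  · have h2 : ∀ q, θ q = θ 1 := fun q => by
      have h3 : hf.cjf ⟨1, q⟩ Θ = fun x => ∏ i, θ (q * i) (x i) := funext fun x => by
        rw [hf.cjf_apply, hf.cj_eq (m := fun i => x (q⁻¹ * i)) (by ext <;> simp [wBase]), e]
        exact (Equiv.prod_comp (Equiv.mulLeft q) fun i => θ i (x (q⁻¹ * i))).symm.trans (by simp)
      have h4 := ip_irr_self hΘ
      nth_rw 1 [← hf.mem_inertia.1 (hi.ge (mem_top ⟨1, q⟩))] at h4
      rw [h3, e, ip_pi] at h4
      have := Finset.prod_ne_zero_iff.1 (h4.trans_ne one_ne_zero) 1 (Finset.mem_univ _)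
      rw [mul_one] at this
      exact irr_eq_of_ip_ne_zero (hθ q) (hθ 1) this
    obtain ⟨U, l, hl⟩ := hH _ (hθ 1)
    have h3 := ind_pi (fun _ : Q => U) (l := fun _ x => l x) (fun _ => char_of_hom l) fun _ => hl ▸ hθ 1
    simp only [← hl] at h3
    simp only [h2] at e
    rw [← e] at h3
    obtain ⟨ψ, hψ, h4, h5⟩ := exists_irr_between (wMap U.subtype Q) (wBase U Q) (irr_char hχ)
      (θ := fun x => ∏ i, (l (x i) : ℂ)) (by
        rw [← h3, ip_ind_right _ _ (cf_comp _ (irr_cf hχ))] at h1
        exact h1)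
    have h6 : (fun n => linFun (wLin l) (wBase U Q n)) = fun x => ∏ i, (l (x i) : ℂ) := by
      funext x; simp [linFun_apply, wLin, wBase]
    obtain ⟨β, hβ, h7⟩ := isNE_wBase.gallagher_surj right_surj ker_right (char_linFun (wLin l))
      (h6 ▸ irr_pi fun _ => irr_of_hom l) hψ (h6 ▸ h5)
    haveI := Fact.mk hQ
    have h8 : ψ 1 = 1 := by
      rw [h7, Pi.mul_apply, map_one, linFun_one_apply, mul_one]
      exact irr_one_eq_one_of_comm (isCyclic_of_prime_card rfl).commGroup.mul_comm hβ
    have h9 := wMap_inj (Q := Q) U.subtype_injective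
    rw [← ip_ind_right _ _ (irr_cf hχ), ip_ne_zero_comm] at h4
    have h10 : charDegree (ind (wMap U.subtype Q) ψ) = charDegree Θ := by
      rw [deg_ind h9 (irr_char hψ), ← h3, deg_ind (piInc_inj _) (char_pi fun _ => char_of_hom l), charDegree_eq (d := 1) (by simpa),
        charDegree_eq (d := 1) (by simp), piInc_index, Finset.prod_const, Finset.card_univ, ← Nat.card_eq_fintype_card]
      congr 1
      have := card_mul_index_range h9
      rw [RegularWreathProduct.card, RegularWreathProduct.card, ← U.card_mul_index, mul_pow, mul_right_comm,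
        mul_left_inj' Nat.card_pos.ne', mul_right_inj' (pow_ne_zero _ Nat.card_pos.ne')] at this
      exact this
    rw [← eq_irr_of_degree_eq (char_ind _ (irr_char hψ)) hχ h4 (by
      rw [char_one_eq (char_ind _ (irr_char hψ)), char_one_eq (irr_char hχ), Nat.cast_inj]
      exact le_antisymm (h10 ▸ deg_le_of_under _ (irr_char hχ) hΘ h1) (deg_le_of_ip (char_ind _ (irr_char hψ)) hχ h4))]
    exact (isMonomial_of_linear (irr_char hψ) h8).ind h9
  · have h2 : hf.inertia Θ = (wBase H Q).range := by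
      have h3 := hf.range_le_inertia (irr_cf hΘ)
      have h4 := index_dvd_of_le h3
      rw [index_range_eq_card right_surj ker_right] at h4
      refine (eq_of_le_of_index_le h3 (le_of_eq ?_)).symm
      rw [index_range_eq_card right_surj ker_right]
      exact ((hQ.eq_one_or_self_of_dvd _ h4).resolve_left (mt index_eq_one.1 hi)).symm
    rw [← ip_ind_right _ _ (irr_cf hχ)] at h1
    rw [irr_eq_of_ip_ne_zero hχ ((hf.irr_ind_iff hΘ).2 h2) h1]
    refine IsMonomial.ind hf.inj ?_
    choose U l hl using fun i => hH _ (hθ i)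
    have h3 := ind_pi U (l := fun i x => l i x) (fun i => char_of_hom _) fun i => hl i ▸ hθ i
    simp only [← hl] at h3
    rw [e, ← h3]
    exact (isMonomial_of_linear (char_pi fun i => char_of_hom _) (by simp)).ind (piInc_inj U)

/-- the Kaloujnine–Krasner embedding -/
noncomputable def kkEmb (N : Subgroup H) [N.Normal] : H →* N ≀ᵣ (H ⧸ N) where
  toFun g := ⟨fun x => ⟨x.out⁻¹ * g * ((g : H ⧸ N)⁻¹ * x).out, (QuotientGroup.eq_one_iff _).1 (by simp)⟩, g⟩
  map_one' := by ext <;> simp
  map_mul' a b := by ext <;> simp [mul_assoc]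

theorem kkEmb_inj (N : Subgroup H) [N.Normal] : Function.Injective (kkEmb N) :=
  (injective_iff_map_eq_one _).2 fun g e => by
    have h1 : (g : H ⧸ N) = 1 := congrArg RegularWreathProduct.right e
    have h2 : (1 : H ⧸ N).out⁻¹ * g * ((g : H ⧸ N)⁻¹ * 1).out = 1 :=
      congrArg Subtype.val (congrFun (congrArg RegularWreathProduct.left e) 1)
    rwa [h1, inv_one, one_mul, mul_eq_one_comm, mul_inv_cancel_left] at h2

end wr

theorem dade_embed (n : ℕ) : ∀ (G : Type u) [Group G] [Finite G], Nat.card G = n → Group.IsSolvable G →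
    ∃ (M : Type u) (_ : Group M) (_ : Finite M), (∀ χ, IsIrrCharacter M χ → IsMonomial χ) ∧
      ∃ f : G →* M, Function.Injective f := by
  induction n using Nat.strong_induction_on with
  | _ n ih =>
  intro G _ _ hn hs
  rcases subsingleton_or_nontrivial G with h | h
  · exact ⟨G, inferInstance, inferInstance, fun χ hχ => isMonomial_of_nilpotent hχ, .id G, Function.injective_id⟩
  obtain ⟨N, hN, hp⟩ := (FT.sol_top.2 hs).exists_prime_factor top_ne_bot
  haveI := FT.nml_top_iff.1 hN
  rw [relIndex_top_right] at hp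
  obtain ⟨M, _, _, h1, f, hf⟩ := ih _ (hn ▸ card_lt_of_ne_top fun e => hp.ne_one (index_eq_one.2 e)) N rfl
    inferInstance
  exact ⟨M ≀ᵣ (G ⧸ N), inferInstance, inferInstance, fun χ hχ => wr_monomial hp h1 hχ,
    (wMap f _).comp (kkEmb N), (wMap_inj hf).comp (kkEmb_inj N)⟩

end Cfsg.Agent.H9.Ez
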