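import Mathlib
import Cfsg.Agent.H9.Har1
import Cfsg.Agent.H9.AS3
import Cfsg.Agent.S4540
import Cfsg.Agent.S0938
import Cfsg.Agent.H20.L2e

/-!
Principal `2`-blocks on which `χ(1) - χ(u)` is constant: the simple groups.
-/

set_option autoImplicit false
set_option linter.unusedSectionVars false
set_option linter.unusedVariables false

namespace Cfsg.Agent.H9

open Cfsg Subgroup Cfsg.Agent.FT Cfsg.Agent.GW Cfsg.Agent.GO
open Cfsg.Agent.H8 (irrOne pPart)
open scoped commutatorElement ComplexConjugate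

universe u

variable {G : Type u} [Group G] [Finite G] {L T V W : Subgroup G} {t u v x : G}

theorem irr_ne_of_simple [IsSimpleGroup G] {χ : IrrCharacter G} (h : χ ≠ irrOne G) (t1 : t ≠ 1) :
    χ.1 t ≠ χ.1 1 := fun e => (H6.charKer_normal (H7.irr_cf χ.2)).eq_bot_or_eq_top.elim
  (fun k => t1 (k.le ((H6.mem_charKer_iff_irr χ.2).2 e)))
  fun k => h (Subtype.ext (H6.irr_eq_one_of_charKer_eq_top χ.2 k))

theorem klein_of_abelem (h : Abelem 2 V) (h4 : #V = 4) : IsKleinFour V :=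
  ⟨h4, (not_isCyclic_iff_exponent_eq_prime Nat.prime_two h4).1 fun c => by
    have := h.card_dvd_of_cyc c
    rw [h4] at this
    norm_num at this⟩

theorem isConj_of_cl (h : OneCl (⊤ : Subgroup G)) (hu : Invo u) (hv : Invo v) : IsConj u v :=
  let ⟨g, _, e⟩ := h u trivial v trivial hu hv; isConj_iff.2 ⟨g, e⟩

/-- the characters of `L₂(2ⁿ)` -/
theorem har_psl {F : Type} [Field F] [Fintype F] {n : ℕ} (n2 : 2 ≤ n) (hn : Fintype.card F = 2 ^ n)
    (e : G ≃* Matrix.ProjectiveSpecialLinearGroup (Fin 2) F) (hu : Invo u) {χ : IrrCharacter G}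
    (hχ : χ ≠ irrOne G) : χ.1 1 - χ.1 u = (2 ^ n : ℕ) := by
  classical
  have := Fact.mk Nat.prime_two
  have := H8.finite_irr (G := G)
  have := Fintype.ofFinite (IrrCharacter G)
  have h0 : 2 ∣ Fintype.card F := hn ▸ dvd_pow_self 2 (by omega)
  have q4 : 4 ≤ 2 ^ n := Nat.pow_le_pow_right two_pos n2
  have : IsSimpleGroup (Matrix.ProjectiveSpecialLinearGroup (Fin 2) F) :=
    H10.isSimpleGroup_PSL_fin le_rfl fun _ => by rwa [Nat.card_eq_fintype_card, hn]
  have := e.isSimpleGroup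
  have hG := H20.card_of_psl h0 e
  have hE := (H20.er_of_psl h0 e).cen
  rw [hn] at hG
  obtain ⟨T, hT, h1⟩ := ((hE u hu).pGrp Nat.prime_two).exists_syl le_top
  have h2 : u ∈ T := h1 (mem_cen1.2 rfl)
  obtain ⟨z, hz, h3⟩ := exists_invo ((hT.pi.mono inf_le_left).dvd (hT.pi.center_ne_bot
    (ne_bot_of_mem h2 hu.ne)))
  have hA := (hE z h3).mono (le_cen1.2 hz.2)
  obtain rfl := h1.antisymm (hA.ab.le_cen1 h2)
  have h4 := H20.card_syl_of_psl (by omega) hn e hT
  have h5 := H8.tyG_cl (gs_ab GO.fs (fun c => by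
    rw [show C[u] = ⊤ from eq_top_iff.2 fun g _ => mem_cen1.2 (c.is_comm.comm _ _), card_top, hG] at h4
    have := Nat.mul_le_mul q4 q4
    have := (Nat.mul_eq_left (by omega)).1 h4
    rw [sq] at this
    omega) hT hA.ab)
  choose d y c d0 c0 _ hd hy hc using exists_dxc (P := C[u]) hu fun v hv v1 =>
    isConj_of_cl h5 (kl_invo hA hv v1) hu
  have a1 := H6.sum_irr_mul_conj_of_isConj (IsConj.refl (1 : G))
  have a2 := H6.sum_irr_mul_conj_of_isConj (IsConj.refl u)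
  have a3 := H6.sum_irr_mul_conj_of_not_isConj (g := 1) (h := u) fun e => hu.ne (isConj_one_right.1 e)
  rw [show C[(1 : G)] = ⊤ from eq_top_iff.2 fun g _ => mem_cen1.2 (by simp), card_top, hG] at a1
  rw [show Nat.card C[u] = _ from h4] at a2 hc
  simp only [hd, hy, Complex.conj_natCast, map_intCast] at a1 a2 a3 hc
  have a4 : ∑ ψ, c ψ ^ 2 = (2 ^ n : ℕ) := by
    have : ((2 ^ n : ℕ) : ℂ) ^ 2 * ∑ ψ, (c ψ : ℂ) ^ 2 = (2 ^ n : ℕ) ^ 2 * (2 ^ n : ℕ) := by
      rw [Finset.mul_sum, Finset.sum_congr rfl (g := fun ψ => (d ψ * d ψ + y ψ * y ψ - 2 * (d ψ * y ψ) : ℂ))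
        fun ψ _ => by rw [← mul_pow, ← hc]; ring, Finset.sum_sub_distrib, Finset.sum_add_distrib,
        ← Finset.mul_sum, a1, a2, a3, Nat.cast_mul, Nat.cast_pred (by positivity)]
      push_cast; ring
    exact_mod_cast mul_left_cancel₀ (pow_ne_zero 2 (Nat.cast_ne_zero.2 (by omega))) this
  have a5 : ∀ ψ ∈ Finset.univ.erase (irrOne G), 1 ≤ c ψ := fun ψ hψ =>
    lt_of_le_of_ne (c0 ψ) fun k => irr_ne_of_simple (Finset.ne_of_mem_erase hψ) hu.ne (by
      rw [hd, hy, eq_comm, ← sub_eq_zero, hc, ← k]; simp)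
  have : CharP F 2 := by
    obtain ⟨q, hq⟩ := CharP.exists F
    obtain ⟨k, h9, h10⟩ := FiniteField.card F q
    rwa [← (Nat.prime_dvd_prime_iff_eq h9 Nat.prime_two).1 (h9.dvd_of_dvd_pow (n := n)
      (hn ▸ h10 ▸ dvd_pow_self q k.ne_zero))]
  have a6 := card_class_psl F
  rw [← H6.card_irr_eq_card_conjClasses, ← Nat.card_congr (irrEquiv e), Nat.card_eq_fintype_card, hn,
    Nat.card_eq_fintype_card] at a6
  have a7 := (Finset.sum_eq_zero_iff_of_nonneg (f := fun ψ => c ψ ^ 2 - 1) fun ψ hψ => by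
    nlinarith [a5 ψ hψ]).1 (le_antisymm (by
      rw [Finset.sum_sub_distrib, Finset.sum_erase_eq_sub (Finset.mem_univ _), a4, Finset.sum_const,
        Finset.card_erase_of_mem (Finset.mem_univ _), Finset.card_univ]
      have := sq_nonneg (c (irrOne G))
      simp only [nsmul_eq_mul, mul_one]
      omega) (Finset.sum_nonneg fun ψ hψ => by nlinarith [a5 ψ hψ])) χ (by simpa using hχ)
  rw [hd, hy, hc, show c χ = 1 by nlinarith [c0 χ]]
  simp

variable {M : Ideal AlgInt} [hMm : M.IsMaximal] [hM : PMod M 2]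

theorem Har.not_tl (h : TL G) (P : Sylow 2 G) (ht : t ∈ (P : Subgroup G)) (t1 : t ≠ 1)
    (hH : Har M t (Nat.card P)) : False := by
  classical
  have := H8.finite_irr (G := G)
  have := Fintype.ofFinite (IrrCharacter G)
  have := h.simple
  have hT := syl_top Nat.prime_two P
  have h4 := h.top.card hT
  obtain ⟨ψ, ε, -, h1, h2, -, h3, h5, h6⟩ := H8.klein_block' hM.out P
    (klein_of_abelem (h.top.el hT) h4) fun a b => isConj_of_cl h.top.cl
  have hR := h.top.rw hT ht t1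
  have h7 : ∀ i, (ψ i).1 1 = 4 + ε i := fun i => by
    rw [← h5 i t (Eq.symm hR.ht).dvd, ← sub_eq_iff_eq_add, hH _ ((h2 _).2 (Or.inr ⟨i, rfl⟩)) (h1 i),
      show Nat.card P = 4 from h4]
    simp
  obtain ⟨i, hi⟩ : ∃ i, ε i = -1 := by
    by_contra! h8
    have := h6 1 not_dvd_orderOf_one
    simp only [h7, fun i => (h3 i).resolve_right (h8 i), Fin.sum_univ_three] at this
    norm_num at this
  obtain ⟨y, hy, h8⟩ := SetLike.not_le_iff_exists.1 (h.top.ne (as_top h.nab) hT ht t1)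
  have h9 := pcore_le _ _ hy
  have ho : Odd (orderOf y) := (odd_core _).of_dvd_nat (orderOf_dvd_card' hy)
  obtain ⟨s, -, hs⟩ := hR.exists_fr
  have := Fact.mk Nat.prime_two
  have k : 2 ∣ orderOf (t * y) := by_contra fun k => t1 ((H8.pPart_mul ⟨1, hR.ht⟩ ho.not_two_dvd_nat
    (mem_cen1.1 h9.2).symm).symm.trans (H8.pPart_eq_one_iff.2 k))
  refine irr_ne_of_simple (h1 i) (fun e : y = 1 => h8 (e ▸ one_mem _)) (three_ker (H7.irr_char (ψ i).2)
    (by rw [h7, hi]; norm_num) hR.ht.sq (mem_cen1.1 h9.2).symm ho (by rw [h5 i t (Eq.symm hR.ht).dvd, hi]; simp)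
    (by rw [h5 i _ k, hi]; simp) ?_)
  rw [← H7.char_inv (H7.irr_char (ψ i).2), ← hR.inverts ⟨trivial, mem_cen1.2 hs.comm.symm⟩
    (hR.not_mem hs) y (hR.mem_odd h9 ho)]
  exact H7.irr_cf (ψ i).2 _ _

theorem tj_arith {ι : Type*} (s : Finset ι) (x : ι → ℤ) (h : ∀ i ∈ s, -1 ≤ x i) (hs : s.card ≤ 7)
    (e : 1 + ∑ i ∈ s, (8 + x i) * x i = 0) : 1 + ∑ i ∈ s, x i * x i = 8 := by
  have h1 : ∀ i ∈ s, x i ≤ 4 := fun i hi => by
    have := Finset.single_le_sum (f := fun i => (8 + x i) * x i + 7) (fun j hj => by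
      nlinarith [h j hj]) hi
    rw [Finset.sum_add_distrib, Finset.sum_const, nsmul_eq_mul] at this
    nlinarith [h i hi]
  have key : ∀ f : ℤ → ℤ, ∑ i ∈ s, f (x i) = ∑ j ∈ Finset.Icc (-1 : ℤ) 4,
      ((s.filter fun i => x i = j).card : ℤ) * f j := fun f => by
    rw [← Finset.sum_fiberwise_of_maps_to (t := Finset.Icc (-1 : ℤ) 4) (g := x) fun i hi =>
      Finset.mem_Icc.2 ⟨h i hi, h1 i hi⟩]
    exact Finset.sum_congr rfl fun j _ => by
      rw [Finset.sum_congr rfl (g := fun _ => f j) fun i hi => by rw [(Finset.mem_filter.1 hi).2],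
        Finset.sum_const, nsmul_eq_mul]
  have k1 := key fun _ => 1
  rw [key fun y => (8 + y) * y] at e
  rw [key fun y => y * y]
  rw [show Finset.Icc (-1 : ℤ) 4 = {-1, 0, 1, 2, 3, 4} by decide] at k1 e ⊢
  simp only [Finset.sum_const, nsmul_eq_mul, mul_one] at k1
  simp (disch := decide) only [Finset.sum_insert, Finset.sum_singleton] at k1 e ⊢
  omega

theorem Har.not_tj (h : TJ G) (P : Sylow 2 G) (ht : t ∈ (P : Subgroup G)) (t1 : t ≠ 1)
    (hH : Har M t (Nat.card P)) : False := by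
  classical
  have := Fact.mk Nat.prime_two
  have hT := syl_top Nat.prime_two P
  obtain ⟨hA, h8⟩ := h.top.el hT
  have := h.simple
  obtain ⟨L, hL⟩ := h.top.jl hT ht t1
  have hi := kl_invo hA ht t1
  have h1 := hA.ab.le_cen1 ht
  have h2 : C(((P.subtype h1 : Sylow 2 C[t]) : Subgroup C[t])).relIndex
      N(((P.subtype h1 : Sylow 2 C[t]) : Subgroup C[t])) = 3 := by
    rw [Sylow.coe_subtype, ← so_cen h1, ← so_nrm h1, ← inf_subgroupOf_left N((P : Subgroup G)),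
      relIndex_subgroupOf inf_le_left]
    obtain ⟨w, hw, w1⟩ := exists_ne_one (H := (P : Subgroup G) ⊓ L) fun e => by
      have := hL.s4.card; rw [e, card_bot] at this; omega
    have h3 : C[t] ⊓ N((P : Subgroup G)) ≤ N((P : Subgroup G) ⊓ L) :=
      normsI inf_le_right (inf_le_left.trans ((top_inf_eq C[t]).ge.trans hL.nml.nrm))
    have h4 := orb_le (R := C[t] ⊓ N((P : Subgroup G))) w1 fun n hn => conj_mem (h3 hn) hw
    have h5 : ¬ 2 ∣ C((P : Subgroup G)).relIndex (C[t] ⊓ N((P : Subgroup G))) := fun e =>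
      (hT.subl (le_inf h1 (le_nrm _)) le_top).not_dvd Nat.prime_two
        (e.trans (relIndex_dvd_of_le_left _ hA.ab.le_cen))
    have h6 : C[w] ⊓ (C[t] ⊓ N((P : Subgroup G))) = C((P : Subgroup G)) := le_antisymm (fun x hx => by
      rw [← hL.sup, cen_sup, cen_zpowers]
      exact ⟨hx.2.1, mem_centralizer_of_klein (klein_of_abelem (hA.mono inf_le_left) hL.s4.card)
        (h3 hx.2) h5 (cen_anti inf_le_left (pow_relIndex_mem (inf_le_right.trans (norms_cent le_rfl))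
          hx.2)) hw w1 (mem_cen1.1 hx.1)⟩)
      (le_inf (cen_le_cen1 hw.1) (le_inf (cen_le_cen1 ht) (cen_le_nrm _)))
    rw [hL.s4.card, ← inf_relIndex_right, h6] at h4
    obtain ⟨r, hr, h7⟩ := h.top.three (as_top h.nab) hT ht t1 hw.1 w1 fun e => hL.inf (e ▸ hw.2)
    have h9 : C((P : Subgroup G)).relIndex (C[t] ⊓ N((P : Subgroup G))) ≠ 1 := fun e =>
      h7 (cen_le_cen1 hw.1 (relIndex_eq_one.1 e ⟨hr.2, hr.1.2⟩))
    omega
  have ns : ¬ Sol C[t] := fun e => kl_not_sol hL.s4.simple hL.s4.nab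
    (e.mono (hL.nml.le.trans inf_le_right))
  obtain ⟨h3, h4⟩ := prin_e_prime (M := M) (P.subtype h1) (hA.ab.so h1) (h2 ▸ Nat.prime_three)
  replace h4 := (h4 ns).trans ((card_so h1).trans h8)
  have h5 := S4540.result M hM.out _ H8.isPBlock_principalBlock P (isDefectGroup_sylow P) t ht
    (fun d hd => mem_cen1.1 (h1 hd)) _ ((H8.third_main hM.out (H8.inducedBlockDefined_centralizer hM.out
      ⟨1, hi⟩ H8.isPBlock_principalBlock)).2 rfl) (isDefectGroup_sylow (P.subtype h1)) (h3.trans h2).le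
  replace h5 := h5.1.trans h5.2
  rw [H8.blockDefect_principal, ← P.card_eq_multiplicity, show Nat.card P = 8 from h8, ← card_bs] at h5
  choose d x c _ _ xc hd hx hc using exists_dxc (P := P) hi fun v hv v1 =>
    isConj_of_cl h.cl (kl_invo hA hv v1) hi
  have h6 : ∀ χ ∈ (bs (principalBlock M G)).erase (irrOne G), χ.1 1 = 8 + x χ ∧ -1 ≤ x χ := fun χ hχ => by
    have h6 := hH χ (mem_bs.1 (Finset.mem_of_mem_erase hχ)) (Finset.ne_of_mem_erase hχ)
    have h7 := mul_right_eq_self₀.1 ((hc χ).symm.trans h6)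
    rw [show Nat.card P = 8 from h8] at h6 h7
    have h9 : c χ = 1 := by simpa using h7
    exact ⟨by rw [← hx, ← sub_eq_iff_eq_add, h6]; simp, by have := xc χ; omega⟩
  have h7 := orth_prin (M := M) (p := 2) (g := 1) (h := t) (by
    rw [H8.pPart_eq_one_iff.2 not_dvd_orderOf_one, H8.pPart_of_pElt ⟨1, hi⟩]
    exact fun e => t1 (isConj_one_right.1 e))
  have h9 := sum_prin_sq (M := M) (p := 2) ⟨1, hi⟩
  rw [← Finset.add_sum_erase _ _ one_mem_bs] at h7 h9
  rw [Finset.sum_congr rfl (g := fun χ => (((8 + x χ) * x χ : ℤ) : ℂ)) fun χ hχ => by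
    rw [(h6 χ hχ).1, hx]; simp] at h7
  rw [Finset.sum_congr rfl (g := fun χ => ((x χ * x χ : ℤ) : ℂ)) fun χ hχ => by rw [hx]; simp,
    Finset.sum_congr (s₁ := bs (principalBlock M C[t])) rfl
      (g := fun ξ => ((charDegree ξ.1 * charDegree ξ.1 : ℕ) : ℂ)) fun ξ _ => by
      rw [H8.irr_one_eq]; simp] at h9
  simp only [irrOne, map_one, mul_one] at h7 h9
  have h10 := tj_arith _ x (fun χ hχ => (h6 χ hχ).2) (by
    rw [Finset.card_erase_of_mem one_mem_bs]; omega) (by exact_mod_cast h7)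
  have h11 : ∑ ξ ∈ bs (principalBlock M C[t]), charDegree ξ.1 * charDegree ξ.1 =
      ∑ ξ ∈ bs (principalBlock M C[t]), 1 := by
    rw [Finset.sum_const, card_bs, h4, ← Nat.cast_inj (R := ℂ), Nat.cast_sum, ← h9]
    exact_mod_cast h10
  exact ns (sol_npc ((npc_iff Nat.prime_two).2 (H8.hasNPC_of_height_zero_lin (M := M) fun ξ hξ _ =>
    Nat.eq_one_of_mul_eq_one_left ((Finset.sum_eq_sum_iff_of_le fun ξ _ => Nat.one_le_iff_ne_zero.2
      (mul_self_ne_zero.2 (H8.charDegree_irr_ne_zero ξ))).1 h11.symm ξ (mem_bs.2 hξ)).symm)))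

theorem Har.eq_top {k : ℂ} (h : Har M u k) (k0 : k ≠ 0) (hk : conj k = k) (P : Sylow 2 G) {N : Subgroup G}
    [N.Normal] (h1 : (P : Subgroup G) ≤ N) (h2 : C((P : Subgroup G)) ≤ N) : N = ⊤ := by
  have := Fact.mk Nat.prime_two
  by_contra h3
  have ho : Odd N.index := Nat.odd_iff.2 (Nat.two_dvd_ne_zero.1 fun e =>
    P.not_dvd_index (e.trans (index_dvd_of_le h1)))
  have := odd_order_solvable (G := G ⧸ N) ho
  have : Nontrivial (G ⧸ N) := Finite.one_lt_card_iff_nontrivial.1 (one_lt_index_of_ne_top h3)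
  have : Finite (G ⧸ N →* ℂˣ) := Nat.finite_of_card_ne_zero
    (H6.card_linear (G ⧸ N) ▸ index_ne_zero_of_finite)
  have : Nontrivial (G ⧸ N →* ℂˣ) := Finite.one_lt_card_iff_nontrivial.1 (H6.card_linear (G ⧸ N) ▸
    one_lt_index_of_ne_top (IsSolvable.commutator_lt_top_of_nontrivial _).ne)
  obtain ⟨μ, hμ⟩ := exists_ne (1 : G ⧸ N →* ℂˣ)
  refine h.not_lin k0 hk (lam := μ.comp (QuotientGroup.mk' N)) (fun e => hμ (MonoidHom.ext fun q => ?_))
    (lin_mem_principal P fun g hg => by simp [(QuotientGroup.eq_one_iff g).2 (h2 hg)]) ho ?_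
  · obtain ⟨g, rfl⟩ := QuotientGroup.mk_surjective q
    exact DFunLike.congr_fun e g
  · rw [← map_pow]
    simp [(QuotientGroup.eq_one_iff _).2 (N.pow_index_mem u)]

omit hMm hM in
theorem AC.le_of_conj (h : AC T L) (hc : ∀ v ∈ T, v ≠ 1 → ∀ w ∈ T, w ≠ 1 → IsConj v w) : T ≤ L :=
  fun x hx => by
  obtain ⟨a, ha, hw⟩ := h.dec hx
  generalize e : a⁻¹ * x = w at hw
  obtain rfl : w = 1 := by
    by_contra w1
    obtain ⟨v, hv, v1⟩ := exists_ne_one h.ne
    have h1 : v ∉ C(L) := fun c => v1 (eq_one_of_mem_inf h.cen hv.2 c)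
    obtain ⟨g, hg⟩ := isConj_iff.1 (hc v hv.1 v1 _ (mul_mem hv.1 hw.1) fun c =>
      h1 (by rw [eq_inv_of_mul_eq_one_left c]; exact inv_mem hw.2))
    have h2 := conj_mem_cj (g := g).2 hv.2
    rw [hg] at h2
    by_cases c : g ∈ N(L)
    · rw [cj_of_mem_nrm c] at h2
      exact w1 (eq_one_of_mem_inf h.cen ((mul_mem_cancel_left (mem_inf.1 hv).2).1 h2) hw.2)
    · exact h1 ((mul_mem_cancel_right (mem_inf.1 hw).2).1
        (not_not.1 (mt (h.comp.mem_nrm_iff (nrm_top.ge trivial)).2 c) h2))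
  exact inv_mul_eq_one.1 e ▸ ha.2

theorem Har.core {k : ℂ} (hO : Od((⊤ : Subgroup G)) = ⊥) (h : Har M u k) (u1 : u ≠ 1) :
    Nat.card G = 2 ∨ ∃ (F : Type) (_ : Field F) (_ : Fintype F) (n : ℕ), 2 ≤ n ∧ Fintype.card F = 2 ^ n ∧
      Nonempty (G ≃* Matrix.ProjectiveSpecialLinearGroup (Fin 2) F) ∧ u ^ 2 = 1 := by
  have := Fact.mk Nat.prime_two
  have h0 : ∀ K : Subgroup G, K.Normal → ¬ 2 ∣ #K → K = ⊥ := fun K h1 h2 =>
    eq_bot_of_le (pcore_max (p'grp_of_not_dvd h2) (nml_top_iff.2 h1)) hO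
  have k0 : k ≠ 0 := fun e => by
    obtain ⟨K, h1, h2, h3, -⟩ := S0938.result 2 M hM.out _ H8.isPBlock_principalBlock _
      (H8.irrOne_mem_principalBlock (G := G))
    refine u1 ((h0 K h1 h3).le (h2.ge fun χ hχ => ?_))
    by_cases c : χ = irrOne G
    · rw [c]; rfl
    · exact (sub_eq_zero.1 ((h χ hχ c).trans e)).symm
  obtain ⟨P⟩ : Nonempty (Sylow 2 G) := inferInstance
  have hT := syl_top Nat.prime_two P
  have h1 : (P : Subgroup G) ≠ ⊥ := fun e => u1 ((h0 ⊤ inferInstance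
    ((hT.syl_eq_bot_iff Nat.prime_two).1 e)).le trivial)
  have h2 : ∀ v ∈ (P : Subgroup G), v ≠ 1 → IsConj v (pPart 2 u) := fun v hv =>
    h.isConj k0 (by simpa using IsPGroup.iff_orderOf.1 P.2 ⟨v, hv⟩)
  have hc : ∀ v ∈ (P : Subgroup G), v ≠ 1 → ∀ w ∈ (P : Subgroup G), w ≠ 1 → IsConj v w :=
    fun v hv v1 w hw w1 => (h2 v hv v1).trans (h2 w hw w1).symm
  obtain ⟨t, ht, hi⟩ := exists_invo (hT.pi.dvd h1)
  have h3 : ∀ v, IsConj t v → Invo v := fun v e => by
    obtain ⟨g, rfl⟩ := isConj_iff.1 e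
    exact invo_conj.2 hi
  have hA : Abelem 2 (P : Subgroup G) := H20.abelem_of_sq fun x hx => by
    by_cases c : x = 1
    · simp [c]
    · exact sq x ▸ (h3 x (hc t ht hi.ne x hx c)).sq
  have h4 := h3 _ (h2 t ht hi.ne)
  have hu : 2 ∣ orderOf u := by_contra fun c => h4.ne (H8.pPart_eq_one_iff.2 c)
  have hk : conj k = k := by
    obtain ⟨n, hn⟩ := h.exists_int hu
    have h5 := congrArg conj hn
    rw [map_mul, map_intCast, map_pow, map_natCast, ← hn] at h5
    exact mul_right_cancel₀ (fun e => by rw [e, mul_zero] at hn; simp [eq_comm (a := (0 : ℂ))] at hn) h5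
  by_cases hL : ∃ L, Comp L (⊤ : Subgroup G)
  swap
  · have h5 := cent_gfit (⊤ : Subgroup G)
    rw [gfit_eq_fitting (lay_eq_bot_iff.2 fun K hK => hL ⟨K, hK⟩), fitting_eq_pcore hO] at h5
    have h6 := pcore_le_syl hT
    have h7 : O[{2}]((⊤ : Subgroup G)) = P :=
      h6.antisymm ((le_inf le_top (hA.ab.cents h6 le_rfl)).trans h5)
    rw [h7, top_inf_eq] at h5
    have : (P : Subgroup G).Normal := nml_top_iff.1 (h7 ▸ pcore_nml _ _)
    have h8 := h.eq_top k0 hk P le_rfl h5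
    left
    rw [← card_top, ← hi.card, eq_comm]
    congr 2
    refine eq_top_iff.2 fun x _ => ?_
    by_cases c : x = 1
    · exact c ▸ one_mem _
    obtain ⟨g, rfl⟩ := isConj_iff.1 (hc t ht hi.ne x (h8.ge trivial) c)
    exact conj_mem (cen_le_nrm _ (hA.ab.cents (zpowers_le.2 ht) le_rfl (h8.ge (mem_top g)))) (mem_zpowers t)
  obtain ⟨L, hL⟩ := hL
  have a : ∀ L, Comp L ⊤ → AC (P : Subgroup G) L := fun L hL => ⟨hO, hT, hA.ab, hL⟩
  have a0 := a L hL
  have a1 := a0.le_of_conj hc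
  have : L.Normal := normalizer_eq_top_iff.1 (eq_top_iff.2 fun g _ =>
    (hL.mem_nrm_iff (nrm_top.ge trivial)).2 fun e => hi.ne (eq_one_of_mem_inf a0.cen (a1 ht)
      (e ((a _ (hL.cj_of_mem trivial)).le_of_conj hc ht))))
  have a2 : C(L) = ⊥ := h0 _ inferInstance (((hT.inf_nml (nml_top_iff.2 inferInstance)).syl_eq_bot_iff
    Nat.prime_two).1 (eq_bot_of_le (inf_le_inf_right _ a1) a0.cen))
  have e : ((P.subtype a1 : Sylow 2 L) : Subgroup L).map L.subtype = P := by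
    rw [Sylow.coe_subtype, map_subgroupOf_eq_of_le a1]
  have : (L ⊔ C((P : Subgroup G))).Normal := e ▸ H8.normal_sup_centralizer (P.subtype a1)
  have a3 := h.eq_top k0 hk P (a1.trans le_sup_left) (le_sup_right (a := L))
  have := a0.simple
  have a4 := fun θ => H8.Sup.exists_unique_ext (M := M) (θ := θ) (H7.isNE_subtype L)
    (H8.sup_subtype (P.subtype a1).2 (P.subtype a1).not_dvd_index fun g _ => e ▸ a3.ge trivial)
    fun c => P.not_dvd_index (c.trans (index_dvd_of_le (a1.trans (range_subtype L).ge)))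
  have a5 : Har M (⟨t, a1 ht⟩ : L) (Nat.card (P.subtype a1)) := fun θ hθ θ1 => by
    obtain ⟨χ, b1, b2, -⟩ := a4 θ hθ
    rw [← b2, ← b2, Sylow.coe_subtype, card_so a1]
    refine h.invol P hu hi (Eq.symm hi).dvd (fun v hv v1 => hc v hv v1 t ht hi.ne) (fun ψ c1 c2 c3 => ?_)
      χ b1 fun c => θ1 (Subtype.ext (funext fun n => by rw [← b2, c]; rfl))
    obtain ⟨_, -, -, c4⟩ := a4 _ H8.irrOne_mem_principalBlock
    have := H6.charKer_normal (H7.irr_cf ψ.2)
    have c5 := ((normal_subgroupOf (G := G) (H := L) (N := H6.charKer ψ.1)).eq_bot_or_eq_top).resolve_left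
      fun c => hi.ne (congrArg Subtype.val (c.le (show (⟨t, a1 ht⟩ : L) ∈ _ from
        (H6.mem_charKer_iff_irr ψ.2).2 c3)))
    refine c2 ((c4 ψ c1 ?_).trans (c4 _ H8.irrOne_mem_principalBlock ?_).symm)
    · rw [show (fun n => ψ.1 (L.subtype n)) = ψ.1 1 • (irrOne L).1 from funext fun n => by
        simpa [irrOne] using (H6.mem_charKer_iff_irr ψ.2).1 (c5.ge (mem_top n)), H7.ip_smul_left,
        H7.ip_irr_self (irrOne L).2, mul_one]
      exact H7.irr_one_ne_zero ψ.2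
    · exact (H7.ip_irr_self (irrOne L).2).trans_ne one_ne_zero
  have t1 : (⟨t, a1 ht⟩ : L) ≠ 1 := fun c => hi.ne (congrArg Subtype.val c)
  obtain b | b | b := gs_ab GO.fs a0.nab (syl_top Nat.prime_two (P.subtype a1)) (hA.ab.so a1)
  · obtain ⟨Z, K, s, c⟩ := KB.exists_bi b (hT.subl a1 le_top)
    obtain rfl : L = ⊤ := (sup_eq_left.2 ((top_inf_eq _).ge.trans ((c.cenT ⟨nml_top_iff.2 inferInstance,
      by rw [a2, inf_bot_eq]⟩).trans (c.ZT.trans a1)))).symm.trans a3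
    replace b := b.of_equiv topEquiv
    have := b.simple
    obtain ⟨-, F, _, _, ⟨n, n2, hn⟩, ⟨f⟩⟩ := psl_of_se_ab (nsol_top b.nab) hT hA.ab
      (H20.SEc.se_nrm_syl hT h1 (H20.SEc.nrm_ne_top b.nab h1 hT.pi.sol) fun g x hx h4 h5 => by
        simpa using inv_mem (c.ti g⁻¹ trivial x h4 (Invo.ne hx) (by simpa using mem_cj.1 h5)))
    exact Or.inr ⟨F, _, _, n, n2, hn, ⟨f⟩, ((H20.er_of_psl (hn ▸ dvd_pow_self 2 (by omega)) f).cen _ h4).pow
      (mem_cen1.2 (H8.commute_pPart (Commute.refl u)))⟩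
  · exact (a5.not_tl b _ ht t1).elim
  · exact (a5.not_tj b _ ht t1).elim

theorem har_quo {G H : Type*} [Group G] [Finite G] [Group H] [Finite H] {f : G →* H}
    (hf : Function.Surjective f) (hk : (Nat.card f.ker).Coprime 2) {u : G} {k : ℂ} :
    Har M u k ↔ Har M (f u) k := by
  have := Fact.mk Nat.prime_two
  have h1 : ∀ ψ, H8.inflIrr f hf ψ = irrOne G ↔ ψ = irrOne H := fun ψ => ⟨fun e => Subtype.ext (funext fun y => by
    obtain ⟨g, rfl⟩ := hf y
    exact congrFun (congrArg Subtype.val e) g), fun e => e ▸ rfl⟩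
  refine ⟨fun h ψ h2 h3 => ?_, fun h χ h2 h3 => ?_⟩
  · simpa [H8.inflIrr] using h _ ((H8.inflIrr_mem_principal_of_coprime hM.out f hf hk ψ).2 h2)
      (mt (h1 ψ).1 h3)
  · obtain ⟨ψ, rfl⟩ := H8.exists_inflIrr_eq f hf (H8.le_charKer_of_principal hM.out h2 _ hk)
    simpa [H8.inflIrr] using h _ ((H8.inflIrr_mem_principal_of_coprime hM.out f hf hk ψ).1 h2)
      (mt (h1 ψ).2 h3)

theorem har_of_card_two (h : Nat.card G = 2) (u : G) : ∃ k, Har M u k := by
  have := Fact.mk Nat.prime_two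
  have h1 := (H6.card_irr_of_comm (isCyclic_of_prime_card h).commutative.is_comm.comm).trans h
  obtain ⟨ψ, -, h2⟩ := (Nat.card_eq_two_iff' (irrOne G)).1 h1
  exact ⟨ψ.1 1 - ψ.1 u, fun χ _ e => by rw [h2 χ e]⟩

end Cfsg.Agent.H9
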