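import Mathlib
import Cfsg.Agent.H9.Hd4

/-! The model `3³ : S₄`. -/

set_option autoImplicit false
set_option linter.unusedSectionVars false
set_option synthInstance.maxSize 4000
set_option maxRecDepth 100000

namespace Cfsg.Agent.H9.SP

open Subgroup Finset SemidirectProduct Equiv

/-- the rotation group of the cube -/
def Cu : Type := Fin 24

instance : DecidableEq Cu := inferInstanceAs (DecidableEq (Fin 24))
instance : Fintype Cu := inferInstanceAs (Fintype (Fin 24))

def cu (n : ℕ) : Cu := Fin.ofNat 24 n
def Cu.v (g : Cu) : ℕ := Fin.val g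

instance : Mul Cu := ⟨fun g h => cu ((58751848159593976002925800757927287267899673023736223444235420684426268434179452372747926348020380620591043863995616773386379508092575420561340650244989963844404712643063774272881989766756308530267514076509963196273767924364236683072507501125020868850631592410777387939334344390773658628845984820707262310055006767694069518458474076003360969971285599994134103029976659512585264247944485773657742249611113211289950342479986569818048695149937687061588521932470039755442169727277226974067299929796671313876298073020897081837599809966132446415197447046800430153982084172394830106172719828482415132886167609588318998830885094047733269918508468246661560295212862219149432702042772620009416242248868887029826711062296836682429494253698436264579989041332611994460857062182879278086556949309328902546642147505594602084448266871238179306693194410775571405537098378662291540000 >>> (5 * (24 * g.v + h.v))) % 32)⟩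
instance : One Cu := ⟨cu 0⟩
instance : Inv Cu := ⟨fun g => cu ((901822458434117747445168464375941152 >>> (5 * g.v)) % 32)⟩
instance : Group Cu := Group.ofLeftAxioms (by decide +kernel) (by decide +kernel) (by decide +kernel)

def pk (c : ℕ) (m : M3) : Z3 := if c = 0 then m.1 else if c = 1 then m.2.1 else if c = 2 then m.2.2
  else if c = 3 then m.1⁻¹ else if c = 4 then m.2.1⁻¹ else m.2.2⁻¹

def acT (g : Cu) (j : ℕ) : ℕ := (2687762726834602138235604082500676386239622041649266332854470280 >>> (3 * (3 * g.v + j))) % 8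

def acC (g : Cu) (m : M3) : M3 := (pk (acT g 0) m, pk (acT g 1) m, pk (acT g 2) m)

theorem pk_mul (c : ℕ) (m n : M3) : pk c (m * n) = pk c m * pk c n := by
  unfold pk; split_ifs <;> simp [mul_comm]

theorem acC1 : ∀ g m, acC g⁻¹ (acC g m) = m := by decide +kernel
theorem acC2 : ∀ g m, acC g (acC g⁻¹ m) = m := by decide +kernel
theorem acC3 (g : Cu) (m n : M3) : acC g (m * n) = acC g m * acC g n := by simp only [acC, pk_mul]; rfl
theorem acC4 : ∀ g k m, acC (g * k) m = acC g (acC k m) := by decide +kernel

def φC : Cu →* MulAut M3 := MonoidHom.mk' (fun g => ⟨⟨acC g, acC g⁻¹, acC1 g, acC2 g⟩, acC3 g⟩)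
  fun a b => MulEquiv.ext (acC4 a b)

abbrev NC := M3 ⋊[φC] Cu

instance : Fintype NC := .ofEquiv _ equivProd.symm

def code (p : NC) : ℕ := (p.left.1.toAdd.val * 9 + p.left.2.1.toAdd.val * 3 + p.left.2.2.toAdd.val) * 24 +
  p.right.v

def z3 (n : ℕ) : Z3 := Multiplicative.ofAdd (Fin.ofNat 3 n)

def dec (n : ℕ) : NC := ⟨(z3 (n / 216), z3 (n / 72), z3 (n / 24)), cu n⟩

def cl (p : NC) : Fin 14 := Fin.ofNat 14 ((270673563217434484955742673415120062076368976350395411055913685380111254124956721721555358767196401468180999643908133188460713838475353400757522304801312802131824842555455719368100494685761122176580720568641852377099337178700690345656078593268419575808402788594425595551711263186381905068143075694027339076927694972904963079490196712521820477190223124903434897832076810146794584989005910594144625179152649592818832396859266479601582737212908255775472103150054632222295568520764998790949238840271108943174911548140441007638852340481826861141327779222321506087406184087627141261258112920677775452029758570305596293462063664826742304676003672714108775081330340472548721739882138465370843753748970403269177224973724564586587653513320809398619523579562836053858967696872831131475225257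 >>> (4 * code p)) % 16)
def cjt (p : NC) : NC := dec ((25872501946859358603588113770154475291029895029172381061966039857270334713707780289447497977644967316393182973258807530317098478750556678379390354152145177308886170058186048859521046036980765004106003101678647780619701332367751070648456619359120274999998084049595289568274978697302233880978036482486176983087132376353653666585804653642809730370375678194972970119476341840415671442301824414278854195899990378245592246977471390704142126089720295303766327318012624760261653199356250257177927702260294607747918309257651550892544100564234163222200976562196041438779901869365542067394457044201334178595526612348106116594987148212137716113661537353007949243207453195823557613517626477358355802101889424294118615349758085620998192902199169153199997510544169372264227257194345126159772244695809692462526477934704317281979369442932436275205289956507528210010924283673534349043338425461932952019028062771187855472856698772789387687568174489980071426649841074288848115031984654090685912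9596440196768469182896639252971809671215778426685684847632454464129898802080585251543460992494609328069564152718594384162509105171995948677576835904933959965513867014456499134872697038203534539514930957774481935693565885402676482587622065913790640436556220352759232135186418912656157936604599756808298851201980891517476535127559553584768706780543806552043474408745595004750099272900446004474558388499212250396335585767487088579816518985039223675792450738244963755747814943975100968833445157151191370582541573658373545136455742278121599951747277293918388287380486474820431942363861082694283355210649490392232063621369758092512515546092587234248689239627123789690093726426682118197903920924829470663981064149717791852732924689219582435808720907180453688177827346712848034000891851252598893670520433680579864014050679802585508423866877955739654737200563270910326679291824894613048409306544458374674344024766388692221821553180062316397299250874966524996868670664823076424383479808 >>> (10 * code p)) % 1024)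
def rp (i : Fin 14) : NC := dec (![216, 219, 223, 222, 288, 299, 312, 231, 447, 0, 3, 11, 7, 15] i)
def ce : Fin 9 → ℕ := ![108, 12, 12, 12, 54, 6, 81, 9, 9]
def sr (i : Fin 9) : NC := rp (i.castLE (by decide))

theorem cl_conj : ∀ p, cjt p * rp (cl p) * (cjt p)⁻¹ = p := by decide +kernel
theorem cl_inv : ∀ i k, cl (k * sr i * k⁻¹) = i.castLE (by decide) := by decide +kernel
theorem cl_rp : ∀ i, cl (rp i) = i := by decide +kernel
theorem ce_eq : ∀ i, (univ.filter fun k => k * sr i * k⁻¹ = sr i).card = ce i := by decide +kernel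
theorem cl_sq : ∀ p : NC, p * p = 1 → p = 1 ∨ cl p = 10 ∨ cl p = 11 := by decide +kernel
theorem cl_sq' : ∀ p : NC, (cl p = 10 → p * p = 1) ∧ (cl p = 11 → p * p = 1) := by decide +kernel
theorem cl_su : ∀ k : NC, cl (k * rp 10 * k⁻¹) = 10 ∧ cl (k * rp 11 * k⁻¹) = 11 := by decide +kernel

theorem npr_t : ∀ i, (univ.filter fun k => cl k = 10 ∧ cl (k⁻¹ * sr i) = 10).card = ![18, 6, 0, 0, 9, 0, 0, 0, 0] i ∧
    (univ.filter fun k => cl k = 10 ∧ cl (k⁻¹ * sr i) = 11).card = ![0, 0, 6, 6, 0, 3, 0, 0, 0] i ∧
    (univ.filter fun k => cl k = 11 ∧ cl (k⁻¹ * sr i) = 11).card = ![18, 6, 0, 0, 9, 0, 27, 9, 9] i := by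
  decide +kernel

def kc (c : Fin 8) (g : Cu) : Prop := (766621919335291380990552791084291079771082435093069823 >>> (24 * c.1 + g.v)) % 2 = 1
instance (c : Fin 8) : DecidablePred (kc c) := fun _ => inferInstanceAs (Decidable (_ = _))
def j0 (c : Fin 8) (g : Cu) : ZMod 12 := Fin.ofNat 12 ((943519399253670414517238632693516413013127108846825804108956150877364284767062056472101723517212673464947548035419760145524315578376188184788019999540621699677522231296 >>> (4 * (24 * c.1 + g.v))) % 16)
def lv (c : Fin 8) (m : M3) : ZMod 12 := Fin.ofNat 12 (4 * (![0, 0, 0, 0, 1, 1, 1, 1] c * m.1.toAdd.val +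
  ![0, 0, 0, 0, 0, 1, 0, 1] c * m.2.1.toAdd.val + ![0, 0, 0, 0, 0, 1, 0, 0] c * m.2.2.toAdd.val))
def cz : ZMod 12 → ℤ × ℤ × ℤ × ℤ := ![(2, 0, 0, 0), (0, 1, 1, 0), (1, 0, 0, 1), (0, 0, 2, 0), (-1, 0, 0, 1),
  (0, -1, 1, 0), (-2, 0, 0, 0), (0, -1, -1, 0), (-1, 0, 0, -1), (0, 0, -2, 0), (1, 0, 0, -1), (0, 1, -1, 0)]
def Wt : Fin 8 → Fin 14 → ℤ × ℤ × ℤ × ℤ := ![![(12, 0, 0, 0), (108, 0, 0, 0), (108, 0, 0, 0), (108, 0, 0, 0), (24, 0, 0, 0), (216, 0, 0, 0), (16, 0, 0, 0), (144, 0, 0, 0), (144, 0, 0, 0), (2, 0, 0, 0), (54, 0, 0, 0), (108, 0, 0, 0), (108, 0, 0, 0), (144, 0, 0, 0)],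
  ![(12, 0, 0, 0), (108, 0, 0, 0), (0, 0, 0, 0), (0, 0, 0, 0), (24, 0, 0, 0), (0, 0, 0, 0), (16, 0, 0, 0), (-72, 0, 0, 0), (-72, 0, 0, 0), (2, 0, 0, 0), (54, 0, 0, 0), (0, 0, 0, 0), (0, 0, 0, 0), (-72, 0, 0, 0)],
  ![(12, 0, 0, 0), (-36, 0, 0, 0), (36, 0, 0, 0), (36, 0, 0, 0), (24, 0, 0, 0), (-72, 0, 0, 0), (16, 0, 0, 0), (0, 0, 0, 0), (0, 0, 0, 0), (2, 0, 0, 0), (-18, 0, 0, 0), (-36, 0, 0, 0), (36, 0, 0, 0), (0, 0, 0, 0)],
  ![(12, 0, 0, 0), (-36, 0, 0, 0), (-36, 0, 0, 0), (-36, 0, 0, 0), (24, 0, 0, 0), (72, 0, 0, 0), (16, 0, 0, 0), (0, 0, 0, 0), (0, 0, 0, 0), (2, 0, 0, 0), (-18, 0, 0, 0), (36, 0, 0, 0), (-36, 0, 0, 0), (0, 0, 0, 0)],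
  ![(6, 0, 0, 0), (18, 0, 0, 0), (0, -18, 0, 0), (0, 18, 0, 0), (0, 0, 0, 0), (0, 0, 0, 0), (-8, 0, 0, 0), (0, 0, 0, 0), (0, 0, 0, 0), (2, 0, 0, 0), (-18, 0, 0, 0), (0, 0, 0, 0), (0, 0, 0, 0), (0, 0, 0, 0)],
  ![(-6, 0, 0, 0), (0, 0, 0, 0), (0, 0, 0, 0), (0, 0, 0, 0), (6, 0, 0, 0), (0, 0, 0, 0), (-2, 0, 0, 0), (36, 0, 0, 0), (-18, 0, 0, 0), (2, 0, 0, 0), (0, 0, 0, 0), (0, 0, 0, 0), (0, 0, 0, 0), (-18, 0, 0, 0)],
  ![(6, 0, 0, 0), (-18, 0, 0, 0), (-18, 0, 0, 0), (-18, 0, 0, 0), (0, 0, 0, 0), (0, 0, 0, 0), (-8, 0, 0, 0), (0, 0, 0, 0), (0, 0, 0, 0), (2, 0, 0, 0), (18, 0, 0, 0), (0, 0, 0, 0), (36, 0, 0, 0), (0, 0, 0, 0)],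
  ![(0, 0, 0, 0), (0, 0, 0, 0), (0, 0, 0, 0), (0, 0, 0, 0), (-6, 0, 0, 0), (-18, 0, 0, 0), (4, 0, 0, 0), (0, 0, 0, 0), (0, 0, 0, 0), (2, 0, 0, 0), (0, 0, 0, 0), (18, 0, 0, 0), (0, 0, 0, 0), (0, 0, 0, 0)]]

theorem kc1 : ∀ c, kc c 1 ∧ (∀ g, kc c g → kc c g⁻¹ ∧ (∀ m, lv c (acC g m) = lv c m) ∧
    ∀ h, kc c h → kc c (g * h) ∧ j0 c (g * h) = j0 c g + j0 c h) ∧
    ∀ m n, lv c (m * n) = lv c m + lv c n := by decide +kernel

theorem kc2 : ∀ c, (univ.filter fun p : NC => kc c p.right).card = ![648, 324, 216, 216, 108, 81, 108, 54] c ∧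
    ∀ i, ∑ p : NC with cl p = i, (if kc c p.right then cz (lv c p.left + j0 c p.right) else 0) = Wt c i := by
  decide +kernel

def pf (g : Cu) (x : Fin 9) : Fin 9 := Fin.ofNat 9 ((15415304020445753915180394443418006463096220359795100199412482391428726224112288868732446448855709770595816861156395533167871807276529291277895202761949825759935133442268641385472077676225194115057868270797134055459904562697753589218258268200234918697552327184 >>> (4 * (9 * g.v + x.1))) % 16)

theorem pf1 : (∀ g x, pf g⁻¹ (pf g x) = x) ∧ (∀ g x, pf g (pf g⁻¹ x) = x) ∧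
    ∀ g h x, pf (g * h) x = pf g (pf h x) := by decide +kernel

def fS : Cu →* Perm (Fin 9) := MonoidHom.mk' (fun g => ⟨pf g, pf g⁻¹, pf1.1 g, pf1.2.1 g⟩)
  fun g h => Equiv.ext (pf1.2.2 g h)

theorem fTS : ∀ g m, fT (acC g m) = fS g * fT m * (fS g)⁻¹ := by decide +kernel

def fC : NC →* Perm (Fin 9) := lift fT fS fun g => MonoidHom.ext (fTS g)

theorem fC1 : (∀ p, fC p = 1 → p = 1) ∧ fC (rp 0) = swap 0 1 * swap 1 2 ∧
    fC (inr (cu 15)) = swap 0 3 * swap 3 6 * (swap 1 4 * swap 4 7) * (swap 2 5 * swap 5 8) ∧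
    fC (inr (cu 1)) = swap 0 1 * swap 3 4 ∧ fC (inr (cu 11)) = swap 0 3 * swap 1 4 * swap 2 5 * swap 6 7 ∧
    (∀ m : M3, (inl m : NC) = rp 0 ^ m.1.toAdd.val * (inr (cu 15) * rp 0 * (inr (cu 15))⁻¹) ^ m.2.1.toAdd.val *
      ((inr (cu 15))⁻¹ * rp 0 * inr (cu 15)) ^ m.2.2.toAdd.val) ∧
    ∀ g : Cu, ∃ a b d : Fin 2, ∃ c : Fin 3, g = cu 1 ^ a.1 * (cu 15 * cu 1 * (cu 15)⁻¹) ^ b.1 * cu 15 ^ c.1 *
      cu 11 ^ d.1 := by decide +kernel

theorem fC_range : fC.range = closure ({swap (0 : Fin 9) 1 * swap 1 2,
    swap (0 : Fin 9) 3 * swap 3 6 * (swap (1 : Fin 9) 4 * swap 4 7) * (swap (2 : Fin 9) 5 * swap 5 8),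
    swap (0 : Fin 9) 1 * swap 3 4, swap (0 : Fin 9) 3 * swap 1 4 * swap 2 5 * swap 6 7} :
      Set (Perm (Fin 9))) := by
  obtain ⟨-, a1, a2, a3, a4, a5, a6⟩ := fC1
  refine le_antisymm ?_ ((closure_le _).2 ?_)
  · rintro _ ⟨p, rfl⟩
    obtain ⟨a, b, d, c, h⟩ := a6 p.right
    rw [← a1, ← a2, ← a3, ← a4, ← inl_left_mul_inr_right p, a5, h]
    simp only [map_mul, map_pow, map_inv]
    generalize fC (rp 0) = x, fC (inr (cu 15)) = y, fC (inr (cu 1)) = z, fC (inr (cu 11)) = w
    have hx : x ∈ closure {x, y, z, w} := subset_closure (by simp)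
    have hy : y ∈ closure {x, y, z, w} := subset_closure (by simp)
    have hz : z ∈ closure {x, y, z, w} := subset_closure (by simp)
    have hw : w ∈ closure {x, y, z, w} := subset_closure (by simp)
    exact mul_mem (mul_mem (mul_mem (pow_mem hx _) (pow_mem (mul_mem (mul_mem hy hx) (inv_mem hy)) _))
      (pow_mem (mul_mem (mul_mem (inv_mem hy) hx) hy) _)) (mul_mem (mul_mem (mul_mem (pow_mem hz _)
      (pow_mem (mul_mem (mul_mem hy hz) (inv_mem hy)) _)) (pow_mem hy _)) (pow_mem hw _))
  · rintro _ (rfl | rfl | rfl | rfl)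
    exacts [⟨_, a1⟩, ⟨_, a2⟩, ⟨_, a3⟩, ⟨_, a4⟩]

end Cfsg.Agent.H9.SP
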