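import Mathlib
import Cfsg.Agent.H21.Pr0

/-! Coordinates on `3³` with automiser `S₄`. -/

set_option autoImplicit false

namespace Cfsg.Agent.H9.PrA

open Subgroup Cfsg.Agent.FT Cfsg.Agent.H21.Pr MulAction

/-- the Klein four subgroup of `S₄` -/
def V4 : Subgroup (Equiv.Perm (Fin 4)) where
  carrier := {g | g * g = 1 ∧ Equiv.Perm.sign g = 1}
  mul_mem' := by
    have : ∀ a b : Equiv.Perm (Fin 4), (a * a = 1 ∧ Equiv.Perm.sign a = 1) →
      (b * b = 1 ∧ Equiv.Perm.sign b = 1) →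
      ((a * b) * (a * b) = 1 ∧ Equiv.Perm.sign (a * b) = 1) := by decide +kernel
    exact fun {a b} => this a b
  one_mem' := ⟨mul_one _, map_one _⟩
  inv_mem' := by
    rintro a ⟨h1, h2⟩
    exact ⟨by rw [← mul_inv_rev, h1, inv_one], by rw [map_inv, h2, inv_one]⟩

theorem card_V4 : Nat.card V4 = 4 := by
  have : Nat.card V4 = Fintype.card {g : Equiv.Perm (Fin 4) // g * g = 1 ∧ Equiv.Perm.sign g = 1} :=
    Nat.card_eq_fintype_card (α := {g : Equiv.Perm (Fin 4) // g * g = 1 ∧ Equiv.Perm.sign g = 1})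
  rw [this]
  decide +kernel

theorem normal_eq_bot (M : Subgroup (Equiv.Perm (Fin 4))) [hM : M.Normal] (h : 4 ∣ M.index) :
    M = ⊥ := by
  by_contra hc
  obtain ⟨⟨x, hx⟩, h1⟩ := ne_bot_iff_exists_ne_one.1 hc
  have h2 : x ≠ 1 := fun e => h1 (Subtype.ext e)
  have key : ∀ x : Equiv.Perm (Fin 4), x ≠ 1 → ∀ v : Equiv.Perm (Fin 4),
      (v * v = 1 ∧ Equiv.Perm.sign v = 1) → ∃ g k : Equiv.Perm (Fin 4),
        v * (k * x * k⁻¹) = g * x * g⁻¹ := by decide +kernel
  have hle : V4 ≤ M := fun v hv => by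
    obtain ⟨g, k, e⟩ := key x h2 v hv
    exact (mul_mem_cancel_right (hM.conj_mem x hx k)).1 (e ▸ hM.conj_mem x hx g)
  have h3 := V4.index_mul_card
  rw [card_V4, Nat.card_perm, Nat.card_eq_fintype_card (α := Fin 4), Fintype.card_fin] at h3
  have h4 := h.trans (index_dvd_of_le hle)
  have : V4.index = 6 := by
    simp only [Nat.factorial] at h3
    omega
  omega

theorem enum {G : Type*} [Group G] [Finite G] (J : Subgroup G) [(J.subgroupOf N(J)).Normal]
    (e : N(J) ⧸ J.subgroupOf N(J) ≃* Equiv.Perm (Fin 4))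
    (hab : ∀ x ∈ J, ∀ y ∈ J, x * y = y * x)
    (hc : Nat.card J = 27) {a : G} (ha : a ∈ J)
    (h162 : Nat.card (N(J) ⊓ C[a] : Subgroup G) = 162) :
    ∃ c : Fin 4 → G, c 0 = a ∧ Function.Injective c ∧ (∀ i, c i ∈ J) ∧
      (∀ g ∈ N(J), ∃ σ : Equiv.Perm (Fin 4), ∀ i, g * c i * g⁻¹ = c (σ i)) ∧
      (∀ σ : Equiv.Perm (Fin 4), ∃ g ∈ N(J), ∀ i, g * c i * g⁻¹ = c (σ i)) := by
  classical
  letI : MulAction N(J) G :=
    MulAction.compHom G (MulAut.conj.comp (N(J)).subtype : N(J) →* MulAut G)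
  have hs : ∀ (g : N(J)) (x : G), g • x = g * x * (g : G)⁻¹ := fun _ _ => rfl
  have h24 : Nat.card (Equiv.Perm (Fin 4)) = 24 := by
    rw [Nat.card_perm, Nat.card_eq_fintype_card (α := Fin 4), Fintype.card_fin]; rfl
  have hN : Nat.card N(J) = 648 := by
    rw [card_eq_card_quotient_mul_card_subgroup (J.subgroupOf N(J)), Nat.card_congr e.toEquiv, h24,
      Nat.card_congr (subgroupOfEquivOfLe (le_normalizer (H := J))).toEquiv, hc]
  have hst : stabilizer N(J) a = (N(J) ⊓ C[a] : Subgroup G).subgroupOf N(J) := by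
    ext g
    rw [mem_stabilizer_iff, hs, mem_subgroupOf, mem_inf, mem_centralizer_singleton_iff,
      mul_inv_eq_iff_eq_mul]
    exact ⟨fun h => ⟨g.2, h⟩, fun h => h.2⟩
  have hi4 : (stabilizer N(J) a).index = 4 := by
    have := (stabilizer N(J) a).index_mul_card
    rw [hN, hst, Nat.card_congr (subgroupOfEquivOfLe inf_le_left).toEquiv, h162] at this
    rw [hst]
    omega
  have ho : Nat.card (orbit N(J) a) = 4 := by
    rw [index_stabilizer] at hi4
    exact hi4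
  have hoJ : ∀ x ∈ orbit N(J) a, x ∈ J := by
    rintro x ⟨g, rfl⟩
    exact (mem_normalizer_iff.1 g.2 a).1 ha
  let ρ := toPermHom N(J) (orbit N(J) a)
  let π : N(J) →* Equiv.Perm (Fin 4) := e.toMonoidHom.comp (QuotientGroup.mk' _)
  have hπ : Function.Surjective π := e.surjective.comp (QuotientGroup.mk'_surjective _)
  have hker : π.ker ≤ ρ.ker := fun g hg => by
    have h1 : (g : G) ∈ J := by
      have : e (QuotientGroup.mk' _ g) = 1 := hg
      rw [map_eq_one_iff _ e.injective, QuotientGroup.mk'_apply, QuotientGroup.eq_one_iff] at this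
      exact this
    rw [MonoidHom.mem_ker]
    ext x
    change (g : G) * x * (g : G)⁻¹ = x
    rw [hab g h1 x (hoJ x x.2), mul_inv_cancel_right]
  have hle : ρ.ker ≤ stabilizer N(J) a := fun g hg =>
    congrArg Subtype.val (Equiv.congr_fun (MonoidHom.mem_ker.1 hg)
      (⟨a, mem_orbit_self a⟩ : orbit N(J) a))
  have hidx := index_map_eq ρ.ker hπ hker
  haveI : (ρ.ker.map π).Normal := Normal.map inferInstance π hπ
  have hbot := normal_eq_bot (ρ.ker.map π) (hidx ▸ hi4 ▸ index_dvd_of_le hle)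
  rw [hbot, index_bot, h24, index_ker] at hidx
  have hsur : Function.Surjective ρ := by
    rw [← MonoidHom.range_eq_top]
    refine eq_top_of_card_eq _ ?_
    rw [← hidx, Nat.card_perm, ho]; rfl
  obtain ⟨ε⟩ : Nonempty (Fin 4 ≃ orbit N(J) a) :=
    Finite.card_eq.1 (by rw [ho, Nat.card_eq_fintype_card, Fintype.card_fin])
  let ε' : Fin 4 ≃ orbit N(J) a := (Equiv.swap 0 (ε.symm ⟨a, mem_orbit_self a⟩)).trans ε
  refine ⟨fun i => ε' i, by simp [ε'], Subtype.val_injective.comp ε'.injective,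
    fun i => hoJ _ (ε' i).2, fun g hg => ⟨(ε'.trans (ρ ⟨g, hg⟩)).trans ε'.symm, fun i => ?_⟩,
    fun σ => ?_⟩
  · simp only [Equiv.trans_apply, Equiv.apply_symm_apply]
    rfl
  · obtain ⟨g, hg⟩ := hsur ((ε'.symm.trans σ).trans ε')
    refine ⟨g, g.2, fun i => ?_⟩
    have := congrArg Subtype.val (congrFun (congrArg DFunLike.coe hg) (ε' i))
    simp only [Equiv.trans_apply, Equiv.symm_apply_apply] at this
    exact this

/-- the constant vectors -/
def Cst : Subgroup (Multiplicative V3) where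
  carrier := {v | v.toAdd 0 = v.toAdd 1 ∧ v.toAdd 0 = v.toAdd 2 ∧ v.toAdd 0 = v.toAdd 3}
  mul_mem' := by
    rintro a b ⟨h1, h2, h3⟩ ⟨h4, h5, h6⟩
    simp only [Set.mem_setOf_eq, toAdd_mul, Pi.add_apply]
    exact ⟨by rw [h1, h4], by rw [h2, h5], by rw [h3, h6]⟩
  one_mem' := ⟨rfl, rfl, rfl⟩
  inv_mem' := by
    rintro a ⟨h1, h2, h3⟩
    simp only [Set.mem_setOf_eq, toAdd_inv, Pi.neg_apply]
    exact ⟨by rw [h1], by rw [h2], by rw [h3]⟩

theorem card_Cst : Nat.card Cst = 3 := by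
  have : Nat.card Cst = Fintype.card {v : V3 // v 0 = v 1 ∧ v 0 = v 2 ∧ v 0 = v 3} :=
    Nat.card_eq_fintype_card (α := {v : V3 // v 0 = v 1 ∧ v 0 = v 2 ∧ v 0 = v 3})
  rw [this]
  decide +kernel

theorem pA2 {G : Type*} [Group G] [Finite G] (J : Subgroup G) [(J.subgroupOf N(J)).Normal]
    (e : N(J) ⧸ J.subgroupOf N(J) ≃* Equiv.Perm (Fin 4)) (hea : Cfsg.IsElementaryAbelian 3 J)
    (hc : Nat.card J = 27) (hf : N(J) ⊓ C(J) = J) {a : G} (ha : a ∈ J) (ha1 : a ≠ 1)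
    (h162 : Nat.card (N(J) ⊓ C[a] : Subgroup G) = 162) :
    ∃ f : V3 → G, (∀ v w, f (v + w) = f v * f w) ∧
      (∀ v, f v = 1 ↔ v 0 = v 1 ∧ v 0 = v 2 ∧ v 0 = v 3) ∧ (∀ x, x ∈ J ↔ ∃ v, f v = x) ∧
      (∀ g ∈ N(J), ∃ σ, Act f g σ) ∧ (∀ σ, ∃ g ∈ N(J), Act f g σ) ∧ f a0 = a := by
  classical
  have hab : ∀ x ∈ J, ∀ y ∈ J, x * y = y * x := fun x hx y hy =>
    (mem_centralizer_iff.1 (hf.ge hy).2) x hx
  obtain ⟨c, hc0, hci, hcJ, hact, hsur⟩ := enum J e hab hc ha h162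
  letI : CommGroup J := { (inferInstance : Group J) with
    mul_comm := fun x y => Subtype.ext (hab x x.2 y y.2) }
  let d : Fin 4 → J := fun i => ⟨c i, hcJ i⟩
  have h3 : ∀ i, d i ^ 3 = 1 := fun i => Subtype.ext (hea.2 _ (hcJ i))
  let F : V3 → J := fun v => ∏ i, d i ^ (v i).val
  have hadd : ∀ v w, F (v + w) = F v * F w := fun v w => by
    simp only [F, ← Finset.prod_mul_distrib, Pi.add_apply, ZMod.val_add]
    exact Finset.prod_congr rfl fun i _ => by rw [← pow_eq_pow_mod _ (h3 i), pow_add]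
  have h0 : F 0 = 1 := by simp [F]
  have hsing : ∀ i, F (Pi.single i 1) = d i := fun i => by
    simp only [F]
    rw [Finset.prod_eq_single i (fun j _ hj => by simp [hj]) (by simp), Pi.single_eq_same]
    exact pow_one _
  have hA : ∀ g ∈ N(J), ∀ σ : Equiv.Perm (Fin 4), (∀ i, g * c i * g⁻¹ = c (σ i)) →
      Act (fun v => (F v : G)) g σ⁻¹ := fun g hg σ h v => by
    let φ : J →* J := (normalizerMonoidHom J ⟨g, hg⟩ : J ≃* J).toMonoidHom
    have hφ : ∀ x : J, (φ x : G) = g * x * g⁻¹ := fun _ => rfl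
    have hd : ∀ i, φ (d i) = d (σ i) := fun i => Subtype.ext (h i)
    rw [← hφ]
    congr 1
    simp only [F, map_prod, map_pow, hd]
    exact Fintype.prod_equiv σ _ _ fun i => by simp
  have hsur' : ∀ σ, ∃ g ∈ N(J), Act (fun v => (F v : G)) g σ := fun σ => by
    obtain ⟨g, hg, h⟩ := hsur σ⁻¹
    exact ⟨g, hg, by simpa using hA g hg _ h⟩
  let Φ : Multiplicative V3 →* J := MonoidHom.mk' (fun v => F v.toAdd) fun v w => hadd _ _
  have hk : Φ.ker ≤ Cst := fun v hv => by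
    have key : ∀ v : V3, (v 0 = v 1 ∧ v 0 = v 2 ∧ v 0 = v 3) ∨ ∃ i j : Fin 4, i ≠ j ∧
        v + Pi.single j 1 = v ∘ Equiv.swap i j + Pi.single i 1 := by decide +kernel
    refine (key v.toAdd).resolve_right ?_
    rintro ⟨i, j, hij, h⟩
    have h1 : F v.toAdd = 1 := hv
    obtain ⟨g, -, hg⟩ := hsur' (Equiv.swap i j)
    have h2 := hg v.toAdd
    simp only [h1, OneMemClass.coe_one, mul_one, mul_inv_cancel] at h2
    have h4 := congrArg F h
    rw [hadd, hadd, h1, show F (v.toAdd ∘ Equiv.swap i j) = 1 from Subtype.ext h2.symm, hsing, hsing,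
      one_mul, one_mul] at h4
    exact hij (hci (congrArg Subtype.val h4)).symm
  have c1 := card_le_of_le hk
  rw [card_Cst] at c1
  have c2 : Nat.card Φ.range ≤ 27 := hc ▸ card_le_card_group _
  have c3 := Φ.ker.index_mul_card
  rw [index_ker, show Nat.card (Multiplicative V3) = 81 by
    rw [Nat.card_eq_fintype_card]; rfl] at c3
  have c4 : Nat.card Φ.ker = 3 := by
    by_contra h
    have : Nat.card Φ.range * Nat.card Φ.ker ≤ 27 * 2 := Nat.mul_le_mul c2 (by omega)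
    omega
  have c5 : Nat.card Φ.range = 27 := by rw [c4] at c3; omega
  have e1 : Φ.ker = Cst := eq_of_le_of_card_ge hk (by rw [c4, card_Cst])
  have e2 : Φ.range = ⊤ := eq_top_of_card_eq _ (by rw [c5, hc])
  refine ⟨fun v => F v, fun v w => congrArg Subtype.val (hadd v w), fun v => ?_, fun x => ⟨fun hx => ?_, ?_⟩,
    fun g hg => ?_, hsur', ?_⟩
  · rw [OneMemClass.coe_eq_one]
    exact SetLike.ext_iff.1 e1 (Multiplicative.ofAdd v)
  · obtain ⟨v, hv⟩ : (⟨x, hx⟩ : J) ∈ Φ.range := e2 ▸ mem_top _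
    exact ⟨v.toAdd, congrArg Subtype.val hv⟩
  · rintro ⟨v, rfl⟩
    exact (F v).2
  · obtain ⟨σ, h⟩ := hact g hg
    exact ⟨_, hA g hg σ h⟩
  · show (F a0 : G) = a
    rw [show a0 = Pi.single 0 1 by decide, hsing]
    exact hc0

end Cfsg.Agent.H9.PrA
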